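import Groth.Agent.Lib.Helper13.KInjIter

set_option autoImplicit false
universe v u
open CategoryTheory Limits HomologicalComplex Category

namespace Groth.Agent.Lib.Helper13.KInjMain

open Groth.Agent.Lib.Helper13.SubLat Groth.Agent.Lib.Helper89.SubobjectModular
open Groth.Agent.Lib.Helper13.KInjBasic Groth.Agent.Lib.Helper13.KInjColim
open Groth.Agent.Lib.Helper13.KInjLattice Groth.Agent.Lib.Helper13.KInjGen
open Groth.Agent.Lib.Helper13.KInjSmall Groth.Agent.Lib.Helper13.KInjIter

variable {A : Type u} [Category.{v} A] [Abelian A] [IsGrothendieckAbelian.{v} A]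

open MorphismProperty ZeroObject

lemma genTrivCof_le_monomorphisms :
    genTrivCof A ≤ monomorphisms (CochainComplex A ℤ) := by
  intro K L f hf
  exact ((trivCof_iff f).1 (genTrivCof_le_trivCof f hf)).1

lemma genTrivCof_rlp : (genTrivCof A).rlp = (trivCof (A := A)).rlp := by
  apply le_antisymm
  · intro X Y p hp K L i hi
    rw [trivCof_iff] at hi
    obtain ⟨_, _⟩ := hi
    obtain ⟨J, _, _, _, _, ⟨h⟩⟩ := exists_transfiniteCompositionOfShape i
    exact transfiniteCompositionsOfShape_le_llp_rlp _ _ _ h.mem _ (by simpa)
  · exact antitone_rlp genTrivCof_le_trivCof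

instance : HasSmallObjectArgument.{v} (genTrivCof A) := by
  obtain ⟨κ, hκ', hκ⟩ := HasCardinalLT.exists_regular_cardinal.{v} (Subobject (Pinf A))
  have : Fact κ.IsRegular := ⟨hκ'⟩
  have : Nonempty κ.ord.ToType := by simpa using hκ'.ne_zero
  have := WellFoundedLT.toOrderBot κ.ord.ToType
  exact ⟨κ, inferInstance, inferInstance,
    { preservesColimit {K L X Y} i hi f hf := by
        let hf' : (monomorphisms (CochainComplex A ℤ)).TransfiniteCompositionOfShape
            κ.ord.ToType f :=
          { toTransfiniteCompositionOfShape := hf.toTransfiniteCompositionOfShape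
            map_mem j hj := by
              have := (hf.attachCells j hj).pushouts_coproducts
              simp only [ofHoms_homFamily] at this
              refine (?_ : _ ≤ monomorphisms (CochainComplex A ℤ)) _ this
              simp only [pushouts_le_iff, coproducts_le_iff]
              exact genTrivCof_le_monomorphisms }
        have (j j' : κ.ord.ToType) (φ : j ⟶ j') : Mono (hf'.F.map φ) := hf'.mem_map φ
        apply IsGrothendieckAbelian.preservesColimit_coyoneda_obj_of_mono (Y := hf'.F) (κ := κ)
        obtain ⟨S⟩ := hi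
        exact Subobject.hasCardinalLT_of_mono hκ S.1.arrow }⟩

lemma llp_rlp_genTrivCof_le : (genTrivCof A).rlp.llp ≤ trivCof := by
  rw [llp_rlp_of_hasSmallObjectArgument]
  trans (transfiniteCompositions.{v} (coproducts.{v} (trivCof (A := A))).pushouts).retracts
  · apply retracts_monotone
    apply transfiniteCompositions_monotone
    apply pushouts_monotone
    apply coproducts_monotone
    apply genTrivCof_le_trivCof
  · simp

/-- K-injective resolutions in Grothendieck abelian categories. -/
theorem exists_kInjective_resolution (M : CochainComplex A ℤ) :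
    ∃ (I : CochainComplex A ℤ) (f : M ⟶ I), I.IsKInjective ∧ QuasiIso f ∧ (∀ n, Mono (f.f n)) ∧
      ExtProp I := by
  let fac := (functorialFactorizationData (genTrivCof A).rlp.llp (genTrivCof A).rlp).factorizationData
    (0 : M ⟶ 0)
  have hi : trivCof fac.i := llp_rlp_genTrivCof_le _ fac.hi
  rw [trivCof_iff] at hi
  obtain ⟨hmono, hqis⟩ := hi
  have hp : (trivCof (A := A)).rlp fac.p := by
    rw [← genTrivCof_rlp]; exact fac.hp
  have hext : ExtProp fac.Z := by
    intro K L i hi₁ hi₂ f
    have hlift : HasLiftingProperty i fac.p := hp i ((trivCof_iff i).2 ⟨hi₁, hi₂⟩)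
    have sq : CommSq f i fac.p (0 : L ⟶ 0) := ⟨(isZero_zero _).eq_of_tgt _ _⟩
    exact ⟨sq.lift, sq.fac_left⟩
  exact ⟨fac.Z, fac.i, isKInjective_of_extProp hext, hqis, fun n => inferInstance, hext⟩

end Groth.Agent.Lib.Helper13.KInjMain
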