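import Groth.Agent.Lib.Helper13.KInjDerAdj
import Mathlib.CategoryTheory.Adjunction.Unique
import Mathlib.CategoryTheory.Adjunction.FullyFaithful
import Mathlib.CategoryTheory.Localization.Adjunction
import Mathlib.Algebra.Homology.Localization

set_option autoImplicit false
universe w w' v v' u u'
open CategoryTheory Category Limits

namespace Groth.Agent.Lib.Helper13.KInjDerAdj

open Groth.Agent.Lib.Helper39.DerAdj DerivedCategory

variable {A : Type u} [Category.{v} A] [Abelian A] {B : Type u'} [Category.{v'} B] [Abelian B]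
  [HasDerivedCategory.{w} A] [HasDerivedCategory.{w'} B]
  {F : A ⥤ B} {G : B ⥤ A} (adj : F ⊣ G) [F.Additive] [G.Additive]
  [PreservesFiniteLimits F] [PreservesFiniteColimits F]
  [IsGrothendieckAbelian.{v'} B]

lemma adj₀_counit_app (Y : DerivedCategory B) :
    (adj₀ adj).counit.app Y = counitD adj (repI Y) ≫ (repIso Y).hom := by
  dsimp only [adj₀]
  rw [Adjunction.adjunctionOfEquivRight_counit_app, homEquiv₀_symm_apply,
    CategoryTheory.Functor.map_id, Category.id_comp]

instance isIso_adjc_counit_app [IsIso adj.counit] (I : CochainComplex B ℤ) :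
    IsIso ((adjc adj).counit.app I) := by
  haveI : ∀ n, IsIso (((adjc adj).counit.app I).f n) := fun n => by
    show IsIso (adj.counit.app (I.X n))
    infer_instance
  exact HomologicalComplex.Hom.isIso_of_components _

instance isIso_adj₀_counit [IsIso adj.counit] : IsIso (adj₀ adj).counit := by
  haveI : ∀ Y, IsIso ((adj₀ adj).counit.app Y) := fun Y => by
    rw [adj₀_counit_app]
    dsimp only [counitD]
    have h2 : IsIso (Q.map ((adjc adj).counit.app (repI Y))) :=
      Functor.map_isIso Q ((adjc adj).counit.app (repI Y))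
    have h1 : IsIso (F.mapDerivedCategoryFactors.hom.app ((cx G).obj (repI Y))) := inferInstance
    have h3 : IsIso (repIso Y).hom := inferInstance
    exact IsIso.comp_isIso' (IsIso.comp_isIso' h1 h2) h3
  exact NatIso.isIso_of_isIso_app _

/-- If moreover `G` is fully faithful, every right adjoint of `F.mapDerivedCategory` is
fully faithful with invertible counit. -/
lemma isIso_counit_of_adjunction [IsIso adj.counit] {RG : DerivedCategory B ⥤ DerivedCategory A}
    (adj₁ : F.mapDerivedCategory ⊣ RG) : IsIso adj₁.counit := by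
  haveI : ∀ Y, IsIso (adj₁.counit.app Y) := fun Y => by
    rw [← Adjunction.rightAdjointUniq_hom_app_counit adj₁ (adj₀ adj) Y]
    infer_instance
  exact NatIso.isIso_of_isIso_app _

/-- The adjunction on homotopy categories. -/
noncomputable def adjh :
    F.mapHomotopyCategory (ComplexShape.up ℤ) ⊣ G.mapHomotopyCategory (ComplexShape.up ℤ) :=
  letI : CatCommSq (cx F) (HomotopyCategory.quotient A (ComplexShape.up ℤ))
      (HomotopyCategory.quotient B (ComplexShape.up ℤ))
      (F.mapHomotopyCategory (ComplexShape.up ℤ)) :=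
    ⟨(F.mapHomotopyCategoryFactors (ComplexShape.up ℤ)).symm⟩
  letI : CatCommSq (cx G) (HomotopyCategory.quotient B (ComplexShape.up ℤ))
      (HomotopyCategory.quotient A (ComplexShape.up ℤ))
      (G.mapHomotopyCategory (ComplexShape.up ℤ)) :=
    ⟨(G.mapHomotopyCategoryFactors (ComplexShape.up ℤ)).symm⟩
  (adjc adj).localization (HomotopyCategory.quotient A (ComplexShape.up ℤ))
    (HomologicalComplex.homotopyEquivalences A (ComplexShape.up ℤ))
    (HomotopyCategory.quotient B (ComplexShape.up ℤ))
    (HomologicalComplex.homotopyEquivalences B (ComplexShape.up ℤ))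
    (F.mapHomotopyCategory (ComplexShape.up ℤ)) (G.mapHomotopyCategory (ComplexShape.up ℤ))

include adj in
/-- Variant of `nonempty_adjunction` for right derived functors relative to the homotopy
category. -/
theorem nonempty_adjunction_h (RG : DerivedCategory B ⥤ DerivedCategory A)
    (α : G.mapHomotopyCategory (ComplexShape.up ℤ) ⋙ Qh ⟶ Qh ⋙ RG)
    [RG.IsRightDerivedFunctor α (HomotopyCategory.quasiIso B (ComplexShape.up ℤ))] :
    Nonempty (F.mapDerivedCategory ⊣ RG) :=
  ⟨Groth.Agent.Lib.Helper13.DerAdjFormal.derivedOfRightAdjoint (adjh adj)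
    (HomotopyCategory.quasiIso A (ComplexShape.up ℤ))
    (HomotopyCategory.quasiIso B (ComplexShape.up ℤ)) F.mapDerivedCategoryFactorsh α (adj₀ adj)⟩

end Groth.Agent.Lib.Helper13.KInjDerAdj
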