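/-
Presentation / lifting pieces for the CORE lemma of helper34's S7202 (Artin approximation, scheme form).
Author: helper13
-/
import Mathlib

set_option autoImplicit false

universe u

namespace Groth.Agent.Lib.Helper13.AA7202PRES

/-- [PRES] A finite type algebra over a Noetherian ring is a quotient of a polynomial ring in finitely
many variables by finitely many polynomials. -/
theorem exists_presentation {Λ₀ B₀ : Type u} [CommRing Λ₀] [CommRing B₀] [Algebra Λ₀ B₀]
    [IsNoetherianRing Λ₀] [Algebra.FiniteType Λ₀ B₀] :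
    ∃ (n m : ℕ) (G : Fin m → MvPolynomial (Fin n) Λ₀) (π : MvPolynomial (Fin n) Λ₀ →ₐ[Λ₀] B₀),
      Function.Surjective π ∧ RingHom.ker π.toRingHom = Ideal.span (Set.range G) := by
  obtain ⟨n, π, hπ⟩ := Algebra.FiniteType.iff_quotient_mvPolynomial''.1
    (inferInstance : Algebra.FiniteType Λ₀ B₀)
  have hfg : (RingHom.ker π.toRingHom).FG :=
    (inferInstance : IsNoetherianRing (MvPolynomial (Fin n) Λ₀)).noetherian _
  obtain ⟨s, hs⟩ := hfg
  obtain ⟨m, G, hG⟩ : ∃ (m : ℕ) (G : Fin m → MvPolynomial (Fin n) Λ₀), Set.range G = (s : Set _) := by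
    classical
    refine ⟨s.card, fun i => (s.equivFin.symm i : MvPolynomial (Fin n) Λ₀), ?_⟩
    ext x
    constructor
    · rintro ⟨i, rfl⟩
      exact (s.equivFin.symm i).2
    · intro hx
      exact ⟨s.equivFin ⟨x, hx⟩, by simp⟩
  exact ⟨n, m, G, π, hπ, by rw [hG, hs]⟩

/-- [LIFT] A ring map out of the polynomial ring killing the relations descends to the quotient. -/
theorem exists_lift {Λ₀ B₀ R' : Type u} [CommRing Λ₀] [CommRing B₀] [Algebra Λ₀ B₀] [CommRing R']
    {n m : ℕ} (G : Fin m → MvPolynomial (Fin n) Λ₀) (π : MvPolynomial (Fin n) Λ₀ →ₐ[Λ₀] B₀)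
    (hπ : Function.Surjective π) (hker : RingHom.ker π.toRingHom = Ideal.span (Set.range G))
    (f : Λ₀ →+* R') (b : Fin n → R') (hb : ∀ j, MvPolynomial.eval₂ f b (G j) = 0) :
    ∃ g : B₀ →+* R', (∀ P, g (π P) = MvPolynomial.eval₂ f b P) ∧
      (∀ l : Λ₀, g (algebraMap Λ₀ B₀ l) = f l) ∧ ∀ i, g (π (MvPolynomial.X i)) = b i := by
  let h : MvPolynomial (Fin n) Λ₀ →+* R' := MvPolynomial.eval₂Hom f b
  have hle : RingHom.ker π.toRingHom ≤ RingHom.ker h := by
    rw [hker, Ideal.span_le]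
    rintro _ ⟨j, rfl⟩
    exact hb j
  let g : B₀ →+* R' := RingHom.liftOfSurjective π.toRingHom hπ ⟨h, hle⟩
  have hg : ∀ P, g (π P) = MvPolynomial.eval₂ f b P := fun P =>
    RingHom.liftOfRightInverse_comp_apply _ _ _ ⟨h, hle⟩ P
  refine ⟨g, hg, ?_, ?_⟩
  · intro l
    have : algebraMap Λ₀ B₀ l = π (MvPolynomial.C l) := by
      rw [← MvPolynomial.algebraMap_eq, AlgHom.commutes]
    rw [this, hg, MvPolynomial.eval₂_C]
  · intro i
    rw [hg, MvPolynomial.eval₂_X]

/-- [AEV] `aeval` of a doubly mapped polynomial as an `eval₂`. -/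
theorem aeval_map_map {Λ₀ A₀ L C : Type u} [CommRing Λ₀] [CommRing A₀] [CommRing L] [CommRing C]
    [Algebra Λ₀ A₀] [Algebra A₀ L] [Algebra L C] {n : ℕ} (a : Fin n → C)
    (G : MvPolynomial (Fin n) Λ₀) :
    MvPolynomial.aeval a (MvPolynomial.map (algebraMap A₀ L) (MvPolynomial.map (algebraMap Λ₀ A₀) G)) =
      MvPolynomial.eval₂ ((algebraMap L C).comp ((algebraMap A₀ L).comp (algebraMap Λ₀ A₀))) a G := by
  rw [MvPolynomial.aeval_def, MvPolynomial.eval₂_map, MvPolynomial.eval₂_map]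
  rfl

/-- [AEV'] `aeval` of a mapped polynomial as an `eval₂`. -/
theorem aeval_map {Λ₀ A₀ R' : Type u} [CommRing Λ₀] [CommRing A₀] [CommRing R']
    [Algebra Λ₀ A₀] [Algebra A₀ R'] {n : ℕ} (b : Fin n → R') (G : MvPolynomial (Fin n) Λ₀) :
    MvPolynomial.aeval b (MvPolynomial.map (algebraMap Λ₀ A₀) G) =
      MvPolynomial.eval₂ ((algebraMap A₀ R').comp (algebraMap Λ₀ A₀)) b G := by
  rw [MvPolynomial.aeval_def, MvPolynomial.eval₂_map]

/-- Two ring maps out of `B₀` which agree on `Λ₀` and on the images of the variables agree. -/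
theorem ringHom_ext_of_presentation {Λ₀ B₀ T : Type u} [CommRing Λ₀] [CommRing B₀] [Algebra Λ₀ B₀]
    [CommRing T] {n : ℕ} (π : MvPolynomial (Fin n) Λ₀ →ₐ[Λ₀] B₀) (hπ : Function.Surjective π)
    (g₁ g₂ : B₀ →+* T) (h0 : ∀ l : Λ₀, g₁ (algebraMap Λ₀ B₀ l) = g₂ (algebraMap Λ₀ B₀ l))
    (h1 : ∀ i, g₁ (π (MvPolynomial.X i)) = g₂ (π (MvPolynomial.X i))) : g₁ = g₂ := by
  have : g₁.comp π.toRingHom = g₂.comp π.toRingHom := by
    apply MvPolynomial.ringHom_ext
    · intro l
      have : π (MvPolynomial.C l) = algebraMap Λ₀ B₀ l := by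
        rw [← MvPolynomial.algebraMap_eq, AlgHom.commutes]
      simp only [RingHom.comp_apply, AlgHom.toRingHom_eq_coe, RingHom.coe_coe, this, h0]
    · intro i
      simpa using h1 i
  ext x
  obtain ⟨P, rfl⟩ := hπ x
  exact RingHom.congr_fun this P

end Groth.Agent.Lib.Helper13.AA7202PRES
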