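/-
Congruence pieces for the CORE lemma of helper34's S7202 (Artin approximation, scheme form).
Author: helper13
-/
import Mathlib
import Groth.Agent.Lib.Helper13.AA7202PRES

set_option autoImplicit false

universe u

namespace Groth.Agent.Lib.Helper13.AA7202CONG

open Groth.Agent.Lib.Helper13.AA7202PRES

/-- [CONG] `ψ ∘ g ≡ θ` modulo `MN` as soon as this holds on the images of the variables. -/
theorem cong {Λ₀ A₀ B₀ R' L C : Type u} [CommRing Λ₀] [CommRing A₀] [CommRing B₀] [CommRing R']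
    [CommRing L] [CommRing C] [Algebra Λ₀ A₀] [Algebra Λ₀ B₀] [Algebra A₀ R'] [Algebra A₀ L]
    [Algebra L C] {n : ℕ} (π : MvPolynomial (Fin n) Λ₀ →ₐ[Λ₀] B₀) (hπ : Function.Surjective π)
    (g : B₀ →+* R')
    (hg0 : ∀ l : Λ₀, g (algebraMap Λ₀ B₀ l) = algebraMap A₀ R' (algebraMap Λ₀ A₀ l))
    (ψ : R' →+* C)
    (hψ : ∀ r : A₀, ψ (algebraMap A₀ R' r) = algebraMap L C (algebraMap A₀ L r))
    (θ : B₀ →+* C)
    (hθ0 : ∀ l : Λ₀, θ (algebraMap Λ₀ B₀ l) =
      algebraMap L C (algebraMap A₀ L (algebraMap Λ₀ A₀ l)))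
    (MN : Ideal C)
    (hab : ∀ i, θ (π (MvPolynomial.X i)) - ψ (g (π (MvPolynomial.X i))) ∈ MN) :
    ∀ b₀ : B₀, ψ (g b₀) - θ b₀ ∈ MN := by
  have key : ((Ideal.Quotient.mk MN).comp ψ).comp g = (Ideal.Quotient.mk MN).comp θ := by
    apply ringHom_ext_of_presentation π hπ
    · intro l
      simp only [RingHom.comp_apply, hg0, hψ, hθ0]
    · intro i
      simp only [RingHom.comp_apply]
      rw [eq_comm, Ideal.Quotient.eq]
      exact hab i
  intro b₀
  have := RingHom.congr_fun key b₀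
  simp only [RingHom.comp_apply] at this
  exact Ideal.Quotient.eq.1 this

/-- [LAST] The ring identity behind the last clause of CORE. -/
theorem last {C : Type u} [CommRing C] (MN : Ideal C) (ψgb ψgt θb θt os oc0 x oc : C)
    (h1 : ψgb - θb ∈ MN) (h2 : ψgt - θt ∈ MN) (h3 : θb = θt * x) (h4 : x - oc ∈ MN)
    (h5 : os * oc = oc0) :
    ψgb * os - oc0 * ψgt ∈ MN := by
  have e : ψgb * os - oc0 * ψgt =
      (ψgb - θb) * os - oc0 * (ψgt - θt) + θt * os * (x - oc) := by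
    rw [h3, ← h5]; ring
  rw [e]
  exact MN.add_mem (MN.sub_mem (MN.mul_mem_right _ h1) (MN.mul_mem_left _ h2)) (MN.mul_mem_left _ h4)

end Groth.Agent.Lib.Helper13.AA7202CONG
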