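/-
Locality pieces for the CORE lemma of helper34's S7202 (Artin approximation, scheme form):
`ψ⁻¹(m L^) = p'`, `θ⁻¹(m L^) = 𝔮` and `comap g p' = 𝔮`, stated on the output shape of H6843.
Author: helper13
-/
import Mathlib

set_option autoImplicit false

universe u

open IsLocalRing

namespace Groth.Agent.Lib.Helper13.AA7202Q

/-- `m L^` is a proper ideal of the completion, for any local ring `L`. -/
theorem map_maximalIdeal_ne_top (L : Type u) [CommRing L] [IsLocalRing L] :
    (maximalIdeal L).map (algebraMap L (AdicCompletion (maximalIdeal L) L)) ≠ ⊤ := by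
  intro h
  have hle : (maximalIdeal L).map (algebraMap L (AdicCompletion (maximalIdeal L) L)) ≤
      RingHom.ker (AdicCompletion.evalOneₐ (maximalIdeal L)).toRingHom := by
    rw [Ideal.map_le_iff_le_comap]
    intro x hx
    rw [Ideal.mem_comap, RingHom.mem_ker]
    have : (AdicCompletion.evalOneₐ (maximalIdeal L)).toRingHom
        (algebraMap L (AdicCompletion (maximalIdeal L) L) x) = Ideal.Quotient.mk _ x :=
      RingHom.congr_fun (AdicCompletion.evalOneₐ_comp_algebraMap_eq_mk (maximalIdeal L)) x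
    rw [this, Ideal.Quotient.eq_zero_iff_mem]
    exact hx
  rw [h, top_le_iff] at hle
  have h1 : (1 : AdicCompletion (maximalIdeal L) L) ∈
      RingHom.ker (AdicCompletion.evalOneₐ (maximalIdeal L)).toRingHom := by
    rw [hle]; trivial
  rw [RingHom.mem_ker, map_one] at h1
  have : (1 : L ⧸ maximalIdeal L) ≠ 0 := one_ne_zero
  exact this h1

/-- [Q1] On the output shape of H6843: `ψ z ∈ m L^ ↔ z ∈ p'`. -/
theorem psi_mem_iff {R R' : Type u} [CommRing R] [CommRing R'] [Algebra R R']
    (p : Ideal R) [p.IsPrime] (p' : Ideal R') [p'.IsPrime]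
    (hp : p'.comap (algebraMap R R') = p)
    (hfrac : ∀ x : R', ∃ r s : R, s ∉ p ∧ algebraMap R R' s * x - algebraMap R R' r ∈ p')
    (ψ : R' →+* AdicCompletion (maximalIdeal (Localization.AtPrime p)) (Localization.AtPrime p))
    (hψ : ∀ r : R, ψ (algebraMap R R' r) =
      algebraMap (Localization.AtPrime p) _ (algebraMap R (Localization.AtPrime p) r))
    (hψp : ∀ x ∈ p', ψ x ∈ (maximalIdeal (Localization.AtPrime p)).map
      (algebraMap (Localization.AtPrime p)
        (AdicCompletion (maximalIdeal (Localization.AtPrime p)) (Localization.AtPrime p))))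
    (z : R') :
    ψ z ∈ (maximalIdeal (Localization.AtPrime p)).map
      (algebraMap (Localization.AtPrime p)
        (AdicCompletion (maximalIdeal (Localization.AtPrime p)) (Localization.AtPrime p))) ↔
      z ∈ p' := by
  refine ⟨fun hz => ?_, hψp z⟩
  by_contra hzp
  obtain ⟨r, s, hs, hrs⟩ := hfrac z
  have hmem : ∀ a : R, algebraMap R R' a ∈ p' ↔ a ∈ p := fun a => by
    rw [← hp, Ideal.mem_comap]
  have hr : r ∉ p := by
    intro hr
    have h1 : algebraMap R R' s * z ∈ p' := by
      have := p'.add_mem hrs ((hmem r).2 hr)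
      simpa using this
    rcases Ideal.IsPrime.mem_or_mem ‹p'.IsPrime› h1 with h | h
    · exact hs ((hmem s).1 h)
    · exact hzp h
  set M := (maximalIdeal (Localization.AtPrime p)).map
      (algebraMap (Localization.AtPrime p)
        (AdicCompletion (maximalIdeal (Localization.AtPrime p)) (Localization.AtPrime p))) with hM
  have h2 : ψ (algebraMap R R' r) ∈ M := by
    have h3 : ψ (algebraMap R R' s * z - algebraMap R R' r) ∈ M := hψp _ hrs
    rw [map_sub, map_mul] at h3
    have h4 : ψ (algebraMap R R' s) * ψ z ∈ M := M.mul_mem_left _ hz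
    have := M.sub_mem h4 h3
    simpa using this
  rw [hψ] at h2
  have hu : IsUnit (algebraMap R (Localization.AtPrime p) r) :=
    IsLocalization.map_units (Localization.AtPrime p) (⟨r, hr⟩ : p.primeCompl)
  have hu' := hu.map (algebraMap (Localization.AtPrime p)
    (AdicCompletion (maximalIdeal (Localization.AtPrime p)) (Localization.AtPrime p)))
  exact map_maximalIdeal_ne_top (Localization.AtPrime p) (Ideal.eq_top_of_isUnit_mem _ h2 hu')

/-- [Q3] A ring map from a localization `B` of `B₀` at `𝔮` into a ring `C` which sends `m_B` into a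
proper ideal `M` detects `𝔮`. -/
theorem theta_mem_iff {B₀ B C : Type u} [CommRing B₀] [CommRing B] [CommRing C] [IsLocalRing B]
    [Algebra B₀ B] (𝔮 : Ideal B₀) [𝔮.IsPrime] [IsLocalization.AtPrime B 𝔮]
    (φ : B →+* C) (M : Ideal C) (hM : M ≠ ⊤) (hloc : ∀ b ∈ maximalIdeal B, φ b ∈ M) (b₀ : B₀) :
    φ (algebraMap B₀ B b₀) ∈ M ↔ b₀ ∈ 𝔮 := by
  constructor
  · intro h
    by_contra hb
    have hu : IsUnit (algebraMap B₀ B b₀) :=
      IsLocalization.map_units B (⟨b₀, hb⟩ : 𝔮.primeCompl)
    exact hM (Ideal.eq_top_of_isUnit_mem _ h (hu.map φ))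
  · intro h
    exact hloc _ ((IsLocalization.AtPrime.to_map_mem_maximal_iff B 𝔮 b₀).2 h)

/-- [Q2] `comap g p' = 𝔮` from congruence mod `M ^ N`-type ideal `MN ≤ M`. -/
theorem comap_eq {B₀ R' C : Type u} [CommRing B₀] [CommRing R'] [CommRing C]
    (𝔮 : Ideal B₀) (p' : Ideal R') (g : B₀ →+* R') (ψ : R' →+* C) (θ : B₀ →+* C)
    (M MN : Ideal C) (hMN : MN ≤ M)
    (hψ : ∀ z : R', ψ z ∈ M ↔ z ∈ p') (hθ : ∀ b₀ : B₀, θ b₀ ∈ M ↔ b₀ ∈ 𝔮)
    (hcong : ∀ b₀ : B₀, ψ (g b₀) - θ b₀ ∈ MN) :
    p'.comap g = 𝔮 := by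
  ext b₀
  rw [Ideal.mem_comap, ← hψ, ← hθ]
  have h := hMN (hcong b₀)
  constructor
  · intro h1
    have := M.sub_mem h1 h
    simpa using this
  · intro h1
    have := M.add_mem h h1
    simpa using this

/-- `(m ^ N) L^ ≤ m L^` for `1 ≤ N`. -/
theorem map_pow_le_map {L C : Type u} [CommRing L] [CommRing C] (f : L →+* C) (m : Ideal L) {N : ℕ}
    (hN : 1 ≤ N) : (m ^ N).map f ≤ m.map f :=
  Ideal.map_mono (Ideal.pow_le_self (by omega))

end Groth.Agent.Lib.Helper13.AA7202Q
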