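/-
CORE lemma of helper34's S7202 (Artin approximation, scheme form), assembled from
AA7202PRES / AA7202Q / AA7202CONG / AA7202KAP (helper13) and helper87's AA7202INJ.
Author: helper13
-/
import Mathlib
import Groth.Prelude.Def_Found
import Groth.Agent.Lib.Helper34.AA7202H
import Groth.Agent.Lib.Helper87.AA7202INJ
import Groth.Agent.Lib.Helper58.ExcellentLoc
import Groth.Agent.Lib.Helper13.AA7202PRES
import Groth.Agent.Lib.Helper13.AA7202Q
import Groth.Agent.Lib.Helper13.AA7202CONG
import Groth.Agent.Lib.Helper13.AA7202KAP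

set_option autoImplicit false

universe u

open IsLocalRing CategoryTheory AlgebraicGeometry
open Groth.Agent.Lib.Helper34.AA7202H

namespace Groth.Agent.Lib.Helper13.AA7202CORE

open Groth.Agent.Lib.Helper13.AA7202PRES Groth.Agent.Lib.Helper13.AA7202Q
  Groth.Agent.Lib.Helper13.AA7202CONG Groth.Agent.Lib.Helper13.AA7202KAP

theorem core (H : H6843.{u}) {Λ₀ A₀ B₀ : Type u} [CommRing Λ₀] [CommRing A₀] [CommRing B₀]
    [Algebra Λ₀ A₀] [Algebra Λ₀ B₀]
    [IsNoetherianRing Λ₀] [Algebra.FiniteType Λ₀ A₀] [Algebra.FiniteType Λ₀ B₀]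
    (p : Ideal A₀) [p.IsPrime] (𝔮 : Ideal B₀) [𝔮.IsPrime]
    (A : Type u) [CommRing A] [IsLocalRing A] [Algebra A₀ A] [IsLocalization.AtPrime A p]
    (hG : CAlg.IsGRing A)
    (B : Type u) [CommRing B] [IsLocalRing B] [Algebra B₀ B] [IsLocalization.AtPrime B 𝔮]
    (φ : B →+* AdicCompletion (maximalIdeal A) A)
    (hφ : ∀ l : Λ₀, φ (algebraMap B₀ B (algebraMap Λ₀ B₀ l)) =
      algebraMap A (AdicCompletion (maximalIdeal A) A) (algebraMap A₀ A (algebraMap Λ₀ A₀ l)))
    (hloc : ∀ b ∈ maximalIdeal B,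
      φ b ∈ (maximalIdeal A).map (algebraMap A (AdicCompletion (maximalIdeal A) A)))
    (N : ℕ) (hN : 1 ≤ N) :
    ∃ (R' : Type u) (_ : CommRing R') (_ : Algebra A₀ R') (_ : Algebra.Etale A₀ R')
      (p' : Ideal R') (_ : p'.IsPrime) (g : B₀ →+* R'),
      p'.comap (algebraMap A₀ R') = p ∧ p'.comap g = 𝔮 ∧
      (∀ l : Λ₀, g (algebraMap Λ₀ B₀ l) = algebraMap A₀ R' (algebraMap Λ₀ A₀ l)) ∧
      (∀ z : R', ∃ r s : A₀, s ∉ p ∧ algebraMap A₀ R' s * z - algebraMap A₀ R' r ∈ p') ∧
      ∀ (b₀ t : B₀) (c₀ s : A₀) (b : B) (c : A), t ∉ 𝔮 → s ∉ p →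
        algebraMap B₀ B t * b = algebraMap B₀ B b₀ → algebraMap A₀ A s * c = algebraMap A₀ A c₀ →
        AdicCompletion.evalₐ (maximalIdeal A) N (φ b) = Ideal.Quotient.mk (maximalIdeal A ^ N) c →
        ∃ w : R', w ∉ p' ∧
          w * (g b₀ * algebraMap A₀ R' s - algebraMap A₀ R' c₀ * g t) ∈ p' ^ N := by
  classical
  haveI : IsNoetherianRing A₀ := Algebra.FiniteType.isNoetherianRing Λ₀ A₀
  let σ : A ≃ₐ[A₀] Localization.AtPrime p :=
    IsLocalization.algEquiv p.primeCompl A (Localization.AtPrime p)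
  have hGL : CAlg.IsGRing (Localization.AtPrime p) := by
    letI : Algebra A (Localization.AtPrime p) :=
      (σ.toRingEquiv.toRingHom.comp (algebraMap A A)).toAlgebra
    haveI : IsLocalization (⊥ : Submonoid A) A := IsLocalization.self bot_le
    haveI : IsLocalization (⊥ : Submonoid A) (Localization.AtPrime p) :=
      (IsLocalization.isLocalization_iff_of_ringEquiv ⊥ σ.toRingEquiv).1 inferInstance
    exact Groth.Agent.Lib.Helper58.ExcellentLoc.isGRing_localization A hG ⊥ (Localization.AtPrime p)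
  haveI : IsNoetherianRing (Localization.AtPrime p) := hGL.1
  have hσm : (maximalIdeal A).map σ.toRingEquiv.toRingHom ≤ maximalIdeal (Localization.AtPrime p) := by
    rw [Ideal.map_le_iff_le_comap]
    intro a ha
    rw [Ideal.mem_comap, mem_maximalIdeal, mem_nonunits_iff]
    intro hu
    rw [mem_maximalIdeal, mem_nonunits_iff] at ha
    apply ha
    have := hu.map σ.symm.toRingEquiv.toRingHom
    simpa using this
  obtain ⟨κ, hκ1, hκ2, hκ3⟩ := kap σ.toRingEquiv.toRingHom hσm
    (maximalIdeal (Localization.AtPrime p)).fg_of_isNoetherianRing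
  obtain ⟨n, m, G, π, hπ, hker⟩ := exists_presentation (Λ₀ := Λ₀) (B₀ := B₀)
  let θ : B₀ →+* AdicCompletion (maximalIdeal (Localization.AtPrime p)) (Localization.AtPrime p) :=
    (κ.comp φ).comp (algebraMap B₀ B)
  have hθ0 : ∀ l : Λ₀, θ (algebraMap Λ₀ B₀ l) =
      algebraMap (Localization.AtPrime p) _
        (algebraMap A₀ (Localization.AtPrime p) (algebraMap Λ₀ A₀ l)) := by
    intro l
    simp only [θ, RingHom.comp_apply]
    rw [hφ, hκ1]
    congr 1
    exact σ.commutes _
  let a : Fin n → AdicCompletion (maximalIdeal (Localization.AtPrime p)) (Localization.AtPrime p) :=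
    fun i => θ (π (MvPolynomial.X i))
  let F : Fin m → MvPolynomial (Fin n) A₀ := fun j => MvPolynomial.map (algebraMap Λ₀ A₀) (G j)
  have hev2 : ∀ P : MvPolynomial (Fin n) Λ₀,
      MvPolynomial.eval₂ ((algebraMap (Localization.AtPrime p)
        (AdicCompletion (maximalIdeal (Localization.AtPrime p)) (Localization.AtPrime p))).comp
          ((algebraMap A₀ (Localization.AtPrime p)).comp (algebraMap Λ₀ A₀))) a P = θ (π P) := by
    intro P
    have h := MvPolynomial.ringHom_ext
      (f := MvPolynomial.eval₂Hom ((algebraMap (Localization.AtPrime p)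
        (AdicCompletion (maximalIdeal (Localization.AtPrime p)) (Localization.AtPrime p))).comp
          ((algebraMap A₀ (Localization.AtPrime p)).comp (algebraMap Λ₀ A₀))) a)
      (g := θ.comp π.toRingHom) ?_ ?_
    · exact RingHom.congr_fun h P
    · intro l
      have : π (MvPolynomial.C l) = algebraMap Λ₀ B₀ l := by
        rw [← MvPolynomial.algebraMap_eq, AlgHom.commutes]
      simp only [MvPolynomial.coe_eval₂Hom, MvPolynomial.eval₂_C, RingHom.comp_apply,
        AlgHom.toRingHom_eq_coe, RingHom.coe_coe, this, hθ0]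
    · intro i
      simp only [MvPolynomial.coe_eval₂Hom, MvPolynomial.eval₂_X, RingHom.comp_apply,
        AlgHom.toRingHom_eq_coe, RingHom.coe_coe, a]
  have ha : ∀ j, MvPolynomial.aeval a
      (MvPolynomial.map (algebraMap A₀ (Localization.AtPrime p)) (F j)) = 0 := by
    intro j
    rw [aeval_map_map, hev2]
    have : π (G j) = 0 := by
      have hmem : G j ∈ RingHom.ker π.toRingHom := by
        rw [hker]
        exact Ideal.subset_span ⟨j, rfl⟩
      exact hmem
    rw [this, map_zero]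
  obtain ⟨R', instR', instAlg, hEt, ψ, p', hp'prime, hψ, hp', hfrac, hψp, b, hb, hab⟩ :=
    H p hGL F a ha N
  haveI := hp'prime
  haveI := hEt
  obtain ⟨g, hgP, hg0, hgX⟩ := exists_lift G π hπ hker
    ((algebraMap A₀ R').comp (algebraMap Λ₀ A₀)) b (by
      intro j
      rw [← aeval_map]
      exact hb j)
  have hcong := cong (L := Localization.AtPrime p) π hπ g hg0 ψ hψ θ hθ0
    ((maximalIdeal (Localization.AtPrime p) ^ N).map (algebraMap (Localization.AtPrime p)
      (AdicCompletion (maximalIdeal (Localization.AtPrime p)) (Localization.AtPrime p))))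
    (by
      intro i
      rw [hgX]
      exact hab i)
  have hψM := psi_mem_iff p p' hp' hfrac ψ hψ hψp
  have hθM : ∀ b₀ : B₀, θ b₀ ∈ (maximalIdeal (Localization.AtPrime p)).map
      (algebraMap (Localization.AtPrime p)
        (AdicCompletion (maximalIdeal (Localization.AtPrime p)) (Localization.AtPrime p))) ↔
      b₀ ∈ 𝔮 := fun b₀ =>
    theta_mem_iff 𝔮 (κ.comp φ) _ (map_maximalIdeal_ne_top (Localization.AtPrime p))
      (fun x hx => hκ3 _ (hloc x hx)) b₀
  have hq : p'.comap g = 𝔮 := comap_eq 𝔮 p' g ψ θ _ _ (map_pow_le_map _ _ hN) hψM hθM hcong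
  refine ⟨R', instR', instAlg, hEt, p', hp'prime, g, hp', hq, hg0, hfrac, ?_⟩
  intro b₀ t c₀ s bb c _ _ hbt hcs hev
  refine Groth.Agent.Lib.Helper87.AA7202INJ.inj p p' hp' hfrac ψ hψ hψp N _ ?_
  rw [map_sub, map_mul, map_mul, hψ, hψ]
  refine last _ (ψ (g b₀)) (ψ (g t)) (θ b₀) (θ t) _ _ (κ (φ bb))
    (algebraMap (Localization.AtPrime p) _ (σ c)) (hcong b₀) (hcong t) ?_ (hκ2 N (φ bb) c hev) ?_
  · simp only [θ, RingHom.comp_apply]
    rw [← map_mul, ← map_mul, hbt]
  · rw [← map_mul]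
    congr 1
    have := congrArg σ hcs
    rw [map_mul, σ.commutes, σ.commutes] at this
    exact this

end Groth.Agent.Lib.Helper13.AA7202CORE
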