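/-
[KAP] transport of the completion along a local ring map, for the CORE lemma of helper34's S7202.
Author: helper13
-/
import Mathlib
import Groth.Agent.Lib.Helper54.ComplFlat

set_option autoImplicit false

universe u

open IsLocalRing

namespace Groth.Agent.Lib.Helper13.AA7202KAP

/-- [KAP] A ring map `σ : A → L` of local rings with `σ(m_A) ⊆ m_L` induces `κ : A^ → L^` compatible
with the canonical maps, with the truncations `evalₐ`, and with the ideals `m A^`, `m L^`. -/
theorem kap {A L : Type u} [CommRing A] [CommRing L] [IsLocalRing A] [IsLocalRing L]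
    (σ : A →+* L) (hσ : (maximalIdeal A).map σ ≤ maximalIdeal L) (hfg : (maximalIdeal L).FG) :
    ∃ κ : AdicCompletion (maximalIdeal A) A →+* AdicCompletion (maximalIdeal L) L,
      (∀ a : A, κ (algebraMap A (AdicCompletion (maximalIdeal A) A) a) =
        algebraMap L (AdicCompletion (maximalIdeal L) L) (σ a)) ∧
      (∀ (N : ℕ) (y : AdicCompletion (maximalIdeal A) A) (c : A),
        AdicCompletion.evalₐ (maximalIdeal A) N y = Ideal.Quotient.mk (maximalIdeal A ^ N) c →
        κ y - algebraMap L (AdicCompletion (maximalIdeal L) L) (σ c) ∈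
          (maximalIdeal L ^ N).map (algebraMap L (AdicCompletion (maximalIdeal L) L))) ∧
      (∀ y ∈ (maximalIdeal A).map (algebraMap A (AdicCompletion (maximalIdeal A) A)),
        κ y ∈ (maximalIdeal L).map (algebraMap L (AdicCompletion (maximalIdeal L) L))) := by
  refine ⟨FSch.complMap (maximalIdeal A) (maximalIdeal L) σ hσ, ?_, ?_, ?_⟩
  · intro a
    exact Groth.Agent.Lib.Helper54.ComplFlat.complMap_algebraMap _ _ σ hσ a
  · intro N y c hy
    apply Groth.Agent.Lib.Helper54.ComplFlat.mem_map_pow_of_evalₐ_eq_zero _ hfg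
    rw [map_sub, Groth.Agent.S3869.evalₐ_complMap, hy, Ideal.quotientMap_mk,
      AdicCompletion.algebraMap_apply, AdicCompletion.evalₐ_of, Algebra.algebraMap_self,
      RingHom.id_apply, sub_self]
  · intro y hy
    have hle : (maximalIdeal A).map (algebraMap A (AdicCompletion (maximalIdeal A) A)) ≤
        ((maximalIdeal L).map (algebraMap L (AdicCompletion (maximalIdeal L) L))).comap
          (FSch.complMap (maximalIdeal A) (maximalIdeal L) σ hσ) := by
      rw [Ideal.map_le_iff_le_comap]
      intro a ha
      rw [Ideal.mem_comap, Ideal.mem_comap,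
        Groth.Agent.Lib.Helper54.ComplFlat.complMap_algebraMap _ _ σ hσ a]
      exact Ideal.mem_map_of_mem _ (hσ (Ideal.mem_map_of_mem σ ha))
    exact hle hy

end Groth.Agent.Lib.Helper13.AA7202KAP
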