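import Mathlib

/-!
# Noetherian and Artinian objects of an abelian category form Serre classes
-/

set_option autoImplicit false

universe v u

open CategoryTheory CategoryTheory.Limits

namespace Groth.Agent.Lib.Helper13.NoethSerre

variable {C : Type u} [Category.{v} C] [Abelian C]

lemma factors_of_epi_comp {Z' Z X : C} (π : Z' ⟶ Z) [Epi π] (a : Z ⟶ X) (S : Subobject X)
    (h : S.Factors (π ≫ a)) : S.Factors a := by
  have sq : CommSq (S.factorThru _ h) π S.arrow a := ⟨by simp⟩
  have : StrongEpi π := strongEpi_of_epi π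
  exact (Subobject.factors_iff _ _).2 ⟨sq.lift, sq.fac_right⟩

/-- Pulling back subobjects along an epimorphism reflects the order. -/
lemma le_of_pullback_le {X Y : C} (p : X ⟶ Y) [Epi p] (T T' : Subobject Y)
    (h : (Subobject.pullback p).obj T ≤ (Subobject.pullback p).obj T') : T ≤ T' := by
  apply Subobject.le_of_factors
  have hpb := Subobject.isPullback p T
  have : Epi (Subobject.pullbackπ p T) := Abelian.epi_fst_of_isLimit _ _ hpb.isLimit
  apply factors_of_epi_comp (Subobject.pullbackπ p T)
  rw [hpb.w, ← pullback_factors_iff]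
  exact Subobject.factors_of_le _ h (Subobject.factors_self _)

lemma strictMono_pullback {X Y : C} (p : X ⟶ Y) [Epi p] :
    StrictMono (fun T : Subobject Y => (Subobject.pullback p).obj T) := by
  intro T T' hlt
  refine lt_of_le_of_ne ((Subobject.pullback p).monotone hlt.le) fun heq => ?_
  exact hlt.not_ge (le_of_pullback_le p T' T heq.ge)

section SES

variable (S : ShortComplex C) (hS : S.ShortExact)

include hS

lemma le_of_pullback_le_of_image_le (U V : Subobject S.X₂) (hUV : U ≤ V)
    (h₁ : (Subobject.pullback S.f).obj V ≤ (Subobject.pullback S.f).obj U)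
    (h₃ : imageSubobject (V.arrow ≫ S.g) ≤ imageSubobject (U.arrow ≫ S.g)) : V ≤ U := by
  have := hS.mono_f
  apply Subobject.le_of_factors
  -- refine along the image comparison
  have hepi : Epi (factorThruImageSubobject (U.arrow ≫ S.g)) := inferInstance
  obtain ⟨Z, π, hπ, s, hs⟩ := surjective_up_to_refinements_of_epi
    (factorThruImageSubobject (U.arrow ≫ S.g))
    (factorThruImageSubobject (V.arrow ≫ S.g) ≫ Subobject.ofLE _ _ h₃)
  have hs' : π ≫ V.arrow ≫ S.g = s ≫ U.arrow ≫ S.g := by
    have := congrArg (fun k => k ≫ (imageSubobject (U.arrow ≫ S.g)).arrow) hs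
    simpa using this
  apply factors_of_epi_comp π
  have hd : (π ≫ V.arrow - s ≫ U.arrow) ≫ S.g = 0 := by
    rw [Preadditive.sub_comp, Category.assoc, Category.assoc, hs', sub_self]
  obtain ⟨d', hd'⟩ : ∃ d' : Z ⟶ S.X₁, d' ≫ S.f = π ≫ V.arrow - s ≫ U.arrow :=
    ⟨hS.exact.lift _ hd, hS.exact.lift_f _ hd⟩
  have hV : V.Factors (d' ≫ S.f) := by
    rw [hd']
    have h1 : V.Factors (π ≫ V.arrow) := Subobject.factors_of_factors_right _ V.factors_self
    have h2 : V.Factors (s ≫ U.arrow) :=
      Subobject.factors_of_le _ hUV (Subobject.factors_of_factors_right _ U.factors_self)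
    have h3 : V.Factors (-(s ≫ U.arrow)) := by
      rw [← Preadditive.neg_comp]
      exact Subobject.factors_of_le _ hUV (Subobject.factors_of_factors_right _ U.factors_self)
    rw [sub_eq_add_neg]
    exact Subobject.factors_add _ _ h1 h3
  have hU : U.Factors (d' ≫ S.f) := by
    rw [← pullback_factors_iff] at hV ⊢
    exact Subobject.factors_of_le _ h₁ hV
  have e : π ≫ V.arrow = d' ≫ S.f + s ≫ U.arrow := by rw [hd']; abel
  rw [e]
  exact Subobject.factors_add _ _ hU (Subobject.factors_of_factors_right _ U.factors_self)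

lemma strictMono_prod :
    StrictMono (fun U : Subobject S.X₂ =>
      ((Subobject.pullback S.f).obj U, imageSubobject (U.arrow ≫ S.g))) := by
  intro U V hlt
  have hmono : ∀ {U V : Subobject S.X₂}, U ≤ V →
      imageSubobject (U.arrow ≫ S.g) ≤ imageSubobject (V.arrow ≫ S.g) := by
    intro U V h
    rw [← Subobject.ofLE_arrow h, Category.assoc]
    exact imageSubobject_comp_le _ _
  refine lt_of_le_of_ne ⟨(Subobject.pullback S.f).monotone hlt.le, hmono hlt.le⟩ fun heq => ?_
  have h1 := (Prod.ext_iff.1 heq).1
  have h3 := (Prod.ext_iff.1 heq).2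
  exact hlt.not_ge (le_of_pullback_le_of_image_le S hS U V hlt.le h1.ge h3.ge)

lemma isNoetherianObject_X₂ [IsNoetherianObject S.X₁] [IsNoetherianObject S.X₃] :
    IsNoetherianObject S.X₂ :=
  ObjectProperty.is_of_prop _ (strictMono_prod S hS).wellFoundedGT

lemma isArtinianObject_X₂ [IsArtinianObject S.X₁] [IsArtinianObject S.X₃] :
    IsArtinianObject S.X₂ :=
  ObjectProperty.is_of_prop _ (strictMono_prod S hS).wellFoundedLT

end SES

lemma isNoetherianObject_of_epi {X Y : C} (p : X ⟶ Y) [Epi p] [IsNoetherianObject X] :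
    IsNoetherianObject Y :=
  ObjectProperty.is_of_prop _ (strictMono_pullback p).wellFoundedGT

lemma isArtinianObject_of_epi {X Y : C} (p : X ⟶ Y) [Epi p] [IsArtinianObject X] :
    IsArtinianObject Y :=
  ObjectProperty.is_of_prop _ (strictMono_pullback p).wellFoundedLT

instance : (isNoetherianObject (C := C)).IsSerreClass where
  prop_of_epi f _ hX := by
    rw [← isNoetherianObject.is_iff] at hX ⊢
    exact isNoetherianObject_of_epi f
  prop_X₂_of_shortExact hS h₁ h₃ := by
    rw [← isNoetherianObject.is_iff] at h₁ h₃ ⊢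
    exact isNoetherianObject_X₂ _ hS

instance : (isArtinianObject (C := C)).IsSerreClass where
  prop_of_epi f _ hX := by
    rw [← isArtinianObject.is_iff] at hX ⊢
    exact isArtinianObject_of_epi f
  prop_X₂_of_shortExact hS h₁ h₃ := by
    rw [← isArtinianObject.is_iff] at h₁ h₃ ⊢
    exact isArtinianObject_X₂ _ hS

end Groth.Agent.Lib.Helper13.NoethSerre
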