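import Groth.Agent.Lib.Helper13.ARSysAdapted
import Groth.Agent.Lib.Helper13.NoethSerre

/-!
# Artin–Rees for projective systems: subsystems of AR-`J`-adic Noetherian systems (SGA5 V 5.2.x)
-/

set_option autoImplicit false
universe w v u
open CategoryTheory CategoryTheory.Limits Opposite ARSys

namespace Groth.Agent.Lib.Helper13.ARSysAR

open Groth.Agent.Lib.Helper13.ARSysBasic Groth.Agent.Lib.Helper13.ARSysLin
open Groth.Agent.Lib.Helper13.SubLat Groth.Agent.Lib.Helper13.OrderLat
open Groth.Agent.Lib.Helper13.ARSysGr Groth.Agent.Lib.Helper13.ARSysML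
open Groth.Agent.Lib.Helper13.ARSysStrictSub Groth.Agent.Lib.Helper13.ARSysQuot
open Groth.Agent.Lib.Helper13.ARSysAdapted Groth.Agent.Lib.Helper13.ARSysARIso
open Groth.Agent.Lib.Helper13.ARSysARAdic Groth.Agent.Lib.Helper13.NoethSerre

section Lattice

variable {C : Type u} [Category.{v} C] [Abelian C]

/-- Preimage of an image along a commutative square whose left vertical map is an epi. -/
lemma pullback_img_of_sq {X' X Y' Y : C} (f' : X' ⟶ X) [Epi f'] (g' : X' ⟶ Y') (g : X ⟶ Y)
    (f : Y' ⟶ Y) (sq : f' ≫ g = g' ≫ f) (U : Subobject X) :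
    (Subobject.pullback f).obj (img g U) =
      img g' ((Subobject.pullback f').obj U) ⊔ kernelSubobject f := by
  rw [← pullback_img f, img_comp, ← sq, ← img_comp, img_pullback_of_epi]

lemma kernelSubobject_eq_bot_of_mono {X Y : C} (f : X ⟶ Y) [Mono f] : kernelSubobject f = ⊥ := by
  apply le_bot_iff.1
  apply Subobject.le_of_factors
  rw [Subobject.bot_factors_iff_zero, ← cancel_mono f, zero_comp]
  exact kernelSubobject_arrow_comp f

lemma img_injective_of_mono {X Y : C} (f : X ⟶ Y) [Mono f] {S S' : Subobject X}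
    (h : img f S = img f S') : S = S' := by
  have h1 := congrArg (fun T => (Subobject.pullback f).obj T) h
  simp only [pullback_img, kernelSubobject_eq_bot_of_mono, sup_bot_eq] at h1
  exact h1

end Lattice

section CaseA

variable {C : Type u} [Category.{v} C] [Abelian C] {A : Type w} [CommRing A] [Linear A C]
variable {J : Ideal A} {W Y : PS C} (j : W ⟶ Y) [Mono j]

include j in
lemma inI_Fsub_comp (hY : IsAdic J Y) (q n : ℕ) (hq : q ≤ n + 1) :
    InI (J ^ q) ((Fsub W q n).arrow ≫ j.app (op n)) := by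
  cases q with
  | zero => rw [pow_zero, Ideal.one_eq_top]; exact inI_top _
  | succ k =>
    have hk : k ≤ n := by omega
    rw [Fsub_succ' W k n hk, ← isQuot_comp_eq_zero_iff (hY.2 k n hk), Category.assoc,
      ← tr_naturality, kernelSubobject_arrow_comp_assoc, zero_comp]

include j in
lemma isAdapted_of_mono (hY : IsAdic J Y) : IsAdapted J W := by
  intro n p hp a ha
  obtain ⟨q, hq⟩ : ∃ q, n + 1 - p = q := ⟨_, rfl⟩
  rw [hq]
  have h1 := inI_Fsub_comp j hY q n (by omega)
  have h2 := (InI.smul_comp h1 ha).comp_eq_zero_of_killedBy (𝟙 _) (by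
    rw [← pow_add, show p + q = n + 1 by omega]; exact hY.1 n)
  rw [Category.comp_id, Category.assoc, comp_smul_id, ← smul_id_comp, ← Category.assoc] at h2
  rw [← cancel_mono (j.app (op n)), zero_comp]
  exact h2

include j in
lemma grsFiniteType_of_mono (hJ : J.FG) (hW : IsStrict W) (hY : IsAdic J Y)
    [IsNoetherianObject (Y.obj (op 0))] : GrsFiniteType J W := by
  intro M hM hmono hlub
  let M' : ℕ → (q : ℕ) → Subobject (Y.obj (op q)) := fun i q => img (j.app (op q)) (M i q)
  have hM' : ∀ i, IsGrSub J Y (M' i) := by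
    intro i
    refine ⟨fun q => ?_, fun p q a ha => ?_⟩
    · apply le_Fsub_of_inI hY
      apply inI_img_arrow
      have h1 := inI_Fsub_comp j hY q q (Nat.le_succ q)
      have h2 : (Fsub W q q).Factors (M i q).arrow :=
        Subobject.factors_of_le _ ((hM i).1 q) (Subobject.factors_self _)
      rw [← Subobject.factorThru_arrow _ _ h2, Category.assoc]
      exact h1.comp_left _
    · change push Y a (Nat.le_add_left q p) (M' i q) ≤ M' i (p + q)
      have := hW q (p + q) (Nat.le_add_left q p)
      have sq : tr W (Nat.le_add_left q p) ≫ j.app (op q) =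
          j.app (op (p + q)) ≫ tr Y (Nat.le_add_left q p) := tr_naturality j _
      have hc : j.app (op (p + q)) ≫ (a • 𝟙 (Y.obj (op (p + q)))) =
          (a • 𝟙 (W.obj (op (p + q)))) ≫ j.app (op (p + q)) := by
        rw [smul_id_comp, comp_smul_id]
      rw [push, pullback_img_of_sq (tr W (Nat.le_add_left q p)) (j.app (op (p + q)))
        (j.app (op q)) (tr Y (Nat.le_add_left q p)) sq, img_sup,
        img_smul_kernel hY _ le_rfl ha, sup_bot_eq, img_comp, hc, ← img_comp]
      exact img_mono _ ((hM i).2 p q a ha)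
  have hmono' : Monotone M' := fun i i' h q => img_mono _ (hmono h q)
  obtain ⟨i₀, hi₀⟩ := grs_noetherian J hJ Y hY M' hM' hmono'
  refine ⟨i₀, fun q => ?_⟩
  apply le_antisymm ((hM i₀).1 q)
  apply (hlub q).2
  rintro _ ⟨i, rfl⟩
  change M i q ≤ M i₀ q
  rcases le_total i i₀ with h | h
  · exact hmono h q
  · have h1 : M' i q = M' i₀ q := congrFun (hi₀ i h) q
    have : Mono (j.app (op q)) := inferInstance
    exact (img_injective_of_mono (j.app (op q)) h1).le

include j in
/-- Artin–Rees: a strict subsystem of a `J`-adic system with Noetherian degree-zero term is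
`J`-adic up to translation. -/
theorem isARAdic_of_strict_sub (hJ : J.FG) (hW : IsStrict W) (hY : IsAdic J Y)
    [IsNoetherianObject (Y.obj (op 0))] : IsARAdic J W :=
  isARAdic_of_grsFiniteType (Or.inl hJ) hW (isAdapted_of_mono j hY)
    (grsFiniteType_of_mono j hJ hW hY)

end CaseA

section Main

variable {C : Type u} [Category.{v} C] [Abelian C] {A : Type w} [CommRing A] [Linear A C]
variable {J : Ideal A}

lemma isStrict_of_isAdic {Y : PS C} (hY : IsAdic J Y) : IsStrict Y :=
  fun n m h => isQuot_epi (hY.2 n m h)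

/-- The degree-zero term of a `J`-adic model of a system with Noetherian terms is Noetherian. -/
lemma isNoetherianObject_zero_of_arIso {X Y : PS C} (u : Y ⟶ X) (hY : IsAdic J Y)
    (hu : IsARIso u) (hX : ∀ n, IsNoetherianObject (X.obj (op n))) :
    IsNoetherianObject (Y.obj (op 0)) := by
  obtain ⟨r, hr⟩ := (isARNull_kernel_iff u).1 hu.1
  let e := Abelian.factorThruImage (u.app (op r))
  let m := Abelian.image.ι (u.app (op r))
  have hem : e ≫ m = u.app (op r) := Abelian.image.fac _
  have hpk : IsColimit (CokernelCofork.ofπ e (kernel.condition e)) :=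
    Abelian.epiIsCokernelOfKernel (KernelFork.ofι (kernel.ι e) (kernel.condition e))
      (kernelIsKernel e)
  have h1 : kernel.ι e ≫ tr Y (Nat.zero_le r) = 0 := by
    have h2 : kernel.ι e ≫ u.app (op r) = 0 := by
      have : kernel.ι e ≫ e ≫ m = 0 := by rw [← Category.assoc, kernel.condition, zero_comp]
      rw [hem] at this
      exact this
    have := hr 0 r (by omega) (kernel.ι e) h2
    exact this
  obtain ⟨d, hd⟩ : ∃ d : Abelian.image (u.app (op r)) ⟶ Y.obj (op 0),
      e ≫ d = tr Y (Nat.zero_le r) :=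
    ⟨hpk.desc (CokernelCofork.ofπ _ h1), hpk.fac _ WalkingParallelPair.one⟩
  have := isStrict_of_isAdic hY 0 r (Nat.zero_le r)
  have : Epi (e ≫ d) := by rw [hd]; infer_instance
  have : Epi d := epi_of_epi e d
  have := hX r
  have : IsNoetherianObject (Abelian.image (u.app (op r))) := isNoetherianObject_of_mono m
  exact isNoetherianObject_of_epi d

variable [IsNoetherianRing A]

/-- S3162: kernels of epimorphisms between AR-`J`-adic Noetherian systems are AR-`J`-adic
Noetherian. -/
theorem isARAdicNoeth_X₁ (S : ShortComplex (PS C)) (hS : S.ShortExact)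
    (h₂ : IsARAdicNoeth J S.X₂) (h₃ : IsARAdicNoeth J S.X₃) : IsARAdicNoeth J S.X₁ := by
  have hJ' : J.FG := IsNoetherian.noetherian J
  have hJ : J.FG ∨ HasCoproducts.{w} C := Or.inl hJ'
  obtain ⟨⟨k₂, Y₂, u, hY₂, hu⟩, n₂⟩ := h₂
  have hmf : ∀ n, Mono (S.f.app (op n)) := fun n => ARSysAdic.mono_f_app S hS n
  have k₁ : TermKilled J S.X₁ := fun n => killedBy_of_mono (S.f.app (op n)) (k₂ n)
  refine ⟨⟨k₁, ?_⟩, fun n => by have := n₂ n; exact isNoetherianObject_of_mono (S.f.app (op n))⟩
  have hY₂s : IsStrict Y₂ := isStrict_of_isAdic hY₂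
  have hML₂ : IsMLAR S.X₂ := (isMLAR_iff_exists_strict _).2 ⟨Y₂, u, hY₂s, hu⟩
  have hML₁ : IsMLAR S.X₁ := isMLAR_X₁ J S hS hJ k₂ hML₂ h₃.1
  haveI : IsNoetherianObject (Y₂.obj (op 0)) := isNoetherianObject_zero_of_arIso u hY₂ hu n₂
  -- the kernel of `Y₂ ⟶ X₃`
  let g' := u ≫ S.g
  let k := kernel.ι g'
  have hk0 : (k ≫ u) ≫ S.g = 0 := by rw [Category.assoc]; exact kernel.condition g'
  obtain ⟨κ, hκ⟩ : ∃ κ : kernel g' ⟶ S.X₁, κ ≫ S.f = k ≫ u :=
    ⟨hS.fIsKernel.lift (KernelFork.ofι (k ≫ u) hk0), hS.fIsKernel.fac _ WalkingParallelPair.zero⟩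
  have hκapp : ∀ n, κ.app (op n) ≫ S.f.app (op n) = k.app (op n) ≫ u.app (op n) := fun n => by
    rw [← NatTrans.comp_app, hκ, NatTrans.comp_app]
  have hκiso : IsARIso κ := by
    obtain ⟨a, ha⟩ := (isARNull_kernel_iff u).1 hu.1
    obtain ⟨b, hb⟩ := (isARNull_cokernel_iff u).1 hu.2
    constructor
    · rw [isARNull_kernel_iff]
      refine ⟨a, fun n m h T y hy => ?_⟩
      have h1 : (y ≫ k.app (op m)) ≫ u.app (op m) = 0 := by
        rw [Category.assoc, ← hκapp, ← Category.assoc, hy, zero_comp]
      have h2 := ha n m h _ h1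
      rw [Category.assoc, ← tr_naturality k, ← Category.assoc] at h2
      have : Mono (k.app (op n)) := inferInstance
      rw [← cancel_mono (k.app (op n)), zero_comp]
      exact h2
    · rw [isARNull_cokernel_iff]
      refine ⟨b, fun n m h => ?_⟩
      apply imLE_of_refinement
      obtain ⟨T', π, hπ, y, hy⟩ := imLE_exists_refinement (hb n m h) (S.f.app (op m))
      have hy0 : y ≫ g'.app (op n) = 0 := by
        rw [NatTrans.comp_app, ← Category.assoc, ← hy, Category.assoc, Category.assoc,
          tr_naturality S.g, ← Category.assoc (S.f.app (op m)), ARSysAdic.zero_app, zero_comp,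
          comp_zero]
      obtain ⟨y', hy'⟩ := exists_ker_lift_app g' n y hy0
      refine ⟨T', π, hπ, y', ?_⟩
      rw [← cancel_mono (S.f.app (op n)), Category.assoc, Category.assoc, hκapp,
        ← Category.assoc y', hy', ← hy, tr_naturality S.f]
  have hK : IsMLAR (kernel g') := isMLAR_of_arIso κ hκiso hML₁
  obtain ⟨K', ι, hιmono, hK's, hιc, -⟩ := exists_strict_of_isMLAR (kernel g') hK
  have hιiso : IsARIso ι := ⟨isARNull_kernel_of_mono ι, hιc⟩
  have : Mono (ι ≫ k) := mono_comp ι k
  obtain ⟨-, Y', v, hY', hv⟩ := isARAdic_of_strict_sub (ι ≫ k) hJ' hK's hY₂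
  exact ⟨Y', v ≫ ι ≫ κ, hY', isARIso_comp _ _ hv (isARIso_comp _ _ hιiso hκiso)⟩

end Main

section KerCoker

variable {C : Type u} [Category.{v} C] [Abelian C] {A : Type w} [CommRing A] [Linear A C]
variable {J : Ideal A}

lemma isMLAR_of_isARAdic {X : PS C} (hX : IsARAdic J X) : IsMLAR X := by
  obtain ⟨-, Y, v, hY, hv⟩ := hX
  exact (isMLAR_iff_exists_strict _).2 ⟨Y, v, isStrict_of_isAdic hY, hv⟩

/-- The short exact sequence `0 ⟶ im u ⟶ Y ⟶ coker u ⟶ 0`. -/
noncomputable def scImage {D : Type*} [Category D] [Abelian D] {X Y : D} (u : X ⟶ Y) :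
    ShortComplex D :=
  ShortComplex.mk (Abelian.image.ι u) (cokernel.π u) (kernel.condition _)

lemma scImage_shortExact {D : Type*} [Category D] [Abelian D] {X Y : D} (u : X ⟶ Y) :
    (scImage u).ShortExact where
  exact := ShortComplex.exact_of_f_is_kernel _ (kernelIsKernel _)
  mono_f := by dsimp [scImage]; infer_instance
  epi_g := by dsimp [scImage]; infer_instance

/-- The short exact sequence `0 ⟶ ker u ⟶ X ⟶ im u ⟶ 0`. -/
noncomputable def scKernel {D : Type*} [Category D] [Abelian D] {X Y : D} (u : X ⟶ Y) :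
    ShortComplex D :=
  ShortComplex.mk (kernel.ι u) (Abelian.factorThruImage u) (by
    rw [← cancel_mono (Abelian.image.ι u), Category.assoc, Abelian.image.fac, kernel.condition,
      zero_comp])

lemma kernel_ι_comp_factorThruImage {D : Type*} [Category D] [Abelian D] {X Y : D} (u : X ⟶ Y) :
    kernel.ι u ≫ Abelian.factorThruImage u = 0 := by
  rw [← cancel_mono (Abelian.image.ι u), Category.assoc, Abelian.image.fac, kernel.condition,
    zero_comp]

/-- `ker u` is the kernel of `X ⟶ im u`. -/
noncomputable def kernelIsKernelFactorThruImage {D : Type*} [Category D] [Abelian D] {X Y : D}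
    (u : X ⟶ Y) :
    IsLimit (KernelFork.ofι (kernel.ι u) (kernel_ι_comp_factorThruImage u)) :=
  KernelFork.IsLimit.ofι _ _
    (fun g' hg' => kernel.lift u g' (by
      rw [← Abelian.image.fac u, ← Category.assoc, hg', zero_comp]))
    (fun g' hg' => kernel.lift_ι _ _ _)
    (fun g' hg' m hm => by
      apply (cancel_mono (kernel.ι u)).1
      rw [kernel.lift_ι]
      exact hm)

lemma scKernel_shortExact {D : Type*} [Category D] [Abelian D] {X Y : D} (u : X ⟶ Y) :
    (scKernel u).ShortExact where
  exact := ShortComplex.exact_of_f_is_kernel _ (kernelIsKernelFactorThruImage u)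
  mono_f := by dsimp [scKernel]; infer_instance
  epi_g := by dsimp [scKernel]; infer_instance

variable [IsNoetherianRing A]

/-- S3163. -/
theorem isARAdicNoeth_kernel_cokernel {X Y : PS C} (u : X ⟶ Y)
    (hX : IsARAdicNoeth J X) (hY : IsARAdicNoeth J Y) :
    IsARAdicNoeth J (kernel u) ∧ IsARAdicNoeth J (cokernel u) := by
  have hcoker : IsARAdicNoeth J (cokernel u) := by
    have k₃ : TermKilled J (cokernel u) := fun n =>
      killedBy_of_epi ((cokernel.π u).app (op n)) (hY.1.1 n)
    refine ⟨?_, fun n => by have := hY.2 n; exact isNoetherianObject_of_epi ((cokernel.π u).app (op n))⟩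
    have hIm : IsMLAR (Abelian.image u) :=
      isMLAR_of_cokernel_null (Abelian.factorThruImage u)
        (isARNull_cokernel_of_epi _) (isMLAR_of_isARAdic hX.1)
    exact isARAdic_X₃ J (scImage u) (scImage_shortExact u) k₃ hIm hY.1
  have him : IsARAdicNoeth J (Abelian.image u) :=
    isARAdicNoeth_X₁ (scImage u) (scImage_shortExact u) hY hcoker
  exact ⟨isARAdicNoeth_X₁ (scKernel u) (scKernel_shortExact u) hX him, hcoker⟩

end KerCoker

end Groth.Agent.Lib.Helper13.ARSysAR
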