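import Groth.Agent.Lib.Helper13.ARSysLin

/-!
# `J`-adic systems in short exact sequences (SGA5 V 3.1.x)
-/

set_option autoImplicit false

universe w v u

open CategoryTheory CategoryTheory.Limits Opposite ARSys

namespace Groth.Agent.Lib.Helper13.ARSysAdic

open Groth.Agent.Lib.Helper13.ARSysBasic Groth.Agent.Lib.Helper13.ARSysML
  Groth.Agent.Lib.Helper13.ARSysLin

section SES

variable {C : Type u} [Category.{v} C] [Abelian C]
  (S : ShortComplex (PS C)) (hS : S.ShortExact)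

include hS

lemma shortExact_app (n : ℕ) : (S.map ((evaluation ℕᵒᵖ C).obj (op n))).ShortExact :=
  hS.map_of_exact _

lemma mono_f_app (n : ℕ) : Mono (S.f.app (op n)) := (shortExact_app S hS n).mono_f

lemma epi_g_app (n : ℕ) : Epi (S.g.app (op n)) := (shortExact_app S hS n).epi_g

omit hS in
@[reassoc]
lemma zero_app (n : ℕ) : S.f.app (op n) ≫ S.g.app (op n) = 0 := by
  rw [← NatTrans.comp_app, S.zero]
  rfl

lemma exists_lift_app (n : ℕ) {T : C} (x : T ⟶ S.X₂.obj (op n)) (hx : x ≫ S.g.app (op n) = 0) :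
    ∃ x' : T ⟶ S.X₁.obj (op n), x' ≫ S.f.app (op n) = x := by
  have h := shortExact_app S hS n
  have := h.mono_f
  exact ⟨h.exact.lift x hx, h.exact.lift_f x hx⟩

lemma exists_desc_app (n : ℕ) {T : C} (h : S.X₂.obj (op n) ⟶ T) (hh : S.f.app (op n) ≫ h = 0) :
    ∃ h'' : S.X₃.obj (op n) ⟶ T, S.g.app (op n) ≫ h'' = h := by
  have h' := shortExact_app S hS n
  have := h'.epi_g
  exact ⟨h'.exact.desc h hh, h'.exact.g_desc h hh⟩

end SES

section Lin

variable {C : Type u} [Category.{v} C] [Abelian C] {A : Type w} [CommRing A] [Linear A C]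
  (J : Ideal A) (S : ShortComplex (PS C)) (hS : S.ShortExact)

include hS

/-- S3152. -/
theorem isAdic_X₃ (h₁ : IsStrict S.X₁) (h₂ : IsAdic J S.X₂) : IsAdic J S.X₃ := by
  have hg := epi_g_app S hS
  refine ⟨fun n => killedBy_of_epi (S.g.app (op n)) (h₂.1 n), fun n m h => ?_⟩
  have hq := h₂.2 n m h
  have := isQuot_epi hq
  have hepi : Epi (tr S.X₃ h) := by
    have e : S.g.app (op m) ≫ tr S.X₃ h = tr S.X₂ h ≫ S.g.app (op n) :=
      (tr_naturality S.g h).symm
    have : Epi (S.g.app (op m) ≫ tr S.X₃ h) := by rw [e]; infer_instance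
    exact epi_of_epi (S.g.app (op m)) _
  refine isQuot_of_epi_of_forall _ (killedBy_of_epi (S.g.app (op n)) (h₂.1 n)) ?_
  intro T φ hφ
  obtain ⟨ψ, hψ⟩ := isQuot_exists_desc hq (S.g.app (op m) ≫ φ) (homKilledBy_comp_left hφ _)
  have h0 : S.f.app (op n) ≫ ψ = 0 := by
    have := h₁ n m h
    rw [← cancel_epi (tr S.X₁ h), comp_zero, ← Category.assoc, tr_naturality S.f h,
      Category.assoc, hψ, zero_app_assoc, zero_comp]
  obtain ⟨ψ'', hψ''⟩ := exists_desc_app S hS n ψ h0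
  refine ⟨ψ'', ?_⟩
  rw [← cancel_epi (S.g.app (op m)), ← Category.assoc, ← tr_naturality S.g h, Category.assoc,
    hψ'', hψ]

/-- S3153. -/
theorem isStrict_X₁ (hJ : J.FG ∨ HasCoproducts.{w} C) (k₂ : TermKilled J S.X₂)
    (h₂ : IsStrict S.X₂) (h₃ : IsAdic J S.X₃) : IsStrict S.X₁ := by
  intro n m h
  rw [epi_iff_surjective_up_to_refinements]
  intro T x'
  have := h₂ n m h
  obtain ⟨T₁, π₁, hπ₁, y, hy⟩ :=
    surjective_up_to_refinements_of_epi (tr S.X₂ h) (x' ≫ S.f.app (op n))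
  have hy'' : (y ≫ S.g.app (op m)) ≫ tr S.X₃ h = 0 := by
    rw [Category.assoc, ← tr_naturality S.g h, ← Category.assoc, ← hy, Category.assoc,
      Category.assoc, zero_app, comp_zero, comp_zero]
  have hin : InI (J ^ (n + 1)) (y ≫ S.g.app (op m)) :=
    (isQuot_comp_eq_zero_iff (h₃.2 n m h) _).1 hy''
  have := epi_g_app S hS m
  obtain ⟨T₂, π₂, hπ₂, z, hz, hzg⟩ :=
    exists_lift_inI (fg_pow_or hJ (n + 1)) (S.g.app (op m)) _ hin
  have hz0 : z ≫ tr S.X₂ h = 0 := hz.comp_eq_zero_of_killedBy _ (k₂ n)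
  obtain ⟨w', hw'⟩ := exists_lift_app S hS m (π₂ ≫ y - z) (by
    rw [Preadditive.sub_comp, Category.assoc, hzg, sub_self])
  refine ⟨T₂, π₂ ≫ π₁, epi_comp _ _, w', ?_⟩
  have := mono_f_app S hS n
  rw [← cancel_mono (S.f.app (op n)), Category.assoc, Category.assoc, Category.assoc, hy,
    tr_naturality S.f h, reassoc_of% hw', Preadditive.sub_comp, hz0, sub_zero, Category.assoc]

/-- S3154. -/
theorem isAdic_X₂ (hJ : J.FG ∨ HasCoproducts.{w} C) (k₂ : TermKilled J S.X₂)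
    (h₁ : IsAdic J S.X₁) (h₃ : IsAdic J S.X₃) : IsAdic J S.X₂ := by
  refine ⟨k₂, fun n m h => ?_⟩
  have he₁ := isQuot_epi (h₁.2 n m h)
  have he₃ := isQuot_epi (h₃.2 n m h)
  have hgm := epi_g_app S hS m
  have hfn := mono_f_app S hS n
  have hepi : Epi (tr S.X₂ h) := by
    rw [epi_iff_surjective_up_to_refinements]
    intro T x
    obtain ⟨T₁, π₁, hπ₁, y₃, hy₃⟩ :=
      surjective_up_to_refinements_of_epi (tr S.X₃ h) (x ≫ S.g.app (op n))
    obtain ⟨T₂, π₂, hπ₂, y, hy⟩ := surjective_up_to_refinements_of_epi (S.g.app (op m)) y₃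
    obtain ⟨x', hx'⟩ := exists_lift_app S hS n (π₂ ≫ π₁ ≫ x - y ≫ tr S.X₂ h) (by
      rw [Preadditive.sub_comp, Category.assoc, Category.assoc, Category.assoc,
        tr_naturality S.g h, ← reassoc_of% hy, hy₃, sub_self])
    obtain ⟨T₃, π₃, hπ₃, y', hy'⟩ := surjective_up_to_refinements_of_epi (tr S.X₁ h) x'
    refine ⟨T₃, π₃ ≫ π₂ ≫ π₁, inferInstance, π₃ ≫ y + y' ≫ S.f.app (op m), ?_⟩
    rw [Preadditive.add_comp, Category.assoc, Category.assoc, Category.assoc,
      Category.assoc, ← tr_naturality S.f h, ← reassoc_of% hy', hx', Preadditive.comp_sub]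
    abel
  refine isQuot_of_epi_of_forall _ (k₂ n) ?_
  intro T φ hφ
  obtain ⟨Q, p, hp⟩ := exists_isQuot (J ^ (n + 1)) (fg_pow_or hJ _) (S.X₂.obj (op m))
  obtain ⟨φ', rfl⟩ := isQuot_exists_desc hp φ hφ
  have key : ∀ {T' : C} (x : T' ⟶ S.X₂.obj (op m)), x ≫ tr S.X₂ h = 0 → x ≫ p = 0 := by
    intro T' x hx
    have hx'' : (x ≫ S.g.app (op m)) ≫ tr S.X₃ h = 0 := by
      rw [Category.assoc, ← tr_naturality S.g h, reassoc_of% hx, zero_comp]
    have hin : InI (J ^ (n + 1)) (x ≫ S.g.app (op m)) :=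
      (isQuot_comp_eq_zero_iff (h₃.2 n m h) _).1 hx''
    obtain ⟨T₂, π, hπ, z, hz, hzg⟩ :=
      exists_lift_inI (fg_pow_or hJ (n + 1)) (S.g.app (op m)) _ hin
    have hz0 : z ≫ tr S.X₂ h = 0 := hz.comp_eq_zero_of_killedBy _ (k₂ n)
    obtain ⟨w', hw'⟩ := exists_lift_app S hS m (π ≫ x - z) (by
      rw [Preadditive.sub_comp, Category.assoc, hzg, sub_self])
    have hw0 : w' ≫ tr S.X₁ h = 0 := by
      rw [← cancel_mono (S.f.app (op n)), Category.assoc, tr_naturality S.f h,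
        reassoc_of% hw', Preadditive.sub_comp, Category.assoc, hx, comp_zero, hz0, sub_zero,
        zero_comp]
    have hw : InI (J ^ (n + 1)) w' := (isQuot_comp_eq_zero_iff (h₁.2 n m h) _).1 hw0
    have h1 : (w' ≫ S.f.app (op m)) ≫ p = 0 :=
      (hw.comp_right (S.f.app (op m))) p (isQuot_homKilledBy hp)
    have h2 : z ≫ p = 0 := hz p (isQuot_homKilledBy hp)
    rw [hw', Preadditive.sub_comp, h2, sub_zero, Category.assoc] at h1
    rw [← cancel_epi π, h1, comp_zero]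
  have hk : kernel.ι (tr S.X₂ h) ≫ p ≫ φ' = 0 := by
    rw [← Category.assoc, key _ (kernel.condition _), zero_comp]
  have hcok := Abelian.epiIsCokernelOfKernel
    (KernelFork.ofι _ (kernel.condition (tr S.X₂ h))) (kernelIsKernel _)
  exact ⟨hcok.desc (CokernelCofork.ofπ _ hk), hcok.fac _ WalkingParallelPair.one⟩

end Lin

end Groth.Agent.Lib.Helper13.ARSysAdic
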