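import Groth.Agent.Lib.Helper13.ARSysARIso
import Groth.Agent.Lib.Helper13.ARSysAdic

/-!
# Systems that are `J`-adic up to translation (SGA5 V 3.2.x)
-/

set_option autoImplicit false

universe w v u

open CategoryTheory CategoryTheory.Limits Opposite ARSys

namespace Groth.Agent.Lib.Helper13.ARSysARAdic

open Groth.Agent.Lib.Helper13.ARSysBasic Groth.Agent.Lib.Helper13.ARSysML
  Groth.Agent.Lib.Helper13.ARSysLin Groth.Agent.Lib.Helper13.ARSysARIso
  Groth.Agent.Lib.Helper13.ARSysAdic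

section Cat

variable {C : Type u} [Category.{v} C]

/-- A family of maps compatible with a termwise epimorphic natural transformation is natural. -/
lemma exists_natTrans_of_fac {P Q R : PS C} (q : P ⟶ Q) (c : P ⟶ R)
    (hq : ∀ n : ℕ, Epi (q.app (op n))) (g : ∀ n : ℕ, Q.obj (op n) ⟶ R.obj (op n))
    (hg : ∀ n : ℕ, q.app (op n) ≫ g n = c.app (op n)) : ∃ u : Q ⟶ R, q ≫ u = c := by
  refine ⟨{ app := fun n => g n.unop, naturality := ?_ }, ?_⟩
  · rintro ⟨a⟩ ⟨b⟩ f
    have := hq a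
    rw [← cancel_epi (q.app (op a))]
    dsimp only [unop_op]
    rw [← Category.assoc, ← q.naturality f, Category.assoc, hg, c.naturality f,
      ← Category.assoc, hg]
  · ext ⟨n⟩
    exact hg n

end Cat

section Lin

variable {C : Type u} [Category.{v} C] [Abelian C] {A : Type w} [CommRing A] [Linear A C]
  (J : Ideal A)

/-- S3178. -/
theorem exists_arIso_of_shift (X Y : PS C) (kX : TermKilled J X) (hY : IsAdic J Y) (r : ℕ)
    (v : (shift C r).obj Y ⟶ X) (hv : IsARIso v) : ∃ u : Y ⟶ X, IsARIso u := by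
  have hq := fun n => hY.2 n (n + r) (Nat.le_add_right n r)
  have hg : ∀ n : ℕ, ∃ g : Y.obj (op n) ⟶ X.obj (op n),
      (shiftNat Y r).app (op n) ≫ g = v.app (op n) := fun n =>
    isQuot_exists_desc (hq n) (v.app (op n)) (killedBy_hom_tgt (kX n) _)
  choose g hg using hg
  obtain ⟨u, hu⟩ := exists_natTrans_of_fac (shiftNat Y r) v (fun n => isQuot_epi (hq n)) g hg
  exact ⟨u, isARIso_of_comp_left (shiftNat Y r) u (isARIso_shiftNat Y r) (hu ▸ hv)⟩

variable (S : ShortComplex (PS C)) (hS : S.ShortExact)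

include hS

/-- S3156. -/
theorem isMLAR_X₁ (hJ : J.FG ∨ HasCoproducts.{w} C) (k₂ : TermKilled J S.X₂)
    (h₂ : IsMLAR S.X₂) (h₃ : IsARAdic J S.X₃) : IsMLAR S.X₁ := by
  obtain ⟨-, Y, u, hY, hu⟩ := h₃
  obtain ⟨a, ha⟩ := (isARNull_kernel_iff u).1 hu.1
  obtain ⟨b, hb⟩ := (isARNull_cokernel_iff u).1 hu.2
  obtain ⟨r, hr⟩ := (isMLAR_iff_imLE S.X₂).1 h₂
  rw [isMLAR_iff_imLE]
  refine ⟨a + r, fun n m h => ?_⟩
  apply imLE_of_refinement
  have hfn := mono_f_app S hS n
  have hgm := epi_g_app S hS m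
  -- step 1
  obtain ⟨T₁, π₁, hπ₁, xM, hx⟩ := imLE_exists_refinement (hr (n + a) (m + b) (by omega))
    (S.f.app (op (n + (a + r))) ≫ tr S.X₂ (by omega : n + a + r ≤ n + (a + r)))
  rw [Category.assoc, tr_comp] at hx
  -- step 2
  have c2 : (xM ≫ S.g.app (op (m + b))) ≫ tr S.X₃ (by omega : n + a ≤ m + b) = 0 := by
    rw [Category.assoc, ← tr_naturality S.g, ← reassoc_of% hx, tr_naturality S.g,
      zero_app_assoc, zero_comp, comp_zero]
  -- step 3
  obtain ⟨T₂, π₂, hπ₂, y, hy⟩ := imLE_exists_refinement (hb m (m + b) le_rfl)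
    (xM ≫ S.g.app (op (m + b)))
  -- step 4
  have c4 : (y ≫ tr Y (by omega : n + a ≤ m)) ≫ u.app (op (n + a)) = 0 := by
    rw [Category.assoc, tr_naturality u, ← Category.assoc, ← hy]
    simp only [Category.assoc, tr_comp] at c2 ⊢
    rw [c2, comp_zero]
  have c4' := ha n (n + a) le_rfl _ c4
  rw [Category.assoc, tr_comp] at c4'
  -- step 5
  have c5 : InI (J ^ (n + 1)) y :=
    (isQuot_comp_eq_zero_iff (hY.2 n m (by omega)) _).1 c4'
  have c5' : InI (J ^ (n + 1)) (π₂ ≫ (xM ≫ S.g.app (op (m + b))) ≫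
      tr S.X₃ (Nat.le_add_right m b)) := by
    rw [hy]
    exact c5.comp_right _
  -- step 6
  obtain ⟨T₃, π₃, hπ₃, ξ, hξ, hξg⟩ :=
    exists_lift_inI (fg_pow_or hJ (n + 1)) (S.g.app (op m)) _ c5'
  -- step 7
  have hξ0 : ξ ≫ tr S.X₂ (by omega : n ≤ m) = 0 := hξ.comp_eq_zero_of_killedBy _ (k₂ n)
  -- step 8
  obtain ⟨z', hz'⟩ := exists_lift_app S hS m
    (π₃ ≫ π₂ ≫ xM ≫ tr S.X₂ (Nat.le_add_right m b) - ξ) (by
      rw [Preadditive.sub_comp, hξg, Category.assoc, Category.assoc, Category.assoc,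
        tr_naturality S.g, Category.assoc, sub_self])
  refine ⟨T₃, π₃ ≫ π₂ ≫ π₁, inferInstance, z', ?_⟩
  rw [← cancel_mono (S.f.app (op n)), Category.assoc, Category.assoc, Category.assoc,
    Category.assoc, tr_naturality S.f, tr_naturality S.f, reassoc_of% hz',
    Preadditive.sub_comp, hξ0, sub_zero, Category.assoc, Category.assoc, Category.assoc,
    tr_comp]
  have e : tr S.X₂ (by omega : n ≤ m + b) =
      tr S.X₂ (by omega : n + a ≤ m + b) ≫ tr S.X₂ (Nat.le_add_right n a) :=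
    (tr_comp S.X₂ _ _).symm
  rw [e, ← reassoc_of% hx, tr_comp]

/-- S3155. -/
theorem isARAdic_X₃ (k₃ : TermKilled J S.X₃) (h₁ : IsMLAR S.X₁) (h₂ : IsARAdic J S.X₂) :
    IsARAdic J S.X₃ := by
  obtain ⟨-, Y, u, hY, hu⟩ := h₂
  obtain ⟨a, ha⟩ := (isARNull_kernel_iff u).1 hu.1
  obtain ⟨b, hb⟩ := (isARNull_cokernel_iff u).1 hu.2
  have hf := hS.mono_f
  have hfn := mono_f_app S hS
  have hgn := epi_g_app S hS
  let v := u ≫ S.g
  let ι := kernel.ι v
  have hιv : ι ≫ u ≫ S.g = 0 := kernel.condition v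
  have hιvn : ∀ n, ι.app (op n) ≫ u.app (op n) ≫ S.g.app (op n) = 0 := fun n => by
    rw [← NatTrans.comp_app, ← NatTrans.comp_app, hιv]
    rfl
  let w : kernel v ⟶ S.X₁ := hS.exact.lift (ι ≫ u) (by rw [Category.assoc, hιv])
  have hw : w ≫ S.f = ι ≫ u := hS.exact.lift_f _ _
  have hwn : ∀ n, w.app (op n) ≫ S.f.app (op n) = ι.app (op n) ≫ u.app (op n) := fun n => by
    rw [← NatTrans.comp_app, hw]
    rfl
  -- `w` is an isomorphism up to translation
  have hwiso : IsARIso w := by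
    constructor
    · rw [isARNull_kernel_iff]
      refine ⟨a, fun n m h T y hy => ?_⟩
      have h1 : (y ≫ ι.app (op m)) ≫ u.app (op m) = 0 := by
        rw [Category.assoc, ← hwn, reassoc_of% hy, zero_comp]
      have h2 := ha n m h _ h1
      rw [← cancel_mono (ι.app (op n)), zero_comp, Category.assoc, tr_naturality ι,
        ← Category.assoc]
      exact h2
    · rw [isARNull_cokernel_iff]
      refine ⟨b, fun n m h => ?_⟩
      apply imLE_of_refinement
      obtain ⟨T', π, hπ, y, hy⟩ := imLE_exists_refinement (hb n m h) (S.f.app (op m))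
      have h1 : y ≫ v.app (op n) = 0 := by
        rw [NatTrans.comp_app, ← Category.assoc, ← hy, Category.assoc, Category.assoc,
          tr_naturality S.g, zero_app_assoc, zero_comp, comp_zero]
      obtain ⟨y', rfl⟩ := exists_ker_lift_app v n y h1
      refine ⟨T', π, hπ, y', ?_⟩
      rw [← cancel_mono (S.f.app (op n)), Category.assoc, Category.assoc, tr_naturality S.f,
        hwn, hy, Category.assoc]
  have hK : IsMLAR (kernel v) := isMLAR_of_arIso w hwiso h₁
  obtain ⟨Kt, j, hj, hKt, hcj, -⟩ := exists_strict_of_isMLAR _ hK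
  obtain ⟨c, hc⟩ := (isARNull_cokernel_iff j).1 hcj
  let p := cokernel.π (j ≫ ι)
  let S' : ShortComplex (PS C) := ShortComplex.mk (j ≫ ι) p (cokernel.condition _)
  have hS' : S'.ShortExact :=
    { exact := ShortComplex.exact_of_g_is_cokernel _ (cokernelIsCokernel _)
      mono_f := by dsimp [S']; infer_instance
      epi_g := by dsimp [S', p]; infer_instance }
  have hZ : IsAdic J (cokernel (j ≫ ι)) := isAdic_X₃ J S' hS' hKt hY
  let z : cokernel (j ≫ ι) ⟶ S.X₃ := cokernel.desc (j ≫ ι) v (by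
    rw [Category.assoc, kernel.condition, comp_zero])
  have hz : p ≫ z = v := cokernel.π_desc _ _ _
  have hzn : ∀ n, p.app (op n) ≫ z.app (op n) = u.app (op n) ≫ S.g.app (op n) := fun n => by
    rw [← NatTrans.comp_app, hz]
    rfl
  have hpn : ∀ n, j.app (op n) ≫ ι.app (op n) ≫ p.app (op n) = 0 := fun n => by
    rw [← NatTrans.comp_app, ← NatTrans.comp_app, ← Category.assoc, cokernel.condition]
    rfl
  have hpe : ∀ n, Epi (p.app (op n)) := fun n => inferInstance
  refine ⟨k₃, cokernel (j ≫ ι), z, hZ, ?_, ?_⟩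
  · rw [isARNull_kernel_iff]
    refine ⟨c, fun n m h T ζ hζ => ?_⟩
    obtain ⟨T₁, π₁, hπ₁, y, hy⟩ := surjective_up_to_refinements_of_epi (p.app (op m)) ζ
    have h1 : y ≫ v.app (op m) = 0 := by
      rw [NatTrans.comp_app, ← hzn, ← reassoc_of% hy, hζ, comp_zero]
    obtain ⟨y', rfl⟩ := exists_ker_lift_app v m y h1
    obtain ⟨T₂, π₂, hπ₂, k, hk⟩ := imLE_exists_refinement (hc n m h) y'
    have e := tr_naturality ι ((Nat.le_add_right n c).trans h)
    rw [← cancel_epi π₁, ← cancel_epi π₂, comp_zero, comp_zero, reassoc_of% hy,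
      ← tr_naturality p, ← reassoc_of% e, reassoc_of% hk, hpn, comp_zero]
  · rw [isARNull_cokernel_iff]
    refine ⟨b, fun n m h => ?_⟩
    apply imLE_of_refinement
    obtain ⟨T₁, π₁, hπ₁, x, hx⟩ :=
      surjective_up_to_refinements_of_epi (S.g.app (op m)) (𝟙 _)
    obtain ⟨T₂, π₂, hπ₂, y, hy⟩ := imLE_exists_refinement (hb n m h) x
    refine ⟨T₂, π₂ ≫ π₁, inferInstance, y ≫ p.app (op n), ?_⟩
    rw [Category.comp_id] at hx
    rw [Category.assoc, hx]
    simp only [Category.assoc]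
    rw [hzn, ← reassoc_of% hy, tr_naturality S.g]

end Lin

end Groth.Agent.Lib.Helper13.ARSysARAdic
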