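import Groth.Agent.Lib.Helper13.ARSysLin

/-!
# Isomorphisms up to translation (`IsARIso`): elementwise criteria, closure properties
-/

set_option autoImplicit false

universe w v u

open CategoryTheory CategoryTheory.Limits Opposite ARSys

namespace Groth.Agent.Lib.Helper13.ARSysARIso

open Groth.Agent.Lib.Helper13.ARSysBasic Groth.Agent.Lib.Helper13.ARSysML

variable {C : Type u} [Category.{v} C] [Abelian C]

section ImLE

lemma imLE_exists_refinement {A A' B : C} {f : A ⟶ B} {f' : A' ⟶ B} (h : ImLE f f') {T : C}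
    (x : T ⟶ A) : ∃ (T' : C) (π : T' ⟶ T) (_ : Epi π) (y : T' ⟶ A'), π ≫ x ≫ f = y ≫ f' := by
  obtain ⟨l, hl⟩ := h.exists_lift (Abelian.factorThruImage f') (Abelian.image.ι f')
    (Abelian.image.fac f')
  obtain ⟨T', π, hπ, y, hy⟩ :=
    surjective_up_to_refinements_of_epi (Abelian.factorThruImage f') (x ≫ l)
  refine ⟨T', π, hπ, y, ?_⟩
  rw [← hl, ← Category.assoc x, ← Category.assoc π, hy, Category.assoc, Abelian.image.fac]

lemma imLE_of_refinement {A A' B : C} {f : A ⟶ B} {f' : A' ⟶ B}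
    (h : ∃ (T' : C) (π : T' ⟶ A) (_ : Epi π) (y : T' ⟶ A'), π ≫ f = y ≫ f') : ImLE f f' := by
  obtain ⟨T', π, hπ, y, hy⟩ := h
  intro T k hk
  rw [← cancel_epi π, comp_zero, reassoc_of% hy, hk, comp_zero]

end ImLE

section Null

lemma isARNull_of_mono {X Y : PS C} (f : X ⟶ Y) [Mono f] (hY : IsARNull Y) : IsARNull X := by
  obtain ⟨r, hr⟩ := (isARNull_iff' _).1 hY
  refine (isARNull_iff' _).2 ⟨r, fun n => ?_⟩
  rw [← cancel_mono (f.app (op n)), tr_naturality f, hr, comp_zero, zero_comp]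

lemma isARNull_of_epi {X Y : PS C} (f : X ⟶ Y) [Epi f] (hX : IsARNull X) : IsARNull Y := by
  obtain ⟨r, hr⟩ := (isARNull_iff' _).1 hX
  refine (isARNull_iff' _).2 ⟨r, fun n => ?_⟩
  rw [← cancel_epi (f.app (op (n + r))), ← tr_naturality f, hr, zero_comp, comp_zero]

/-- Elementwise criterion for the kernel to be AR-null. -/
lemma isARNull_kernel_iff {K X : PS C} (w : K ⟶ X) :
    IsARNull (kernel w) ↔ ∃ a : ℕ, ∀ (n m : ℕ) (h : n + a ≤ m) ⦃T : C⦄ (y : T ⟶ K.obj (op m)),
      y ≫ w.app (op m) = 0 → y ≫ tr K ((Nat.le_add_right n a).trans h) = 0 := by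
  constructor
  · intro hK
    obtain ⟨a, ha⟩ := (isARNull_iff' _).1 hK
    refine ⟨a, fun n m h T y hy => ?_⟩
    obtain ⟨y', rfl⟩ := exists_ker_lift_app w m y hy
    rw [Category.assoc, ← tr_naturality (kernel.ι w), IsARNull.tr_eq_zero' ha h, zero_comp,
      comp_zero]
  · rintro ⟨a, ha⟩
    refine (isARNull_iff' _).2 ⟨a, fun n => ?_⟩
    rw [← cancel_mono ((kernel.ι w).app (op n)), tr_naturality (kernel.ι w), zero_comp]
    exact ha n (n + a) le_rfl _ (ker_condition_app w _)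

/-- Test-map criterion for the cokernel to be AR-null. -/
lemma isARNull_cokernel_iff {K X : PS C} (w : K ⟶ X) :
    IsARNull (cokernel w) ↔ ∃ b : ℕ, ∀ (n m : ℕ) (h : n + b ≤ m),
      ImLE (tr X ((Nat.le_add_right n b).trans h)) (w.app (op n)) := by
  constructor
  · intro hK
    obtain ⟨b, hb⟩ := (isARNull_iff' _).1 hK
    refine ⟨b, fun n m h T k hk => ?_⟩
    obtain ⟨k', rfl⟩ := exists_coker_desc_app w n k hk
    rw [reassoc_of% (tr_naturality (cokernel.π w) ((Nat.le_add_right n b).trans h)),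
      IsARNull.tr_eq_zero' hb h, zero_comp, comp_zero]
  · rintro ⟨b, hb⟩
    refine (isARNull_iff' _).2 ⟨b, fun n => ?_⟩
    rw [← cancel_epi ((cokernel.π w).app (op (n + b))), ← tr_naturality (cokernel.π w),
      comp_zero]
    exact hb n (n + b) le_rfl _ (coker_condition_app w _)

end Null

section ARIso

lemma isARIso_shiftNat (X : PS C) (r : ℕ) : IsARIso (shiftNat X r) := by
  constructor
  · rw [isARNull_kernel_iff]
    refine ⟨r, fun n m h T y hy => ?_⟩
    obtain ⟨y', rfl⟩ : ∃ y' : T ⟶ X.obj (op (m + r)), y' = y := ⟨y, rfl⟩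
    change y' ≫ tr X (Nat.le_add_right m r) = 0 at hy
    change y' ≫ tr X (Nat.add_le_add_right ((Nat.le_add_right n r).trans h) r) = 0
    rw [← tr_comp X (by omega : n + r ≤ m) (Nat.le_add_right m r), reassoc_of% hy, zero_comp]
  · rw [isARNull_cokernel_iff]
    refine ⟨r, fun n m h => ?_⟩
    exact ImLE.of_fac (tr X (by omega : n + r ≤ m)) (tr_comp X _ _)

lemma isARIso_comp {X Y Z : PS C} (u : X ⟶ Y) (v : Y ⟶ Z) (hu : IsARIso u) (hv : IsARIso v) :
    IsARIso (u ≫ v) := by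
  obtain ⟨au, hau⟩ := (isARNull_kernel_iff u).1 hu.1
  obtain ⟨bu, hbu⟩ := (isARNull_cokernel_iff u).1 hu.2
  obtain ⟨av, hav⟩ := (isARNull_kernel_iff v).1 hv.1
  obtain ⟨bv, hbv⟩ := (isARNull_cokernel_iff v).1 hv.2
  constructor
  · rw [isARNull_kernel_iff]
    refine ⟨au + av, fun n m h T y hy => ?_⟩
    rw [NatTrans.comp_app, ← Category.assoc] at hy
    have h1 := hav (n + au) m (by omega) _ hy
    rw [Category.assoc, ← tr_naturality u, ← Category.assoc] at h1
    have h2 := hau n (n + au) le_rfl _ h1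
    rw [Category.assoc, tr_comp] at h2
    exact h2
  · rw [isARNull_cokernel_iff]
    refine ⟨bu + bv, fun n m h T k hk => ?_⟩
    rw [NatTrans.comp_app, Category.assoc] at hk
    have h1 := hbu n (n + bu) le_rfl _ hk
    rw [reassoc_of% (tr_naturality v (Nat.le_add_right n bu))] at h1
    have h2 := hbv (n + bu) m (by omega) _ h1
    rw [← Category.assoc, tr_comp] at h2
    exact h2

/-- If `s` and `s ≫ u` are isomorphisms up to translation, so is `u`. -/
lemma isARIso_of_comp_left {W Y X : PS C} (s : W ⟶ Y) (u : Y ⟶ X) (hs : IsARIso s)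
    (hsu : IsARIso (s ≫ u)) : IsARIso u := by
  obtain ⟨bs, hbs⟩ := (isARNull_cokernel_iff s).1 hs.2
  obtain ⟨a, ha⟩ := (isARNull_kernel_iff (s ≫ u)).1 hsu.1
  obtain ⟨b, hb⟩ := (isARNull_cokernel_iff (s ≫ u)).1 hsu.2
  constructor
  · rw [isARNull_kernel_iff]
    refine ⟨a + bs, fun n m h T y hy => ?_⟩
    obtain ⟨T', π, hπ, w, hw⟩ := imLE_exists_refinement (hbs (n + a) m (by omega)) y
    have h1 : w ≫ (s ≫ u).app (op (n + a)) = 0 := by
      rw [NatTrans.comp_app, ← Category.assoc, ← hw, Category.assoc, Category.assoc,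
        tr_naturality u, reassoc_of% hy, zero_comp, comp_zero]
    have h2 := ha n (n + a) le_rfl _ h1
    rw [← cancel_epi π, comp_zero]
    have h3 : tr Y ((Nat.le_add_right n (a + bs)).trans h) =
        tr Y ((Nat.le_add_right (n + a) bs).trans (by omega : n + a + bs ≤ m)) ≫
          tr Y (Nat.le_add_right n a) := (tr_comp Y _ _).symm
    rw [h3, ← Category.assoc, ← Category.assoc, Category.assoc π, hw, Category.assoc,
      ← tr_naturality s, reassoc_of% h2, zero_comp]
  · rw [isARNull_cokernel_iff]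
    refine ⟨b, fun n m h => ?_⟩
    exact (hb n m h).trans (ImLE.comp_left _ _)

end ARIso

section MLTransfer

lemma isMLAR_of_cokernel_null {W X : PS C} (w : W ⟶ X) (hc : IsARNull (cokernel w))
    (hW : IsMLAR W) : IsMLAR X := by
  obtain ⟨b, hb⟩ := (isARNull_cokernel_iff w).1 hc
  obtain ⟨r, hr⟩ := (isMLAR_iff_imLE W).1 hW
  rw [isMLAR_iff_imLE]
  refine ⟨r + b, fun n m h T k hk => ?_⟩
  have e1 : tr X (Nat.le_add_right n (r + b)) =
      tr X (by omega : n + r ≤ n + (r + b)) ≫ tr X (Nat.le_add_right n r) := (tr_comp X _ _).symm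
  rw [e1, Category.assoc]
  apply hb (n + r) (n + (r + b)) (by omega)
  rw [← Category.assoc, ← tr_naturality w, Category.assoc]
  apply hr n m (by omega)
  rw [← Category.assoc, tr_naturality w, Category.assoc, hk, comp_zero]

lemma isMLAR_of_arIso {W X : PS C} (w : W ⟶ X) (hw : IsARIso w) (hX : IsMLAR X) : IsMLAR W := by
  obtain ⟨a, ha⟩ := (isARNull_kernel_iff w).1 hw.1
  obtain ⟨b, hb⟩ := (isARNull_cokernel_iff w).1 hw.2
  obtain ⟨r, hr⟩ := (isMLAR_iff_imLE X).1 hX
  rw [isMLAR_iff_imLE]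
  refine ⟨a + r + b, fun n m h => ?_⟩
  apply imLE_of_refinement
  -- step 1
  obtain ⟨T₁, π₁, hπ₁, x₂, hx₂⟩ := imLE_exists_refinement (hr (n + a) (m + b) (by omega))
    (w.app (op (n + (a + r + b))) ≫ tr X (by omega : n + a + r ≤ n + (a + r + b)))
  -- step 2
  obtain ⟨T₂, π₂, hπ₂, y, hy⟩ := imLE_exists_refinement (hb m (m + b) le_rfl) x₂
  refine ⟨T₂, π₂ ≫ π₁, inferInstance, y, ?_⟩
  -- step 3
  have hd : (π₂ ≫ π₁ ≫ tr W (by omega : n + a ≤ n + (a + r + b)) -
      y ≫ tr W (by omega : n + a ≤ m)) ≫ w.app (op (n + a)) = 0 := by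
    rw [Preadditive.sub_comp, Category.assoc, Category.assoc, Category.assoc,
      tr_naturality w, tr_naturality w, ← reassoc_of% hy, sub_eq_zero]
    rw [Category.assoc, tr_comp] at hx₂
    rw [tr_comp, ← hx₂]
  have h4 := ha n (n + a) le_rfl _ hd
  rw [Preadditive.sub_comp, sub_eq_zero, Category.assoc, Category.assoc, Category.assoc,
    tr_comp, tr_comp] at h4
  rw [Category.assoc]
  exact h4

end MLTransfer

end Groth.Agent.Lib.Helper13.ARSysARIso
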