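import Groth.Agent.Lib.Helper13.ARSysBasic

/-!
# Mittag-Leffler conditions for `ℕ`-indexed projective systems (`ARSys`)
-/

set_option autoImplicit false

universe w v u

open CategoryTheory CategoryTheory.Limits Opposite ARSys

namespace Groth.Agent.Lib.Helper13.ARSysML

open Groth.Agent.Lib.Helper13.ARSysBasic

variable {C : Type u} [Category.{v} C] [Abelian C]

section Pointwise

variable {X Y : PS C} (u : Y ⟶ X)

lemma exact_app (S : ShortComplex (PS C)) (hS : S.Exact) (n : ℕ) :
    (S.map ((evaluation ℕᵒᵖ C).obj (op n))).Exact :=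
  hS.map _

instance epi_app_of_epi [Epi u] (n : ℕ) : Epi (u.app (op n)) :=
  (NatTrans.epi_iff_epi_app u).1 inferInstance _

instance mono_app_of_mono [Mono u] (n : ℕ) : Mono (u.app (op n)) :=
  (NatTrans.mono_iff_mono_app u).1 inferInstance _

lemma exists_coker_desc_app (n : ℕ) {T : C} (h : X.obj (op n) ⟶ T) (hh : u.app (op n) ≫ h = 0) :
    ∃ k : (cokernel u).obj (op n) ⟶ T, (cokernel.π u).app (op n) ≫ k = h := by
  have hS : (ShortComplex.mk u (cokernel.π u) (cokernel.condition u)).Exact :=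
    ShortComplex.exact_of_g_is_cokernel _ (cokernelIsCokernel u)
  have hn := exact_app _ hS n
  have : Epi ((ShortComplex.mk u (cokernel.π u) (cokernel.condition u)).map
      ((evaluation ℕᵒᵖ C).obj (op n))).g := by
    show Epi ((cokernel.π u).app (op n))
    infer_instance
  exact ⟨hn.desc h hh, hn.g_desc h hh⟩

lemma exists_ker_lift_app (n : ℕ) {T : C} (h : T ⟶ Y.obj (op n)) (hh : h ≫ u.app (op n) = 0) :
    ∃ k : T ⟶ (kernel u).obj (op n), k ≫ (kernel.ι u).app (op n) = h := by
  have hS : (ShortComplex.mk (kernel.ι u) u (kernel.condition u)).Exact :=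
    ShortComplex.exact_of_f_is_kernel _ (kernelIsKernel u)
  have hn := exact_app _ hS n
  have : Mono ((ShortComplex.mk (kernel.ι u) u (kernel.condition u)).map
      ((evaluation ℕᵒᵖ C).obj (op n))).f := by
    show Mono ((kernel.ι u).app (op n))
    infer_instance
  exact ⟨hn.lift h hh, hn.lift_f h hh⟩

@[reassoc]
lemma coker_condition_app (n : ℕ) : u.app (op n) ≫ (cokernel.π u).app (op n) = 0 := by
  rw [← NatTrans.comp_app, cokernel.condition]
  rfl

@[reassoc]
lemma ker_condition_app (n : ℕ) : (kernel.ι u).app (op n) ≫ u.app (op n) = 0 := by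
  rw [← NatTrans.comp_app, kernel.condition]
  rfl

end Pointwise

section ML

lemma epi_of_imLE {Z A I B : C} (g : Z ⟶ A) (e : A ⟶ I) (m : I ⟶ B) [Epi e] [Mono m]
    (h : ImLE (e ≫ m) (g ≫ e ≫ m)) : Epi (g ≫ e) := by
  obtain ⟨l, hl⟩ := h.exists_lift (Abelian.factorThruImage (g ≫ e))
    (Abelian.image.ι (g ≫ e) ≫ m) (by simp)
  have h1 : l ≫ Abelian.image.ι (g ≫ e) = e := by
    rw [← cancel_mono m]
    simpa using hl
  have : Epi (Abelian.image.ι (g ≫ e)) := epi_of_epi_fac h1
  rw [← Abelian.image.fac (g ≫ e)]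
  infer_instance

/-- Clean form of `IsMLAR`. -/
lemma isMLAR_iff' (X : PS C) :
    IsMLAR X ↔ ∃ r : ℕ, ∀ s : ℕ, r ≤ s → ∀ n : ℕ,
      imageSubobject (tr X (Nat.le_add_right n s)) = imageSubobject (tr X (Nat.le_add_right n r)) :=
  Iff.rfl

/-- Test-map form of `IsMLAR`. -/
lemma isMLAR_iff_imLE (X : PS C) :
    IsMLAR X ↔ ∃ r : ℕ, ∀ (n m : ℕ) (h : n + r ≤ m),
      ImLE (tr X (Nat.le_add_right n r)) (tr X ((Nat.le_add_right n r).trans h)) := by
  rw [isMLAR_iff']
  constructor
  · rintro ⟨r, hr⟩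
    refine ⟨r, fun n m h => ?_⟩
    obtain ⟨s, rfl⟩ : ∃ s, m = n + s := ⟨m - n, by omega⟩
    have := hr s (by omega) n
    rw [imageSubobject_eq_iff] at this
    exact this.2
  · rintro ⟨r, hr⟩
    refine ⟨r, fun s hs n => ?_⟩
    rw [imageSubobject_eq_iff]
    refine ⟨?_, hr n (n + s) (by omega)⟩
    exact ImLE.of_fac (tr X (by omega : n + r ≤ n + s)) (tr_comp X _ _)

lemma isARNull_kernel_of_mono {X Y : PS C} (u : Y ⟶ X) [Mono u] : IsARNull (kernel u) := by
  refine ⟨0, fun n => ?_⟩
  have h1 : (kernel.ι u).app (op n) = 0 := by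
    rw [← cancel_mono (u.app (op n)), ker_condition_app, zero_comp]
  rw [← cancel_mono ((kernel.ι u).app (op n)), h1, comp_zero, comp_zero]

lemma isARNull_cokernel_of_epi {X Y : PS C} (u : Y ⟶ X) [Epi u] : IsARNull (cokernel u) := by
  refine (isARNull_iff' _).2 ⟨0, fun n => ?_⟩
  have h1 : ∀ n, (cokernel.π u).app (op n) = 0 := fun n => by
    rw [← cancel_epi (u.app (op n)), coker_condition_app, comp_zero]
  have h3 := tr_naturality (cokernel.π u) (Nat.le_add_right n 0)
  rw [← cancel_epi ((cokernel.π u).app (op (n + 0))), ← h3, h1, comp_zero, comp_zero]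

/-- The image of `σ : X[r] ⟶ X` (system of universal images when `X` is MLAR with constant
`r`). -/
lemma exists_strict_of_isMLAR (X : PS C) (hX : IsMLAR X) :
    ∃ (Y : PS C) (u : Y ⟶ X), Mono u ∧ IsStrict Y ∧ IsARNull (cokernel u) ∧
      ∃ r : ℕ, ∀ s : ℕ, r ≤ s → ∀ n : ℕ,
        imageSubobject (u.app (op n)) = imageSubobject (shiftMap X s n) := by
  obtain ⟨r, hr⟩ := (isMLAR_iff_imLE X).1 hX
  let σ := shiftNat X r
  let u := Abelian.image.ι σ
  obtain ⟨en, hen, facn, nat⟩ : ∃ en : ∀ n : ℕ, X.obj (op (n + r)) ⟶ (Abelian.image σ).obj (op n),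
      (∀ n, Epi (en n)) ∧ (∀ n, en n ≫ u.app (op n) = tr X (Nat.le_add_right n r)) ∧
      (∀ (n m : ℕ) (h : n ≤ m), en m ≫ tr (Abelian.image σ) h =
        tr X (Nat.add_le_add_right h r) ≫ en n) := by
    refine ⟨fun n => (Abelian.factorThruImage σ).app (op n), fun n => ?_, fun n => ?_,
      fun n m h => ?_⟩
    · exact (inferInstance : Epi ((Abelian.factorThruImage σ).app (op n)))
    · exact (NatTrans.comp_app _ _ _).symm.trans (by rw [Abelian.image.fac σ]; rfl)
    · exact (tr_naturality (Abelian.factorThruImage σ) h).symm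
  refine ⟨Abelian.image σ, u, inferInstance, ?_, ?_, r, ?_⟩
  · -- strictness
    intro n m h
    have h2 : Epi (tr X (Nat.add_le_add_right h r) ≫ en n) := by
      have := hen n
      apply epi_of_imLE _ _ (u.app (op n))
      rw [facn, tr_comp]
      exact hr n (m + r) (by omega)
    rw [← nat n m h] at h2
    exact epi_of_epi (en m) _
  · -- cokernel AR-null
    refine (isARNull_iff' _).2 ⟨r, fun n => ?_⟩
    have h3 := tr_naturality (cokernel.π u) (Nat.le_add_right n r)
    rw [← cancel_epi ((cokernel.π u).app (op (n + r))), ← h3, ← facn, Category.assoc,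
      coker_condition_app, comp_zero, comp_zero]
  · intro s hs n
    change imageSubobject (u.app (op n)) = imageSubobject (tr X (Nat.le_add_right n s))
    rw [imageSubobject_eq_iff]
    constructor
    · have h4 : ImLE (u.app (op n)) (tr X (Nat.le_add_right n r)) := by
        rw [← facn]
        have := hen n
        exact ImLE.of_epi_comp _ _
      exact h4.trans (hr n (n + s) (by omega))
    · have h5 : ImLE (tr X (Nat.le_add_right n r)) (u.app (op n)) :=
        ImLE.of_fac _ (facn n)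
      refine ImLE.trans ?_ h5
      exact ImLE.of_fac (tr X (by omega : n + r ≤ n + s)) (tr_comp X _ _)

/-- If `u : Y ⟶ X` has AR-null cokernel and `Y` is strict, then `X` is MLAR and the image of
`u` is the system of universal images. -/
lemma imageSubobject_eq_of_strict {X Y : PS C} (u : Y ⟶ X) (hY : IsStrict Y)
    (hu : IsARNull (cokernel u)) :
    ∃ r : ℕ, ∀ s : ℕ, r ≤ s → ∀ n : ℕ,
      imageSubobject (shiftMap X s n) = imageSubobject (u.app (op n)) := by
  obtain ⟨r, hr⟩ := (isARNull_iff' _).1 hu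
  refine ⟨r, fun s hs n => ?_⟩
  change imageSubobject (tr X (Nat.le_add_right n s)) = _
  rw [imageSubobject_eq_iff]
  constructor
  · intro T h hh
    obtain ⟨k, rfl⟩ := exists_coker_desc_app u n h hh
    have h1 := tr_naturality (cokernel.π u) (Nat.le_add_right n s)
    have h2 : tr (cokernel u) (Nat.le_add_right n s) = 0 :=
      IsARNull.tr_eq_zero' hr (by omega) _
    rw [reassoc_of% h1, h2, zero_comp, comp_zero]
  · intro T h hh
    have := hY n (n + s) (Nat.le_add_right n s)
    rw [← cancel_epi (tr Y (Nat.le_add_right n s)), comp_zero, ← Category.assoc,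
      tr_naturality u, Category.assoc, hh, comp_zero]

lemma isMLAR_of_strict {X Y : PS C} (u : Y ⟶ X) (hY : IsStrict Y)
    (hu : IsARNull (cokernel u)) : IsMLAR X := by
  obtain ⟨r, hr⟩ := imageSubobject_eq_of_strict u hY hu
  exact ⟨r, fun s hs n => (hr s hs n).trans (hr r le_rfl n).symm⟩

/-- S3151. -/
theorem isMLAR_iff_exists_strict (X : PS C) :
    IsMLAR X ↔ ∃ (Y : PS C) (u : Y ⟶ X), IsStrict Y ∧ IsARIso u := by
  constructor
  · intro hX
    obtain ⟨Y, u, hu, hY, hc, -⟩ := exists_strict_of_isMLAR X hX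
    exact ⟨Y, u, hY, isARNull_kernel_of_mono u, hc⟩
  · rintro ⟨Y, u, hY, -, hc⟩
    exact isMLAR_of_strict u hY hc

/-- S3188. -/
theorem isMLAR_iff_isML_and (X : PS C) :
    IsMLAR X ↔ (IsML X ∧ ∃ (X' : PS C) (ι : X' ⟶ X), Mono ι ∧
      (∀ n : ℕ, ∃ r₀ : ℕ, ∀ r : ℕ, r₀ ≤ r →
        imageSubobject (ι.app (op n)) = imageSubobject (shiftMap X r n)) ∧
      IsARNull (cokernel ι)) := by
  constructor
  · intro hX
    refine ⟨?_, ?_⟩
    · obtain ⟨r, hr⟩ := hX
      exact fun n => ⟨r, fun s hs => hr s hs n⟩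
    · obtain ⟨Y, u, hu, hY, hc, r, hr⟩ := exists_strict_of_isMLAR X hX
      exact ⟨Y, u, hu, fun n => ⟨r, fun s hs => hr s hs n⟩, hc⟩
  · rintro ⟨-, X', ι, -, hι, hc⟩
    obtain ⟨r, hr⟩ := (isARNull_iff' _).1 hc
    have key : ∀ (s : ℕ), r ≤ s → ∀ n : ℕ,
        imageSubobject (shiftMap X s n) = imageSubobject (ι.app (op n)) := by
      intro s hs n
      obtain ⟨r₀, hr₀⟩ := hι n
      change imageSubobject (tr X (Nat.le_add_right n s)) = _
      rw [imageSubobject_eq_iff]
      constructor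
      · intro T h hh
        obtain ⟨k, rfl⟩ := exists_coker_desc_app ι n h hh
        have h1 := tr_naturality (cokernel.π ι) (Nat.le_add_right n s)
        have h2 : tr (cokernel ι) (Nat.le_add_right n s) = 0 :=
          IsARNull.tr_eq_zero' hr (by omega) _
        rw [reassoc_of% h1, h2, zero_comp, comp_zero]
      · have h3 : imageSubobject (ι.app (op n)) =
            imageSubobject (tr X (Nat.le_add_right n (max r₀ s))) :=
          hr₀ (max r₀ s) (le_max_left _ _)
        rw [imageSubobject_eq_iff] at h3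
        refine h3.1.trans ?_
        exact ImLE.of_fac (tr X (by omega : n + s ≤ n + max r₀ s)) (tr_comp X _ _)
    exact ⟨r, fun s hs n => (key s hs n).trans (key r le_rfl n).symm⟩

end ML

end Groth.Agent.Lib.Helper13.ARSysML
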