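import Groth.Agent.Lib.Helper13.ARSysGr
import Groth.Agent.Lib.Helper13.ARSysML

/-!
# Strict subsystems of a `J`-adic system and their graded submodules
-/

set_option autoImplicit false
universe w v u
open CategoryTheory CategoryTheory.Limits Opposite ARSys

namespace Groth.Agent.Lib.Helper13.ARSysStrictSub

open Groth.Agent.Lib.Helper13.ARSysBasic Groth.Agent.Lib.Helper13.ARSysLin
open Groth.Agent.Lib.Helper13.SubLat Groth.Agent.Lib.Helper13.OrderLat
open Groth.Agent.Lib.Helper13.ARSysGr Groth.Agent.Lib.Helper13.ARSysML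
open Groth.Agent.Lib.Helper89.SubobjectModular

section General

variable {C : Type u} [Category.{v} C] [Abelian C]

lemma img_imageSubobject {W X Y : C} (g : W ⟶ X) (f : X ⟶ Y) :
    img f (imageSubobject g) = imageSubobject (g ≫ f) := by
  rw [← img_top, img_comp, img_top]

lemma imageSubobject_epi_comp {W' W X : C} (e : W' ⟶ W) [Epi e] (g : W ⟶ X) :
    imageSubobject (e ≫ g) = imageSubobject g := by
  apply le_antisymm (imageSubobject_comp_le _ _)
  rw [imageSubobject_le_iff]
  exact ImLE.of_epi_comp e g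

variable {A : Type w} [CommRing A] [Linear A C]

lemma img_smul_le (a : A) {Y : C} (S : Subobject Y) : img (a • 𝟙 Y) S ≤ S := by
  refine imageSubobject_le _ (a • 𝟙 _) ?_
  rw [smul_id_comp, comp_smul_id]

lemma InI.smul_comp {I I' : Ideal A} {T Y : C} {z : T ⟶ Y} (hz : InI I z) {a : A} (ha : a ∈ I') :
    InI (I' * I) (z ≫ (a • 𝟙 Y)) := by
  intro W φ hφ
  rw [Category.assoc, smul_id_comp]
  apply hz
  intro b hb
  rw [smul_smul]
  apply hφ
  rw [mul_comm b a]
  exact Ideal.mul_mem_mul ha hb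
  

lemma inI_img_arrow {I : Ideal A} {X Y : C} (f : X ⟶ Y) (S : Subobject X)
    (h : InI I (S.arrow ≫ f)) : InI I (img f S).arrow := by
  apply InI.of_epi_comp (factorThruImageSubobject (S.arrow ≫ f))
  unfold img
  rw [imageSubobject_arrow_comp]
  exact h

end General

section Adic

variable {C : Type u} [Category.{v} C] [Abelian C] {A : Type w} [CommRing A] [Linear A C]
variable {J : Ideal A} {X : PS C}

lemma Fsub_zero (X : PS C) : Fsub X 0 0 = ⊤ := by simp [Fsub]

lemma Fsub_succ (X : PS C) (k : ℕ) :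
    Fsub X (k + 1) (k + 1) = kernelSubobject (tr X (Nat.le_succ k)) := by
  simp only [Fsub]
  rw [dif_pos (Nat.le_succ k)]

lemma le_Fsub_of_inI (hX : IsAdic J X) (n : ℕ) (S : Subobject (X.obj (op n)))
    (hS : InI (J ^ n) S.arrow) : S ≤ Fsub X n n := by
  cases n with
  | zero => rw [Fsub_zero]; exact le_top
  | succ k =>
    rw [Fsub_succ]
    apply le_kernelSubobject
    rw [isQuot_comp_eq_zero_iff (hX.2 k (k + 1) (Nat.le_succ k))]
    exact hS

/-- Elements of `X_m` mapping into `J^q X_q` lie in `J^q X_m`. -/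
lemma inI_pullback_Fsub (hX : IsAdic J X) {q m : ℕ} (h : q ≤ m) :
    InI (J ^ q) ((Subobject.pullback (tr X h)).obj (Fsub X q q)).arrow := by
  cases q with
  | zero => rw [pow_zero, Ideal.one_eq_top]; exact inI_top _
  | succ k =>
    have hk : k ≤ m := by omega
    rw [← isQuot_comp_eq_zero_iff (hX.2 k m hk)]
    have h1 := Subobject.factors_self ((Subobject.pullback (tr X h)).obj (Fsub X (k + 1) (k + 1)))
    rw [pullback_factors_iff] at h1
    have h2 : (kernelSubobject (tr X (Nat.le_succ k))).Factors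
        (((Subobject.pullback (tr X h)).obj (Fsub X (k + 1) (k + 1))).arrow ≫ tr X h) := by
      rw [← Fsub_succ]; exact h1
    rw [kernelSubobject_factors_iff, Category.assoc, tr_comp] at h2
    exact h2

lemma push_Fsub_le (hX : IsAdic J X) (p q : ℕ) {a : A} (ha : a ∈ J ^ p) :
    push X a (Nat.le_add_left q p) (Fsub X q q) ≤ Fsub X (p + q) (p + q) := by
  apply le_Fsub_of_inI hX
  apply inI_img_arrow
  rw [pow_add]
  exact InI.smul_comp (inI_pullback_Fsub hX _) ha

/-- The `n`-th term of a subsystem, as a subobject of `X_n`. -/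
noncomputable def Zq (Z : Subobject X) (n : ℕ) : Subobject (X.obj (op n)) :=
  imageSubobject (Z.arrow.app (op n))

lemma Zq_mono {Z Z' : Subobject X} (h : Z ≤ Z') (n : ℕ) : Zq Z n ≤ Zq Z' n := by
  unfold Zq
  have : Z.arrow.app (op n) = (Subobject.ofLE Z Z' h).app (op n) ≫ Z'.arrow.app (op n) := by
    rw [← NatTrans.comp_app, Subobject.ofLE_arrow]
  rw [imageSubobject_le_iff, this]
  exact ImLE.comp_left _ _

lemma img_tr_Zq (Z : Subobject X) (hZ : IsStrict (Subobject.underlying.obj Z : PS C))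
    {n m : ℕ} (h : n ≤ m) : img (tr X h) (Zq Z m) = Zq Z n := by
  have := hZ n m h
  unfold Zq
  rw [img_imageSubobject, ← tr_naturality, imageSubobject_epi_comp]

lemma pullback_tr_Zq (Z : Subobject X) (hZ : IsStrict (Subobject.underlying.obj Z : PS C))
    {n m : ℕ} (h : n ≤ m) :
    (Subobject.pullback (tr X h)).obj (Zq Z n) = Zq Z m ⊔ kernelSubobject (tr X h) := by
  rw [← img_tr_Zq Z hZ h, pullback_img]

/-- The graded family attached to a subsystem. -/
noncomputable def grSub (Z : Subobject X) (q : ℕ) : Subobject (X.obj (op q)) :=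
  Zq Z q ⊓ Fsub X q q

lemma grSub_mono {Z Z' : Subobject X} (h : Z ≤ Z') : grSub Z ≤ grSub Z' :=
  fun q => inf_le_inf_right _ (Zq_mono h q)

lemma isGrSub_grSub (hX : IsAdic J X) (Z : Subobject X)
    (hZ : IsStrict (Subobject.underlying.obj Z : PS C)) : IsGrSub J X (grSub Z) := by
  refine ⟨fun q => inf_le_right, fun p q a ha => ?_⟩
  change push X a (Nat.le_add_left q p) (grSub Z q) ≤ grSub Z (p + q)
  apply le_inf
  · refine (push_mono a _ (inf_le_left : grSub Z q ≤ Zq Z q)).trans ?_
    rw [push, pullback_tr_Zq Z hZ, img_sup, img_smul_kernel hX _ le_rfl ha, sup_bot_eq]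
    exact img_smul_le a _
  · exact (push_mono a _ (inf_le_right : grSub Z q ≤ Fsub X q q)).trans (push_Fsub_le hX p q ha)

/-- Nested strict subsystems with the same graded pieces have the same terms. -/
lemma Zq_le_of_grSub_le (Z Z' : Subobject X)
    (hZ : IsStrict (Subobject.underlying.obj Z : PS C))
    (hZ' : IsStrict (Subobject.underlying.obj Z' : PS C)) (hle : Z ≤ Z')
    (hgr : ∀ q, grSub Z' q ≤ grSub Z q) : ∀ q, Zq Z' q ≤ Zq Z q := by
  intro q
  induction q with
  | zero =>
    have := hgr 0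
    simp only [grSub, Fsub_zero, inf_top_eq] at this
    exact this
  | succ q ih =>
    set K := kernelSubobject (tr X (Nat.le_succ q)) with hK
    have h1 : Zq Z' (q + 1) ⊔ K ≤ Zq Z (q + 1) ⊔ K := by
      rw [hK, ← pullback_tr_Zq Z hZ, ← pullback_tr_Zq Z' hZ']
      exact pullback_mono _ ih
    have h2 : K ⊓ Zq Z' (q + 1) ≤ Zq Z (q + 1) := by
      have := hgr (q + 1)
      simp only [grSub, Fsub_succ] at this
      rw [inf_comm]
      exact this.trans inf_le_left
    calc Zq Z' (q + 1) ≤ (Zq Z (q + 1) ⊔ K) ⊓ Zq Z' (q + 1) :=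
          le_inf (le_sup_left.trans h1) le_rfl
      _ = Zq Z (q + 1) ⊔ K ⊓ Zq Z' (q + 1) := sup_inf_assoc_of_le K (Zq_mono hle (q + 1))
      _ ≤ Zq Z (q + 1) := sup_le le_rfl h2

/-- A subsystem is determined by its terms. -/
lemma eq_of_Zq_le (Z Z' : Subobject X) (hle : Z ≤ Z') (h : ∀ q, Zq Z' q ≤ Zq Z q) : Z = Z' := by
  have hiso : ∀ n : ℕᵒᵖ, IsIso ((Subobject.ofLE Z Z' hle).app n) := by
    intro n
    obtain ⟨n⟩ := n
    have hfac : (Subobject.ofLE Z Z' hle).app (op n) ≫ Z'.arrow.app (op n) = Z.arrow.app (op n) := by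
      rw [← NatTrans.comp_app, Subobject.ofLE_arrow]
    have h1 : ImLE (Z'.arrow.app (op n)) (Z.arrow.app (op n)) := by
      rw [← imageSubobject_le_iff]; exact h n
    obtain ⟨g, hg⟩ := h1.exists_lift (𝟙 _) (Z.arrow.app (op n)) (Category.id_comp _)
    have h2 : g ≫ (Subobject.ofLE Z Z' hle).app (op n) = 𝟙 _ := by
      rw [← cancel_mono (Z'.arrow.app (op n)), Category.assoc, hfac, hg, Category.id_comp]
    have : Mono ((Subobject.ofLE Z Z' hle).app (op n)) := by
      have : Mono ((Subobject.ofLE Z Z' hle).app (op n) ≫ Z'.arrow.app (op n)) := by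
        rw [hfac]; infer_instance
      exact mono_of_mono _ (Z'.arrow.app (op n))
    have : IsSplitEpi ((Subobject.ofLE Z Z' hle).app (op n)) := ⟨⟨g, h2⟩⟩
    exact isIso_of_mono_of_isSplitEpi _
  have : IsIso (Subobject.ofLE Z Z' hle) := NatIso.isIso_of_isIso_app _
  exact Subobject.eq_of_comm (asIso (Subobject.ofLE Z Z' hle)) (Subobject.ofLE_arrow hle)

end Adic

section Main

variable {C : Type u} [Category.{v} C] [Abelian C] {A : Type w} [CommRing A] [Linear A C]

/-- Increasing sequences of strict subsystems of a `J`-adic system with Noetherian degree-zero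
term (`J` finitely generated) are stationary. -/
theorem strict_chain_stationary (J : Ideal A) (hJ : J.FG) (X : PS C) (hX : IsAdic J X)
    [IsNoetherianObject (X.obj (op 0))] (Z : ℕ →o Subobject X)
    (hZ : ∀ k : ℕ, IsStrict ((Subobject.underlying.obj (Z k) : PS C))) :
    ∃ k₀ : ℕ, ∀ k : ℕ, k₀ ≤ k → Z k = Z k₀ := by
  obtain ⟨k₀, hk₀⟩ := grs_noetherian J hJ X hX (fun k => grSub (Z k))
    (fun k => isGrSub_grSub hX (Z k) (hZ k)) (fun i j hij => grSub_mono (Z.monotone hij))
  refine ⟨k₀, fun k hk => ?_⟩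
  symm
  apply eq_of_Zq_le _ _ (Z.monotone hk)
  apply Zq_le_of_grSub_le _ _ (hZ k₀) (hZ k) (Z.monotone hk)
  intro q
  rw [hk₀ k hk]

end Main

end Groth.Agent.Lib.Helper13.ARSysStrictSub
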