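import Groth.Agent.Lib.Helper13.ARSysARAdic

/-!
# Termwise quotients `X_n / J^{n+1} X_n` of a projective system, and strict AR-`J`-adic systems
(SGA5 V 3.2.3–3.2.4)
-/

set_option autoImplicit false

universe w v u

open CategoryTheory CategoryTheory.Limits Opposite ARSys

namespace Groth.Agent.Lib.Helper13.ARSysQuot

open Groth.Agent.Lib.Helper13.ARSysBasic Groth.Agent.Lib.Helper13.ARSysML
  Groth.Agent.Lib.Helper13.ARSysLin Groth.Agent.Lib.Helper13.ARSysARIso
  Groth.Agent.Lib.Helper13.ARSysAdic Groth.Agent.Lib.Helper13.ARSysARAdic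

variable {C : Type u} [Category.{v} C] [Abelian C] {A : Type w} [CommRing A] [Linear A C]
  (J : Ideal A) (hJ : J.FG ∨ HasCoproducts.{w} C) (W : PS C)

section Construction

/-- The object `W_n / J^{n+1} W_n`. -/
noncomputable def qObj (n : ℕ) : C :=
  (exists_isQuot (J ^ (n + 1)) (fg_pow_or hJ _) (W.obj (op n))).choose

/-- The quotient map `W_n ⟶ W_n / J^{n+1} W_n`. -/
noncomputable def qMap (n : ℕ) : W.obj (op n) ⟶ qObj J hJ W n :=
  (exists_isQuot (J ^ (n + 1)) (fg_pow_or hJ _) (W.obj (op n))).choose_spec.choose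

lemma qMap_isQuot (n : ℕ) : IsQuot (J ^ (n + 1)) (qMap J hJ W n) :=
  (exists_isQuot (J ^ (n + 1)) (fg_pow_or hJ _) (W.obj (op n))).choose_spec.choose_spec

lemma exists_qTr (n : ℕ) : ∃ t : qObj J hJ W (n + 1) ⟶ qObj J hJ W n,
    qMap J hJ W (n + 1) ≫ t = tr W (Nat.le_add_right n 1) ≫ qMap J hJ W n := by
  apply isQuot_exists_desc (qMap_isQuot J hJ W (n + 1))
  apply homKilledBy_mono (Ideal.pow_le_pow_right (Nat.le_succ (n + 1)))
  exact killedBy_hom_tgt (qMap_isQuot J hJ W n).1 _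

/-- The transition map of the quotient system. -/
noncomputable def qTr (n : ℕ) : qObj J hJ W (n + 1) ⟶ qObj J hJ W n :=
  (exists_qTr J hJ W n).choose

lemma qTr_spec (n : ℕ) :
    qMap J hJ W (n + 1) ≫ qTr J hJ W n = tr W (Nat.le_add_right n 1) ≫ qMap J hJ W n :=
  (exists_qTr J hJ W n).choose_spec

/-- The system `(W_n / J^{n+1} W_n)_n`. -/
noncomputable def quotSys : PS C := Functor.ofOpSequence (qTr J hJ W)

/-- The canonical map `W ⟶ (W_n / J^{n+1} W_n)_n`. -/
noncomputable def quotMap : W ⟶ quotSys J hJ W :=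
  NatTrans.ofOpSequence (fun n => qMap J hJ W n) (fun n => by
    have h : (quotSys J hJ W).map (homOfLE (Nat.le_add_right n 1)).op = qTr J hJ W n :=
      Functor.ofOpSequence_map_homOfLE_succ _ n
    rw [h]
    exact (qTr_spec J hJ W n).symm)

lemma quotMap_isQuot (n : ℕ) : IsQuot (J ^ (n + 1)) ((quotMap J hJ W).app (op n)) :=
  qMap_isQuot J hJ W n

lemma termKilled_quotSys : TermKilled J (quotSys J hJ W) := fun n => (quotMap_isQuot J hJ W n).1

end Construction

section Adic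

variable {J}

omit hJ W in
/-- A termwise quotient `(W_n / J^{n+1} W_n)` of a strict system is `J`-adic as soon as
`Ker(W_m ⟶ W_n) ⊆ J^{n+1} W_m`. -/
lemma isAdic_of_termwise_quot {W Z : PS C} (q : W ⟶ Z)
    (hq : ∀ n : ℕ, IsQuot (J ^ (n + 1)) (q.app (op n))) (hW : IsStrict W)
    (hker : ∀ (n m : ℕ) (h : n ≤ m) ⦃T : C⦄ (x : T ⟶ W.obj (op m)),
      x ≫ tr W h = 0 → InI (J ^ (n + 1)) x) : IsAdic J Z := by
  refine ⟨fun n => (hq n).1, fun n m h => ?_⟩
  have hqm := isQuot_epi (hq m)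
  have hqn := isQuot_epi (hq n)
  have := hW n m h
  have hepi : Epi (tr Z h) := by
    have e : q.app (op m) ≫ tr Z h = tr W h ≫ q.app (op n) := (tr_naturality q h).symm
    have : Epi (q.app (op m) ≫ tr Z h) := by rw [e]; infer_instance
    exact epi_of_epi (q.app (op m)) _
  refine isQuot_of_epi_of_forall _ (hq n).1 ?_
  intro T φ hφ
  have hψ : HomKilledBy (J ^ (n + 1)) (q.app (op m) ≫ φ) := homKilledBy_comp_left hφ _
  have hk : kernel.ι (tr W h) ≫ q.app (op m) ≫ φ = 0 :=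
    (hker n m h _ (kernel.condition _)) _ hψ
  have hcok := Abelian.epiIsCokernelOfKernel
    (KernelFork.ofι _ (kernel.condition (tr W h))) (kernelIsKernel _)
  obtain ⟨φ₁, hφ₁⟩ : ∃ φ₁ : W.obj (op n) ⟶ T, tr W h ≫ φ₁ = q.app (op m) ≫ φ :=
    ⟨hcok.desc (CokernelCofork.ofπ _ hk), hcok.fac _ WalkingParallelPair.one⟩
  have hφ₁k : HomKilledBy (J ^ (n + 1)) φ₁ := homKilledBy_of_epi_comp (tr W h) (hφ₁ ▸ hψ)
  obtain ⟨φ₂, hφ₂⟩ := isQuot_exists_desc (hq n) φ₁ hφ₁k
  refine ⟨φ₂, ?_⟩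
  rw [← cancel_epi (q.app (op m)), ← Category.assoc, ← tr_naturality q h, Category.assoc, hφ₂,
    hφ₁]

omit hJ W in
/-- S3157, direction (⇐). -/
lemma isARAdic_of_quot (X : PS C) (kX : TermKilled J X) (r : ℕ) (Y : PS C)
    (q : (shift C r).obj X ⟶ Y) (hq : ∀ n : ℕ, IsQuot (J ^ (n + 1)) (q.app (op n)))
    (hY : IsAdic J Y) : IsARAdic J X := by
  have hg : ∀ n : ℕ, ∃ g : Y.obj (op n) ⟶ X.obj (op n),
      q.app (op n) ≫ g = (shiftNat X r).app (op n) := fun n =>
    isQuot_exists_desc (hq n) _ (killedBy_hom_tgt (kX n) _)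
  choose g hg using hg
  have hqe : ∀ n, Epi (q.app (op n)) := fun n => isQuot_epi (hq n)
  obtain ⟨u, hu⟩ := exists_natTrans_of_fac q (shiftNat X r) hqe g hg
  have hqE : Epi q := NatTrans.epi_of_epi_app _
  have hqiso : IsARIso q := by
    refine ⟨?_, isARNull_cokernel_of_epi q⟩
    rw [isARNull_kernel_iff]
    refine ⟨r, fun n m h T y hy => ?_⟩
    have hy' : InI (J ^ (m + 1)) y := (isQuot_comp_eq_zero_iff (hq m) _).1 hy
    exact hy'.comp_eq_zero_of_killedBy _
      (killedBy_mono (Ideal.pow_le_pow_right (by omega : n + r + 1 ≤ m + 1)) (kX (n + r)))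
  exact ⟨kX, Y, u, hY, isARIso_of_comp_left q u hqiso (hu ▸ isARIso_shiftNat X r)⟩

omit hJ W in
/-- For a strict system `X` which is AR-`J`-adic via `u : Y ⟶ X` (kernel constant `a`), the
kernel of `X_M ⟶ X_N` lies in `J^{n+1} X_M` whenever `n + a ≤ N`. -/
lemma inI_of_comp_tr_eq_zero (X : PS C) (hX : IsStrict X) {Y : PS C} (u : Y ⟶ X)
    (hY : IsAdic J Y) {a b : ℕ}
    (ha : ∀ (n m : ℕ) (h : n + a ≤ m) ⦃T : C⦄ (y : T ⟶ Y.obj (op m)),
      y ≫ u.app (op m) = 0 → y ≫ tr Y ((Nat.le_add_right n a).trans h) = 0)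
    (hb : ∀ (n m : ℕ) (h : n + b ≤ m),
      ImLE (tr X ((Nat.le_add_right n b).trans h)) (u.app (op n)))
    (n N M : ℕ) (hN : n + a ≤ N) (h : N ≤ M) ⦃T : C⦄ (x : T ⟶ X.obj (op M))
    (hx : x ≫ tr X h = 0) : InI (J ^ (n + 1)) x := by
  have := hX M (M + b) (Nat.le_add_right M b)
  obtain ⟨T₁, π₁, hπ₁, xt, hxt⟩ :=
    surjective_up_to_refinements_of_epi (tr X (Nat.le_add_right M b)) x
  obtain ⟨T₂, π₂, hπ₂, y, hy⟩ := imLE_exists_refinement (hb M (M + b) le_rfl) xt
  have e : π₂ ≫ π₁ ≫ x = y ≫ u.app (op M) := by rw [hxt, hy]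
  have h1 : (y ≫ tr Y h) ≫ u.app (op N) = 0 := by
    rw [Category.assoc, tr_naturality u, ← reassoc_of% e, hx, comp_zero, comp_zero]
  have h2 := ha n N hN _ h1
  rw [Category.assoc, tr_comp] at h2
  have h3 : InI (J ^ (n + 1)) y := (isQuot_comp_eq_zero_iff (hY.2 n M _) _).1 h2
  have h4 : InI (J ^ (n + 1)) (π₂ ≫ π₁ ≫ x) := e ▸ h3.comp_right _
  exact (h4.of_epi_comp π₂).of_epi_comp π₁

omit W in
include hJ in
/-- S3157. -/
theorem isARAdic_iff_exists_quot (X : PS C) (hX : IsStrict X) (kX : TermKilled J X) :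
    IsARAdic J X ↔ ∃ (r : ℕ) (Y : PS C) (q : (shift C r).obj X ⟶ Y),
      (∀ n : ℕ, IsQuot (J ^ (n + 1)) (q.app (op n))) ∧ IsAdic J Y := by
  constructor
  · rintro ⟨-, Y, u, hY, hu⟩
    obtain ⟨a, ha⟩ := (isARNull_kernel_iff u).1 hu.1
    obtain ⟨b, hb⟩ := (isARNull_cokernel_iff u).1 hu.2
    refine ⟨a, quotSys J hJ ((shift C a).obj X), quotMap J hJ _, quotMap_isQuot J hJ _, ?_⟩
    apply isAdic_of_termwise_quot (quotMap J hJ _) (quotMap_isQuot J hJ _)
    · intro n m h
      exact hX (n + a) (m + a) (Nat.add_le_add_right h a)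
    · intro n m h T x hx
      exact inI_of_comp_tr_eq_zero X hX u hY ha hb n (n + a) (m + a) le_rfl
        (Nat.add_le_add_right h a) x hx
  · rintro ⟨r, Y, q, hq, hY⟩
    exact isARAdic_of_quot X kX r Y q hq hY

omit W in
include hJ in
/-- S3158. -/
theorem isARAdic_iff_fker (X : PS C) (hX : IsStrict X) (kX : TermKilled J X) :
    IsARAdic J X ↔ ∃ r : ℕ, 0 < r ∧ ∀ n : ℕ, SubLEIdeal (J ^ (n - r)) (Fker X n) := by
  constructor
  · rintro ⟨-, Y, u, hY, hu⟩
    obtain ⟨a, ha⟩ := (isARNull_kernel_iff u).1 hu.1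
    obtain ⟨b, hb⟩ := (isARNull_cokernel_iff u).1 hu.2
    refine ⟨a + 1, Nat.succ_pos a, fun n => ?_⟩
    rw [subLEIdeal_iff]
    by_cases hn : n ≤ a + 1
    · have h0 : n - (a + 1) = 0 := by omega
      rw [h0, pow_zero, Ideal.one_eq_top]
      exact inI_top _
    · obtain ⟨k, rfl⟩ : ∃ k, n = k + 1 := ⟨n - 1, by omega⟩
      have hx : (Fker X (k + 1)).arrow ≫ tr X (Nat.le_succ k) = 0 :=
        kernelSubobject_arrow_comp _
      have h1 := inI_of_comp_tr_eq_zero X hX u hY ha hb (k - a) k (k + 1) (by omega)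
        (Nat.le_succ k) _ hx
      refine h1.mono ?_
      rw [show k + 1 - (a + 1) = k - a by omega]
      exact Ideal.pow_le_pow_right (Nat.le_succ _)
  · rintro ⟨r, hr, hF⟩
    have key : ∀ (d N M : ℕ) (h : N ≤ M), M - N = d → ∀ ⦃T : C⦄ (x : T ⟶ X.obj (op M)),
        x ≫ tr X h = 0 → InI (J ^ (N + 1 - r)) x := by
      intro d
      induction d with
      | zero =>
        intro N M h hd T x hx
        obtain rfl : M = N := by omega
        rw [tr_refl, Category.comp_id] at hx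
        subst hx
        intro Y φ _
        rw [zero_comp]
      | succ d ih =>
        intro N M h hd T x hx
        have h1 : N + 1 ≤ M := by omega
        have := hX (N + 1) M h1
        have hx₂ : (x ≫ tr X h1) ≫ tr X (Nat.le_succ N) = 0 := by
          rw [Category.assoc, tr_comp]
          exact hx
        have hin : InI (J ^ (N + 1 - r)) (x ≫ tr X h1) := by
          have hF' := hF (N + 1)
          rw [subLEIdeal_iff] at hF'
          have e : x ≫ tr X h1 =
              factorThruKernelSubobject (tr X (Nat.le_succ N)) (x ≫ tr X h1) hx₂ ≫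
                (kernelSubobject (tr X (Nat.le_succ N))).arrow :=
            (factorThruKernelSubobject_comp_arrow _ _ _).symm
          rw [e]
          exact hF'.comp_left _
        obtain ⟨T', π, hπ, x₁, hx₁, hx₁e⟩ := exists_lift_inI (fg_pow_or hJ _) (tr X h1) _ hin
        have h3 : (π ≫ x - x₁) ≫ tr X h1 = 0 := by
          rw [Preadditive.sub_comp, hx₁e, Category.assoc, sub_self]
        have h4 := ih (N + 1) M h1 (by omega) _ h3
        have h5 : InI (J ^ (N + 1 - r)) (π ≫ x - x₁) :=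
          h4.mono (Ideal.pow_le_pow_right (by omega))
        have h6 : InI (J ^ (N + 1 - r)) (π ≫ x) := by
          have := h5.add hx₁
          rwa [sub_add_cancel] at this
        exact h6.of_epi_comp π
    apply isARAdic_of_quot X kX r (quotSys J hJ ((shift C r).obj X)) (quotMap J hJ _)
      (quotMap_isQuot J hJ _)
    apply isAdic_of_termwise_quot (quotMap J hJ _) (quotMap_isQuot J hJ _)
    · intro n m h
      exact hX (n + r) (m + r) (Nat.add_le_add_right h r)
    · intro n m h T x hx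
      have := key (m + r - (n + r)) (n + r) (m + r) (Nat.add_le_add_right h r) rfl x hx
      rwa [show n + r + 1 - r = n + 1 by omega] at this

end Adic

end Groth.Agent.Lib.Helper13.ARSysQuot
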