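import Groth.Agent.Lib.Helper13.ARSysStrictSub
import Groth.Agent.Lib.Helper13.ARSysQuot

/-!
# Strict systems adapted to `J` with finite-type strict graded object are AR-`J`-adic
(SGA5 V 5.1.x)
-/

set_option autoImplicit false
universe w v u
open CategoryTheory CategoryTheory.Limits Opposite ARSys

namespace Groth.Agent.Lib.Helper13.ARSysAdapted

open Groth.Agent.Lib.Helper13.ARSysBasic Groth.Agent.Lib.Helper13.ARSysLin
open Groth.Agent.Lib.Helper13.SubLat Groth.Agent.Lib.Helper13.OrderLat
open Groth.Agent.Lib.Helper13.ARSysGr Groth.Agent.Lib.Helper13.ARSysML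
open Groth.Agent.Lib.Helper13.ARSysStrictSub Groth.Agent.Lib.Helper13.ARSysQuot

variable {C : Type u} [Category.{v} C] [Abelian C] {A : Type w} [CommRing A] [Linear A C]

section IX

/-- The subobject `I·Y` of `Y` (the largest subobject all of whose elements lie in `I·Y`),
defined as the kernel of a quotient map modulo `I`. -/
noncomputable def IX (I : Ideal A) (hI : I.FG ∨ HasCoproducts.{w} C) (Y : C) : Subobject Y :=
  kernelSubobject (exists_isQuot I hI Y).choose_spec.choose

lemma inI_IX (I : Ideal A) (hI : I.FG ∨ HasCoproducts.{w} C) (Y : C) :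
    InI I (IX I hI Y).arrow := by
  rw [← isQuot_comp_eq_zero_iff (exists_isQuot I hI Y).choose_spec.choose_spec]
  exact kernelSubobject_arrow_comp _

lemma le_IX (I : Ideal A) (hI : I.FG ∨ HasCoproducts.{w} C) {Y : C} (S : Subobject Y)
    (hS : InI I S.arrow) : S ≤ IX I hI Y := by
  apply le_kernelSubobject
  rw [isQuot_comp_eq_zero_iff (exists_isQuot I hI Y).choose_spec.choose_spec]
  exact hS

lemma IX_mono {I I' : Ideal A} (hI : I.FG ∨ HasCoproducts.{w} C)
    (hI' : I'.FG ∨ HasCoproducts.{w} C) (h : I ≤ I') (Y : C) : IX I hI Y ≤ IX I' hI' Y :=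
  le_IX I' hI' _ ((inI_IX I hI Y).mono h)

lemma IX_top (hI : (⊤ : Ideal A).FG ∨ HasCoproducts.{w} C) (Y : C) : IX ⊤ hI Y = ⊤ :=
  top_le_iff.1 (le_IX ⊤ hI _ (inI_top _))

lemma inI_of_factors {I : Ideal A} {Y T : C} (S : Subobject Y) (hS : InI I S.arrow) (y : T ⟶ Y)
    (hy : S.Factors y) : InI I y := by
  rw [← S.factorThru_arrow y hy]
  exact hS.comp_left _

end IX

section Adapted

variable {J : Ideal A} {X : PS C}

lemma termKilled_of_isAdapted (hA : IsAdapted J X) : TermKilled J X := by
  intro n a ha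
  have h := hA n (n + 1) le_rfl a ha
  rw [Nat.sub_self] at h
  have h2 : Fsub X 0 n = ⊤ := by cases n <;> simp [Fsub]
  rw [h2] at h
  rw [← cancel_epi (⊤ : Subobject (X.obj (op n))).arrow, comp_zero]
  exact h

lemma Fsub_succ' (X : PS C) (k n : ℕ) (h : k ≤ n) :
    Fsub X (k + 1) n = kernelSubobject (tr X h) := by
  simp only [Fsub]
  rw [dif_pos h]

/-- For an adapted system, `a ∈ J^p` kills the kernel of `X_{p+q} ⟶ X_q`. -/
lemma comp_smul_eq_zero_of_isAdapted (hA : IsAdapted J X) (p q : ℕ) {a : A} (ha : a ∈ J ^ p)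
    {T : C} (z : T ⟶ X.obj (op (p + q))) (hz : z ≫ tr X (Nat.le_add_left q p) = 0) :
    z ≫ (a • 𝟙 (X.obj (op (p + q)))) = 0 := by
  have h := hA (p + q) p (by omega) a ha
  rw [show p + q + 1 - p = q + 1 by omega, Fsub_succ' X q (p + q) (Nat.le_add_left q p)] at h
  have hf : (kernelSubobject (tr X (Nat.le_add_left q p))).Factors z := by
    rw [kernelSubobject_factors_iff]; exact hz
  rw [← Subobject.factorThru_arrow _ z hf, Category.assoc, h, comp_zero]

/-- For an adapted system, `a ∈ J^p` kills the subobject `F^q(X_n)` when `n + 1 = p + q`. -/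
lemma comp_smul_eq_zero_of_isAdapted' (hA : IsAdapted J X) (p k n : ℕ) (hn : n = p + k)
    {a : A} (ha : a ∈ J ^ p) {T : C} (z : T ⟶ X.obj (op n))
    (hz : z ≫ tr X (by omega : k ≤ n) = 0) :
    z ≫ (a • 𝟙 (X.obj (op n))) = 0 := by
  subst hn
  exact comp_smul_eq_zero_of_isAdapted hA p k ha z hz

lemma img_le_kernelSubobject_iff {U V W : C} (f : U ⟶ V) (g : V ⟶ W) (S : Subobject U) :
    img f S ≤ kernelSubobject g ↔ S.arrow ≫ f ≫ g = 0 := by
  rw [img_le_iff]
  constructor
  · intro h
    have h1 := Subobject.factors_of_le _ h S.factors_self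
    rw [pullback_factors_iff, kernelSubobject_factors_iff, Category.assoc] at h1
    exact h1
  · intro h
    apply Subobject.le_of_factors
    rw [pullback_factors_iff, kernelSubobject_factors_iff, Category.assoc]
    exact h

lemma push_Fsub_le_of_isAdapted (hA : IsAdapted J X) (p q : ℕ) {a : A} (ha : a ∈ J ^ p) :
    push X a (Nat.le_add_left q p) (Fsub X q q) ≤ Fsub X (p + q) (p + q) := by
  have kX := termKilled_of_isAdapted hA
  cases q with
  | zero =>
    cases p with
    | zero => rw [Fsub_zero]; exact le_top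
    | succ n =>
      change push X a _ _ ≤ Fsub X (n + 1) (n + 1)
      rw [Fsub_succ X n, push, img_le_kernelSubobject_iff, smul_id_comp, ← comp_smul_id,
        kX n a ha, comp_zero, comp_zero]
  | succ k =>
    change push X a _ _ ≤ Fsub X (p + k + 1) (p + k + 1)
    rw [Fsub_succ X (p + k), push, img_le_kernelSubobject_iff, smul_id_comp, ← comp_smul_id,
      ← Category.assoc]
    apply comp_smul_eq_zero_of_isAdapted' hA p k (p + k) rfl ha
    have h1 := Subobject.factors_self
      ((Subobject.pullback (tr X (Nat.le_add_left (k + 1) p))).obj (Fsub X (k + 1) (k + 1)))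
    rw [pullback_factors_iff] at h1
    have h2 : (kernelSubobject (tr X (Nat.le_succ k))).Factors
        (((Subobject.pullback (tr X (Nat.le_add_left (k + 1) p))).obj
          (Fsub X (k + 1) (k + 1))).arrow ≫ tr X (Nat.le_add_left (k + 1) p)) := by
      rw [← Fsub_succ]; exact h1
    rw [kernelSubobject_factors_iff, Category.assoc, tr_comp] at h2
    rw [Category.assoc, tr_comp]
    exact h2

variable (hJ : J.FG ∨ HasCoproducts.{w} C)

include hJ in
lemma push_IX_le (hX : IsStrict X) (hA : IsAdapted J X) (p q k : ℕ) {a : A} (ha : a ∈ J ^ p) :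
    push X a (Nat.le_add_left q p) (IX (J ^ k) (fg_pow_or hJ k) (X.obj (op q))) ≤
      IX (J ^ (p + k)) (fg_pow_or hJ (p + k)) (X.obj (op (p + q))) := by
  apply le_IX
  apply inI_img_arrow
  set S := (Subobject.pullback (tr X (Nat.le_add_left q p))).obj
    (IX (J ^ k) (fg_pow_or hJ k) (X.obj (op q))) with hS
  have h1 : InI (J ^ k) (S.arrow ≫ tr X (Nat.le_add_left q p)) := by
    apply inI_of_factors _ (inI_IX (J ^ k) (fg_pow_or hJ k) _)
    rw [← pullback_factors_iff]
    exact S.factors_self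
  have := hX q (p + q) (Nat.le_add_left q p)
  obtain ⟨T', π, hπ, x, hx, hxt⟩ := exists_lift_inI (fg_pow_or hJ k)
    (tr X (Nat.le_add_left q p)) _ h1
  apply InI.of_epi_comp π
  have h2 : π ≫ S.arrow ≫ (a • 𝟙 _) = x ≫ (a • 𝟙 _) := by
    have h3 : (π ≫ S.arrow - x) ≫ (a • 𝟙 (X.obj (op (p + q)))) = 0 := by
      apply comp_smul_eq_zero_of_isAdapted hA p q ha
      rw [Preadditive.sub_comp, Category.assoc, hxt, sub_self]
    rw [Preadditive.sub_comp, sub_eq_zero, Category.assoc] at h3
    exact h3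
  rw [h2, pow_add]
  exact InI.smul_comp hx ha

/-- The graded submodule of `grs(X)` generated in degrees `≤ i` (contained in
`F^q(X_q) ∩ J^{q-i} X_q`). -/
noncomputable def Mgen (i q : ℕ) : Subobject (X.obj (op q)) :=
  Fsub X q q ⊓ IX (J ^ (q - i)) (fg_pow_or hJ (q - i)) (X.obj (op q))

lemma Mgen_eq_of_le {i q : ℕ} (h : q ≤ i) : Mgen (X := X) hJ i q = Fsub X q q := by
  unfold Mgen
  have h0 : IX (J ^ (q - i)) (fg_pow_or hJ (q - i)) (X.obj (op q)) = ⊤ := by
    apply top_le_iff.1
    apply le_IX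
    rw [Nat.sub_eq_zero_of_le h, pow_zero, Ideal.one_eq_top]
    exact inI_top _
  rw [h0, inf_top_eq]

lemma isGrSub_Mgen (hX : IsStrict X) (hA : IsAdapted J X) (i : ℕ) :
    IsGrSub J X (Mgen (X := X) hJ i) := by
  refine ⟨fun q => inf_le_left, fun p q a ha => ?_⟩
  change push X a (Nat.le_add_left q p) (Mgen hJ i q) ≤ Mgen hJ i (p + q)
  apply le_inf
  · exact (push_mono a _ inf_le_left).trans (push_Fsub_le_of_isAdapted hA p q ha)
  · refine (push_mono a _ inf_le_right).trans ((push_IX_le hJ hX hA p q (q - i) ha).trans ?_)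
    exact IX_mono _ _ (Ideal.pow_le_pow_right (by omega)) _

lemma Mgen_mono : Monotone (Mgen (X := X) hJ) := by
  intro i j hij q
  exact inf_le_inf_left _ (IX_mono _ _ (Ideal.pow_le_pow_right (by omega)) _)

include hJ in
/-- S3184. -/
theorem isARAdic_of_grsFiniteType (hX : IsStrict X) (hA : IsAdapted J X)
    (hft : GrsFiniteType J X) : IsARAdic J X := by
  have kX := termKilled_of_isAdapted hA
  rw [isARAdic_iff_fker hJ X hX kX]
  obtain ⟨i, hi⟩ := hft (Mgen hJ) (isGrSub_Mgen hJ hX hA) (Mgen_mono hJ) (by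
    intro q
    constructor
    · rintro _ ⟨i, rfl⟩
      exact inf_le_left
    · intro U hU
      have := hU ⟨q, rfl⟩
      simp only at this
      rwa [Mgen_eq_of_le hJ le_rfl] at this)
  refine ⟨i + 1, Nat.succ_pos i, fun n => ?_⟩
  rw [subLEIdeal_iff]
  have h1 : Fker X n = Fsub X n n := by
    cases n with
    | zero => rw [Fsub_zero]; rfl
    | succ k => rw [Fsub_succ]; rfl
  rw [h1]
  have h2 : Fsub X n n ≤ IX (J ^ (n - i)) (fg_pow_or hJ (n - i)) (X.obj (op n)) := by
    have := hi n
    unfold Mgen at this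
    exact (inf_eq_left.1 this)
  apply InI.mono (Ideal.pow_le_pow_right (by omega : n - (i + 1) ≤ n - i))
  exact inI_of_factors _ (inI_IX _ _ _) _ (Subobject.factors_of_le _ h2 (Subobject.factors_self _))

end Adapted

end Groth.Agent.Lib.Helper13.ARSysAdapted
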