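import Mathlib
import Groth.Prelude.Def_ARSys

/-!
# Basic API for `ℕ`-indexed projective systems up to translation (`ARSys`)
-/

set_option autoImplicit false

universe w v u

open CategoryTheory CategoryTheory.Limits Opposite ARSys

namespace Groth.Agent.Lib.Helper13.ARSysBasic

section Cat

variable {C : Type u} [Category.{v} C]

lemma tr_comp (X : PS C) {a b c : ℕ} (h₁ : a ≤ b) (h₂ : b ≤ c) :
    tr X h₂ ≫ tr X h₁ = tr X (h₁.trans h₂) := by
  simp only [tr, ← X.map_comp]
  rfl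

lemma tr_refl (X : PS C) (n : ℕ) : tr X (le_refl n) = 𝟙 _ := by
  have : (homOfLE (le_refl n)).op = 𝟙 (op n) := rfl
  simp only [tr, this, X.map_id]

lemma tr_eq (X : PS C) {n m : ℕ} (h h' : n ≤ m) : tr X h = tr X h' := rfl

lemma tr_naturality {X Y : PS C} (f : X ⟶ Y) {n m : ℕ} (h : n ≤ m) :
    tr X h ≫ f.app (op n) = f.app (op m) ≫ tr Y h :=
  f.naturality _

@[simp]
lemma shift_obj_obj (X : PS C) (r n : ℕ) :
    ((shift C r).obj X).obj (op n) = X.obj (op (n + r)) := rfl

lemma shift_tr (X : PS C) (r : ℕ) {n m : ℕ} (h : n ≤ m) :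
    tr ((shift C r).obj X) h = tr X (Nat.add_le_add_right h r) := rfl

@[simp]
lemma shift_map_app {X Y : PS C} (f : X ⟶ Y) (r n : ℕ) :
    ((shift C r).map f).app (op n) = f.app (op (n + r)) := rfl

/-- The canonical map `X[r] ⟶ X`. -/
def shiftNat (X : PS C) (r : ℕ) : (shift C r).obj X ⟶ X where
  app n := shiftMap X r n.unop
  naturality := by
    rintro ⟨n⟩ ⟨m⟩ f
    have h : m ≤ n := leOfHom f.unop
    exact (tr_comp X (Nat.le_add_right m r) (Nat.add_le_add_right h r)).trans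
      (tr_comp X h (Nat.le_add_right n r)).symm

@[simp]
lemma shiftNat_app (X : PS C) (r n : ℕ) : (shiftNat X r).app (op n) = shiftMap X r n := rfl

lemma shiftNat_naturality {X Y : PS C} (f : X ⟶ Y) (r : ℕ) :
    (shift C r).map f ≫ shiftNat Y r = shiftNat X r ≫ f := by
  ext ⟨n⟩
  simp only [NatTrans.comp_app, shift_map_app, shiftNat_app]
  exact (tr_naturality f _).symm

lemma shiftMap_eq_comp (X : PS C) {r s : ℕ} (h : r ≤ s) (n : ℕ) :
    shiftMap X s n = tr X (Nat.add_le_add_left h n) ≫ shiftMap X r n :=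
  (tr_comp X (Nat.le_add_right n r) (Nat.add_le_add_left h n)).symm

lemma shiftMap_eq_comp' (X : PS C) (r t : ℕ) (n : ℕ) :
    shiftMap X (r + t) n = tr X (by omega : n + t ≤ n + (r + t)) ≫ shiftMap X t n :=
  (tr_comp X (Nat.le_add_right n t) (by omega : n + t ≤ n + (r + t))).symm

end Cat

section Zero

variable {C : Type u} [Category.{v} C] [HasZeroMorphisms C]

lemma isARNull_iff (X : PS C) :
    IsARNull X ↔ ∃ r : ℕ, ∀ (n m : ℕ) (h : n + r ≤ m), tr X ((Nat.le_add_right n r).trans h) = 0 := by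
  constructor
  · rintro ⟨r, hr⟩
    refine ⟨r, fun n m h => ?_⟩
    rw [← tr_comp X (Nat.le_add_right n r) h]
    have : tr X (Nat.le_add_right n r) = 0 := hr n
    rw [this, comp_zero]
  · rintro ⟨r, hr⟩
    exact ⟨r, fun n => hr n (n + r) le_rfl⟩

/-- Clean form of `IsARNull` (source object `X.obj (op (n + r))`). -/
lemma isARNull_iff' (X : PS C) :
    IsARNull X ↔ ∃ r : ℕ, ∀ n : ℕ, tr X (Nat.le_add_right n r) = 0 := Iff.rfl

lemma IsARNull.tr_eq_zero {X : PS C} {r : ℕ} (hr : ∀ n : ℕ, tr X (Nat.le_add_right n r) = 0)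
    {n m : ℕ} (h : n + r ≤ m) : tr X ((Nat.le_add_right n r).trans h) = 0 := by
  rw [← tr_comp X (Nat.le_add_right n r) h, hr n, comp_zero]

lemma IsARNull.tr_eq_zero' {X : PS C} {r : ℕ} (hr : ∀ n : ℕ, tr X (Nat.le_add_right n r) = 0)
    {n m : ℕ} (h : n + r ≤ m) (h' : n ≤ m) : tr X h' = 0 :=
  IsARNull.tr_eq_zero hr h

end Zero

section Images

variable {C : Type u} [Category.{v} C] [Abelian C]

/-- `ImLE f f'`: the image of `f` is contained in the image of `f'` (test maps formulation). -/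
def ImLE {A A' B : C} (f : A ⟶ B) (f' : A' ⟶ B) : Prop :=
  ∀ ⦃T : C⦄ (h : B ⟶ T), f' ≫ h = 0 → f ≫ h = 0

lemma imageSubobject_eq_kernelSubobject_cokernel {A B : C} (f : A ⟶ B) :
    imageSubobject f = kernelSubobject (cokernel.π f) := by
  have h : (ShortComplex.mk f (cokernel.π f) (cokernel.condition f)).Exact :=
    ShortComplex.exact_of_g_is_cokernel _ (cokernelIsCokernel f)
  exact (ShortComplex.exact_iff_image_eq_kernel _).1 h

lemma imageSubobject_le_iff {A A' B : C} (f : A ⟶ B) (f' : A' ⟶ B) :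
    imageSubobject f ≤ imageSubobject f' ↔ ImLE f f' := by
  constructor
  · intro hle T h hh
    have h1 : (imageSubobject f').arrow ≫ h = 0 := by
      rw [← cancel_epi (factorThruImageSubobject f'), ← Category.assoc,
        imageSubobject_arrow_comp, hh, comp_zero]
    rw [← imageSubobject_arrow_comp f, ← Subobject.ofLE_arrow hle, Category.assoc,
      Category.assoc, h1, comp_zero, comp_zero]
  · intro h
    have h0 : f ≫ cokernel.π f' = 0 := h _ (cokernel.condition f')
    rw [imageSubobject_eq_kernelSubobject_cokernel f']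
    exact imageSubobject_le f (factorThruKernelSubobject _ f h0)
      (factorThruKernelSubobject_comp_arrow _ _ _)

lemma imageSubobject_eq_iff {A A' B : C} (f : A ⟶ B) (f' : A' ⟶ B) :
    imageSubobject f = imageSubobject f' ↔ ImLE f f' ∧ ImLE f' f := by
  rw [← imageSubobject_le_iff, ← imageSubobject_le_iff]
  exact ⟨fun h => ⟨h.le, h.ge⟩, fun h => le_antisymm h.1 h.2⟩

lemma ImLE.refl {A B : C} (f : A ⟶ B) : ImLE f f := fun _ _ h => h

lemma ImLE.trans {A A' A'' B : C} {f : A ⟶ B} {f' : A' ⟶ B} {f'' : A'' ⟶ B}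
    (h₁ : ImLE f f') (h₂ : ImLE f' f'') : ImLE f f'' := fun _ h hh => h₁ h (h₂ h hh)

lemma ImLE.comp_left {A A' B : C} (g : A' ⟶ A) (f : A ⟶ B) : ImLE (g ≫ f) f :=
  fun _ h hh => by rw [Category.assoc, hh, comp_zero]

lemma ImLE.of_fac {A A' B : C} {f : A ⟶ B} {f' : A' ⟶ B} (g : A ⟶ A') (hg : g ≫ f' = f) :
    ImLE f f' := by
  subst hg
  exact ImLE.comp_left _ _

lemma ImLE.of_epi_comp {A A' B : C} (g : A' ⟶ A) [Epi g] (f : A ⟶ B) : ImLE f (g ≫ f) :=
  fun _ h hh => by
    rw [Category.assoc] at hh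
    rw [← cancel_epi g, hh, comp_zero]

lemma ImLE.comp_right {A A' B B' : C} {f : A ⟶ B} {f' : A' ⟶ B} (h : ImLE f f') (k : B ⟶ B') :
    ImLE (f ≫ k) (f' ≫ k) := fun _ t ht => by
  rw [Category.assoc] at ht ⊢
  exact h _ ht

/-- If `f` has image in the image of `f'`, and `f' = e ≫ m` with `m` mono, then `f` factors
through `m`. -/
lemma ImLE.exists_lift {A A' B I : C} {f : A ⟶ B} {f' : A' ⟶ B} (h : ImLE f f')
    (e : A' ⟶ I) (m : I ⟶ B) [Epi e] [Mono m] (fac : e ≫ m = f') :
    ∃ l : A ⟶ I, l ≫ m = f := by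
  have hm : m ≫ cokernel.π f' = 0 := by
    rw [← cancel_epi e, ← Category.assoc, fac, cokernel.condition, comp_zero]
  -- `m` is a kernel of `cokernel.π f'`
  have hS : (ShortComplex.mk m (cokernel.π f') hm).Exact := by
    rw [← ShortComplex.exact_iff_of_epi_of_isIso_of_mono
      (φ := (⟨e, 𝟙 _, 𝟙 _, by simp [fac], by simp⟩ :
        ShortComplex.mk f' (cokernel.π f') (cokernel.condition f') ⟶
          ShortComplex.mk m (cokernel.π f') hm))]
    exact ShortComplex.exact_of_g_is_cokernel _ (cokernelIsCokernel f')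
  have h0 : f ≫ cokernel.π f' = 0 := h _ (cokernel.condition f')
  exact ⟨hS.lift f h0, hS.lift_f f h0⟩

end Images

end Groth.Agent.Lib.Helper13.ARSysBasic
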