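import Groth.Agent.Lib.Helper13.ARSysML

/-!
# Linear part of `ARSys`: objects killed by an ideal, quotients modulo an ideal
-/

set_option autoImplicit false

universe w v u

open CategoryTheory CategoryTheory.Limits Opposite ARSys

namespace Groth.Agent.Lib.Helper13.ARSysLin

open Groth.Agent.Lib.Helper13.ARSysBasic Groth.Agent.Lib.Helper13.ARSysML

section Preadd

variable {C : Type u} [Category.{v} C] [Preadditive C] {A : Type w} [CommRing A] [Linear A C]

lemma smul_id_comp (a : A) {X Y : C} (f : X ⟶ Y) : (a • 𝟙 X) ≫ f = a • f := by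
  rw [Linear.smul_comp, Category.id_comp]

lemma comp_smul_id (a : A) {X Y : C} (f : X ⟶ Y) : f ≫ (a • 𝟙 Y) = a • f := by
  rw [Linear.comp_smul, Category.comp_id]

lemma killedBy_hom_src {I : Ideal A} {X Y : C} (hX : KilledBy I X) (f : X ⟶ Y) :
    HomKilledBy I f := fun a ha => by
  rw [← smul_id_comp, hX a ha, zero_comp]

lemma killedBy_hom_tgt {I : Ideal A} {X Y : C} (hY : KilledBy I Y) (f : X ⟶ Y) :
    HomKilledBy I f := fun a ha => by
  rw [← comp_smul_id, hY a ha, comp_zero]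

lemma homKilledBy_comp_left {I : Ideal A} {W X Y : C} {f : X ⟶ Y} (h : HomKilledBy I f)
    (g : W ⟶ X) : HomKilledBy I (g ≫ f) := fun a ha => by
  rw [← Linear.comp_smul, h a ha, comp_zero]

lemma homKilledBy_comp_right {I : Ideal A} {X Y Z : C} {f : X ⟶ Y} (h : HomKilledBy I f)
    (g : Y ⟶ Z) : HomKilledBy I (f ≫ g) := fun a ha => by
  rw [← Linear.smul_comp, h a ha, zero_comp]

lemma homKilledBy_of_epi_comp {I : Ideal A} {W X Y : C} (g : W ⟶ X) [Epi g] {f : X ⟶ Y}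
    (h : HomKilledBy I (g ≫ f)) : HomKilledBy I f := fun a ha => by
  rw [← cancel_epi g, comp_zero, Linear.comp_smul, h a ha]

lemma homKilledBy_of_comp_mono {I : Ideal A} {X Y Z : C} (g : Y ⟶ Z) [Mono g] {f : X ⟶ Y}
    (h : HomKilledBy I (f ≫ g)) : HomKilledBy I f := fun a ha => by
  rw [← cancel_mono g, zero_comp, Linear.smul_comp, h a ha]

lemma homKilledBy_mono {I I' : Ideal A} (hI : I ≤ I') {X Y : C} {f : X ⟶ Y}
    (h : HomKilledBy I' f) : HomKilledBy I f := fun a ha => h a (hI ha)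

lemma killedBy_mono {I I' : Ideal A} (hI : I ≤ I') {X : C} (h : KilledBy I' X) : KilledBy I X :=
  fun a ha => h a (hI ha)

lemma killedBy_iff_homKilledBy_id {I : Ideal A} {X : C} : KilledBy I X ↔ HomKilledBy I (𝟙 X) :=
  Iff.rfl

lemma killedBy_of_epi {I : Ideal A} {X Y : C} (f : X ⟶ Y) [Epi f] (hX : KilledBy I X) :
    KilledBy I Y :=
  homKilledBy_of_epi_comp f (by simpa using killedBy_hom_src hX f)

lemma killedBy_of_mono {I : Ideal A} {X Y : C} (f : Y ⟶ X) [Mono f] (hX : KilledBy I X) :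
    KilledBy I Y :=
  homKilledBy_of_comp_mono f (by simpa using killedBy_hom_tgt hX f)

/-- `x ∈ I·X`: every morphism out of `X` killed by `I` vanishes on `x`. -/
def InI (I : Ideal A) {T X : C} (x : T ⟶ X) : Prop :=
  ∀ ⦃Y : C⦄ (φ : X ⟶ Y), HomKilledBy I φ → x ≫ φ = 0

lemma InI.mono {I I' : Ideal A} (hI : I ≤ I') {T X : C} {x : T ⟶ X} (h : InI I x) : InI I' x :=
  fun _ φ hφ => h φ (homKilledBy_mono hI hφ)

lemma InI.comp_left {I : Ideal A} {T' T X : C} {x : T ⟶ X} (h : InI I x) (g : T' ⟶ T) :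
    InI I (g ≫ x) := fun _ φ hφ => by rw [Category.assoc, h φ hφ, comp_zero]

lemma InI.comp_right {I : Ideal A} {T X X' : C} {x : T ⟶ X} (h : InI I x) (f : X ⟶ X') :
    InI I (x ≫ f) := fun _ φ hφ => by
  rw [Category.assoc, h _ (homKilledBy_comp_left hφ f)]

lemma InI.of_epi_comp {I : Ideal A} {T' T X : C} (π : T' ⟶ T) [Epi π] {x : T ⟶ X}
    (h : InI I (π ≫ x)) : InI I x := fun _ φ hφ => by
  rw [← cancel_epi π, comp_zero, ← Category.assoc, h φ hφ]

lemma InI.sub {I : Ideal A} {T X : C} {x y : T ⟶ X} (hx : InI I x) (hy : InI I y) :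
    InI I (x - y) := fun _ φ hφ => by
  rw [Preadditive.sub_comp, hx φ hφ, hy φ hφ, sub_zero]

lemma InI.add {I : Ideal A} {T X : C} {x y : T ⟶ X} (hx : InI I x) (hy : InI I y) :
    InI I (x + y) := fun _ φ hφ => by
  rw [Preadditive.add_comp, hx φ hφ, hy φ hφ, add_zero]

lemma InI.comp_eq_zero_of_killedBy {I : Ideal A} {T X Y : C} {x : T ⟶ X} (h : InI I x)
    (f : X ⟶ Y) (hY : KilledBy I Y) : x ≫ f = 0 := h f (killedBy_hom_tgt hY f)

lemma inI_top {T X : C} (x : T ⟶ X) : InI (⊤ : Ideal A) x := fun _ φ hφ => by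
  have := hφ 1 trivial
  rw [one_smul] at this
  rw [this, comp_zero]


variable {I : Ideal A} {X Q : C} {p : X ⟶ Q}

lemma isQuot_killedBy (h : IsQuot I p) : KilledBy I Q := h.1

lemma isQuot_homKilledBy (h : IsQuot I p) : HomKilledBy I p := killedBy_hom_tgt h.1 p

lemma isQuot_epi (h : IsQuot I p) : Epi p := by
  constructor
  intro Z g₁ g₂ hg
  have hk : HomKilledBy I (p ≫ g₁) := homKilledBy_comp_right (isQuot_homKilledBy h) g₁
  obtain ⟨ψ, -, hψ⟩ := h.2 Z (p ≫ g₁) hk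
  rw [hψ g₁ rfl, hψ g₂ hg.symm]

lemma isQuot_exists_desc (h : IsQuot I p) {Y : C} (φ : X ⟶ Y) (hφ : HomKilledBy I φ) :
    ∃ ψ : Q ⟶ Y, p ≫ ψ = φ := (h.2 Y φ hφ).exists

lemma isQuot_comp_eq_zero_iff (h : IsQuot I p) {T : C} (x : T ⟶ X) : x ≫ p = 0 ↔ InI I x := by
  constructor
  · intro hx Y φ hφ
    obtain ⟨ψ, rfl⟩ := isQuot_exists_desc h φ hφ
    rw [← Category.assoc, hx, zero_comp]
  · intro hx
    exact hx p (isQuot_homKilledBy h)


lemma isQuot_of_epi_of_forall {I : Ideal A} {X Q : C} (p : X ⟶ Q) [Epi p] (hQ : KilledBy I Q)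
    (h : ∀ ⦃Y : C⦄ (φ : X ⟶ Y), HomKilledBy I φ → ∃ ψ : Q ⟶ Y, p ≫ ψ = φ) : IsQuot I p := by
  refine ⟨hQ, fun Y φ hφ => ?_⟩
  obtain ⟨ψ, hψ⟩ := h φ hφ
  exact ⟨ψ, hψ, fun ψ' hψ' => by rw [← cancel_epi p, hψ, hψ']⟩

end Preadd

section Ab

variable {C : Type u} [Category.{v} C] [Abelian C] {A : Type w} [CommRing A] [Linear A C]

lemma subLEIdeal_iff {I : Ideal A} {X : C} (S : Subobject X) :
    SubLEIdeal I S ↔ InI I S.arrow := Iff.rfl

/-- Quotient modulo the ideal spanned by a family, when the relevant coproduct exists. -/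
lemma exists_isQuot_of_span {ι : Type*} (a : ι → A) (X : C) [HasCoproduct (fun _ : ι => X)] :
    ∃ (Q : C) (p : X ⟶ Q), IsQuot (Ideal.span (Set.range a)) p := by
  let m : (∐ fun _ : ι => X) ⟶ X := Sigma.desc (fun i => a i • 𝟙 X)
  have hm : ∀ i, Sigma.ι (fun _ : ι => X) i ≫ m = a i • 𝟙 X := fun i => by
    simp only [m, colimit.ι_desc, Cofan.mk_ι_app]
  refine ⟨cokernel m, cokernel.π m, isQuot_of_epi_of_forall _ ?_ ?_⟩
  · intro b hb
    induction hb using Submodule.span_induction with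
    | mem x hx =>
      obtain ⟨i, rfl⟩ := hx
      rw [← cancel_epi (cokernel.π m), comp_zero, comp_smul_id, ← smul_id_comp, ← hm,
        Category.assoc, cokernel.condition, comp_zero]
    | zero => rw [zero_smul]
    | add x y _ _ hx hy => rw [add_smul, hx, hy, add_zero]
    | smul c x _ hx => rw [smul_eq_mul, mul_smul, hx, smul_zero]
  · intro Y φ hφ
    have h0 : m ≫ φ = 0 := by
      apply Sigma.hom_ext
      intro i
      rw [← Category.assoc, hm, smul_id_comp, comp_zero]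
      exact hφ _ (Ideal.subset_span ⟨i, rfl⟩)
    exact ⟨cokernel.desc m φ h0, cokernel.π_desc _ _ _⟩

/-- Existence of quotients modulo `I` when `I` is finitely generated or `C` has coproducts. -/
lemma exists_isQuot (I : Ideal A) (hI : I.FG ∨ HasCoproducts.{w} C) (X : C) :
    ∃ (Q : C) (p : X ⟶ Q), IsQuot I p := by
  rcases hI with hI | hI
  · obtain ⟨s, rfl⟩ := hI
    have h := exists_isQuot_of_span (fun i : s => (i : A)) X
    rwa [Subtype.range_coe_subtype, Finset.setOf_mem] at h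
  · have h := exists_isQuot_of_span (fun i : I => (i : A)) X
    rwa [Subtype.range_coe_subtype, SetLike.setOf_mem_eq, Ideal.span_eq] at h

lemma fg_pow_or {J : Ideal A} (hJ : J.FG ∨ HasCoproducts.{w} C) (k : ℕ) :
    (J ^ k).FG ∨ HasCoproducts.{w} C :=
  hJ.imp (fun h => h.pow) id

/-- Lifting elements of `I·X''` along an epimorphism `X ⟶ X''` (up to refinements). -/
lemma exists_lift_inI {I : Ideal A} (hI : I.FG ∨ HasCoproducts.{w} C) {X X'' : C} (f : X ⟶ X'')
    [Epi f] {T : C} (x'' : T ⟶ X'') (hx : InI I x'') :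
    ∃ (T' : C) (π : T' ⟶ T) (_ : Epi π) (x : T' ⟶ X), InI I x ∧ x ≫ f = π ≫ x'' := by
  obtain ⟨Q, p, hp⟩ := exists_isQuot I hI X
  have := isQuot_epi hp
  let k := kernel.ι p
  let c := cokernel.π (k ≫ f)
  -- `f ≫ c` factors through `p`
  have h1 : k ≫ f ≫ c = 0 := by rw [← Category.assoc, cokernel.condition]
  have hpk : IsColimit (CokernelCofork.ofπ p (kernel.condition p)) :=
    Abelian.epiIsCokernelOfKernel (KernelFork.ofι (kernel.ι p) (kernel.condition p))
      (kernelIsKernel p)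
  obtain ⟨d, hd⟩ : ∃ d : Q ⟶ cokernel (k ≫ f), p ≫ d = f ≫ c :=
    ⟨hpk.desc (CokernelCofork.ofπ (f ≫ c) h1), hpk.fac _ WalkingParallelPair.one⟩
  have : Epi (p ≫ d) := by rw [hd]; infer_instance
  have : Epi d := epi_of_epi p d
  have hR : KilledBy I (cokernel (k ≫ f)) := killedBy_of_epi d hp.1
  have hxc : x'' ≫ c = 0 := hx c (killedBy_hom_tgt hR c)
  have hex : (ShortComplex.mk (k ≫ f) c (cokernel.condition _)).Exact :=
    ShortComplex.exact_of_g_is_cokernel _ (cokernelIsCokernel _)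
  obtain ⟨T', π, hπ, y, hy⟩ := hex.exact_up_to_refinements x'' hxc
  refine ⟨T', π, hπ, y ≫ k, ?_, ?_⟩
  · rw [← isQuot_comp_eq_zero_iff hp, Category.assoc, kernel.condition, comp_zero]
  · rw [Category.assoc]
    exact hy.symm

end Ab

end Groth.Agent.Lib.Helper13.ARSysLin
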