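import Mathlib.Order.WellQuasiOrder
import Mathlib.Order.ModularLattice
import Mathlib.Order.OrderIsoNat
import Mathlib.Order.Hom.Basic
import Mathlib.Data.Finset.Lattice.Fold
import Mathlib.Data.Finset.Max

/-!
# Order-theoretic lemmas for Hilbert-basis type arguments

* `wellFoundedGT_orderHom`: monotone maps from a well-quasi-ordered set to a poset with the
  ascending chain condition satisfy the ascending chain condition.
* `le_of_filtration`: in a modular lattice, `S ≤ S'` with the same "leading terms" along a finite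
  linearly ordered filtration are equal.
-/

set_option autoImplicit false

namespace Groth.Agent.Lib.Helper13.OrderLat

/-- Monotone maps from a well-quasi-ordered set to a poset satisfying the ascending chain
condition satisfy the ascending chain condition. -/
theorem wellFoundedGT_orderHom {Q P : Type*} [Preorder Q] [WellQuasiOrderedLE Q]
    [PartialOrder P] [WellFoundedGT P] : WellFoundedGT (Q →o P) := by
  rw [wellFoundedGT_iff_monotone_chain_condition']
  intro F
  by_contra hcon
  push Not at hcon
  choose next hnext1 hnext2 using hcon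
  -- subsequence `k j`
  let k : ℕ → ℕ := fun j => next^[j] 0
  have hk : ∀ j, k (j + 1) = next (k j) := fun j => Function.iterate_succ_apply' next j 0
  have hklt : ∀ j, F (k j) < F (k (j + 1)) := fun j => by rw [hk]; exact hnext2 _
  have hkmono : Monotone k := monotone_nat_of_le_succ (fun j => by rw [hk]; exact hnext1 _)
  -- witnesses
  have hq : ∀ j, ∃ q : Q, F (k j) q < F (k (j + 1)) q := by
    intro j
    by_contra h
    push Not at h
    have hle : F (k j) ≤ F (k (j + 1)) := (hklt j).le
    have : F (k (j + 1)) ≤ F (k j) := fun q => by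
      have h1 := hle q
      rcases h1.lt_or_eq with h2 | h2
      · exact absurd h2 (h q)
      · exact h2.ge
    exact absurd (hklt j) (not_lt_of_ge this)
  choose q hq using hq
  obtain ⟨g, hg⟩ := (wellQuasiOrdered_le (α := Q)).exists_monotone_subseq q
  let b : ℕ → P := fun m => F (k (g m)) (q (g m))
  have hb : ∀ m, b m < b (m + 1) := by
    intro m
    have h1 : g m + 1 ≤ g (m + 1) := by
      have : g m < g (m + 1) := g.strictMono (Nat.lt_succ_self m)
      omega
    calc b m < F (k (g m + 1)) (q (g m)) := hq (g m)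
      _ ≤ F (k (g (m + 1))) (q (g m)) := F.monotone (hkmono h1) _
      _ ≤ F (k (g (m + 1))) (q (g (m + 1))) := (F (k (g (m + 1)))).monotone (hg _ _ (Nat.le_succ m))
  have hbmono : StrictMono b := strictMono_nat_of_lt_succ hb
  obtain ⟨n, hn⟩ := (wellFoundedGT_iff_monotone_chain_condition' (α := P)).1 inferInstance
    ⟨b, hbmono.monotone⟩
  exact hn (n + 1) (Nat.le_succ n) (hb n)

section Modular

variable {L : Type*} [Lattice L] [OrderBot L] [IsModularLattice L]
variable {ι : Type*} [LinearOrder ι]

/-- Elements of `s` smaller than `α` (with classical decidability, to avoid instance clashes). -/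
noncomputable def ltFilter (s : Finset ι) (α : ι) : Finset ι :=
  @Finset.filter ι (· < α) (fun _ => Classical.propDecidable _) s

lemma mem_ltFilter {s : Finset ι} {α β : ι} : β ∈ ltFilter s α ↔ β ∈ s ∧ β < α := by
  unfold ltFilter
  exact @Finset.mem_filter ι (· < α) (fun _ => Classical.propDecidable _) s β

lemma ltFilter_insert_of_lt {s : Finset ι} {a α : ι} (h : α < a) :
    ltFilter (insert a s) α = ltFilter s α := by
  ext β
  simp only [mem_ltFilter, Finset.mem_insert]
  constructor
  · rintro ⟨rfl | h1, h2⟩
    · exact absurd h2 (not_lt_of_gt h)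
    · exact ⟨h1, h2⟩
  · rintro ⟨h1, h2⟩; exact ⟨Or.inr h1, h2⟩

lemma ltFilter_insert_self {s : Finset ι} {a : ι} (ha : ∀ x ∈ s, x < a) :
    ltFilter (insert a s) a = s := by
  ext β
  simp only [mem_ltFilter, Finset.mem_insert]
  constructor
  · rintro ⟨rfl | h1, h2⟩
    · exact absurd h2 (lt_irrefl _)
    · exact h1
  · intro h1; exact ⟨Or.inr h1, ha β h1⟩

/-- In a modular lattice, let `E : ι → L` be indexed by a linear order and `s` a finite set of
indices.  If `S ≤ S' ≤ ⨆_{i ∈ s} E i` and for each `α ∈ s`, with `F = ⨆_{β ∈ s, β < α} E β`,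
we have `(S' ⊔ F) ⊓ E α ≤ S ⊔ F`, then `S' ≤ S`. -/
theorem inf_sup_le_of_filtration (E : ι → L) (S S' : L) (hS : S ≤ S') (s : Finset ι) :
    (∀ α ∈ s, (S' ⊔ (ltFilter s α).sup E) ⊓ E α ≤ S ⊔ (ltFilter s α).sup E) →
      S' ⊓ s.sup E ≤ S := by
  induction s using Finset.induction_on_max with
  | empty => intro _; simp
  | insert a s ha ih =>
    intro h
    have hs : ∀ α ∈ s, ltFilter (insert a s) α = ltFilter s α := by
      intro α hα
      exact ltFilter_insert_of_lt (ha α hα)
    have ih' : S' ⊓ s.sup E ≤ S := by
      apply ih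
      intro α hα
      have := h α (Finset.mem_insert_of_mem hα)
      rwa [hs α hα] at this
    have hfa : ltFilter (insert a s) a = s := ltFilter_insert_self ha
    have h1 := h a (Finset.mem_insert_self a s)
    rw [hfa] at h1
    set F := s.sup E with hF
    rw [Finset.sup_insert]
    -- modular-law computation
    have h2 : S' ⊓ (E a ⊔ F) ≤ S ⊔ F := by
      calc S' ⊓ (E a ⊔ F) ≤ (F ⊔ S') ⊓ (F ⊔ E a) := by
            apply le_inf (inf_le_left.trans le_sup_right)
            rw [sup_comm]; exact inf_le_right
        _ = F ⊔ (F ⊔ S') ⊓ E a := by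
            rw [inf_comm, sup_inf_assoc_of_le (E a) (le_sup_left : F ≤ F ⊔ S'), inf_comm]
        _ ≤ F ⊔ (S ⊔ F) := by
            apply sup_le_sup_left
            rw [sup_comm F S']
            exact h1
        _ = S ⊔ F := by rw [sup_comm S F, ← sup_assoc, sup_idem]
    calc S' ⊓ (E a ⊔ F) ≤ (S ⊔ F) ⊓ S' := le_inf h2 inf_le_left
      _ = S ⊔ F ⊓ S' := sup_inf_assoc_of_le F hS
      _ ≤ S := by
          apply sup_le le_rfl
          rw [inf_comm]; exact ih'

theorem le_of_filtration (E : ι → L) (S S' : L) (hS : S ≤ S') (s : Finset ι)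
    (hS' : S' ≤ s.sup E)
    (h : ∀ α ∈ s, (S' ⊔ (ltFilter s α).sup E) ⊓ E α ≤ S ⊔ (ltFilter s α).sup E) :
    S' ≤ S :=
  (le_inf le_rfl hS').trans (inf_sup_le_of_filtration E S S' hS s h)

end Modular

end Groth.Agent.Lib.Helper13.OrderLat
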