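import Mathlib.CategoryTheory.Subobject.Lattice
import Mathlib.CategoryTheory.Subobject.Limits
import Mathlib.CategoryTheory.Abelian.Refinements
import Mathlib.CategoryTheory.Abelian.Basic
import Mathlib.Order.ModularLattice
import Groth.Agent.Lib.Helper89.SubobjectModular

/-!
# Image / preimage calculus on subobject lattices in an abelian category

`img f S` is the image of the subobject `S` under `f`; it is left adjoint to
`Subobject.pullback f`.  We prove the usual formulas
`f⁻¹(f(S)) = S ⊔ ker f`, `f(f⁻¹(T)) = T ⊓ im f`, functoriality, etc.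
-/

set_option autoImplicit false
universe v u
open CategoryTheory CategoryTheory.Limits

namespace Groth.Agent.Lib.Helper13.SubLat

open Groth.Agent.Lib.Helper89.SubobjectModular

variable {C : Type u} [Category.{v} C] [Abelian C]

/-- The image of a subobject under a morphism. -/
noncomputable def img {X Y : C} (f : X ⟶ Y) (S : Subobject X) : Subobject Y :=
  imageSubobject (S.arrow ≫ f)

lemma img_def {X Y : C} (f : X ⟶ Y) (S : Subobject X) :
    img f S = imageSubobject (S.arrow ≫ f) := rfl

/-- Elementwise description of the image of a subobject. -/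
lemma factors_img_iff {X Y : C} (f : X ⟶ Y) (S : Subobject X) {T : C} (y : T ⟶ Y) :
    (img f S).Factors y ↔
      ∃ (T' : C) (π : T' ⟶ T) (_ : Epi π) (s : T' ⟶ X), S.Factors s ∧ π ≫ y = s ≫ f := by
  constructor
  · intro h
    obtain ⟨T', π, hπ, c, hc⟩ := surjective_up_to_refinements_of_epi
      (factorThruImageSubobject (S.arrow ≫ f)) ((img f S).factorThru y h)
    refine ⟨T', π, hπ, c ≫ S.arrow, S.factors_comp_arrow c, ?_⟩
    have h1 : π ≫ y = (π ≫ (img f S).factorThru y h) ≫ (img f S).arrow := by
      rw [Category.assoc, Subobject.factorThru_arrow]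
    rw [h1]
    unfold img at hc ⊢
    rw [hc, Category.assoc, imageSubobject_arrow_comp, Category.assoc]
  · rintro ⟨T', π, hπ, s, hs, hy⟩
    apply factors_of_epi_comp π
    rw [hy, ← S.factorThru_arrow s hs, Category.assoc]
    exact imageSubobject_factors_comp_self _ _

/-- `img f ⊣ pullback f`. -/
lemma img_le_iff {X Y : C} (f : X ⟶ Y) (S : Subobject X) (T : Subobject Y) :
    img f S ≤ T ↔ S ≤ (Subobject.pullback f).obj T := by
  constructor
  · intro h
    apply Subobject.le_of_factors
    rw [pullback_factors_iff]
    apply Subobject.factors_of_le _ h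
    have := imageSubobject_factors_comp_self (S.arrow ≫ f) (𝟙 _)
    rwa [Category.id_comp] at this
  · intro h
    apply Subobject.le_of_factors
    have h1 : ((Subobject.pullback f).obj T).Factors S.arrow :=
      Subobject.factors_of_le _ h S.factors_self
    rw [pullback_factors_iff] at h1
    apply factors_of_epi_comp (factorThruImageSubobject (S.arrow ≫ f))
    erw [imageSubobject_arrow_comp]
    exact h1

lemma gc_img {X Y : C} (f : X ⟶ Y) :
    GaloisConnection (img f) (fun T => (Subobject.pullback f).obj T) :=
  fun S T => img_le_iff f S T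

lemma img_mono {X Y : C} (f : X ⟶ Y) {S S' : Subobject X} (h : S ≤ S') : img f S ≤ img f S' :=
  (gc_img f).monotone_l h

lemma pullback_mono {X Y : C} (f : X ⟶ Y) {T T' : Subobject Y} (h : T ≤ T') :
    (Subobject.pullback f).obj T ≤ (Subobject.pullback f).obj T' :=
  (gc_img f).monotone_u h

lemma img_sup {X Y : C} (f : X ⟶ Y) (S S' : Subobject X) :
    img f (S ⊔ S') = img f S ⊔ img f S' :=
  (gc_img f).l_sup

lemma img_bot {X Y : C} (f : X ⟶ Y) : img f (⊥ : Subobject X) = ⊥ :=
  (gc_img f).l_bot

lemma img_finset_sup {X Y : C} (f : X ⟶ Y) {ι : Type*} (s : Finset ι) (E : ι → Subobject X) :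
    img f (s.sup E) = s.sup (fun i => img f (E i)) := by
  classical
  induction s using Finset.induction_on with
  | empty => simp [img_bot]
  | insert a s _ ih => rw [Finset.sup_insert, Finset.sup_insert, img_sup, ih]

lemma img_top {X Y : C} (f : X ⟶ Y) : img f (⊤ : Subobject X) = imageSubobject f := by
  apply le_antisymm
  · exact imageSubobject_comp_le _ _
  · apply Subobject.le_of_factors
    apply factors_of_epi_comp (factorThruImageSubobject f)
    rw [imageSubobject_arrow_comp, factors_img_iff]
    exact ⟨_, 𝟙 _, inferInstance, 𝟙 _, Subobject.top_factors _, by simp⟩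

lemma img_le_imageSubobject {X Y : C} (f : X ⟶ Y) (S : Subobject X) :
    img f S ≤ imageSubobject f := imageSubobject_comp_le _ _

lemma img_comp {X Y Z : C} (f : X ⟶ Y) (g : Y ⟶ Z) (S : Subobject X) :
    img g (img f S) = img (f ≫ g) S := by
  apply le_antisymm
  · rw [img_le_iff, img_le_iff, ← Subobject.pullback_comp, ← img_le_iff]
  · rw [img_le_iff, Subobject.pullback_comp, ← img_le_iff, ← img_le_iff]

lemma img_eq_bot_iff {X Y : C} (f : X ⟶ Y) (S : Subobject X) :
    img f S = ⊥ ↔ S.arrow ≫ f = 0 := by
  constructor
  · intro h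
    have h1 : (img f S).Factors (S.arrow ≫ f) := by
      have := imageSubobject_factors_comp_self (S.arrow ≫ f) (𝟙 _)
      rwa [Category.id_comp] at this
    rw [h, Subobject.bot_factors_iff_zero] at h1
    exact h1
  · intro h
    rw [img_def, h, imageSubobject_zero]

lemma img_eq_bot_of_le_kernel {X Y : C} (f : X ⟶ Y) (S : Subobject X)
    (h : S ≤ kernelSubobject f) : img f S = ⊥ := by
  rw [img_eq_bot_iff]
  have := Subobject.factors_of_le _ h S.factors_self
  rw [kernelSubobject_factors_iff] at this
  exact this

lemma pullback_bot {X Y : C} (f : X ⟶ Y) :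
    (Subobject.pullback f).obj ⊥ = kernelSubobject f := by
  apply le_antisymm
  · apply Subobject.le_of_factors
    rw [kernelSubobject_factors_iff]
    have h := Subobject.factors_self ((Subobject.pullback f).obj ⊥)
    rw [pullback_factors_iff, Subobject.bot_factors_iff_zero] at h
    exact h
  · apply Subobject.le_of_factors
    rw [pullback_factors_iff, Subobject.bot_factors_iff_zero]
    exact kernelSubobject_arrow_comp f

/-- `f⁻¹(f(S)) = S + ker f`. -/
lemma pullback_img {X Y : C} (f : X ⟶ Y) (S : Subobject X) :
    (Subobject.pullback f).obj (img f S) = S ⊔ kernelSubobject f := by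
  apply le_antisymm
  · apply Subobject.le_of_factors
    have h := Subobject.factors_self ((Subobject.pullback f).obj (img f S))
    rw [pullback_factors_iff, factors_img_iff] at h
    obtain ⟨T', π, hπ, s, hs, hy⟩ := h
    apply factors_of_epi_comp π
    have : π ≫ ((Subobject.pullback f).obj (img f S)).arrow =
        s + (π ≫ ((Subobject.pullback f).obj (img f S)).arrow - s) := by abel
    rw [this]
    apply factors_sup_of_add _ _ _ _ hs
    rw [kernelSubobject_factors_iff, Preadditive.sub_comp, Category.assoc, hy, sub_self]
  · apply sup_le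
    · rw [← img_le_iff]
    · rw [← pullback_bot]
      exact pullback_mono f bot_le

/-- `f(f⁻¹(T)) = T ∩ im f`. -/
lemma img_pullback {X Y : C} (f : X ⟶ Y) (T : Subobject Y) :
    img f ((Subobject.pullback f).obj T) = T ⊓ imageSubobject f := by
  apply le_antisymm
  · apply le_inf
    · rw [img_le_iff]
    · exact img_le_imageSubobject _ _
  · apply Subobject.le_of_factors
    have h := Subobject.factors_self (T ⊓ imageSubobject f)
    rw [Subobject.inf_factors] at h
    obtain ⟨h1, h2⟩ := h
    have h2' : (img f ⊤).Factors (T ⊓ imageSubobject f).arrow := by rw [img_top]; exact h2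
    rw [factors_img_iff] at h2'
    obtain ⟨T', π, hπ, s, -, hy⟩ := h2'
    apply factors_of_epi_comp π
    rw [factors_img_iff]
    refine ⟨T', 𝟙 _, inferInstance, s, ?_, by rw [Category.id_comp, hy]⟩
    rw [pullback_factors_iff, ← hy]
    exact Subobject.factors_of_factors_right _ h1

lemma img_pullback_of_epi {X Y : C} (f : X ⟶ Y) [Epi f] (T : Subobject Y) :
    img f ((Subobject.pullback f).obj T) = T := by
  rw [img_pullback]
  have : imageSubobject f = ⊤ := by
    rw [← Subobject.isIso_arrow_iff_eq_top]
    have : Epi (factorThruImageSubobject f ≫ (imageSubobject f).arrow) := by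
      rw [imageSubobject_arrow_comp]; infer_instance
    have : Epi (imageSubobject f).arrow := epi_of_epi (factorThruImageSubobject f) _
    exact isIso_of_mono_of_epi _
  rw [this, inf_top_eq]

/-- Frobenius reciprocity: `f(f⁻¹(T) ∩ U) = T ∩ f(U)`. -/
lemma img_pullback_inf {X Y : C} (f : X ⟶ Y) (T : Subobject Y) (U : Subobject X) :
    img f ((Subobject.pullback f).obj T ⊓ U) = T ⊓ img f U := by
  apply le_antisymm
  · apply le_inf
    · rw [img_le_iff]
      exact inf_le_left
    · exact img_mono f inf_le_right
  · apply Subobject.le_of_factors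
    have h := Subobject.factors_self (T ⊓ img f U)
    rw [Subobject.inf_factors] at h
    obtain ⟨h1, h2⟩ := h
    rw [factors_img_iff] at h2
    obtain ⟨T', π, hπ, s, hs, hy⟩ := h2
    apply factors_of_epi_comp π
    rw [factors_img_iff]
    refine ⟨T', 𝟙 _, inferInstance, s, ?_, by rw [Category.id_comp, hy]⟩
    rw [Subobject.inf_factors]
    refine ⟨?_, hs⟩
    rw [pullback_factors_iff, ← hy]
    exact Subobject.factors_of_factors_right _ h1

/-- Compatibility of preimage along an epi with images under a commuting pair of maps. -/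
lemma pullback_img_of_comm {X' X : C} (f : X' ⟶ X) [Epi f] (c' : X' ⟶ X') (c : X ⟶ X)
    (hc : c' ≫ f = f ≫ c) (U : Subobject X) :
    (Subobject.pullback f).obj (img c U) =
      img c' ((Subobject.pullback f).obj U) ⊔ kernelSubobject f := by
  rw [← pullback_img f, img_comp, hc, ← img_comp, img_pullback_of_epi]

lemma kernelSubobject_le_pullback {X Y : C} (f : X ⟶ Y) (T : Subobject Y) :
    kernelSubobject f ≤ (Subobject.pullback f).obj T := by
  rw [← pullback_bot]
  exact pullback_mono f bot_le

lemma pullback_sup_of_epi {X Y : C} (f : X ⟶ Y) [Epi f] (T T' : Subobject Y) :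
    (Subobject.pullback f).obj (T ⊔ T') =
      (Subobject.pullback f).obj T ⊔ (Subobject.pullback f).obj T' := by
  apply le_antisymm
  · have h : T ⊔ T' = img f ((Subobject.pullback f).obj T ⊔ (Subobject.pullback f).obj T') := by
      rw [img_sup, img_pullback_of_epi, img_pullback_of_epi]
    rw [h, pullback_img]
    apply sup_le le_rfl
    exact (kernelSubobject_le_pullback f T).trans le_sup_left
  · exact sup_le (pullback_mono f le_sup_left) (pullback_mono f le_sup_right)

end Groth.Agent.Lib.Helper13.SubLat
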