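import Mathlib.Data.Fin.Tuple.NatAntidiagonal
import Mathlib.Algebra.Order.Group.PiLex
import Mathlib.RingTheory.Ideal.Operations
import Groth.Prelude.Def_ARSys
import Groth.Agent.Lib.Helper13.ARSysBasic
import Groth.Agent.Lib.Helper13.ARSysLin
import Groth.Agent.Lib.Helper13.SubLat
import Groth.Agent.Lib.Helper13.OrderLat

/-!
# The strict graded object of a `J`-adic system is Noetherian (Hilbert basis, lattice form)
-/

set_option autoImplicit false
universe w v u
open CategoryTheory CategoryTheory.Limits Opposite ARSys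

namespace Groth.Agent.Lib.Helper13.ARSysGr

open Groth.Agent.Lib.Helper13.ARSysBasic Groth.Agent.Lib.Helper13.ARSysLin
open Groth.Agent.Lib.Helper13.SubLat Groth.Agent.Lib.Helper13.OrderLat
open Groth.Agent.Lib.Helper89.SubobjectModular

section Monomials

variable {A : Type w} [CommRing A] {r : ℕ} (a : Fin r → A)

/-- The monomial `a^α`. -/
def mon (α : Fin r → ℕ) : A := ∏ i, a i ^ α i

lemma mon_add (α β : Fin r → ℕ) : mon a (α + β) = mon a α * mon a β := by
  simp only [mon, Pi.add_apply, pow_add, Finset.prod_mul_distrib]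

lemma mon_zero : mon a (0 : Fin r → ℕ) = 1 := by
  simp [mon]

lemma mon_single (i : Fin r) : mon a (Pi.single i 1) = a i := by
  classical
  simp only [mon]
  rw [Finset.prod_eq_single i]
  · simp
  · intro j _ hj
    simp [Pi.single_eq_of_ne hj]
  · intro h; exact absurd (Finset.mem_univ i) h

lemma mon_mem {J : Ideal A} (ha : ∀ i, a i ∈ J) (α : Fin r → ℕ) : mon a α ∈ J ^ (∑ i, α i) := by
  rw [mon, ← Finset.prod_pow_eq_pow_sum]
  exact Ideal.prod_mem_prod (fun i _ => Ideal.pow_mem_pow (ha i) _)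

lemma pow_le_span_mon (q : ℕ) :
    Ideal.span (Set.range a) ^ q ≤
      Ideal.span {x | ∃ α : Fin r → ℕ, ∑ i, α i = q ∧ mon a α = x} := by
  induction q with
  | zero =>
    rw [pow_zero, Ideal.one_eq_top]
    have : (1 : A) ∈ Ideal.span {x | ∃ α : Fin r → ℕ, ∑ i, α i = 0 ∧ mon a α = x} :=
      Ideal.subset_span ⟨0, by simp, mon_zero a⟩
    rw [(Ideal.eq_top_iff_one _).2 this]
  | succ q ih =>
    rw [pow_succ]
    refine (Ideal.mul_mono_left ih).trans ?_
    rw [Ideal.span_mul_span']
    apply Ideal.span_mono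
    rintro _ ⟨x, ⟨α, hα, rfl⟩, _, ⟨i, rfl⟩, rfl⟩
    refine ⟨α + Pi.single i 1, ?_, ?_⟩
    · simp only [Pi.add_apply, Finset.sum_add_distrib, hα]
      congr 1
      rw [Finset.sum_eq_single i]
      · simp
      · intro j _ hj; simp [Pi.single_eq_of_ne hj]
      · intro h; exact absurd (Finset.mem_univ i) h
    · rw [mon_add, mon_single]

/-- Monomials of degree `q`, as a finite set of elements of the lexicographic order. -/
def lexAnti (r q : ℕ) : Finset (Lex (Fin r → ℕ)) :=
  (Finset.Nat.antidiagonalTuple r q).map toLex.toEmbedding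

lemma mem_lexAnti {r q : ℕ} (β : Lex (Fin r → ℕ)) : β ∈ lexAnti r q ↔ ∑ i, (ofLex β) i = q := by
  simp only [lexAnti, Finset.mem_map, Equiv.coe_toEmbedding, Finset.Nat.mem_antidiagonalTuple]
  constructor
  · rintro ⟨x, hx, rfl⟩; simpa using hx
  · intro h; exact ⟨ofLex β, h, by simp⟩

lemma toLex_add_lt_iff (β α γ : Fin r → ℕ) :
    toLex (β + γ) < toLex (α + γ) ↔ toLex β < toLex α := by
  rw [toLex_add, toLex_add]
  exact add_lt_add_iff_right _

end Monomials

section Push

variable {C : Type u} [Category.{v} C] [Abelian C] {A : Type w} [CommRing A] [Linear A C]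

/-- `S ↦ c · tr⁻¹(S)`, from level `q` to level `m ≥ q`. -/
noncomputable def push (X : PS C) (c : A) {q m : ℕ} (h : q ≤ m) (S : Subobject (X.obj (op q))) :
    Subobject (X.obj (op m)) :=
  img (c • 𝟙 _) ((Subobject.pullback (tr X h)).obj S)

/-- The right adjoint of `push`: `T ↦ tr((c·)⁻¹ T)`. -/
noncomputable def pull (X : PS C) (c : A) {q m : ℕ} (h : q ≤ m) (T : Subobject (X.obj (op m))) :
    Subobject (X.obj (op q)) :=
  img (tr X h) ((Subobject.pullback (c • 𝟙 _)).obj T)

variable {J : Ideal A} {X : PS C}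

lemma push_mono (c : A) {q m : ℕ} (h : q ≤ m) {S S' : Subobject (X.obj (op q))} (hS : S ≤ S') :
    push X c h S ≤ push X c h S' :=
  img_mono _ (pullback_mono _ hS)

lemma pull_mono (c : A) {q m : ℕ} (h : q ≤ m) {T T' : Subobject (X.obj (op m))} (hT : T ≤ T') :
    pull X c h T ≤ pull X c h T' :=
  img_mono _ (pullback_mono _ hT)

lemma epi_tr_of_isAdic (hX : IsAdic J X) {n m : ℕ} (h : n ≤ m) : Epi (tr X h) :=
  isQuot_epi (hX.2 n m h)

/-- `c · ker(X_m ⟶ X_k) = 0` when `c ∈ J^p` and `m ≤ p + k`. -/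
lemma img_smul_kernel (hX : IsAdic J X) {k m p : ℕ} (h : k ≤ m) (hm : m ≤ p + k) {c : A}
    (hc : c ∈ J ^ p) :
    img (c • 𝟙 (X.obj (op m))) (kernelSubobject (tr X h)) = ⊥ := by
  rw [img_eq_bot_iff]
  have h1 : InI (J ^ (k + 1)) (kernelSubobject (tr X h)).arrow := by
    rw [← isQuot_comp_eq_zero_iff (hX.2 k m h)]
    exact kernelSubobject_arrow_comp _
  apply h1
  intro b hb
  rw [smul_smul]
  apply hX.1 m
  have : b * c ∈ J ^ (k + 1 + p) := by
    rw [pow_add]; exact Ideal.mul_mem_mul hb hc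
  exact Ideal.pow_le_pow_right (by omega) this

lemma push_bot (hX : IsAdic J X) {q m p : ℕ} (h : q ≤ m) (hm : m ≤ p + q) {c : A}
    (hc : c ∈ J ^ p) : push X c h ⊥ = ⊥ := by
  rw [push, pullback_bot, img_smul_kernel hX h hm hc]

lemma push_sup (hX : IsAdic J X) (c : A) {q m : ℕ} (h : q ≤ m) (S S' : Subobject (X.obj (op q))) :
    push X c h (S ⊔ S') = push X c h S ⊔ push X c h S' := by
  have := epi_tr_of_isAdic hX h
  rw [push, pullback_sup_of_epi, img_sup]
  rfl

lemma push_finset_sup (hX : IsAdic J X) {q m p : ℕ} (h : q ≤ m) (hm : m ≤ p + q) {c : A}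
    (hc : c ∈ J ^ p) {ι : Type*} (s : Finset ι) (E : ι → Subobject (X.obj (op q))) :
    push X c h (s.sup E) = s.sup (fun i => push X c h (E i)) := by
  classical
  induction s using Finset.induction_on with
  | empty => simp [push_bot hX h hm hc]
  | insert a s _ ih => rw [Finset.sup_insert, Finset.sup_insert, push_sup hX, ih]

/-- Galois connection between `push` and `pull`. -/
lemma push_le_iff (hX : IsAdic J X) {q m p : ℕ} (h : q ≤ m) (hm : m ≤ p + q) {c : A}
    (hc : c ∈ J ^ p) (S : Subobject (X.obj (op q))) (T : Subobject (X.obj (op m))) :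
    push X c h S ≤ T ↔ S ≤ pull X c h T := by
  have := epi_tr_of_isAdic hX h
  rw [push, img_le_iff]
  constructor
  · intro h1
    rw [← img_pullback_of_epi (tr X h) S]
    exact img_mono _ h1
  · intro h1
    refine (pullback_mono (tr X h) h1).trans ?_
    rw [pull, pullback_img]
    apply sup_le le_rfl
    rw [← img_le_iff, img_smul_kernel hX h hm hc]
    exact bot_le

lemma push_pull_le (hX : IsAdic J X) {q m p : ℕ} (h : q ≤ m) (hm : m ≤ p + q) {c : A}
    (hc : c ∈ J ^ p) (T : Subobject (X.obj (op m))) : push X c h (pull X c h T) ≤ T :=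
  (push_le_iff hX h hm hc _ _).2 le_rfl

lemma push_top (c : A) {q m : ℕ} (h : q ≤ m) :
    push X c h ⊤ = imageSubobject (c • 𝟙 (X.obj (op m))) := by
  rw [push, Subobject.pullback_top, img_top]

/-- `push (pull T) = T ⊓ push ⊤`. -/
lemma push_pull (hX : IsAdic J X) {q m p : ℕ} (h : q ≤ m) (hm : m ≤ p + q) {c : A}
    (hc : c ∈ J ^ p) (T : Subobject (X.obj (op m))) :
    push X c h (pull X c h T) = T ⊓ push X c h ⊤ := by
  rw [push_top, push, pull, pullback_img, img_sup, img_pullback, img_smul_kernel hX h hm hc,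
    sup_bot_eq]

/-- Composition of two `push`es. -/
lemma push_push (hX : IsAdic J X) {q m n p' : ℕ} (h : q ≤ m) (h' : m ≤ n) (hn : n ≤ p' + m)
    (c : A) {c' : A} (hc' : c' ∈ J ^ p') (S : Subobject (X.obj (op q))) :
    push X c' h' (push X c h S) = push X (c' * c) (h.trans h') S := by
  have := epi_tr_of_isAdic hX h'
  have hcomm : (c • 𝟙 (X.obj (op n))) ≫ tr X h' = tr X h' ≫ (c • 𝟙 (X.obj (op m))) := by
    rw [smul_id_comp, comp_smul_id]
  rw [push, push, pullback_img_of_comm (tr X h') _ _ hcomm, img_sup,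
    img_smul_kernel hX h' hn hc', sup_bot_eq, img_comp, ← Subobject.pullback_comp, tr_comp, push]
  congr 1
  rw [smul_id_comp, smul_smul, mul_comm]

end Push

section Graded

variable {C : Type u} [Category.{v} C] [Abelian C] {A : Type w} [CommRing A] [Linear A C]
variable {J : Ideal A} {X : PS C} {r : ℕ} (a : Fin r → A)

/-- The subobject `a^α · X_q` of `X_q`. -/
noncomputable def Emon (X : PS C) (q : ℕ) (α : Fin r → ℕ) : Subobject (X.obj (op q)) :=
  push X (mon a α) (Nat.zero_le q) ⊤

/-- The sum of `a^β X_q` over monomials `β` of degree `q` lexicographically smaller than `α`. -/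
noncomputable def Fil (X : PS C) (q : ℕ) (α : Fin r → ℕ) : Subobject (X.obj (op q)) :=
  (ltFilter (lexAnti r q) (toLex α)).sup (fun β => Emon a X q (ofLex β))

lemma Emon_le_Fil (q : ℕ) (β α : Fin r → ℕ) (hβ : ∑ i, β i = q) (hlt : toLex β < toLex α) :
    Emon a X q β ≤ Fil a X q α := by
  have hmem : toLex β ∈ ltFilter (lexAnti r q) (toLex α) := by
    rw [mem_ltFilter, mem_lexAnti]
    exact ⟨by simpa using hβ, hlt⟩
  have := Finset.le_sup (f := fun β => Emon a X q (ofLex β)) hmem
  simpa [Fil] using this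

/-- Leading coefficients of a graded family `N` along the monomial `α`, computed in degree `q`. -/
noncomputable def LTq (N : (q : ℕ) → Subobject (X.obj (op q))) (α : Fin r → ℕ) (q : ℕ) :
    Subobject (X.obj (op 0)) :=
  pull X (mon a α) (Nat.zero_le q) (N q ⊔ Fil a X q α)

lemma LTq_mono_left {N N' : (q : ℕ) → Subobject (X.obj (op q))} (h : N ≤ N') (α : Fin r → ℕ)
    (q : ℕ) : LTq a N α q ≤ LTq a N' α q :=
  pull_mono _ _ (sup_le_sup_right (h q) _)

/-- A subobject inside `J^q X_q` lies in the sum of the `a^α X_q`, `|α| = q`. -/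
lemma le_sup_Emon (hJ : J = Ideal.span (Set.range a)) (q : ℕ) (T : Subobject (X.obj (op q)))
    (hT : InI (J ^ q) T.arrow) :
    T ≤ (lexAnti r q).sup (fun β => Emon a X q (ofLex β)) := by
  set E := (lexAnti r q).sup (fun β => Emon a X q (ofLex β)) with hE
  apply Subobject.le_of_factors
  have hk : HomKilledBy (J ^ q) (cokernel.π E.arrow) := by
    intro b hb
    have hb' := pow_le_span_mon a q (hJ ▸ hb)
    clear hb
    induction hb' using Submodule.span_induction with
    | mem x hx =>
      obtain ⟨α, hα, rfl⟩ := hx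
      have h1 : Emon a X q α ≤ E := by
        have : toLex α ∈ lexAnti r q := by rw [mem_lexAnti]; simpa using hα
        exact Finset.le_sup (f := fun β => Emon a X q (ofLex β)) this
      have h2 : E.Factors (mon a α • 𝟙 (X.obj (op q))) := by
        apply Subobject.factors_of_le _ h1
        rw [Emon, push_top]
        have := imageSubobject_factors_comp_self (mon a α • 𝟙 (X.obj (op q))) (𝟙 _)
        rwa [Category.id_comp] at this
      rw [← smul_id_comp, ← E.factorThru_arrow _ h2, Category.assoc, cokernel.condition, comp_zero]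
    | zero => rw [zero_smul]
    | add x y _ _ hx hy => rw [add_smul, hx, hy, add_zero]
    | smul c x _ hx => rw [smul_eq_mul, mul_smul, hx, smul_zero]
  have h0 : T.arrow ≫ cokernel.π E.arrow = 0 := hT _ hk
  rw [← Abelian.monoLift_comp E.arrow T.arrow h0]
  exact E.factors_comp_arrow _

lemma inI_Fsub (hX : IsAdic J X) (q : ℕ) : InI (J ^ q) (Fsub X q q).arrow := by
  cases q with
  | zero => rw [pow_zero, Ideal.one_eq_top]; exact inI_top _
  | succ k =>
    have : Fsub X (k + 1) (k + 1) = kernelSubobject (tr X (Nat.le_succ k)) := by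
      simp only [Fsub]
      rw [dif_pos (Nat.le_succ k)]
    rw [this, ← isQuot_comp_eq_zero_iff (hX.2 k (k + 1) (Nat.le_succ k))]
    exact kernelSubobject_arrow_comp _

lemma Fsub_le_sup_Emon (hX : IsAdic J X) (hJ : J = Ideal.span (Set.range a)) (q : ℕ) :
    Fsub X q q ≤ (lexAnti r q).sup (fun β => Emon a X q (ofLex β)) :=
  le_sup_Emon a hJ q _ (inI_Fsub hX q)

/-- `c · tr⁻¹(a^β X_q) = (c a^β) X_m`. -/
lemma push_Emon (hX : IsAdic J X) {q m p : ℕ} (h : q ≤ m) (hm : m ≤ p + q) {c : A}
    (hc : c ∈ J ^ p) (β γ : Fin r → ℕ) (hcγ : c = mon a γ) :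
    push X c h (Emon a X q β) = Emon a X m (β + γ) := by
  rw [Emon, push_push hX (Nat.zero_le q) h hm _ hc, Emon, mon_add, hcγ, mul_comm]

/-- Monotonicity of leading coefficients under multiplication by a monomial. -/
lemma LTq_le (hX : IsAdic J X) (ha : ∀ i, a i ∈ J) {N : (q : ℕ) → Subobject (X.obj (op q))}
    (hN : IsGrSub J X N) (α γ : Fin r → ℕ) (q p m : ℕ) (hq : ∑ i, α i = q) (hp : ∑ i, γ i = p)
    (hm : m = p + q) : LTq a N α q ≤ LTq a N (α + γ) m := by
  subst hm
  have hγ : mon a γ ∈ J ^ p := hp ▸ mon_mem a ha γ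
  have hαγ : mon a (α + γ) ∈ J ^ (p + q) := by
    have := mon_mem a ha (α + γ)
    have hs : ∑ i, (α + γ) i = p + q := by
      simp only [Pi.add_apply, Finset.sum_add_distrib, hq, hp]; omega
    rwa [hs] at this
  have hα : mon a α ∈ J ^ q := hq ▸ mon_mem a ha α
  rw [LTq, LTq, ← push_le_iff hX (Nat.zero_le (p + q)) (by omega) hαγ]
  have h1 : push X (mon a (α + γ)) (Nat.zero_le (p + q))
      (pull X (mon a α) (Nat.zero_le q) (N q ⊔ Fil a X q α)) =
      push X (mon a γ) (Nat.le_add_left q p) (push X (mon a α) (Nat.zero_le q)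
        (pull X (mon a α) (Nat.zero_le q) (N q ⊔ Fil a X q α))) := by
    rw [push_push hX (Nat.zero_le q) (Nat.le_add_left q p) le_rfl _ hγ, mon_add, mul_comm]
  rw [h1]
  refine (push_mono _ _ (push_pull_le hX (Nat.zero_le q) (by omega) hα _)).trans ?_
  rw [push_sup hX]
  apply sup_le_sup
  · exact hN.2 p q (mon a γ) hγ
  · rw [Fil, push_finset_sup hX (Nat.le_add_left q p) le_rfl hγ]
    apply Finset.sup_le
    intro β hβ
    rw [mem_ltFilter, mem_lexAnti] at hβ
    rw [push_Emon a hX (Nat.le_add_left q p) le_rfl hγ (ofLex β) γ rfl]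
    apply Emon_le_Fil
    · simp only [Pi.add_apply, Finset.sum_add_distrib, hβ.1, hp]; omega
    · rw [toLex_add_lt_iff, toLex_ofLex]
      exact hβ.2

/-- Two nested graded families with the same leading coefficients in degree `q` agree in
degree `q`. -/
lemma le_of_LTq_eq (hX : IsAdic J X) (ha : ∀ i, a i ∈ J) (hJ : J = Ideal.span (Set.range a))
    {N N' : (q : ℕ) → Subobject (X.obj (op q))} (hNN' : N ≤ N') (q : ℕ)
    (hN' : N' q ≤ Fsub X q q)
    (hLT : ∀ α : Fin r → ℕ, ∑ i, α i = q → LTq a N' α q ≤ LTq a N α q) : N' q ≤ N q := by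
  refine le_of_filtration (fun β => Emon a X q (ofLex β)) (N q) (N' q) (hNN' q) (lexAnti r q)
    (hN'.trans (Fsub_le_sup_Emon a hX hJ q)) ?_
  intro β hβ
  rw [mem_lexAnti] at hβ
  have hmem : mon a (ofLex β) ∈ J ^ q := hβ ▸ mon_mem a ha (ofLex β)
  have h1 := hLT (ofLex β) hβ
  simp only [LTq, Fil, toLex_ofLex] at h1
  have h2 := push_mono (mon a (ofLex β)) (Nat.zero_le q) h1
  rw [push_pull hX (Nat.zero_le q) (by omega) hmem] at h2
  exact h2.trans (push_pull_le hX (Nat.zero_le q) (by omega) hmem _)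
  

end Graded

section Main

variable {C : Type u} [Category.{v} C] [Abelian C] {A : Type w} [CommRing A] [Linear A C]

/-- Hilbert basis theorem for the strict graded object of a `J`-adic system with Noetherian
degree-zero term, `J` finitely generated: increasing sequences of graded submodules are
stationary. -/
theorem grs_noetherian (J : Ideal A) (hJ : J.FG) (X : PS C) (hX : IsAdic J X)
    [IsNoetherianObject (X.obj (op 0))]
    (M : ℕ → (q : ℕ) → Subobject (X.obj (op q))) (hM : ∀ i : ℕ, IsGrSub J X (M i))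
    (hmono : Monotone M) :
    ∃ i₀ : ℕ, ∀ i : ℕ, i₀ ≤ i → M i = M i₀ := by
  obtain ⟨r, a, ha⟩ := Submodule.fg_iff_exists_fin_generating_family.1 hJ
  have hJ' : J = Ideal.span (Set.range a) := ha.symm
  have haJ : ∀ i, a i ∈ J := fun i => by
    rw [hJ']; exact Ideal.subset_span ⟨i, rfl⟩
  -- leading coefficient maps
  let LTf : ℕ → ((Fin r → ℕ) →o Subobject (X.obj (op 0))) := fun i =>
    ⟨fun α => LTq a (M i) α (∑ j, α j), by
      intro α β hαβ
      obtain ⟨γ, rfl⟩ := exists_add_of_le hαβ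
      refine LTq_le a hX haJ (hM i) α γ _ _ _ rfl rfl ?_
      simp only [Pi.add_apply, Finset.sum_add_distrib]; omega⟩
  have hLTf : Monotone LTf := by
    intro i j hij α
    exact LTq_mono_left a (hmono hij) α _
  haveI : WellFoundedGT ((Fin r → ℕ) →o Subobject (X.obj (op 0))) := wellFoundedGT_orderHom
  obtain ⟨i₀, hi₀⟩ := WellFoundedGT.monotone_chain_condition ⟨LTf, hLTf⟩
  refine ⟨i₀, fun i hi => ?_⟩
  funext q
  apply le_antisymm
  · refine le_of_LTq_eq a hX haJ hJ' (hmono hi) q ((hM i).1 q) ?_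
    intro α hα
    have h1 : LTf i₀ α = LTf i α := by
      have := hi₀ i hi
      exact congrArg (fun f => f α) this
    subst hα
    exact h1.ge
  · exact hmono hi q

end Main

end Groth.Agent.Lib.Helper13.ARSysGr
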