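/-
SB for helper77's backup route to S6825: an `A`-algebra map from an étale `A`-algebra to the residue
field of a Noetherian local ring `A` lifts to the completion of `A`.
Author: helper13
-/
import Mathlib
import Groth.Agent.Lib.Helper58.HenselPairUniq

set_option autoImplicit false

universe u

namespace Groth.Agent.Lib.Helper13.ArtinSB

open Groth.Agent.Lib.Helper58.HenselPair

theorem exists_lift_to_completion {A : Type u} [CommRing A] [IsLocalRing A] [IsNoetherianRing A] {R' : Type u} [CommRing R'] [Algebra A R'] [Algebra.Etale A R'] (σ' : R' →ₐ[A] IsLocalRing.ResidueField A) : ∃ ψ : R' →ₐ[A] AdicCompletion (IsLocalRing.maximalIdeal A) A, ∀ x : R', AdicCompletion.evalOneₐ (IsLocalRing.maximalIdeal A) (ψ x) = σ' x := by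
  set m := IsLocalRing.maximalIdeal A with hm
  have fg : m.FG := m.fg_of_isNoetherianRing
  let Λ := AdicCompletion m A
  let J : Ideal Λ := m.map (algebraMap A Λ)
  have : IsAdicComplete J Λ := AdicCompletion.isAdicComplete_self m fg
  have : HenselianRing Λ J := inferInstance
  have hker : RingHom.ker (AdicCompletion.evalOneₐ m) = J :=
    AdicCompletion.ker_evalOneₐ_eq_map m fg
  -- the iso `Λ ⧸ J ≃ₐ[A] A ⧸ m`
  let e₁ : (Λ ⧸ RingHom.ker (AdicCompletion.evalOneₐ m)) ≃ₐ[A] A ⧸ m :=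
    Ideal.quotientKerAlgEquivOfSurjective (AdicCompletion.evalOneₐ_surjective m)
  let e₂ : (Λ ⧸ J) ≃ₐ[A] (Λ ⧸ RingHom.ker (AdicCompletion.evalOneₐ m)) :=
    Ideal.quotientEquivAlgOfEq A hker.symm
  let e : (Λ ⧸ J) ≃ₐ[A] A ⧸ m := e₂.trans e₁
  have he : ∀ y : Λ, e (Ideal.Quotient.mk J y) = AdicCompletion.evalOneₐ m y := by
    intro y
    simp [e, e₁, e₂]
  let σP : R' →ₐ[A] Λ ⧸ J := (e.symm : (A ⧸ m) →ₐ[A] Λ ⧸ J).comp σ'
  obtain ⟨τ, hτ⟩ := exists_etale_lift_rel (R := A) (S := R') (C := Λ) J σP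
  refine ⟨τ, fun x => ?_⟩
  have h1 := AlgHom.congr_fun hτ x
  rw [← he]
  have h2 : (Ideal.Quotient.mk J (τ x) : Λ ⧸ J) = σP x := h1
  rw [h2]
  show e (e.symm (σ' x)) = σ' x
  exact e.apply_symm_apply _

end Groth.Agent.Lib.Helper13.ArtinSB
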