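import Groth.Agent.Lib.Helper13.KInjDerAdj
import Mathlib.CategoryTheory.Localization.LocallySmall

set_option autoImplicit false
universe w v u
open CategoryTheory Category Limits

namespace Groth.Agent.Lib.Helper13.DerSmall

open DerivedCategory Groth.Agent.Lib.Helper13.KInjDerAdj

variable (A : Type u) [Category.{v} A] [Abelian A] [IsGrothendieckAbelian.{v} A]

/-- The derived category of a Grothendieck abelian category is locally small. -/
instance locallySmall_derivedCategory [HasDerivedCategory.{w} A] :
    LocallySmall.{v} (DerivedCategory A) where
  hom_small X Y := by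
    let K := (Q (C := A)).objPreimage X
    let e : Q.obj K ≅ X := Q.objObjPreimageIso X
    let I := repI Y
    let e' : Q.obj I ≅ Y := repIso Y
    have h1 : Small.{v} (Q.obj K ⟶ Q.obj I) :=
      small_of_surjective (f := fun φ : K ⟶ I => Q.map φ)
        (fun φ => Groth.Agent.Lib.Helper84.KInj.exists_Q_map_eq K I φ)
    exact small_of_injective (f := fun f : X ⟶ Y => e.hom ≫ f ≫ e'.inv)
      (fun f g hfg => by simpa using hfg)

/-- A derived category with small morphism types. -/
@[instance_reducible]
noncomputable def hasDerivedCategorySmall : HasDerivedCategory.{v} A := by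
  letI := HasDerivedCategory.standard A
  have : LocallySmall.{v} (DerivedCategory A) := inferInstance
  exact (MorphismProperty.hasLocalizationOfLocallySmall'
    (HomologicalComplex.quasiIso A (ComplexShape.up ℤ)) (DerivedCategory.Q (C := A)) :
      MorphismProperty.HasLocalization.{v} (HomologicalComplex.quasiIso A (ComplexShape.up ℤ)))

end Groth.Agent.Lib.Helper13.DerSmall
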