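import Groth.Agent.Lib.Helper13.BvdB1
import Groth.Agent.Lib.Helper89.BrownCompact
import Groth.Agent.Lib.Helper89.CompactFactor
import Groth.Agent.Lib.Helper89.Tower

/-!
# Compact objects of a compactly generated triangulated category are essentially small (helper13)
-/

set_option autoImplicit false
universe v u
open CategoryTheory CategoryTheory.Limits CategoryTheory.Pretriangulated ZeroObject

namespace Groth.Agent.Lib.Helper13.BvdB2

open Groth.Agent.Lib.Helper40.Cpt Helper89.Compact Helper89.Tower Helper89.CompactFactor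

variable {D : Type u} [Category.{v} D] [Preadditive D] [HasZeroObject D] [HasShift D ℤ]
  [∀ n : ℤ, (shiftFunctor D n).Additive] [Pretriangulated D] [IsTriangulated D]
  [HasCoproducts.{v} D]

/-- Neeman: compact objects lie in the thick closure of a family of compact generators. -/
theorem triangEnvelope_of_isCompact {ι : Type v} [Nonempty ι] (E : ι → D)
    (hc : ∀ i, CohDer.IsCompactObject (E i)) (hgen : CohDer.Generates E)
    (X : D) (hX : CohDer.IsCompactObject X) :
    ObjectProperty.triangEnvelope (fun Y : D => ∃ i, Y = E i) X := by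
  haveI : HasColimitsOfShape (Discrete ℕ) D := Helper89.BrownCompact.hasCoproductsNat
  let G : ι × ℤ → D := fun p => (E p.1)⟦p.2⟧
  have hG : ∀ p, CohDer.IsCompactObject (G p) := fun p => isCompact_shift (hc p.1) p.2
  obtain ⟨K, f, t, hft, h0, hstep, P1, P2⟩ := exists_tower G X
  obtain ⟨L, ιL, hL⟩ := exists_hocolim K f
  obtain ⟨τ, hτ⟩ := exists_hocolim_map K f t hft L ιL hL
  have hbij := hocolim_map_bijective G hG K f t P1 P2 L ιL hL τ hτ
  have hiso : IsIso τ := isIso_of_bijective_on_shifts E hgen τ
    (fun i m g => (hbij (i, m)).1 g) (fun i m g' hg' => (hbij (i, m)).2 g' hg')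
  obtain ⟨n, a, ha⟩ := compact_factor_hocolim_seq K f L ιL hL hX (inv τ)
  have h0' : ∃ (κ : Type v) (a : κ → ι) (m : κ → ℤ),
      Nonempty (K 0 ≅ ∐ (fun k => (shiftFunctor D (m k)).obj (E (a k)))) := by
    obtain ⟨A, k, ⟨e⟩⟩ := h0
    exact ⟨A, fun a => (k a).1, fun a => (k a).2, ⟨e⟩⟩
  have hstep' : ∀ n, ∃ (κ : Type v) (a : κ → ι) (m : κ → ℤ)
      (y : (∐ fun k => (shiftFunctor D (m k)).obj (E (a k))) ⟶ K n)
      (z : K (n + 1) ⟶ (shiftFunctor D (1 : ℤ)).obj
        (∐ fun k => (shiftFunctor D (m k)).obj (E (a k)))),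
      Triangle.mk y (f n) z ∈ distinguishedTriangles := by
    intro n
    obtain ⟨A, k, y, z, hT⟩ := hstep n
    exact ⟨A, fun a => (k a).1, fun a => (k a).2, y, z, hT⟩
  obtain ⟨s, E', g, h, hE', hgh⟩ := factor E hc K f h0' hstep' n X hX a
  have hE'' : ObjectProperty.triangEnvelope (fun Y : D => ∃ i, Y = E i) E' :=
    ObjectProperty.monotone_triangEnvelope (fun Y ⟨i, _, hY⟩ => ⟨i, hY⟩) _ hE'
  let r : Retract X E' :=
    { i := g
      r := h ≫ ιL n ≫ τ
      retract := by rw [← Category.assoc, hgh, ← Category.assoc, ha, IsIso.inv_hom_id] }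
  exact ObjectProperty.IsStableUnderRetracts.of_retract r hE''

/-- The compact objects of a compactly generated triangulated category form an essentially small
class: there is a small family containing every compact object up to isomorphism. -/
theorem exists_small_compacts (hD : CohDer.IsCompactlyGenerated D) :
    ∃ (T : Type v) (ob : T → D), (∀ t, CohDer.IsCompactObject (ob t)) ∧
      ∀ X : D, CohDer.IsCompactObject X → ∃ t, Nonempty (X ≅ ob t) := by
  obtain ⟨ι, E, hc, hgen⟩ := hD
  -- add a zero object to the family so that it is nonempty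
  let E' : Option ι → D := fun o => o.elim 0 E
  have hc' : ∀ o, CohDer.IsCompactObject (E' o) := by
    rintro (_ | i)
    · exact isCompact_of_isZero (isZero_zero D)
    · exact hc i
  have hgen' : CohDer.Generates E' := fun K hK => hgen K (fun i n f => hK (some i) n f)
  let Pc : ObjectProperty D := fun X => CohDer.IsCompactObject X
  have hle : Pc ≤ ObjectProperty.triangEnvelope (ObjectProperty.ofObj E') := by
    intro X hX
    have := triangEnvelope_of_isCompact E' hc' hgen' X hX
    refine ObjectProperty.monotone_triangEnvelope ?_ _ this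
    rintro Y ⟨o, rfl⟩
    exact ObjectProperty.ofObj_apply E' o
  have hes : ObjectProperty.EssentiallySmall.{v} (ObjectProperty.triangEnvelope
      (ObjectProperty.ofObj E')) :=
    BvdB1.essentiallySmall_triangEnvelope.{v} _
  have hes' : ObjectProperty.EssentiallySmall.{v} Pc := ObjectProperty.EssentiallySmall.of_le hle
  obtain ⟨Q, hQs, hQ₁, hQ₂⟩ := ObjectProperty.EssentiallySmall.exists_small_le.{v} Pc
  have : Small.{v} (Subtype Q) := hQs
  refine ⟨Shrink.{v} (Subtype Q), fun t => ((equivShrink (Subtype Q)).symm t).1, ?_, ?_⟩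
  · intro t
    exact hQ₁ _ ((equivShrink (Subtype Q)).symm t).2
  · intro X hX
    obtain ⟨Y, hY, ⟨e⟩⟩ := hQ₂ X hX
    refine ⟨equivShrink (Subtype Q) ⟨Y, hY⟩, ⟨?_⟩⟩
    show X ≅ ((equivShrink (Subtype Q)).symm (equivShrink (Subtype Q) ⟨Y, hY⟩)).1
    rw [Equiv.symm_apply_apply]
    exact e

end Groth.Agent.Lib.Helper13.BvdB2
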