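import Groth.Agent.Lib.Helper89.SigmaExact2
import Groth.Agent.Lib.Helper89.Compact
import Mathlib.Algebra.Homology.DerivedCategory.KProjective
import Groth.Prelude.Def_CohDer

set_option autoImplicit false
set_option linter.unusedSectionVars false
universe w v u
open CategoryTheory Category Limits

namespace Groth.Agent.Lib.Helper13.DerCompactGen

open DerivedCategory HomologicalComplex ZeroObject

section General

variable {C : Type u} [Category.{v} C] [Abelian C] [HasDerivedCategory.{w} C]

/-- Every morphism in the derived category out of a K-projective complex is represented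
by a morphism of complexes. -/
lemma exists_Q_map_eq_of_isKProjective (K L : CochainComplex C ℤ) [K.IsKProjective]
    (φ : Q.obj K ⟶ Q.obj L) : ∃ f : K ⟶ L, Q.map f = φ := by
  obtain ⟨g, hg⟩ := (CochainComplex.IsKProjective.Qh_map_bijective K
    ((HomotopyCategory.quotient _ _).obj L)).2
    ((quotientCompQhIso C).hom.app K ≫ φ ≫ (quotientCompQhIso C).inv.app L)
  obtain ⟨f, rfl⟩ := (HomotopyCategory.quotient _ _).map_surjective g
  refine ⟨f, ?_⟩
  have h := quotientCompQhIso_hom_naturality f
  rw [hg] at h
  simp only [Category.assoc, Iso.inv_hom_id_app, Category.comp_id] at h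
  exact ((cancel_epi _).1 h).symm

/-- The stalk complex of `P` in degree `0`. -/
noncomputable abbrev stalk (P : C) : CochainComplex C ℤ :=
  (HomologicalComplex.single C (ComplexShape.up ℤ) 0).obj P

instance projective_stalk_X (P : C) [Projective P] (n : ℤ) : Projective ((stalk P).X n) := by
  by_cases h : n = 0
  · subst h
    exact Projective.of_iso (singleObjXSelf (ComplexShape.up ℤ) 0 P).symm inferInstance
  · exact (isZero_single_obj_X (ComplexShape.up ℤ) 0 P n h).projective

instance isKProjective_stalk (P : C) [Projective P] : (stalk P).IsKProjective :=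
  CochainComplex.isKProjective_of_projective (stalk P) 0

/-- The chain map out of a stalk complex determined by a cycle. -/
noncomputable def fromStalk {P : C} {Y : CochainComplex C ℤ} (z : P ⟶ Y.X 0)
    (hz : z ≫ Y.d 0 1 = 0) : stalk P ⟶ Y :=
  HomologicalComplex.mkHomFromSingle z (by
    intro j hj
    have : j = 1 := by simpa using hj.symm
    subst this
    exact hz)

@[simp]
lemma fromStalk_f {P : C} {Y : CochainComplex C ℤ} (z : P ⟶ Y.X 0)
    (hz : z ≫ Y.d 0 1 = 0) :
    (fromStalk z hz).f 0 = (singleObjXSelf (ComplexShape.up ℤ) 0 P).hom ≫ z := by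
  simp [fromStalk]

lemma fromStalk_ext {P : C} {Y : CochainComplex C ℤ} (f g : stalk P ⟶ Y)
    (h : f.f 0 = g.f 0) : f = g :=
  HomologicalComplex.from_single_hom_ext h

/-- If the stalk complex of a projective generator has no nonzero maps to `Q Y`, then
`H⁰ Y = 0`. -/
lemma isZero_homology_of_hom_eq_zero (P : C) [Projective P]
    (hg : ∀ M : C, (∀ f : P ⟶ M, f = 0) → IsZero M) (Y : CochainComplex C ℤ)
    (h : ∀ f : Q.obj (stalk P) ⟶ Q.obj Y, f = 0) : IsZero (Y.homology 0) := by
  apply hg
  intro f
  let z : P ⟶ Y.cycles 0 := Projective.factorThru f (Y.homologyπ 0)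
  have hz : z ≫ Y.homologyπ 0 = f := Projective.factorThru_comp f (Y.homologyπ 0)
  let φ : stalk P ⟶ Y := fromStalk (z ≫ Y.iCycles 0) (by simp)
  have hφ : HomologicalComplex.homologyMap φ 0 = 0 := by
    have h1 := (homologyFunctorFactors C 0).hom.naturality φ
    have h2 : Q.map φ = 0 := h _
    rw [Functor.comp_map, h2, Functor.map_zero, zero_comp] at h1
    exact (cancel_epi ((homologyFunctorFactors C 0).hom.app (stalk P))).1
      (h1.symm.trans comp_zero.symm)
  have h3 : (singleObjCyclesSelfIso (ComplexShape.up ℤ) 0 P).inv ≫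
      HomologicalComplex.cyclesMap φ 0 = z := by
    rw [← cancel_mono (Y.iCycles 0), assoc, HomologicalComplex.cyclesMap_i, fromStalk_f,
      ← assoc, ← assoc, assoc _ (iCycles _ _), ← singleObjCyclesSelfIso_hom, Iso.inv_hom_id,
      id_comp]
  rw [← hz, ← h3, assoc, ← HomologicalComplex.homologyπ_naturality, hφ, comp_zero, comp_zero]

lemma isZero_of_isZero_homology (K : DerivedCategory C)
    (hH : ∀ n : ℤ, IsZero ((DerivedCategory.homologyFunctor C n).obj K)) : IsZero K := by
  have : IsIso (0 : K ⟶ 0) := by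
    rw [DerivedCategory.isIso_iff]
    intro n
    have h0 : IsZero ((DerivedCategory.homologyFunctor C n).obj (0 : DerivedCategory C)) :=
      (DerivedCategory.homologyFunctor C n).map_isZero (isZero_zero _)
    exact ⟨⟨0, (hH n).eq_of_src _ _, h0.eq_of_src _ _⟩⟩
  exact IsZero.of_iso (isZero_zero _) (asIso (0 : K ⟶ 0))

/-- The stalk complex of a projective generator generates the derived category. -/
theorem generates_stalk (P : C) [Projective P]
    (hg : ∀ M : C, (∀ f : P ⟶ M, f = 0) → IsZero M) :
    CohDer.Generates (fun _ : PUnit.{w + 1} => (Q.obj (stalk P) : DerivedCategory C)) := by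
  intro K hK
  apply isZero_of_isZero_homology
  intro n
  have e := ((DerivedCategory.homologyFunctor C 0).shiftIso n 0 n (by omega)).app K
  refine IsZero.of_iso ?_ e.symm
  let Y := (Q (C := C)).objPreimage (K⟦n⟧)
  let eY : Q.obj Y ≅ K⟦n⟧ := Q.objObjPreimageIso _
  have h0 : IsZero (Y.homology 0) := isZero_homology_of_hom_eq_zero P hg Y (fun f => by
    have := hK PUnit.unit n (f ≫ eY.hom)
    rw [← cancel_mono eY.hom, this, zero_comp])
  exact IsZero.of_iso h0 ((DerivedCategory.homologyFunctor C 0).mapIso eY.symm ≪≫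
    (homologyFunctorFactors C 0).app Y)

end General

section Compact

open Groth.Agent.Lib.Helper40.Cpt Helper89.SigmaExact

variable {C : Type u} [Category.{v} C] [Abelian C] [EnoughInjectives C] [HasCoproducts.{v} C]
  [HasDerivedCategory.{v} C]

lemma finSum_Q_map_stalk (P : C) [Projective P] (hc : CohDer.IsCompactObject P)
    {ι : Type v} (Y : ι → CochainComplex C ℤ)
    (m : (Q.obj (stalk P) : DerivedCategory C) ⟶ Q.obj (sigmaCx Y)) :
    FinSum (Q.obj (stalk P)) (fun i => Q.map (sigmaCxι Y i)) m := by
  classical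
  obtain ⟨f, rfl⟩ := exists_Q_map_eq_of_isKProjective _ _ m
  let a : P ⟶ ∐ fun j => (Y j).X 0 := (singleObjXSelf (ComplexShape.up ℤ) 0 P).inv ≫ f.f 0
  obtain ⟨S, g, hg0, hg⟩ := finSum_of_compact hc _ a
  have ha : a ≫ (Limits.Sigma.map fun j => (Y j).d 0 1) = 0 := by
    have h1 : f.f 0 ≫ (sigmaCx Y).d 0 1 = 0 := by
      rw [f.comm 0 1, single_obj_d, zero_comp]
    show ((singleObjXSelf (ComplexShape.up ℤ) 0 P).inv ≫ f.f 0) ≫ (sigmaCx Y).d 0 1 = 0
    rw [assoc, h1, comp_zero]
  have hd : ∀ i, g i ≫ (Y i).d 0 1 = 0 := by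
    apply Helper89.Compact.finSum_inj' (fun j => (Y j).X 1) S (fun i => g i ≫ (Y i).d 0 1)
    · intro i hi
      show g i ≫ (Y i).d 0 1 = 0
      rw [hg0 i hi, zero_comp]
    · rw [← ha, hg, Preadditive.sum_comp]
      refine Finset.sum_congr rfl fun i _ => ?_
      rw [assoc, assoc, Limits.Sigma.ι_map]
  let φ : ∀ i, stalk P ⟶ Y i := fun i => fromStalk (g i) (hd i)
  have hf : f = ∑ i ∈ S, φ i ≫ sigmaCxι Y i := by
    apply fromStalk_ext
    have h2 : (∑ i ∈ S, φ i ≫ sigmaCxι Y i).f 0 =
        ∑ i ∈ S, (φ i ≫ sigmaCxι Y i).f 0 :=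
      (HomologicalComplex.eval C (ComplexShape.up ℤ) 0).map_sum _ S
    rw [h2]
    have h3 : f.f 0 = (singleObjXSelf (ComplexShape.up ℤ) 0 P).hom ≫ a := by
      show f.f 0 = (singleObjXSelf (ComplexShape.up ℤ) 0 P).hom ≫
        ((singleObjXSelf (ComplexShape.up ℤ) 0 P).inv ≫ f.f 0)
      rw [Iso.hom_inv_id_assoc]
    rw [h3, hg, Preadditive.comp_sum]
    refine Finset.sum_congr rfl fun i _ => ?_
    rw [HomologicalComplex.comp_f, fromStalk_f, assoc]
    rfl
  rw [hf, Functor.map_sum]
  simp only [Functor.map_comp]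
  exact FinSum.of_sum _ S (fun i => Q.map (φ i))

variable [HasCoproducts.{v} (DerivedCategory C)]

/-- The stalk complex of a compact projective object is compact in the derived category. -/
theorem isCompact_stalk (P : C) [Projective P] (hc : CohDer.IsCompactObject P) :
    CohDer.IsCompactObject (Q.obj (stalk P) : DerivedCategory C) := by
  apply isCompact_of_finSum
  intro ι X m
  let Y : ι → CochainComplex C ℤ := fun i => (Q (C := C)).objPreimage (X i)
  let θ : ∀ i, X i ≅ Q.obj (Y i) := fun i => (Q.objObjPreimageIso (X i)).symm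
  let θW : ∐ X ≅ Q.obj (sigmaCx Y) :=
    Limits.Sigma.mapIso θ ≪≫
      IsColimit.coconePointUniqueUpToIso (coproductIsCoproduct _) (isColimitCofanQ Y)
  refine finSum_transfer (Sigma.ι X) (fun i => Q.map (sigmaCxι Y i)) θ θW ?_ m
    (finSum_Q_map_stalk P hc Y _)
  intro i
  dsimp only [θW, Iso.trans_hom]
  rw [Limits.Sigma.ι_mapIso_hom_assoc]
  congr 1
  exact IsColimit.comp_coconePointUniqueUpToIso_hom (coproductIsCoproduct _)
    (isColimitCofanQ Y) ⟨i⟩

/-- If `C` has a compact projective generator, `D(C)` is compactly generated. -/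
theorem isCompactlyGenerated (P : C) [Projective P] (hc : CohDer.IsCompactObject P)
    (hg : ∀ M : C, (∀ f : P ⟶ M, f = 0) → IsZero M) :
    CohDer.IsCompactlyGenerated (DerivedCategory C) :=
  ⟨PUnit.{v + 1}, fun _ => Q.obj (stalk P), fun _ => isCompact_stalk P hc,
    generates_stalk P hg⟩

end Compact

section Module

open Groth.Agent.Lib.Helper40.Cpt

variable (R : Type v) [Ring R]

instance : Projective (ModuleCat.of R R : ModuleCat.{v} R) :=
  (IsProjective.iff_projective (R := R) (P := R)).1 inferInstance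

lemma isZero_of_hom_self_eq_zero (M : ModuleCat.{v} R)
    (h : ∀ f : (ModuleCat.of R R : ModuleCat.{v} R) ⟶ M, f = 0) : IsZero M := by
  have : Subsingleton M := by
    refine ⟨fun x y => ?_⟩
    have hx : ∀ z : M, z = 0 := by
      intro z
      have h1 := h (ModuleCat.ofHom (LinearMap.toSpanSingleton R M z))
      have h2 := congrArg (fun f => f.hom (1 : R)) h1
      simpa using h2
    rw [hx x, hx y]
  exact ModuleCat.isZero_of_subsingleton M

lemma isCompact_self : CohDer.IsCompactObject (ModuleCat.of R R : ModuleCat.{v} R) := by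
  classical
  refine isCompact_of_finSum (D := ModuleCat.{v} R) ?_
  intro ι X m
  let x : DirectSum ι (fun i => X i) := (ModuleCat.coprodIsoDirectSum.{v, v, v} X).hom (m.hom (1 : R))
  refine ⟨DFinsupp.support x,
    fun i => ModuleCat.ofHom (LinearMap.toSpanSingleton R (X i) (x i)), ?_, ?_⟩
  · intro i hi
    have : x i = 0 := by simpa [DFinsupp.mem_support_iff] using hi
    show ModuleCat.ofHom (LinearMap.toSpanSingleton R (X i) (x i)) = 0
    rw [this]
    ext
    simp
  · rw [← cancel_mono (ModuleCat.coprodIsoDirectSum.{v, v, v} X).hom, Preadditive.sum_comp]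
    apply ModuleCat.hom_ext
    apply LinearMap.ext_ring
    simp only [assoc, ModuleCat.ι_coprodIsoDirectSum_hom, ModuleCat.hom_sum, LinearMap.sum_apply,
      ModuleCat.hom_comp, LinearMap.coe_comp, Function.comp_apply, ModuleCat.hom_ofHom,
      LinearMap.toSpanSingleton_apply, one_smul, DirectSum.lof_eq_of]
    exact (DirectSum.sum_support_of x).symm

/-- The derived category of modules over a ring is compactly generated. -/
theorem isCompactlyGenerated_moduleCat [HasDerivedCategory.{v} (ModuleCat.{v} R)]
    [HasCoproducts.{v} (DerivedCategory (ModuleCat.{v} R))] :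
    CohDer.IsCompactlyGenerated (DerivedCategory (ModuleCat.{v} R)) :=
  isCompactlyGenerated (ModuleCat.of R R) (isCompact_self R) (isZero_of_hom_self_eq_zero R)

end Module

end Groth.Agent.Lib.Helper13.DerCompactGen
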