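import Groth.Agent.Lib.Helper13.ExtAcyc
import Groth.Agent.Lib.Helper13.DerCompactGen
import Groth.Agent.Lib.Helper13.KInjMain
import Mathlib.Algebra.Homology.DerivedCategory.KInjective
import Mathlib.Algebra.Homology.DerivedCategory.Ext.EnoughInjectives

/-!
# Compactness of `P[0]` in `D(A)` from the behaviour of `Ext^p(P, -)` on coproducts
-/

set_option autoImplicit false
set_option linter.unusedSectionVars false
universe w w' v u
open CategoryTheory Category Limits

namespace Groth.Agent.Lib.Helper13.ExtCompact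

open Abelian DerivedCategory HomologicalComplex ZeroObject
open Groth.Agent.Lib.Helper13.ExtAcyc Groth.Agent.Lib.Helper13.DerCompactGen
open Groth.Agent.Lib.Helper13.KInjBasic

section Rep

variable {A : Type u} [Category.{v} A] [Abelian A] [HasDerivedCategory.{w'} A]

/-- Every morphism in the derived category into a K-injective complex is represented
by a morphism of complexes. -/
lemma exists_Q_map_eq_of_isKInjective (K L : CochainComplex A ℤ) [L.IsKInjective]
    (φ : Q.obj K ⟶ Q.obj L) : ∃ f : K ⟶ L, Q.map f = φ := by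
  obtain ⟨g, hg⟩ := (CochainComplex.IsKInjective.Qh_map_bijective
    ((HomotopyCategory.quotient _ _).obj K) L).2
    ((quotientCompQhIso A).hom.app K ≫ φ ≫ (quotientCompQhIso A).inv.app L)
  obtain ⟨f, rfl⟩ := (HomotopyCategory.quotient _ _).map_surjective g
  refine ⟨f, ?_⟩
  have h := quotientCompQhIso_hom_naturality f
  rw [hg] at h
  simp only [Category.assoc, Iso.inv_hom_id_app, Category.comp_id] at h
  exact ((cancel_epi _).1 h).symm

lemma isZero_Q_obj_of_acyclic (K : CochainComplex A ℤ) (hK : K.Acyclic) :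
    IsZero (Q.obj K : DerivedCategory A) := by
  apply isZero_of_isZero_homology
  intro n
  exact IsZero.of_iso ((hK n).isZero_homology) ((homologyFunctorFactors A n).app K)

/-- A chain map out of a stalk complex whose component is a coboundary is zero in the
derived category. -/
lemma Q_map_fromStalk_eq_zero (P : A) {J : CochainComplex A ℤ} (g : P ⟶ J.X (-1)) :
    Q.map (fromStalk (g ≫ J.d (-1) 0) (by rw [assoc, J.d_comp_d, comp_zero])) =
      (0 : (Q.obj (stalk P) : DerivedCategory A) ⟶ _) := by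
  let D := disc P (-1)
  have hz1 : IsZero (D.X 1) := isZero_disc_X P (-1) 1 (by omega) (by omega)
  let a : stalk P ⟶ D := fromStalk (Y := D) (discIso₁ P (-1)).inv (hz1.eq_of_tgt _ _)
  have hfac : fromStalk (g ≫ J.d (-1) 0) (by rw [assoc, J.d_comp_d, comp_zero]) =
      a ≫ discMk g := by
    apply fromStalk_ext
    rw [fromStalk_f, HomologicalComplex.comp_f, fromStalk_f, assoc]
    congr 1
    have h1 := discMk_f₁ (n := -1) g
    have h2 : (discIso₁ P (-1)).inv ≫ (discMk g).f (-1 + 1) = g ≫ J.d (-1) (-1 + 1) := by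
      rw [h1, Iso.inv_hom_id_assoc]
    exact h2.symm
  rw [hfac, Functor.map_comp]
  rw [(isZero_Q_obj_of_acyclic D (acyclic_disc P (-1))).eq_of_tgt (Q.map a) 0, zero_comp]

end Rep

section Main

variable {A : Type u} [Category.{v} A] [Abelian A] [HasExt.{w} A] [HasDerivedCategory.{w'} A]

/-- The degreewise short exact sequence attached to a monomorphism of complexes. -/
noncomputable def degSC {S J : CochainComplex A ℤ} (s : S ⟶ J) (n : ℤ) : ShortComplex A :=
  (ShortComplex.mk s (cokernel.π s) (cokernel.condition s)).map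
    (HomologicalComplex.eval A (ComplexShape.up ℤ) n)

lemma degSC_shortExact {S J : CochainComplex A ℤ} (s : S ⟶ J) [Mono s] (n : ℤ) :
    (degSC s n).ShortExact := by
  have h : (ShortComplex.mk s (cokernel.π s) (cokernel.condition s)).ShortExact :=
    { exact := ShortComplex.exact_of_g_is_cokernel _ (cokernelIsCokernel s) }
  exact h.map_of_exact _

/-- Key representation theorem. -/
theorem exists_Q_map_eq_of_resolution (P : A) {S J : CochainComplex A ℤ} (s : S ⟶ J) [Mono s]
    [QuasiIso s] [J.IsKInjective]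
    (hS1 : ExtZero P (S.X (-1)) 1)
    (hZ : ExtZero P (Zc (cokernel s) (-1)) 1)
    (m : (Q.obj (stalk P) : DerivedCategory A) ⟶ Q.obj S) :
    ∃ f : stalk P ⟶ S, Q.map f = m := by
  have hK : (cokernel s).Acyclic := acyclic_cokernel_of_mono_of_quasiIso s
  obtain ⟨φ, hφ⟩ := exists_Q_map_eq_of_isKInjective (stalk P) J (m ≫ Q.map s)
  let π := cokernel.π s
  let e := singleObjXSelf (ComplexShape.up ℤ) 0 P
  let f' : P ⟶ J.X 0 := e.inv ≫ φ.f 0
  have hf' : f' ≫ J.d 0 1 = 0 := by
    dsimp only [f']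
    rw [assoc, φ.comm 0 1, single_obj_d, zero_comp, comp_zero]
  have hf'' : (f' ≫ π.f 0) ≫ (cokernel s).d 0 1 = 0 := by
    rw [assoc, π.comm 0 1, reassoc_of% hf', zero_comp]
  -- lift the image cycle in the cokernel
  obtain ⟨gbar, hgbar⟩ := exists_lift_cycle'' (cokernel s) P (-1) 0 1 (by norm_num) (by norm_num)
    (hK 0) hZ (f' ≫ π.f 0) hf''
  -- lift to `J^{-1}`
  obtain ⟨g2, hg2⟩ := exists_lift P (degSC_shortExact s (-1)) hS1 gbar
  let g2' : P ⟶ J.X (-1) := g2
  have hg2' : g2' ≫ π.f (-1) = gbar := hg2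
  -- the difference comes from `S`
  have hdiff : (f' - g2' ≫ J.d (-1) 0) ≫ (degSC s 0).g = 0 := by
    show (f' - g2' ≫ J.d (-1) 0) ≫ π.f 0 = 0
    have h2 : (g2' ≫ J.d (-1) 0) ≫ π.f 0 = f' ≫ π.f 0 := by
      rw [assoc, ← π.comm (-1) 0, reassoc_of% hg2', hgbar]
    rw [Preadditive.sub_comp, h2, sub_self]
  have : Mono (degSC s 0).f := (degSC_shortExact s 0).mono_f
  let g1 : P ⟶ S.X 0 := (degSC_shortExact s 0).exact.lift _ hdiff
  have hg1 : g1 ≫ s.f 0 = f' - g2' ≫ J.d (-1) 0 := (degSC_shortExact s 0).exact.lift_f _ hdiff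
  have : Mono (s.f 1) := (degSC_shortExact s 1).mono_f
  have hg1d : g1 ≫ S.d 0 1 = 0 := by
    rw [← cancel_mono (s.f 1), assoc, ← s.comm 0 1, reassoc_of% hg1, Preadditive.sub_comp, hf',
      assoc, J.d_comp_d, comp_zero, sub_self, zero_comp]
  refine ⟨fromStalk g1 hg1d, ?_⟩
  have hsum : φ = fromStalk g1 hg1d ≫ s +
      fromStalk (g2' ≫ J.d (-1) 0) (by rw [assoc, J.d_comp_d, comp_zero]) := by
    apply fromStalk_ext
    rw [HomologicalComplex.add_f_apply, HomologicalComplex.comp_f, fromStalk_f, fromStalk_f, assoc,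
      hg1, ← Preadditive.comp_add, sub_add_cancel]
    show φ.f 0 = e.hom ≫ e.inv ≫ φ.f 0
    rw [Iso.hom_inv_id_assoc]
  have h1 : Q.map φ = Q.map (fromStalk g1 hg1d) ≫ Q.map s := by
    conv_lhs => rw [hsum]
    rw [Functor.map_add, Functor.map_comp, Q_map_fromStalk_eq_zero, add_zero]
  have : IsIso (Q.map s : (Q.obj S : DerivedCategory A) ⟶ _) := by
    rw [isIso_Q_map_iff_quasiIso]; infer_instance
  rw [← cancel_mono (Q.map s), ← h1, hφ]

end Main

section AbColim

/-- Induction principle for elements of a coproduct of abelian groups. -/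
lemma ab_coproduct_induction {ι : Type*} {Z : Discrete ι ⥤ AddCommGrpCat.{w}} (c : Cocone Z)
    (hc : IsColimit c) (motive : c.pt → Prop) (h0 : motive 0)
    (hadd : ∀ x y, motive x → motive y → motive (x + y))
    (hι : ∀ (i : Discrete ι) (z : Z.obj i), motive (c.ι.app i z)) : ∀ x, motive x := by
  let H : AddSubgroup c.pt :=
    { carrier := {x | motive x ∧ motive (-x)}
      zero_mem' := ⟨h0, by rw [neg_zero]; exact h0⟩
      add_mem' := fun {x y} hx hy => ⟨hadd _ _ hx.1 hy.1, by
        rw [neg_add]; exact hadd _ _ hx.2 hy.2⟩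
      neg_mem' := fun {x} hx => ⟨hx.2, by rw [neg_neg]; exact hx.1⟩ }
  let q : c.pt ⟶ AddCommGrpCat.of (c.pt ⧸ H) := AddCommGrpCat.ofHom (QuotientAddGroup.mk' H)
  have hq : q = 0 := by
    apply hc.hom_ext
    intro i
    rw [comp_zero]
    ext z
    show QuotientAddGroup.mk' H (c.ι.app i z) = 0
    rw [QuotientAddGroup.mk'_apply, QuotientAddGroup.eq_zero_iff]
    refine ⟨hι i z, ?_⟩
    rw [← map_neg]
    exact hι i (-z)
  intro x
  have hx : QuotientAddGroup.mk' H x = 0 := by
    have := congrArg (fun f => f.hom x) hq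
    exact this
  rw [QuotientAddGroup.mk'_apply, QuotientAddGroup.eq_zero_iff] at hx
  exact hx.1

end AbColim

section SumHyp

open Groth.Agent.Lib.Helper40.Cpt

variable {A : Type u} [Category.{v} A] [Abelian A] [HasExt.{w} A] [HasCoproducts.{v} A]

lemma extZero_sigma_of_preserves (P : A) (p : ℕ) {ι : Type v}
    [PreservesColimitsOfShape (Discrete ι) (extFunctorObj P p)] (Y : ι → A)
    (h : ∀ i, ExtZero P (Y i) p) : ExtZero P (∐ Y) p := by
  have hc' := isColimitOfPreserves (extFunctorObj P p) (colimit.isColimit (Discrete.functor Y))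
  intro e
  refine ab_coproduct_induction _ hc' (fun x => x = 0) rfl ?_ ?_ e
  · intro x y hx hy
    rw [hx, hy, add_zero]
  · intro i z
    have hz : z = 0 := h i.as z
    rw [hz, map_zero]

lemma finSum_of_preserves (P : A) {ι : Type v}
    [PreservesColimitsOfShape (Discrete ι) (extFunctorObj P 0)] (Y : ι → A) (m : P ⟶ ∐ Y) :
    FinSum P (Sigma.ι Y) m := by
  classical
  have hc' := isColimitOfPreserves (extFunctorObj P 0) (colimit.isColimit (Discrete.functor Y))
  have key : ∀ x : Ext P (∐ Y) 0, FinSum P (Sigma.ι Y) (Ext.addEquiv₀ x) := by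
    refine ab_coproduct_induction _ hc' (fun x => FinSum P (Sigma.ι Y) (Ext.addEquiv₀ x)) ?_ ?_ ?_
    · show FinSum P (Sigma.ι Y) (Ext.addEquiv₀ 0)
      rw [map_zero]
      exact ⟨∅, fun _ => 0, fun _ _ => rfl, by simp⟩
    · intro x y hx hy
      have h3 : FinSum P (Sigma.ι Y) (Ext.addEquiv₀ (x : Ext P (∐ Y) 0) +
          Ext.addEquiv₀ (y : Ext P (∐ Y) 0)) := hx.add hy
      have e : Ext.addEquiv₀ ((x : Ext P (∐ Y) 0) + (y : Ext P (∐ Y) 0)) =
          Ext.addEquiv₀ (x : Ext P (∐ Y) 0) + Ext.addEquiv₀ (y : Ext P (∐ Y) 0) := map_add _ _ _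
      exact (congrArg (FinSum P (Sigma.ι Y)) e).mpr h3
    · intro i z
      obtain ⟨g, rfl⟩ := (Ext.mk₀_bijective P (Y i.as)).2 z
      have h1 : ((extFunctorObj P 0).mapCocone (colimit.cocone (Discrete.functor Y))).ι.app i
          (Ext.mk₀ g) = Ext.mk₀ (g ≫ Sigma.ι Y i.as) := by
        show (Ext.mk₀ g).comp (Ext.mk₀ (Sigma.ι Y i.as)) (add_zero 0) = _
        rw [Ext.mk₀_comp_mk₀]
      show FinSum P (Sigma.ι Y) (Ext.addEquiv₀ _)
      rw [h1]
      have h2 : Ext.addEquiv₀ (Ext.mk₀ (g ≫ Sigma.ι Y i.as)) = g ≫ Sigma.ι Y i.as :=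
        Ext.addEquiv₀.apply_symm_apply _
      rw [h2]
      have := FinSum.of_sum (K := P) (Sigma.ι Y) {i.as} (fun j => if h : j = i.as then g ≫ eqToHom (by rw [h]) else 0)
      simpa using this
  have := key (Ext.mk₀ m)
  have h2 : Ext.addEquiv₀ (Ext.mk₀ m) = m := Ext.addEquiv₀.apply_symm_apply _
  rwa [h2] at this

end SumHyp

section Compact

open Groth.Agent.Lib.Helper40.Cpt Helper89.SigmaExact

variable {A : Type u} [Category.{v} A] [Abelian A] [IsGrothendieckAbelian.{v} A] [HasExt.{w} A]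
  [HasDerivedCategory.{v} A]

/-- The hypotheses on `P`: `Hom(P, -)` commutes with coproducts and `Ext^p(P, -)`-acyclic
objects are stable under coproducts. -/
structure SumHyp (P : A) : Prop where
  fin : ∀ (ι : Type v) (Y : ι → A) (m : P ⟶ ∐ Y), FinSum P (Sigma.ι Y) m
  ext : ∀ (ι : Type v) (Y : ι → A) (p : ℕ), 1 ≤ p → (∀ i, ExtZero P (Y i) p) →
    ExtZero P (∐ Y) p

lemma sumHyp_of_preserves (P : A)
    (h : ∀ (p : ℕ) (ι : Type v), PreservesColimitsOfShape (Discrete ι) (extFunctorObj P p)) :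
    SumHyp P where
  fin ι Y m := by
    have := h 0 ι
    exact finSum_of_preserves P Y m
  ext ι Y p _ hY := by
    have := h p ι
    exact extZero_sigma_of_preserves P p Y hY

lemma finSum_Q_map_stalk (P : A) (h : SumHyp P) {ι : Type v} (Y : ι → CochainComplex A ℤ)
    (f : stalk P ⟶ sigmaCx Y) :
    FinSum (Q.obj (stalk P) : DerivedCategory A) (fun i => Q.map (sigmaCxι Y i)) (Q.map f) := by
  classical
  let a : P ⟶ ∐ fun j => (Y j).X 0 := (singleObjXSelf (ComplexShape.up ℤ) 0 P).inv ≫ f.f 0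
  obtain ⟨S, g, hg0, hg⟩ := h.fin _ _ a
  have ha : a ≫ (Limits.Sigma.map fun j => (Y j).d 0 1) = 0 := by
    have h1 : f.f 0 ≫ (sigmaCx Y).d 0 1 = 0 := by
      rw [f.comm 0 1, single_obj_d, zero_comp]
    show ((singleObjXSelf (ComplexShape.up ℤ) 0 P).inv ≫ f.f 0) ≫ (sigmaCx Y).d 0 1 = 0
    rw [assoc, h1, comp_zero]
  have hd : ∀ i, g i ≫ (Y i).d 0 1 = 0 := by
    apply Helper89.Compact.finSum_inj' (fun j => (Y j).X 1) S (fun i => g i ≫ (Y i).d 0 1)
    · intro i hi
      show g i ≫ (Y i).d 0 1 = 0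
      rw [hg0 i hi, zero_comp]
    · rw [← ha, hg, Preadditive.sum_comp]
      refine Finset.sum_congr rfl fun i _ => ?_
      rw [assoc, assoc, Limits.Sigma.ι_map]
  let φ : ∀ i, stalk P ⟶ Y i := fun i => fromStalk (g i) (hd i)
  have hf : f = ∑ i ∈ S, φ i ≫ sigmaCxι Y i := by
    apply fromStalk_ext
    have h2 : (∑ i ∈ S, φ i ≫ sigmaCxι Y i).f 0 =
        ∑ i ∈ S, (φ i ≫ sigmaCxι Y i).f 0 :=
      (HomologicalComplex.eval A (ComplexShape.up ℤ) 0).map_sum _ S
    rw [h2]
    have h3 : f.f 0 = (singleObjXSelf (ComplexShape.up ℤ) 0 P).hom ≫ a := by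
      show f.f 0 = (singleObjXSelf (ComplexShape.up ℤ) 0 P).hom ≫
        ((singleObjXSelf (ComplexShape.up ℤ) 0 P).inv ≫ f.f 0)
      rw [Iso.hom_inv_id_assoc]
    rw [h3, hg, Preadditive.comp_sum]
    refine Finset.sum_congr rfl fun i _ => ?_
    rw [HomologicalComplex.comp_f, fromStalk_f, assoc]
    rfl
  rw [hf, Functor.map_sum]
  simp only [Functor.map_comp]
  exact FinSum.of_sum _ S (fun i => Q.map (φ i))

lemma finSum_of_resolution (P : A) (h : SumHyp P) {ι : Type v} (X : ι → DerivedCategory A)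
    [HasCoproduct X] (Y : ι → CochainComplex A ℤ) (θ : ∀ i, X i ≅ Q.obj (Y i))
    (hY : ∀ i n, ExtZero P ((Y i).X n) 1)
    {J : CochainComplex A ℤ} (s : sigmaCx Y ⟶ J) [Mono s] [QuasiIso s] [J.IsKInjective]
    (hZ : ExtZero P (Zc (cokernel s) (-1)) 1)
    (m : (Q.obj (stalk P) : DerivedCategory A) ⟶ ∐ X) :
    FinSum (Q.obj (stalk P)) (Sigma.ι X) m := by
  have : HasCoproductsOfShape ι (DerivedCategory A) := hasCoproductsOfShape_derivedCategory
  let θW : ∐ X ≅ Q.obj (sigmaCx Y) :=
    Limits.Sigma.mapIso θ ≪≫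
      IsColimit.coconePointUniqueUpToIso (coproductIsCoproduct _) (isColimitCofanQ Y)
  refine finSum_transfer (Sigma.ι X) (fun i => Q.map (sigmaCxι Y i)) θ θW ?_ m ?_
  · intro i
    dsimp only [θW, Iso.trans_hom]
    rw [Limits.Sigma.ι_mapIso_hom_assoc]
    congr 1
    exact IsColimit.comp_coconePointUniqueUpToIso_hom (coproductIsCoproduct _)
      (isColimitCofanQ Y) ⟨i⟩
  · have hS1 : ExtZero P ((sigmaCx Y).X (-1)) 1 :=
      h.ext ι (fun i => (Y i).X (-1)) 1 le_rfl (fun i => hY i (-1))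
    obtain ⟨f, hf⟩ := exists_Q_map_eq_of_resolution P s hS1 hZ (m ≫ θW.hom)
    rw [← hf]
    exact finSum_Q_map_stalk P h Y f

lemma extZero_of_injective (P : A) (I : A) [Injective I] (p : ℕ) (hp : 1 ≤ p) :
    ExtZero P I p := by
  intro e
  obtain ⟨q, rfl⟩ : ∃ q, p = q + 1 := ⟨p - 1, by omega⟩
  exact Ext.eq_zero_of_injective e

/-- If `Hom(P,-)` commutes with coproducts, coproducts of `Ext^p(P,-)`-acyclic objects are acyclic
and `Ext^p(P, -)` vanishes for `p > d`, then `P[0]` is compact in the derived category. -/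
theorem isCompact_stalk_of_finite_dim [HasCoproducts.{v} (DerivedCategory A)] (P : A)
    (h : SumHyp P) (d : ℕ) (hd : ∀ (Y : A) (p : ℕ), d < p → ExtZero P Y p) :
    CohDer.IsCompactObject (Q.obj (stalk P) : DerivedCategory A) := by
  apply isCompact_of_finSum
  intro ι X m
  have hres : ∀ i, ∃ (I : CochainComplex A ℤ) (f : Q.objPreimage (X i) ⟶ I),
      I.IsKInjective ∧ QuasiIso f ∧ (∀ n, Mono (f.f n)) ∧ ExtProp I :=
    fun i => Groth.Agent.Lib.Helper13.KInjMain.exists_kInjective_resolution _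
  choose Y f hYK hfq _ hYE using hres
  have hiso : ∀ i, IsIso (Q.map (f i) : (Q.obj _ : DerivedCategory A) ⟶ _) := fun i => by
    rw [isIso_Q_map_iff_quasiIso]; exact hfq i
  let θ : ∀ i, X i ≅ Q.obj (Y i) := fun i =>
    (Q.objObjPreimageIso (X i)).symm ≪≫ (have := hiso i; asIso (Q.map (f i)))
  have hY : ∀ i n p, 1 ≤ p → ExtZero P ((Y i).X n) p := by
    intro i n p hp
    have := injective_of_extProp (hYE i) n
    exact extZero_of_injective P _ p hp
  obtain ⟨J, s, hJK, hsq, hsm, hJE⟩ :=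
    Groth.Agent.Lib.Helper13.KInjMain.exists_kInjective_resolution (sigmaCx Y)
  have : Mono s := HomologicalComplex.mono_of_mono_f s hsm
  have hJ : ∀ n p, 1 ≤ p → ExtZero P (J.X n) p := by
    intro n p hp
    have := injective_of_extProp hJE n
    exact extZero_of_injective P _ p hp
  have hS : ∀ n p, 1 ≤ p → ExtZero P ((sigmaCx Y).X n) p :=
    fun n p hp => h.ext ι _ p hp (fun i => hY i n p hp)
  have hT : ∀ n p, 1 ≤ p → ExtZero P ((cokernel s).X n) p :=
    fun n p hp => extZero_X₃ P (degSC_shortExact s n) p (hJ n p hp) (hS n (p + 1) (by omega))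
  have hZ := extZero_Zc_of_finite_dim (cokernel s) P (acyclic_cokernel_of_mono_of_quasiIso s)
    hT d hd (-1) 1 le_rfl
  exact finSum_of_resolution P h X Y θ (fun i n => hY i n 1 le_rfl) s hZ m

lemma isZero_sigma {C : Type*} [Category C] [HasZeroMorphisms C] {ι : Type*} (Z : ι → C)
    [HasCoproduct Z] (hZ : ∀ i, IsZero (Z i)) : IsZero (∐ Z) := by
  rw [IsZero.iff_id_eq_zero]
  apply Limits.Sigma.hom_ext
  intro i
  exact (hZ i).eq_of_src _ _

/-- If `Hom(P,-)` commutes with coproducts and coproducts of `Ext^p(P,-)`-acyclic objects are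
acyclic, then `P[0]` is compact with respect to uniformly bounded below families. -/
theorem homSum_bijective_of_isGE (P : A) (h : SumHyp P) {I : Type v}
    (M : I → DerivedCategory A) [HasCoproduct M] (a : ℤ) (hM : ∀ i, (M i).IsGE a) :
    Function.Bijective (CohDer.homSumToHomCoprod (Q.obj (stalk P) : DerivedCategory A) M) := by
  classical
  have : HasCoproducts.{v} (DerivedCategory A) := fun J => hasCoproductsOfShape_derivedCategory
  refine ⟨homSum_injective _ M, fun m => ?_⟩
  have hfs : FinSum (Q.obj (stalk P) : DerivedCategory A) (Sigma.ι M) m := by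
    have hres : ∀ i, ∃ (L : CochainComplex A ℤ), (∀ n, Injective (L.X n)) ∧
        L.IsStrictlyGE (a - 1) ∧ Nonempty (M i ≅ Q.obj L) := by
      intro i
      have := hM i
      obtain ⟨L, hL, ⟨e⟩⟩ := DerivedCategory.exists_iso_Q_obj_of_isGE (M i) a
      obtain ⟨L', j, hj, hj', hL'inj, hL'⟩ :=
        CochainComplex.Plus.modelCategoryQuillen.exists_mono_quasiIso_injective L (a - 1) a
          (by omega)
      have : IsIso (Q.map j : (Q.obj _ : DerivedCategory A) ⟶ _) := by
        rw [isIso_Q_map_iff_quasiIso]; exact hj'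
      exact ⟨L', hL'inj, hL', ⟨e ≪≫ asIso (Q.map j)⟩⟩
    choose Y hYinj hYge θ using hres
    have hY : ∀ i n p, 1 ≤ p → ExtZero P ((Y i).X n) p := by
      intro i n p hp
      have := hYinj i n
      exact extZero_of_injective P _ p hp
    have : CochainComplex.IsStrictlyGE (sigmaCx Y) (a - 1) := by
      rw [CochainComplex.isStrictlyGE_iff]
      intro n hn
      exact isZero_sigma _ (fun i => by
        have := hYge i
        exact (Y i).isZero_of_isStrictlyGE (a - 1) n hn)
    obtain ⟨J, s, hs, hs', hJinj, hJge⟩ :=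
      CochainComplex.Plus.modelCategoryQuillen.exists_mono_quasiIso_injective (sigmaCx Y)
        (a - 2) (a - 1) (by omega)
    have : J.IsKInjective := CochainComplex.isKInjective_of_injective J (a - 2)
    have hJ : ∀ n p, 1 ≤ p → ExtZero P (J.X n) p := by
      intro n p hp
      have := hJinj n
      exact extZero_of_injective P _ p hp
    have hS : ∀ n p, 1 ≤ p → ExtZero P ((sigmaCx Y).X n) p :=
      fun n p hp => h.ext I _ p hp (fun i => hY i n p hp)
    have hT : ∀ n p, 1 ≤ p → ExtZero P ((cokernel s).X n) p :=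
      fun n p hp => extZero_X₃ P (degSC_shortExact s n) p (hJ n p hp) (hS n (p + 1) (by omega))
    have ha : ∀ n, n < a - 2 → IsZero ((cokernel s).X n) := by
      intro n hn
      have hz : IsZero (J.X n) := J.isZero_of_isStrictlyGE (a - 2) n hn
      have : Epi ((cokernel.π s).f n) := (degSC_shortExact s n).epi_g
      exact IsZero.of_epi ((cokernel.π s).f n) hz
    have hZ := extZero_Zc_of_bounded_below (cokernel s) P
      (acyclic_cokernel_of_mono_of_quasiIso s) hT (a - 2) ha (-1) 1 le_rfl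
    exact finSum_of_resolution P h M Y (fun i => (θ i).some) (fun i n => hY i n 1 le_rfl) s hZ m
  obtain ⟨F, g, _, hg⟩ := hfs
  refine ⟨∑ i ∈ F, DirectSum.of (fun i => (Q.obj (stalk P) : DerivedCategory A) ⟶ M i) i (g i), ?_⟩
  rw [map_sum, hg]
  refine Finset.sum_congr rfl fun i _ => ?_
  exact homSum_of _ M i (g i)

end Compact

end Groth.Agent.Lib.Helper13.ExtCompact
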