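import Groth.Agent.Lib.Helper13.BousPath
import Groth.Agent.Lib.Helper13.ExtCompact
import Mathlib.CategoryTheory.Adjunction.PartialAdjoint

/-!
# Bousfield localization of `D(A)` at a small family of complexes

For a Grothendieck abelian category `A` and a small family of complexes `E s` which is closed
under the shift by `1` (up to isomorphism), the inclusion of the full subcategory of `D(A)`
of the objects `K` such that `Hom(Q(E s), K) = 0` for all `s` has a left adjoint.
-/

set_option autoImplicit false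
universe w v u
open CategoryTheory Limits HomologicalComplex Category Opposite

namespace Groth.Agent.Lib.Helper13.BousDer

open CochainComplex HomComplex MorphismProperty DerivedCategory
open Groth.Agent.Lib.Helper13.KInjBasic Groth.Agent.Lib.Helper13.KInjMain
open Groth.Agent.Lib.Helper13.BousGen Groth.Agent.Lib.Helper13.BousPath
open Groth.Agent.Lib.Helper13.ExtCompact

lemma isRightAdjoint_ι_of_reflections {D : Type u} [Category.{v} D] (P : ObjectProperty D)
    (h : ∀ K : D, ∃ (L : D) (_ : P L) (η : K ⟶ L), ∀ K', P K' →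
      Function.Bijective (fun g : L ⟶ K' => η ≫ g)) :
    P.ι.IsRightAdjoint := by
  apply Functor.isRightAdjoint_of_leftAdjointObjIsDefined_eq_top
  ext K
  simp only [Pi.top_apply, Prop.top_eq_true, iff_true]
  rw [Functor.leftAdjointObjIsDefined_iff]
  obtain ⟨L, hL, η, hη⟩ := h K
  refine Functor.CorepresentableBy.isCorepresentable (X := (⟨L, hL⟩ : P.FullSubcategory))
    { homEquiv := fun {Y} => (Equiv.ofBijective (fun g : (⟨L, hL⟩ : P.FullSubcategory) ⟶ Y =>
          (η ≫ g.hom : K ⟶ Y.obj)) ?_)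
      homEquiv_comp := ?_ }
  · constructor
    · intro g₁ g₂ h12
      exact ObjectProperty.hom_ext _ ((hη Y.obj Y.property).1 h12)
    · intro φ
      obtain ⟨g, hg⟩ := (hη Y.obj Y.property).2 φ
      exact ⟨ObjectProperty.homMk g, hg⟩
  · intro Y Y' g f
    show η ≫ (f ≫ g).hom = (η ≫ f.hom) ≫ g.hom
    rw [ObjectProperty.FullSubcategory.comp_hom, Category.assoc]

section

variable {A : Type u} [Category.{v} A] [Abelian A] [HasDerivedCategory.{w} A]

lemma Q_map_eq_of_homotopy {K L : CochainComplex A ℤ} {f g : K ⟶ L} (h : Homotopy f g) :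
    (Q.map f : (Q.obj K : DerivedCategory A) ⟶ _) = Q.map g := by
  have e := HomotopyCategory.eq_of_homotopy f g h
  have h1 := quotientCompQhIso_hom_naturality f
  have h2 := quotientCompQhIso_hom_naturality g
  rw [e] at h1
  rw [h1] at h2
  exact ((cancel_epi _).1 h2)

lemma homotopy_of_Q_map_eq {K L : CochainComplex A ℤ} [L.IsKInjective] {f g : K ⟶ L}
    (h : (Q.map f : (Q.obj K : DerivedCategory A) ⟶ _) = Q.map g) : Nonempty (Homotopy f g) := by
  have h1 := quotientCompQhIso_hom_naturality f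
  have h2 := quotientCompQhIso_hom_naturality g
  rw [h, ← h2] at h1
  have h3 := (cancel_mono _).1 h1
  exact ⟨HomotopyCategory.homotopyOfEq _ _
    ((CochainComplex.IsKInjective.Qh_map_bijective _ L).1 h3)⟩

end

variable {A : Type u} [Category.{v} A] [Abelian A] [IsGrothendieckAbelian.{v} A]
  [HasDerivedCategory.{w} A]
variable {ι : Type v} (E : ι → CochainComplex A ℤ)

/-- The objects of `D(A)` which are right orthogonal to the `E s`. -/
def IsLocal : ObjectProperty (DerivedCategory A) := fun K =>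
  ∀ s, Subsingleton ((Q.obj (E s) : DerivedCategory A) ⟶ K)

variable {E}

lemma isLocal_of_iso {K K' : DerivedCategory A} (e : K ≅ K') (hK : IsLocal E K) :
    IsLocal E K' := fun s =>
  ⟨fun a b => by
    have := (hK s).elim (a ≫ e.inv) (b ≫ e.inv)
    exact (cancel_mono e.inv).1 this⟩

lemma isLocal_Q_of_fib {Z : CochainComplex A ℤ} (hZ : Fib E Z) :
    IsLocal E (Q.obj Z : DerivedCategory A) := by
  have : Z.IsKInjective := isKInjective_of_extProp hZ.1
  intro s
  have key : ∀ φ : (Q.obj (E s) : DerivedCategory A) ⟶ Q.obj Z, φ = 0 := by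
    intro φ
    obtain ⟨f, rfl⟩ := exists_Q_map_eq_of_isKInjective _ _ φ
    obtain ⟨hom⟩ := hZ.2 s f
    rw [Q_map_eq_of_homotopy hom, Functor.map_zero]
  exact ⟨fun a b => by rw [key a, key b]⟩

lemma fib_of_isLocal_Q {Z : CochainComplex A ℤ} (hZ : ExtProp Z)
    (h : IsLocal E (Q.obj Z : DerivedCategory A)) : Fib E Z := by
  have : Z.IsKInjective := isKInjective_of_extProp hZ
  refine ⟨hZ, fun s f => ?_⟩
  apply homotopy_of_Q_map_eq (A := A)
  exact (h s).elim _ _

/-- Bousfield localization at a small shift-closed family of complexes. -/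
theorem isRightAdjoint_ι_isLocal (hE : ShiftClosed E) :
    (ObjectProperty.ι (IsLocal (A := A) E)).IsRightAdjoint := by
  apply isRightAdjoint_ι_of_reflections
  intro K
  let M := Q.objPreimage K
  let e₀ : Q.obj M ≅ K := Q.objObjPreimageIso K
  obtain ⟨Z, i, hZ, hi⟩ := exists_fib_reflection hE M
  have : Z.IsKInjective := isKInjective_of_extProp hZ.1
  refine ⟨Q.obj Z, isLocal_Q_of_fib hZ, e₀.inv ≫ Q.map i, ?_⟩
  intro K' hK'
  -- reduce to the case `K' = Q.obj Z'` with `Z'` fibrant
  obtain ⟨Z', j, hZ'K, hj, -, hZ'E⟩ := exists_kInjective_resolution (Q.objPreimage K')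
  have : IsIso (Q.map j : (Q.obj _ : DerivedCategory A) ⟶ _) := by
    rw [isIso_Q_map_iff_quasiIso]; exact hj
  let e' : K' ≅ Q.obj Z' := (Q.objObjPreimageIso K').symm ≪≫ asIso (Q.map j)
  have hZ' : Fib E Z' := fib_of_isLocal_Q hZ'E (isLocal_of_iso e' hK')
  obtain ⟨hsurj, hinj⟩ := hi Z' hZ'
  constructor
  · intro ψ₁ ψ₂ h12
    dsimp only at h12
    rw [← cancel_mono e'.hom]
    obtain ⟨g, hg⟩ := exists_Q_map_eq_of_isKInjective _ _ (ψ₁ ≫ e'.hom - ψ₂ ≫ e'.hom)
    have h0 : (Q.map (i ≫ g) : (Q.obj M : DerivedCategory A) ⟶ _) = Q.map 0 := by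
      rw [Functor.map_comp, hg, Functor.map_zero, Preadditive.comp_sub, sub_eq_zero,
        ← cancel_epi e₀.inv]
      simp only [← Category.assoc] at h12 ⊢
      rw [h12]
    obtain ⟨hom⟩ := homotopy_of_Q_map_eq (A := A) h0
    obtain ⟨hom'⟩ := hinj g ⟨hom⟩
    have := Q_map_eq_of_homotopy (A := A) hom'
    rw [hg, Functor.map_zero, sub_eq_zero] at this
    exact this
  · intro φ
    obtain ⟨f, hf⟩ := exists_Q_map_eq_of_isKInjective _ _ (e₀.hom ≫ φ ≫ e'.hom)
    obtain ⟨g, hg⟩ := hsurj f
    refine ⟨Q.map g ≫ e'.inv, ?_⟩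
    dsimp only
    rw [Category.assoc, ← Category.assoc (Q.map i), ← Functor.map_comp, hg, hf]
    simp

end Groth.Agent.Lib.Helper13.BousDer
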