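import Groth.Agent.Lib.Helper13.BousDer
import Groth.Agent.Lib.Helper53.ModGroth
import Groth.Prelude.Def_DerComp

/-!
# Derived completion on a ringed site exists

`DerComp.IsDerComp O I` is the right orthogonal of the small family of the shifts of the objects
`j_{U!} O_{U,f}`, so the inclusion of the derived complete objects has a left adjoint by
Bousfield localization (`BousDer.isRightAdjoint_ι_isLocal`).
-/

set_option autoImplicit false
universe u
open CategoryTheory CategoryTheory.Limits Opposite
attribute [local instance] HasDerivedCategory.standard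

namespace Groth.Agent.Lib.Helper13.BousDerComp

open DerivedCategory Groth.Agent.Lib.Helper13.BousDer Groth.Agent.Lib.Helper13.BousPath

section Shift

variable {D : Type*} [Category D] [HasShift D ℤ]

lemma subsingleton_shift_iff (X Y : D) (m : ℤ) :
    Subsingleton (X⟦m⟧ ⟶ Y) ↔ Subsingleton (X ⟶ Y⟦-m⟧) :=
  Equiv.subsingleton_congr ((shiftEquiv D m).toAdjunction.homEquiv X Y)

end Shift

variable {C : Type u} [SmallCategory C] {J : GrothendieckTopology C}
  (O : Sheaf J CommRingCat.{u}) (I : DerComp.IdealSh O)

instance : IsGrothendieckAbelian.{u} (ModSite.Mod O) :=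
  Groth.Agent.Lib.Helper53.ModGroth.isGrothendieckAbelian J (ModSite.ringSh O)

/-- The index type. -/
abbrev Idx : Type u := (Σ U : C, {f : O.obj.obj (op U) // f ∈ I.ideal U}) × ℤ

/-- The family of complexes. -/
noncomputable def fam (p : Idx O I) : CochainComplex (ModSite.Mod O) ℤ :=
  ((HomologicalComplex.single (ModSite.Mod O) (ComplexShape.up ℤ) 0).obj
    ((ModSite.extZero O p.1.1).obj (DerComp.awayOver O p.1.1 p.1.2.1)))⟦p.2⟧

lemma shiftClosed_fam : ShiftClosed (fam O I) := by
  intro p
  exact ⟨(p.1, p.2 + 1), ⟨(shiftFunctorAdd' (CochainComplex (ModSite.Mod O) ℤ) p.2 1 (p.2 + 1)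
    rfl).app _⟩⟩

lemma isDerComp_eq_isLocal : DerComp.IsDerComp O I = IsLocal (fam O I) := by
  ext K
  have key : ∀ (U : C) (f : O.obj.obj (op U)) (hf : f ∈ I.ideal U) (m : ℤ),
      Subsingleton ((Q.obj (fam O I (⟨U, f, hf⟩, m)) : DerivedCategory (ModSite.Mod O)) ⟶ K) ↔
      Subsingleton (SiteCmp.inD O ((ModSite.extZero O U).obj (DerComp.awayOver O U f)) ⟶
        K⟦-m⟧) := by
    intro U f hf m
    rw [← subsingleton_shift_iff]
    exact Equiv.subsingleton_congr (Iso.homCongr ((Q.commShiftIso m).app _) (Iso.refl K))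
  constructor
  · intro h p
    obtain ⟨⟨U, f, hf⟩, m⟩ := p
    exact (key U f hf m).2 (h U f hf (-m))
  · intro h U f hf n
    have := (key U f hf (-n)).1 (h (⟨U, f, hf⟩, -n))
    rwa [neg_neg] at this

/-- Derived completion exists on every ringed site, for every sheaf of ideals. -/
theorem hasDerCompletion : DerComp.HasDerCompletion O I := by
  show (ObjectProperty.ι (DerComp.IsDerComp O I)).IsRightAdjoint
  rw [isDerComp_eq_isLocal]
  exact isRightAdjoint_ι_isLocal (shiftClosed_fam O I)

end Groth.Agent.Lib.Helper13.BousDerComp
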