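import Groth.Agent.Lib.Helper13.KInjMain

/-!
# Bousfield localization of complexes at a small family of complexes: generating maps

For a small family `E : ι → CochainComplex A ℤ` in a Grothendieck abelian category, we consider
the set of morphisms consisting of the generating trivial cofibrations `genTrivCof A` together
with the inclusions `E s ⟶ mappingCone (𝟙 (E s))`. This set admits the small object argument.
-/

set_option autoImplicit false
universe v u
open CategoryTheory Limits HomologicalComplex Category

namespace Groth.Agent.Lib.Helper13.BousGen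

open Groth.Agent.Lib.Helper13.KInjBasic Groth.Agent.Lib.Helper13.KInjColim
open Groth.Agent.Lib.Helper13.KInjGen
open Groth.Agent.Lib.Helper13.KInjSmall Groth.Agent.Lib.Helper13.KInjMain
open CochainComplex HomComplex MorphismProperty

variable {A : Type u} [Category.{v} A] [Abelian A] [IsGrothendieckAbelian.{v} A]
variable {ι : Type v} (E : ι → CochainComplex A ℤ)

/-- The inclusions into the cones of the identities. -/
def coneGen : MorphismProperty (CochainComplex A ℤ) :=
  MorphismProperty.ofHoms (fun s : ι => mappingCone.inr (𝟙 (E s)))

/-- The generating set for the localization. -/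
def locGen : MorphismProperty (CochainComplex A ℤ) :=
  ⨆ (b : Bool), (if b then genTrivCof A else coneGen E)

instance : MorphismProperty.IsSmall.{v} (coneGen E) := by
  dsimp [coneGen]
  infer_instance

instance : MorphismProperty.IsSmall.{v} (locGen E) := by
  dsimp only [locGen]
  haveI : ∀ b : Bool, MorphismProperty.IsSmall.{v} (if b then genTrivCof A else coneGen E) := by
    intro b
    cases b
    · simp only [Bool.false_eq_true, if_false]; infer_instance
    · simp only [if_true]; infer_instance
  infer_instance

lemma locGen_iff {K L : CochainComplex A ℤ} (f : K ⟶ L) :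
    locGen E f ↔ genTrivCof A f ∨ coneGen E f := by
  dsimp only [locGen]
  rw [MorphismProperty.iSup_iff]
  constructor
  · rintro ⟨b, hb⟩
    cases b
    · right; simpa using hb
    · left; simpa using hb
  · rintro (h | h)
    · exact ⟨true, by simpa using h⟩
    · exact ⟨false, by simpa using h⟩

lemma genTrivCof_le_locGen : genTrivCof A ≤ locGen E := fun _ _ f hf =>
  (locGen_iff E f).2 (Or.inl hf)

lemma coneGen_le_locGen : coneGen E ≤ locGen E := fun _ _ f hf =>
  (locGen_iff E f).2 (Or.inr hf)

lemma locGen_le_monomorphisms : locGen E ≤ monomorphisms (CochainComplex A ℤ) := by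
  intro K L f hf
  rw [locGen_iff] at hf
  rcases hf with hf | hf
  · exact genTrivCof_le_monomorphisms f hf
  · obtain ⟨s⟩ := hf
    exact monomorphisms.infer_property _

instance : HasSmallObjectArgument.{v} (locGen E) := by
  let X : Option ι → CochainComplex A ℤ := fun x => match x with
    | none => Pinf A
    | some s => E s
  obtain ⟨κ, hκ', hκ⟩ := HasCardinalLT.exists_regular_cardinal_forall.{v}
    (fun (x : Option ι) => Subobject (X x))
  have : Fact κ.IsRegular := ⟨hκ'⟩
  have : Nonempty κ.ord.ToType := by simpa using hκ'.ne_zero
  have := WellFoundedLT.toOrderBot κ.ord.ToType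
  exact ⟨κ, inferInstance, inferInstance,
    { preservesColimit {K L X Y} i hi f hf := by
        let hf' : (monomorphisms (CochainComplex A ℤ)).TransfiniteCompositionOfShape
            κ.ord.ToType f :=
          { toTransfiniteCompositionOfShape := hf.toTransfiniteCompositionOfShape
            map_mem j hj := by
              have := (hf.attachCells j hj).pushouts_coproducts
              simp only [ofHoms_homFamily] at this
              refine (?_ : _ ≤ monomorphisms (CochainComplex A ℤ)) _ this
              simp only [pushouts_le_iff, coproducts_le_iff]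
              exact locGen_le_monomorphisms E }
        have (j j' : κ.ord.ToType) (φ : j ⟶ j') : Mono (hf'.F.map φ) := hf'.mem_map φ
        apply IsGrothendieckAbelian.preservesColimit_coyoneda_obj_of_mono (Y := hf'.F) (κ := κ)
        rw [locGen_iff] at hi
        rcases hi with hi | hi
        · obtain ⟨S⟩ := hi
          exact Subobject.hasCardinalLT_of_mono (hκ none) S.1.arrow
        · obtain ⟨s⟩ := hi
          exact hκ (some s) }⟩

/-- Fibrant objects for the localized structure. -/
def Fib (Z : CochainComplex A ℤ) : Prop :=
  ExtProp Z ∧ ∀ (s : ι) (f : E s ⟶ Z), Nonempty (Homotopy f 0)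

open ZeroObject

lemma rlp_le_trivCof_rlp : (locGen E).rlp ≤ (trivCof (A := A)).rlp := by
  rw [← genTrivCof_rlp]
  exact antitone_rlp (genTrivCof_le_locGen E)

lemma fib_of_rlp {Z T : CochainComplex A ℤ} (hT : IsZero T) (p : Z ⟶ T)
    (hp : (locGen E).rlp p) : Fib E Z := by
  constructor
  · intro K L i hi₁ hi₂ f
    have hlift : HasLiftingProperty i p :=
      rlp_le_trivCof_rlp E p hp i ((trivCof_iff i).2 ⟨hi₁, hi₂⟩)
    have sq : CommSq f i p (0 : L ⟶ T) := ⟨hT.eq_of_tgt _ _⟩
    exact ⟨sq.lift, sq.fac_left⟩
  · intro s f
    have hlift : HasLiftingProperty (mappingCone.inr (𝟙 (E s))) p :=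
      hp _ (coneGen_le_locGen E _ ⟨s⟩)
    have sq : CommSq f (mappingCone.inr (𝟙 (E s))) p (0 : _ ⟶ T) := ⟨hT.eq_of_tgt _ _⟩
    refine ⟨(Cochain.equivHomotopy f 0).symm
      ⟨(mappingCone.inl (𝟙 (E s))).comp (Cochain.ofHom sq.lift) (add_zero _), ?_⟩⟩
    rw [Cochain.ofHom_zero, add_zero, δ_comp_ofHom, mappingCone.δ_inl, Category.id_comp,
      ← Cochain.ofHom_comp, sq.fac_left]

end Groth.Agent.Lib.Helper13.BousGen
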