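import Groth.Agent.Lib.Helper13.BousGen
import Mathlib.Algebra.Homology.HomotopyCategory.MappingCocone

/-!
# Bousfield localization of complexes: the path object argument

We show that the factorization of `M ⟶ 0` given by the small object argument for `locGen E`
is a reflection of `M` (up to homotopy) in the fibrant objects.
-/

set_option autoImplicit false
universe v u
open CategoryTheory Limits HomologicalComplex Category

namespace Groth.Agent.Lib.Helper13.BousPath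

open CochainComplex HomComplex MorphismProperty
open Groth.Agent.Lib.Helper13.KInjBasic Groth.Agent.Lib.Helper13.KInjColim
open Groth.Agent.Lib.Helper13.KInjSmall Groth.Agent.Lib.Helper13.KInjMain
open Groth.Agent.Lib.Helper13.BousGen

section Abelian

variable {A : Type u} [Category.{v} A] [Abelian A]

section
variable {K L : CochainComplex A ℤ} (φ : K ⟶ L)

lemma mc_ext {M : CochainComplex A ℤ} (u u' : M ⟶ mappingCocone φ)
    (h₁ : u ≫ mappingCocone.fst φ = u' ≫ mappingCocone.fst φ)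
    (h₂ : (Cochain.ofHom u).comp (mappingCocone.snd φ) (zero_add _) =
      (Cochain.ofHom u').comp (mappingCocone.snd φ) (zero_add _)) : u = u' := by
  ext p
  have h := mappingCocone.id_X φ p (p + -1) rfl
  have e₁ := congrArg (fun t => t.f p) h₁
  have e₂ := congrArg (fun t => t.v p (p + -1) rfl) h₂
  simp only [HomologicalComplex.comp_f, Cochain.zero_cochain_comp_v, Cochain.ofHom_v] at e₁ e₂
  calc u.f p = u.f p ≫ 𝟙 _ := (Category.comp_id _).symm
    _ = u'.f p ≫ 𝟙 _ := by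
      rw [← h, Preadditive.comp_add, Preadditive.comp_add, reassoc_of% e₁, reassoc_of% e₂]
    _ = u'.f p := Category.comp_id _

lemma mc_δ_snd_aux : δ (-1) 0 ((mappingCone.snd φ).leftShift (-1) (-1) (zero_add _)) =
    -(Cochain.ofHom (-((mappingCone.fst φ).leftShift (-1) 0 (add_neg_cancel 1)).homOf)).comp
      (Cochain.ofHom φ) (add_zero 0) := by
  rw [Cochain.δ_leftShift (mappingCone.snd φ) (-1) (-1) 0 (zero_add _) 1 (by lia),
    mappingCone.δ_snd, Cochain.leftShift_neg,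
    Cochain.leftShift_comp_zero_cochain _ (-1) 0 (by lia)]
  simp

lemma mc_δ_snd : δ (-1) 0 (mappingCocone.snd φ) =
    -(Cochain.ofHom (mappingCocone.fst φ)).comp (Cochain.ofHom φ) (add_zero 0) :=
  mc_δ_snd_aux φ

end

/-- The path object fibration. -/
noncomputable abbrev pathπ (Z : CochainComplex A ℤ) : mappingCocone (𝟙 Z) ⟶ Z :=
  mappingCocone.fst (𝟙 Z)

/-- Lifting against the path fibration from an extension property of null-homotopies. -/
lemma hasLiftingProperty_pathπ {X Y Z : CochainComplex A ℤ} (j : X ⟶ Y)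
    (H : ∀ (v : Y ⟶ Z) (h : Cochain X Z (-1)), δ (-1) 0 h = Cochain.ofHom (j ≫ v) →
      ∃ H : Cochain Y Z (-1), δ (-1) 0 H = Cochain.ofHom v ∧
        (Cochain.ofHom j).comp H (zero_add _) = h) :
    HasLiftingProperty j (pathπ Z) := by
  constructor
  intro u v sq
  let β : Cochain X Z (-1) := (Cochain.ofHom u).comp (mappingCocone.snd (𝟙 Z)) (zero_add _)
  have hβ : δ (-1) 0 β = -Cochain.ofHom (j ≫ v) := by
    dsimp only [β]
    rw [δ_ofHom_comp, mc_δ_snd, Cochain.comp_neg, ← sq.w]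
    simp [Cochain.ofHom_comp]
  obtain ⟨H', hH₁, hH₂⟩ := H v (-β) (by rw [δ_neg, hβ, neg_neg])
  have hlift : δ (-1) 0 (-H') + Cochain.ofHom (v ≫ 𝟙 Z) = 0 := by
    rw [δ_neg, hH₁, Category.comp_id, neg_add_cancel]
  refine ⟨⟨⟨mappingCocone.lift (𝟙 Z) v (-H') hlift, ?_, mappingCocone.lift_fst _ _ _ _⟩⟩⟩
  apply mc_ext
  · rw [Category.assoc, mappingCocone.lift_fst, sq.w]
  · rw [Cochain.ofHom_comp, Cochain.comp_assoc_of_first_is_zero_cochain,
      mappingCocone.ofHom_lift, mappingCocone.liftCochain_comp_snd, Cochain.comp_neg, hH₂, neg_neg]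

lemma extend_of_trivCof {X Y Z : CochainComplex A ℤ} (j : X ⟶ Y) [Mono j] [QuasiIso j]
    (hZ : ExtProp Z) (v : Y ⟶ Z) (h : Cochain X Z (-1))
    (hh : δ (-1) 0 h = Cochain.ofHom (j ≫ v)) :
    ∃ H : Cochain Y Z (-1), δ (-1) 0 H = Cochain.ofHom v ∧
      (Cochain.ofHom j).comp H (zero_add _) = h := by
  have : ∀ n, Injective (Z.X n) := injective_of_extProp hZ
  have : Z.IsKInjective := isKInjective_of_extProp hZ
  have : ∀ n, Mono (j.f n) := fun n => inferInstance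
  let H₀ : Cochain Y Z (-1) := Cochain.mk (fun p q _ => Injective.factorThru (h.v p q ‹_›) (j.f p))
  have hH₀ : (Cochain.ofHom j).comp H₀ (zero_add _) = h := by
    ext p q hpq
    simp [H₀, Cochain.mk_v, Injective.comp_factorThru]
  let c : Cocycle Y Z 0 := ⟨Cochain.ofHom v - δ (-1) 0 H₀, by
    rw [Cocycle.mem_iff 0 1 (zero_add 1), δ_sub, δ_ofHom, δ_δ, sub_zero]⟩
  let v' : Y ⟶ Z := Cocycle.homOf c
  have hv' : Cochain.ofHom v' = Cochain.ofHom v - δ (-1) 0 H₀ :=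
    Cocycle.cochain_ofHom_homOf_eq_coe c
  have hjv' : j ≫ v' = 0 := by
    apply Cochain.ofHom_injective
    rw [Cochain.ofHom_comp, hv', Cochain.comp_sub, ← δ_ofHom_comp, hH₀, hh, Cochain.ofHom_comp,
      sub_self, Cochain.ofHom_zero]
  let q := cokernel.π j
  let v'' : cokernel j ⟶ Z := cokernel.desc j v' hjv'
  have hv'' : q ≫ v'' = v' := cokernel.π_desc _ _ _
  have hN : (cokernel j).Acyclic := acyclic_cokernel_of_mono_of_quasiIso j
  obtain ⟨hom⟩ := IsKInjective.nonempty_homotopy_zero v'' hN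
  obtain ⟨H'', hH''⟩ := Cochain.equivHomotopy v'' 0 hom
  rw [Cochain.ofHom_zero, add_zero] at hH''
  refine ⟨H₀ + (Cochain.ofHom q).comp H'' (zero_add _), ?_, ?_⟩
  · rw [δ_add, δ_ofHom_comp, ← hH'', ← Cochain.ofHom_comp, hv'', hv']
    abel
  · rw [Cochain.comp_add, hH₀, ← Cochain.comp_assoc_of_first_is_zero_cochain,
      ← Cochain.ofHom_comp]
    have : j ≫ q = 0 := cokernel.condition j
    rw [this, Cochain.ofHom_zero, Cochain.zero_comp, add_zero]

lemma extend_of_coneIncl {E Z : CochainComplex A ℤ}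
    (hE : ∀ z : Cochain E Z (-1), δ (-1) 0 z = 0 → ∃ G : Cochain E Z (-2), δ (-2) (-1) G = z)
    (v : mappingCone (𝟙 E) ⟶ Z) (h : Cochain E Z (-1))
    (hh : δ (-1) 0 h = Cochain.ofHom (mappingCone.inr (𝟙 E) ≫ v)) :
    ∃ H : Cochain (mappingCone (𝟙 E)) Z (-1), δ (-1) 0 H = Cochain.ofHom v ∧
      (Cochain.ofHom (mappingCone.inr (𝟙 E))).comp H (zero_add _) = h := by
  let α₀ : Cochain E Z (-1) := (mappingCone.inl (𝟙 E)).comp (Cochain.ofHom v) (add_zero _)
  have hα₀ : δ (-1) 0 α₀ = Cochain.ofHom (mappingCone.inr (𝟙 E) ≫ v) := by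
    dsimp only [α₀]
    rw [δ_comp_ofHom, mappingCone.δ_inl, Category.id_comp, ← Cochain.ofHom_comp]
  obtain ⟨G, hG⟩ := hE (α₀ - h) (by rw [δ_sub, hα₀, hh, sub_self])
  refine ⟨mappingCone.descCochain (𝟙 E) G h (by lia), ?_, mappingCone.inr_descCochain _ _ _ _⟩
  rw [mappingCone.ext_cochain_from_iff (𝟙 E) (-1) 0 (by lia)]
  constructor
  · rw [mappingCone.δ_descCochain (𝟙 E) G h (by lia) 0 (by lia), hG]
    simp [α₀]
  · rw [← δ_ofHom_comp, mappingCone.inr_descCochain, hh, Cochain.ofHom_comp]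

lemma coboundary_of_shift {E E' Z : CochainComplex A ℤ} (e : E' ≅ E⟦(1 : ℤ)⟧)
    (hE' : ∀ f : E' ⟶ Z, Nonempty (Homotopy f 0))
    (z : Cochain E Z (-1)) (hz : δ (-1) 0 z = 0) :
    ∃ G : Cochain E Z (-2), δ (-2) (-1) G = z := by
  let c : Cocycle (E⟦(1 : ℤ)⟧) Z 0 := ⟨z.leftShift 1 0 (by lia), by
    rw [Cocycle.mem_iff 0 1 (zero_add 1), Cochain.δ_leftShift z 1 0 1 (by lia) 0 (by lia), hz,
      Cochain.leftShift_zero, smul_zero]⟩
  let f' : E⟦(1 : ℤ)⟧ ⟶ Z := Cocycle.homOf c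
  have hf' : Cochain.ofHom f' = z.leftShift 1 0 (by lia) := Cocycle.cochain_ofHom_homOf_eq_coe c
  obtain ⟨hom⟩ := hE' (e.hom ≫ f')
  obtain ⟨y₁, hy₁⟩ := Cochain.equivHomotopy _ _ hom
  rw [Cochain.ofHom_zero, add_zero] at hy₁
  let y₂ : Cochain (E⟦(1 : ℤ)⟧) Z (-1) := (Cochain.ofHom e.inv).comp y₁ (zero_add _)
  have hy₂ : δ (-1) 0 y₂ = z.leftShift 1 0 (by lia) := by
    dsimp only [y₂]
    rw [δ_ofHom_comp, ← hy₁, ← Cochain.ofHom_comp, Iso.inv_hom_id_assoc, hf']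
  refine ⟨-(y₂.leftUnshift (-2) (by lia)), ?_⟩
  rw [δ_neg, Cochain.δ_leftUnshift y₂ (-2) (by lia) (-1) 0 (by lia), hy₂,
    Cochain.leftUnshift_leftShift]
  simp

end Abelian

variable {A : Type u} [Category.{v} A] [Abelian A] [IsGrothendieckAbelian.{v} A]
variable {ι : Type v} (E : ι → CochainComplex A ℤ)

/-- The family is closed under the shift by `1`, up to isomorphism. -/
def ShiftClosed : Prop := ∀ s, ∃ t, Nonempty (E t ≅ (E s)⟦(1 : ℤ)⟧)

variable {E}

lemma pathπ_rlp (hE : ShiftClosed E) {Z : CochainComplex A ℤ} (hZ : Fib E Z) :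
    (locGen E).rlp (pathπ Z) := by
  have h₁ : (trivCof (A := A)).rlp (pathπ Z) := by
    intro X Y j hj
    obtain ⟨_, _⟩ := (trivCof_iff j).1 hj
    exact hasLiftingProperty_pathπ j (extend_of_trivCof j hZ.1)
  rw [← genTrivCof_rlp] at h₁
  intro X Y j hj
  rw [locGen_iff] at hj
  rcases hj with hj | hj
  · exact h₁ j hj
  · obtain ⟨s⟩ := hj
    obtain ⟨t, ⟨e⟩⟩ := hE s
    exact hasLiftingProperty_pathπ _ (extend_of_coneIncl (coboundary_of_shift e (hZ.2 t)))

lemma rlp_of_fib {Z T : CochainComplex A ℤ} (hZ : Fib E Z) (hT : IsZero T) (p : Z ⟶ T) :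
    (locGen E).rlp p := by
  have h₁ : (trivCof (A := A)).rlp p := by
    intro X Y j hj
    obtain ⟨h1, h2⟩ := (trivCof_iff j).1 hj
    constructor
    intro u v sq
    obtain ⟨g, hg⟩ := hZ.1 j h1 h2 u
    exact ⟨⟨⟨g, hg, hT.eq_of_tgt _ _⟩⟩⟩
  rw [← genTrivCof_rlp] at h₁
  intro X Y j hj
  rw [locGen_iff] at hj
  rcases hj with hj | hj
  · exact h₁ j hj
  · obtain ⟨s⟩ := hj
    constructor
    intro u v sq
    obtain ⟨hom⟩ := hZ.2 s u
    obtain ⟨y, hy⟩ := Cochain.equivHomotopy _ _ hom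
    rw [Cochain.ofHom_zero, add_zero] at hy
    refine ⟨⟨⟨mappingCone.desc (𝟙 (E s)) y u (by rw [Category.id_comp, hy]),
      mappingCone.inr_desc _ _ _ _, hT.eq_of_tgt _ _⟩⟩⟩

open ZeroObject

/-- Existence of localizations at the level of complexes. -/
theorem exists_fib_reflection (hE : ShiftClosed E) (M : CochainComplex A ℤ) :
    ∃ (Z : CochainComplex A ℤ) (i : M ⟶ Z), Fib E Z ∧ ∀ Z' : CochainComplex A ℤ, Fib E Z' →
      (∀ f : M ⟶ Z', ∃ g : Z ⟶ Z', i ≫ g = f) ∧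
      (∀ g : Z ⟶ Z', Nonempty (Homotopy (i ≫ g) 0) → Nonempty (Homotopy g 0)) := by
  let fac := (functorialFactorizationData (locGen E).rlp.llp (locGen E).rlp).factorizationData
    (0 : M ⟶ 0)
  refine ⟨fac.Z, fac.i, fib_of_rlp E (isZero_zero _) fac.p fac.hp, fun Z' hZ' => ⟨?_, ?_⟩⟩
  · intro f
    have hl : HasLiftingProperty fac.i (0 : Z' ⟶ 0) :=
      fac.hi _ (rlp_of_fib hZ' (isZero_zero _) _)
    have sq : CommSq f fac.i (0 : Z' ⟶ 0) (0 : fac.Z ⟶ 0) := ⟨by simp⟩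
    exact ⟨sq.lift, sq.fac_left⟩
  · rintro g ⟨hom⟩
    obtain ⟨h, hh⟩ := Cochain.equivHomotopy _ _ hom
    rw [Cochain.ofHom_zero, add_zero] at hh
    have hl : HasLiftingProperty fac.i (pathπ Z') := fac.hi _ (pathπ_rlp hE hZ')
    have hlift : δ (-1) 0 (-h) + Cochain.ofHom ((fac.i ≫ g) ≫ 𝟙 Z') = 0 := by
      rw [δ_neg, ← hh, Category.comp_id, neg_add_cancel]
    have sq : CommSq (mappingCocone.lift (𝟙 Z') (fac.i ≫ g) (-h) hlift) fac.i (pathπ Z') g :=
      ⟨mappingCocone.lift_fst _ _ _ _⟩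
    let β : Cochain fac.Z Z' (-1) :=
      (Cochain.ofHom sq.lift).comp (mappingCocone.snd (𝟙 Z')) (zero_add _)
    have hβ : δ (-1) 0 β = -Cochain.ofHom g := by
      dsimp only [β]
      rw [δ_ofHom_comp, mc_δ_snd, Cochain.comp_neg, ← Cochain.comp_assoc_of_first_is_zero_cochain,
        ← Cochain.ofHom_comp, sq.fac_right]
      simp
    exact ⟨(Cochain.equivHomotopy g 0).symm ⟨-β, by
      rw [δ_neg, hβ, neg_neg, Cochain.ofHom_zero, add_zero]⟩⟩

end Groth.Agent.Lib.Helper13.BousPath
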