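import Groth.Agent.Lib.Helper13.BrownLoc
import Groth.Agent.Lib.Helper13.DerSmall
import Groth.Agent.Lib.Helper13.DerCompactGen
import Groth.Agent.Lib.Helper13.KInjDerAdjH
import Groth.Agent.Lib.Helper89.BrownCompact
import Mathlib.CategoryTheory.Abelian.GrothendieckCategory.ModuleEmbedding.GabrielPopescu

set_option autoImplicit false
universe v u u'
open CategoryTheory Category Limits

namespace Groth.Agent.Lib.Helper13.BrownGroth

open CategoryTheory.Pretriangulated.Opposite Groth.Agent.Lib.Helper13.KInjDerAdj

/-- Brown representability for the derived category of a Grothendieck abelian category. -/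
theorem brown_representability_derivedCategory {A : Type u} [Category.{v} A] [Abelian A]
    [IsGrothendieckAbelian.{v} A] [HasDerivedCategory.{v} A]
    (H : (DerivedCategory A)ᵒᵖ ⥤ AddCommGrpCat.{v}) [H.IsHomological]
    [∀ (ι : Type v), PreservesLimitsOfShape (Discrete ι) H] :
    (H ⋙ forget AddCommGrpCat.{v}).IsRepresentable := by
  let U : A := separator A
  have hU : IsSeparator U := isSeparator_separator A
  let R := (End U)ᵐᵒᵖ
  let F : ModuleCat.{v} R ⥤ A := IsGrothendieckAbelian.tensorObj U
  let G : A ⥤ ModuleCat.{v} R := preadditiveCoyonedaObj U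
  let adj : F ⊣ G := IsGrothendieckAbelian.tensorObjPreadditiveCoyonedaObjAdjunction U
  have : G.Full := IsGrothendieckAbelian.GabrielPopescu.full U hU
  have : G.Faithful := (isSeparator_iff_faithful_preadditiveCoyonedaObj U).1 hU
  have : IsIso adj.counit := inferInstance
  have : PreservesFiniteLimits F :=
    IsGrothendieckAbelian.GabrielPopescu.preservesFiniteLimits U hU
  have : PreservesFiniteColimits F := by
    have := adj.leftAdjoint_preservesColimits
    infer_instance
  have : F.Additive := adj.left_adjoint_additive
  have : G.Additive := inferInstance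
  let _ : HasDerivedCategory.{v} (ModuleCat.{v} R) := DerSmall.hasDerivedCategorySmall _
  have : HasCoproducts.{v} (DerivedCategory (ModuleCat.{v} R)) :=
    fun J => Helper89.SigmaExact.hasCoproductsOfShape_derivedCategory
  have hT := DerCompactGen.isCompactlyGenerated_moduleCat R
  exact BrownLoc.isRepresentable_of_localization (adj₀ adj)
    (fun H' _ _ => Helper89.BrownCompact.representable_of_compactlyGenerated hT H') H

/-- The adjoint functor theorem for the derived category of a Grothendieck abelian category. -/
theorem isLeftAdjoint_of_preservesCoproducts {A : Type u} [Category.{v} A] [Abelian A]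
    [IsGrothendieckAbelian.{v} A] [HasDerivedCategory.{v} A]
    {D : Type u'} [Category.{v} D] [Preadditive D] [HasZeroObject D] [HasShift D ℤ]
    [∀ n : ℤ, (shiftFunctor D n).Additive] [Pretriangulated D]
    (F : DerivedCategory A ⥤ D) [F.CommShift ℤ] [F.IsTriangulated]
    [∀ (ι : Type v), PreservesColimitsOfShape (Discrete ι) F] :
    F.IsLeftAdjoint := by
  apply Functor.isLeftAdjoint_of_rightAdjointObjIsDefined_eq_top
  ext Y'
  simp only [Pi.top_apply, Prop.top_eq_true, iff_true]
  rw [Functor.rightAdjointObjIsDefined_iff]
  exact brown_representability_derivedCategory (Helper89.BrownAdjoint.homF F Y')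

end Groth.Agent.Lib.Helper13.BrownGroth
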