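import Mathlib

set_option autoImplicit false
set_option linter.unusedSectionVars false
universe v u u'
open CategoryTheory Category Limits Pretriangulated Opposite

namespace Groth.Agent.Lib.Helper13.BrownLoc

open CategoryTheory.Pretriangulated.Opposite

variable {T : Type u} [Category.{v} T] [Preadditive T] [HasZeroObject T] [HasShift T ℤ]
  [∀ n : ℤ, (shiftFunctor T n).Additive] [Pretriangulated T]
  {D : Type u'} [Category.{v} D] [Preadditive D] [HasZeroObject D] [HasShift D ℤ]
  [∀ n : ℤ, (shiftFunctor D n).Additive] [Pretriangulated D]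
  {L : T ⥤ D} {R₀ : D ⥤ T} (adj : L ⊣ R₀) [L.CommShift ℤ] [L.IsTriangulated]

include adj in
lemma preservesLimitsOfShape_op_comp (H : Dᵒᵖ ⥤ AddCommGrpCat.{v}) (ι : Type v)
    [PreservesLimitsOfShape (Discrete ι) H] : PreservesLimitsOfShape (Discrete ι) (L.op ⋙ H) := by
  have : PreservesLimitsOfSize.{v, v} L.op := adj.op.rightAdjoint_preservesLimits
  infer_instance

/-- If `Y` is right orthogonal to the kernel of `L` and the counit is invertible, the unit at `Y`
is invertible. -/
lemma isIso_unit_of_orthogonal [IsIso adj.counit] (Y : T)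
    (hY : ∀ Z : T, IsZero (L.obj Z) → ∀ f : Z ⟶ Y, f = 0) : IsIso (adj.unit.app Y) := by
  obtain ⟨C, g, h, hT⟩ := distinguished_cocone_triangle (adj.unit.app Y)
  -- `L η` is an isomorphism
  have hLη : IsIso (L.map (adj.unit.app Y)) := by
    have h1 : L.map (adj.unit.app Y) ≫ adj.counit.app (L.obj Y) = 𝟙 _ :=
      adj.left_triangle_components Y
    have : IsIso (adj.counit.app (L.obj Y)) := inferInstance
    have h2 : L.map (adj.unit.app Y) = inv (adj.counit.app (L.obj Y)) := by
      rw [← cancel_mono (adj.counit.app (L.obj Y)), h1, IsIso.inv_hom_id]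
    rw [h2]; infer_instance
  -- hence `L C = 0`
  have hLC : IsZero (L.obj C) := by
    have hT' := L.map_distinguished _ hT
    exact (Triangle.isZero₃_iff_isIso₁ _ hT').2 hLη
  -- maps from `ker L` to `R₀ L Y` vanish
  have hR : ∀ Z : T, IsZero (L.obj Z) → ∀ f : Z ⟶ R₀.obj (L.obj Y), f = 0 := by
    intro Z hZ f
    apply (adj.homEquiv Z (L.obj Y)).symm.injective
    exact hZ.eq_of_src _ _
  -- `h = 0`
  have hh : h = 0 := by
    have hZ : IsZero (L.obj (C⟦(-1 : ℤ)⟧)) :=
      IsZero.of_iso ((shiftFunctor D (-1 : ℤ)).map_isZero hLC) ((L.commShiftIso (-1 : ℤ)).app C)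
    have h0 := hY _ hZ ((shiftFunctor T (-1 : ℤ)).map h ≫ (shiftShiftNeg Y (1 : ℤ)).hom)
    have h1 : (shiftFunctor T (-1 : ℤ)).map h = 0 := by
      rw [← cancel_mono (shiftShiftNeg Y (1 : ℤ)).hom, h0, zero_comp]
    exact (shiftFunctor T (-1 : ℤ)).map_injective (by rw [h1, Functor.map_zero])
  -- `𝟙 C` factors through `g`
  have hid : 𝟙 C ≫ h = 0 := by rw [hh, comp_zero]
  obtain ⟨φ, hφ⟩ := Triangle.coyoneda_exact₃ _ hT (𝟙 C) hid
  have hφ0 : φ = 0 := hR C hLC φ
  have hC : IsZero C := by
    rw [IsZero.iff_id_eq_zero, hφ, hφ0]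
    exact zero_comp
  exact (Triangle.isZero₃_iff_isIso₁ _ hT).1 hC

/-- Brown representability descends along a Bousfield localization `L : T ⥤ D` (a triangulated
functor with a fully faithful right adjoint). -/
theorem isRepresentable_of_localization [IsIso adj.counit]
    (hT : ∀ (H' : Tᵒᵖ ⥤ AddCommGrpCat.{v}) [H'.IsHomological]
      [∀ (ι : Type v), PreservesLimitsOfShape (Discrete ι) H'],
      (H' ⋙ forget AddCommGrpCat.{v}).IsRepresentable)
    (H : Dᵒᵖ ⥤ AddCommGrpCat.{v}) [H.IsHomological]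
    [∀ (ι : Type v), PreservesLimitsOfShape (Discrete ι) H] :
    (H ⋙ forget AddCommGrpCat.{v}).IsRepresentable := by
  have := fun ι => preservesLimitsOfShape_op_comp adj H ι
  obtain ⟨Y, ⟨rep⟩⟩ := (hT (L.op ⋙ H)).has_representation
  have hY : ∀ Z : T, IsZero (L.obj Z) → ∀ f : Z ⟶ Y, f = 0 := by
    intro Z hZ f
    apply rep.homEquiv.injective
    have h1 : IsZero (H.obj (op (L.obj Z))) := H.map_isZero hZ.op
    have : Subsingleton (H.obj (op (L.obj Z))) := AddCommGrpCat.subsingleton_of_isZero h1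
    exact Subsingleton.elim (α := H.obj (op (L.obj Z))) _ _
  have := isIso_unit_of_orthogonal adj Y hY
  -- `L` is bijective on maps into `Y`
  have hL : ∀ Z : T, Function.Bijective (fun f : Z ⟶ Y => L.map f) := by
    intro Z
    have h1 : (fun f : Z ⟶ Y => L.map f) =
        (adj.homEquiv Z (L.obj Y)).symm ∘ (fun f : Z ⟶ Y => f ≫ adj.unit.app Y) := by
      funext f
      apply (adj.homEquiv Z (L.obj Y)).injective
      simp [Adjunction.homEquiv_unit]
    rw [h1]
    refine (Equiv.bijective _).comp ?_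
    constructor
    · intro f g hfg
      exact (cancel_mono (adj.unit.app Y)).1 hfg
    · intro f
      exact ⟨f ≫ inv (adj.unit.app Y), by simp⟩
  -- the universal element
  let u : H.obj (op (L.obj Y)) := rep.homEquiv (𝟙 Y)
  let φ : ∀ X : D, (X ⟶ L.obj Y) → H.obj (op X) := fun X f => H.map f.op u
  have hφL : ∀ (Z : T) (f : Z ⟶ Y), φ (L.obj Z) (L.map f) = rep.homEquiv f := by
    intro Z f
    have := rep.homEquiv_comp f (𝟙 Y)
    rw [comp_id] at this
    exact this.symm
  have hφnat : ∀ {X X' : D} (a : X' ⟶ X) (f : X ⟶ L.obj Y),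
      φ X' (a ≫ f) = H.map a.op (φ X f) := by
    intro X X' a f
    dsimp only [φ]
    rw [op_comp, H.map_comp]
    rfl
  have hφbijL : ∀ Z : T, Function.Bijective (φ (L.obj Z)) := by
    intro Z
    have h1 : φ (L.obj Z) ∘ (fun f : Z ⟶ Y => L.map f) = rep.homEquiv := by
      funext f
      exact hφL Z f
    have h2 : Function.Bijective (φ (L.obj Z) ∘ (fun f : Z ⟶ Y => L.map f)) := by
      rw [h1]; exact rep.homEquiv.bijective
    exact (Function.Bijective.of_comp_iff (φ (L.obj Z)) (hL Z)).1 h2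
  have hφbij : ∀ X : D, Function.Bijective (φ X) := by
    intro X
    have hε : IsIso (adj.counit.app X) := inferInstance
    have h1 : (fun x : H.obj (op X) => H.map (adj.counit.app X).op x) ∘ φ X =
        φ (L.obj (R₀.obj X)) ∘ (fun f : X ⟶ L.obj Y => adj.counit.app X ≫ f) := by
      funext f
      exact (hφnat (adj.counit.app X) f).symm
    have h2 : Function.Bijective
        (φ (L.obj (R₀.obj X)) ∘ (fun f : X ⟶ L.obj Y => adj.counit.app X ≫ f)) := by
      refine (hφbijL _).comp ⟨fun f g hfg => (cancel_epi (adj.counit.app X)).1 hfg,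
        fun f => ⟨inv (adj.counit.app X) ≫ f, by simp⟩⟩
    rw [← h1] at h2
    have h3 : Function.Bijective (fun x : H.obj (op X) => H.map (adj.counit.app X).op x) := by
      have : IsIso (H.map (adj.counit.app X).op) := inferInstance
      exact ConcreteCategory.bijective_of_isIso (H.map (adj.counit.app X).op)
    exact (Function.Bijective.of_comp_iff' h3 (φ X)).1 h2
  exact ⟨L.obj Y, ⟨{
    homEquiv := fun {X} => Equiv.ofBijective (φ X) (hφbij X)
    homEquiv_comp := fun {X X'} a f => hφnat a f }⟩⟩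

end Groth.Agent.Lib.Helper13.BrownLoc
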