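import Mathlib

/-!
# The triangulated envelope of an essentially small property is essentially small (helper13)
-/

set_option autoImplicit false
universe w v u
open CategoryTheory CategoryTheory.Limits CategoryTheory.Pretriangulated

namespace Groth.Agent.Lib.Helper13.BvdB1

variable {C : Type u} [Category.{v} C] [HasZeroObject C] [HasShift C ℤ] [Preadditive C]
  [∀ n : ℤ, (shiftFunctor C n).Additive] [Pretriangulated C]

open ObjectProperty

lemma essentiallySmall_shiftClosure (P : ObjectProperty C)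
    [ObjectProperty.EssentiallySmall.{w} P] :
    ObjectProperty.EssentiallySmall.{w} (P.shiftClosure ℤ) := by
  obtain ⟨Q, hQs, hQ⟩ := EssentiallySmall.exists_small_le'.{w} P
  refine ⟨⟨fun X => ∃ (Y : Subtype Q) (a : ℤ), X = (Y.1)⟦a⟧, ?_, ?_⟩⟩
  · have : Small.{w} (Subtype Q) := hQs
    exact small_of_surjective
      (f := fun p : Subtype Q × ℤ =>
        (⟨(p.1.1)⟦p.2⟧, ⟨p.1, p.2, rfl⟩⟩ : Subtype fun X => ∃ (Y : Subtype Q) (a : ℤ), X = (Y.1)⟦a⟧))
      (by rintro ⟨_, Y, a, rfl⟩; exact ⟨(Y, a), rfl⟩)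
  · rintro X ⟨Y, a, e, hY⟩
    obtain ⟨Y', hY', ⟨e'⟩⟩ := hQ _ hY
    exact ⟨Y'⟦a⟧, ⟨⟨Y', hY'⟩, a, rfl⟩, ⟨e ≪≫ (shiftFunctor C a).mapIso e'⟩⟩

/-- The middle term of a distinguished triangle is determined up to isomorphism by its third
morphism. -/
lemma nonempty_iso_of_mor₃ (T T' : Triangle C) (hT : T ∈ distTriang C) (hT' : T' ∈ distTriang C)
    (e₁ : T.obj₁ ≅ T'.obj₁) (e₃ : T.obj₃ ≅ T'.obj₃)
    (h : T.mor₃ ≫ e₁.hom⟦(1 : ℤ)⟧' = e₃.hom ≫ T'.mor₃) : Nonempty (T.obj₂ ≅ T'.obj₂) := by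
  -- rotate to get a morphism of triangles on (obj₃, obj₁[1], obj₂[1])
  have hR := rot_of_distTriang _ (rot_of_distTriang _ hT)
  have hR' := rot_of_distTriang _ (rot_of_distTriang _ hT')
  obtain ⟨c, hc₁, hc₂⟩ := complete_distinguished_triangle_morphism _ _ hR hR' e₃.hom
    (e₁.hom⟦(1 : ℤ)⟧') h
  have : IsIso c := by
    have h1 : IsIso e₃.hom := inferInstance
    have h2 : IsIso (e₁.hom⟦(1 : ℤ)⟧') := inferInstance
    let φ : T.rotate.rotate ⟶ T'.rotate.rotate :=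
      { hom₁ := e₃.hom
        hom₂ := e₁.hom⟦(1 : ℤ)⟧'
        hom₃ := c
        comm₁ := h
        comm₂ := hc₁
        comm₃ := hc₂ }
    exact Pretriangulated.isIso₃_of_isIso₁₂ φ hR hR' h1 h2
  -- `c : T.obj₂⟦1⟧ ⟶ T'.obj₂⟦1⟧` is an isomorphism
  let ec : (T.obj₂)⟦(1 : ℤ)⟧ ≅ (T'.obj₂)⟦(1 : ℤ)⟧ := @asIso _ _ _ _ c this
  exact ⟨(shiftFunctor C (1 : ℤ)).preimageIso ec⟩

lemma essentiallySmall_extensionProduct [LocallySmall.{w} C] (P Q : ObjectProperty C)
    [ObjectProperty.EssentiallySmall.{w} P] [ObjectProperty.EssentiallySmall.{w} Q] :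
    ObjectProperty.EssentiallySmall.{w} (extensionProduct P Q) := by
  obtain ⟨P', hPs, hP⟩ := EssentiallySmall.exists_small_le'.{w} P
  obtain ⟨Q', hQs, hQ⟩ := EssentiallySmall.exists_small_le'.{w} Q
  have hs1 : Small.{w} (Subtype P') := hPs
  have hs2 : Small.{w} (Subtype Q') := hQs
  -- the chosen middle term
  let mid : (Σ (Y : Subtype P') (Z : Subtype Q'), (Z.1 ⟶ (Y.1)⟦(1 : ℤ)⟧)) → C :=
    fun p => (distinguished_cocone_triangle₂ p.2.2).choose
  refine ⟨⟨fun X => X ∈ Set.range mid, ?_, ?_⟩⟩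
  · have : Small.{w} (Σ (Y : Subtype P') (Z : Subtype Q'), (Z.1 ⟶ (Y.1)⟦(1 : ℤ)⟧)) := by
      infer_instance
    exact small_of_surjective (f := fun p => (⟨mid p, ⟨p, rfl⟩⟩ : Subtype fun X => X ∈ Set.range mid))
      (by rintro ⟨_, p, rfl⟩; exact ⟨p, rfl⟩)
  · rintro X ⟨Y, Z, f, g, h, hT, hY, hZ⟩
    obtain ⟨Y', hY', ⟨eY⟩⟩ := hP _ hY
    obtain ⟨Z', hZ', ⟨eZ⟩⟩ := hQ _ hZ
    let h' : Z' ⟶ Y'⟦(1 : ℤ)⟧ := eZ.inv ≫ h ≫ eY.hom⟦(1 : ℤ)⟧'
    let p : (Σ (Y : Subtype P') (Z : Subtype Q'), (Z.1 ⟶ (Y.1)⟦(1 : ℤ)⟧)) :=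
      ⟨⟨Y', hY'⟩, ⟨Z', hZ'⟩, h'⟩
    obtain ⟨f', g', hT'⟩ := (distinguished_cocone_triangle₂ p.2.2).choose_spec
    have := nonempty_iso_of_mor₃ (Triangle.mk f g h) (Triangle.mk f' g' h') hT hT' eY eZ
      (Iso.hom_inv_id_assoc eZ _).symm
    obtain ⟨e⟩ := this
    exact ⟨mid p, ⟨p, rfl⟩, ⟨e⟩⟩

lemma essentiallySmall_extensionProductIter [LocallySmall.{w} C] (P : ObjectProperty C)
    [ObjectProperty.EssentiallySmall.{w} P] (n : ℕ) :
    ObjectProperty.EssentiallySmall.{w} (P.extensionProductIter n) := by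
  induction n with
  | zero => rwa [extensionProductIter_zero]
  | succ n ih =>
    rw [extensionProductIter_succ]
    exact essentiallySmall_extensionProduct P _

theorem essentiallySmall_triangEnvelope [LocallySmall.{w} C] (P : ObjectProperty C)
    [ObjectProperty.EssentiallySmall.{w} P] :
    ObjectProperty.EssentiallySmall.{w} P.triangEnvelope := by
  have h1 : ObjectProperty.EssentiallySmall.{w} (P.shiftClosure ℤ) :=
    essentiallySmall_shiftClosure P
  have h2 : ObjectProperty.EssentiallySmall.{w} (P.shiftClosure ℤ).binaryProductsClosure := by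
    infer_instance
  have h3 : ObjectProperty.EssentiallySmall.{w}
      (P.shiftClosure ℤ).binaryProductsClosure.retractClosure := by
    infer_instance
  have h4 : ∀ n, ObjectProperty.EssentiallySmall.{w} (P.triangEnvelopeIter n) := by
    intro n
    have := essentiallySmall_extensionProductIter.{w}
      (P.shiftClosure ℤ).binaryProductsClosure.retractClosure n
    unfold triangEnvelopeIter
    infer_instance
  unfold triangEnvelope
  infer_instance

end Groth.Agent.Lib.Helper13.BvdB1
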