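import Mathlib
import Groth.Prelude.Def_CohDer
import Groth.Agent.Lib.Helper40.Compact

/-!
# The functor of compatible families `F(X) = Nat(Hom(-, X)|_G, H|_G)` (helper13)
-/

set_option autoImplicit false
universe w v u
open CategoryTheory CategoryTheory.Limits Opposite

namespace Groth.Agent.Lib.Helper13.BvdB3

open Groth.Agent.Lib.Helper40.Cpt

variable {k : Type w} [Field k]
  {D : Type u} [Category.{v} D] [Preadditive D] [HasCoproducts.{v} D]
  (H : (ObjectProperty.FullSubcategory (fun K : D => CohDer.IsCompactObject K))ᵒᵖ ⥤ ModuleCat.{v} k)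
  [H.Additive]

/-- The compact objects as a category. -/
abbrev Cpt (D : Type u) [Category.{v} D] [Preadditive D] [HasCoproducts.{v} D] :=
  ObjectProperty.FullSubcategory (fun K : D => CohDer.IsCompactObject K)

/-- The action of `H` on a morphism between compact objects. -/
noncomputable def Hm {X Y : Cpt D} (f : X.obj ⟶ Y.obj) : H.obj (op Y) →ₗ[k] H.obj (op X) :=
  (H.map (ObjectProperty.homMk f : X ⟶ Y).op).hom

lemma Hm_id (X : Cpt D) (x : H.obj (op X)) : Hm H (𝟙 X.obj : X.obj ⟶ X.obj) x = x := by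
  have : (ObjectProperty.homMk (𝟙 X.obj) : X ⟶ X) = 𝟙 X := rfl
  unfold Hm
  rw [this, op_id, H.map_id]
  rfl

lemma Hm_comp {X Y Z : Cpt D} (f : X.obj ⟶ Y.obj) (g : Y.obj ⟶ Z.obj) (x : H.obj (op Z)) :
    Hm H (X := X) (Y := Z) (f ≫ g) x = Hm H (X := X) (Y := Y) f (Hm H (X := Y) (Y := Z) g x) := by
  have : (ObjectProperty.homMk (f ≫ g) : X ⟶ Z) =
      (ObjectProperty.homMk f : X ⟶ Y) ≫ (ObjectProperty.homMk g : Y ⟶ Z) := rfl
  unfold Hm
  rw [this, op_comp, H.map_comp]
  rfl

lemma Hm_add {X Y : Cpt D} (f g : X.obj ⟶ Y.obj) (x : H.obj (op Y)) :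
    Hm H (X := X) (Y := Y) (f + g) x = Hm H (X := X) (Y := Y) f x + Hm H (X := X) (Y := Y) g x := by
  have : (ObjectProperty.homMk (f + g) : X ⟶ Y) =
      (ObjectProperty.homMk f : X ⟶ Y) + (ObjectProperty.homMk g : X ⟶ Y) := by
    ext
    rfl
  unfold Hm
  rw [this, op_add, H.map_add]
  rfl

lemma Hm_zero {X Y : Cpt D} (x : H.obj (op Y)) :
    Hm H (X := X) (Y := Y) (0 : X.obj ⟶ Y.obj) x = 0 := by
  have : (ObjectProperty.homMk (0 : X.obj ⟶ Y.obj) : X ⟶ Y) = 0 := by
    ext
    rfl
  unfold Hm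
  rw [this, op_zero, H.map_zero]
  rfl

variable {T : Type v} (ob : T → D) (hob : ∀ t, CohDer.IsCompactObject (ob t))

/-- The objects of the small family as compact objects. -/
abbrev cobj (t : T) : Cpt D := ⟨ob t, hob t⟩

/-- The value of `H` at a member of the small family. -/
abbrev HO (t : T) : ModuleCat.{v} k := H.obj (op (cobj ob hob t))

/-- Compatible families: additive natural transformations `Hom(-, X)|_G ⟶ H|_G`. -/
def Fam (X : D) : AddSubgroup (∀ t : T, (ob t ⟶ X) →+ HO H ob hob t) where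
  carrier := {ξ | ∀ (t t' : T) (a : ob t' ⟶ ob t) (f : ob t ⟶ X),
    ξ t' (a ≫ f) = Hm H (X := cobj ob hob t') (Y := cobj ob hob t) a (ξ t f)}
  add_mem' := by
    intro ξ ξ' h h' t t' a f
    simp only [Pi.add_apply, AddMonoidHom.add_apply, map_add, h t t' a f, h' t t' a f]
  zero_mem' := by
    intro t t' a f
    simp only [Pi.zero_apply, AddMonoidHom.zero_apply, map_zero]
  neg_mem' := by
    intro ξ h t t' a f
    simp only [Pi.neg_apply, AddMonoidHom.neg_apply, map_neg, h t t' a f]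

lemma fam_nat {X : D} (ξ : Fam H ob hob X) (t t' : T) (a : ob t' ⟶ ob t) (f : ob t ⟶ X) :
    ξ.1 t' (a ≫ f) = Hm H (X := cobj ob hob t') (Y := cobj ob hob t) a (ξ.1 t f) :=
  ξ.2 t t' a f

/-- Restriction of families along `u : X ⟶ Y`. -/
def famMap {X Y : D} (u : X ⟶ Y) : Fam H ob hob Y →+ Fam H ob hob X where
  toFun ξ := ⟨fun t => (ξ.1 t).comp (Preadditive.rightComp (ob t) u), by
    intro t t' a f
    show ξ.1 t' ((a ≫ f) ≫ u) = Hm H a (ξ.1 t (f ≫ u))
    rw [Category.assoc]
    exact fam_nat H ob hob ξ t t' a (f ≫ u)⟩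
  map_zero' := by
    ext t f
    rfl
  map_add' := by
    intro ξ ξ'
    ext t f
    rfl

@[simp]
lemma famMap_apply {X Y : D} (u : X ⟶ Y) (ξ : Fam H ob hob Y) (t : T) (f : ob t ⟶ X) :
    (famMap H ob hob u ξ).1 t f = ξ.1 t (f ≫ u) := rfl

/-- The functor of compatible families. -/
def famFunctor : Dᵒᵖ ⥤ AddCommGrpCat.{v} where
  obj X := AddCommGrpCat.of (Fam H ob hob X.unop)
  map u := AddCommGrpCat.ofHom (famMap H ob hob u.unop)
  map_id X := by
    ext ξ t f
    show ξ.1 t (f ≫ 𝟙 _) = ξ.1 t f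
    rw [Category.comp_id]
  map_comp u v := by
    ext ξ t f
    show ξ.1 t (f ≫ (v.unop ≫ u.unop)) = ξ.1 t ((f ≫ v.unop) ≫ u.unop)
    rw [Category.assoc]

/-- Yoneda: a compatible family on a member of the small family is determined by its value at the
identity. -/
lemma fam_yoneda_bijective (t₀ : T) :
    Function.Bijective (fun ξ : Fam H ob hob (ob t₀) => ξ.1 t₀ (𝟙 (ob t₀))) := by
  constructor
  · intro ξ ξ' h
    apply Subtype.ext
    funext t
    ext f
    have h1 := fam_nat H ob hob ξ t₀ t f (𝟙 _)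
    have h2 := fam_nat H ob hob ξ' t₀ t f (𝟙 _)
    rw [Category.comp_id] at h1 h2
    rw [h1, h2]
    exact congrArg _ h
  · intro x
    refine ⟨⟨fun t =>
      { toFun := fun f => Hm H (X := cobj ob hob t) (Y := cobj ob hob t₀) f x
        map_zero' := Hm_zero H x
        map_add' := fun f g => Hm_add H (X := cobj ob hob t) (Y := cobj ob hob t₀) f g x }, ?_⟩, ?_⟩
    · intro t t' a f
      exact Hm_comp H (X := cobj ob hob t') (Y := cobj ob hob t) (Z := cobj ob hob t₀) a f x
    · exact Hm_id H (cobj ob hob t₀) x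

section Products

variable {κ : Type v} (X : κ → D)

/-- A family on a coproduct is determined by its restrictions to the summands. -/
lemma famRes_injective (ξ : Fam H ob hob (∐ X))
    (h : ∀ i, famMap H ob hob (Sigma.ι X i) ξ = 0) : ξ = 0 := by
  classical
  apply Subtype.ext
  funext t
  ext f
  obtain ⟨F, g, -, hg⟩ := finSum_of_compact (hob t) X f
  rw [hg, map_sum]
  apply Finset.sum_eq_zero
  intro i _
  have := congrArg (fun ζ : Fam H ob hob (X i) => ζ.1 t (g i)) (h i)
  exact this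

/-- Glueing of families on the summands of a coproduct. -/
lemma famRes_surjective (ξ : ∀ i, Fam H ob hob (X i)) :
    ∃ ζ : Fam H ob hob (∐ X), ∀ i, famMap H ob hob (Sigma.ι X i) ζ = ξ i := by
  classical
  -- the inverse of `homSumToHomCoprod`
  let Φ : ∀ t, (DirectSum κ (fun i => ob t ⟶ X i)) ≃+ (ob t ⟶ ∐ X) := fun t =>
    AddEquiv.ofBijective (CohDer.homSumToHomCoprod (ob t) X) (hob t κ X)
  let Ψ : ∀ t, (DirectSum κ (fun i => ob t ⟶ X i)) →+ HO H ob hob t := fun t =>
    DirectSum.toAddMonoid (fun i => (ξ i).1 t)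
  have hΦ : ∀ t i (g : ob t ⟶ X i), Φ t (DirectSum.of (fun i => ob t ⟶ X i) i g) =
      g ≫ Sigma.ι X i := fun t i g => homSum_of (ob t) X i g
  have key : ∀ (t t' : T) (a : ob t' ⟶ ob t) (x : DirectSum κ (fun i => ob t ⟶ X i)),
      Ψ t' ((Φ t').symm (a ≫ Φ t x)) = Hm H (X := cobj ob hob t') (Y := cobj ob hob t) a (Ψ t x) := by
    intro t t' a x
    induction x using DirectSum.induction_on with
    | zero => simp only [map_zero, comp_zero]
    | of i g =>
      have h1 : a ≫ Φ t (DirectSum.of (fun i => ob t ⟶ X i) i g) =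
          Φ t' (DirectSum.of (fun i => ob t' ⟶ X i) i (a ≫ g)) := by
        rw [hΦ, hΦ, Category.assoc]
      rw [h1, AddEquiv.symm_apply_apply]
      show DirectSum.toAddMonoid (fun i => (ξ i).1 t') (DirectSum.of _ i (a ≫ g)) =
        Hm H a (DirectSum.toAddMonoid (fun i => (ξ i).1 t) (DirectSum.of _ i g))
      rw [DirectSum.toAddMonoid_of, DirectSum.toAddMonoid_of]
      exact fam_nat H ob hob (ξ i) t t' a g
    | add x y hx hy =>
      rw [map_add, Preadditive.comp_add, map_add, map_add, hx, hy, map_add, map_add]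
  refine ⟨⟨fun t => (Ψ t).comp (Φ t).symm.toAddMonoidHom, ?_⟩, ?_⟩
  · intro t t' a f
    show Ψ t' ((Φ t').symm (a ≫ f)) = Hm H a (Ψ t ((Φ t).symm f))
    have := key t t' a ((Φ t).symm f)
    rwa [AddEquiv.apply_symm_apply] at this
  · intro i
    apply Subtype.ext
    funext t
    ext g
    show Ψ t ((Φ t).symm (g ≫ Sigma.ι X i)) = (ξ i).1 t g
    rw [← hΦ, AddEquiv.symm_apply_apply]
    exact DirectSum.toAddMonoid_of (fun i => (ξ i).1 t) i g

/-- The restriction maps exhibit `F(∐ X)` as the product of the `F(X i)`. -/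
noncomputable def famResEquiv : Fam H ob hob (∐ X) ≃+ (∀ i, Fam H ob hob (X i)) :=
  AddEquiv.ofBijective
    (AddMonoidHom.mk' (fun ξ i => famMap H ob hob (Sigma.ι X i) ξ) (by
      intro a b
      funext i
      exact map_add _ a b))
    (by
      constructor
      · rw [injective_iff_map_eq_zero]
        intro ξ h
        exact famRes_injective H ob hob X ξ (fun i => congrFun h i)
      · intro ξ
        obtain ⟨ζ, hζ⟩ := famRes_surjective H ob hob X ξ
        exact ⟨ζ, funext hζ⟩)

lemma famResEquiv_apply (ξ : Fam H ob hob (∐ X)) (i : κ) :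
    famResEquiv H ob hob X ξ i = famMap H ob hob (Sigma.ι X i) ξ := rfl

end Products

end Groth.Agent.Lib.Helper13.BvdB3
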