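import Mathlib
import Groth.Prelude.Def_CohDer
import Groth.Agent.Lib.Helper13.BvdB3

/-!
# Exactness of the functor of compatible families (helper13)

`F(X) = Nat(Hom(-, X)|_G, H|_G)` sends "weakly exact at the small family" sequences to exact
sequences, when the values of `H` are finite dimensional (linear compactness).
-/

set_option autoImplicit false
universe w v u
open CategoryTheory CategoryTheory.Limits Opposite

namespace Groth.Agent.Lib.Helper13.BvdB4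

open Groth.Agent.Lib.Helper13.BvdB3

/-- Linear compactness of finite dimensional vector spaces: a directed family of nonempty cosets
has a common point. -/
theorem exists_mem_all_cosets {k : Type*} [Field k] {V : Type*} [AddCommGroup V] [Module k V]
    [Module.Finite k V] {I : Type*} (K : I → Submodule k V) (A : I → Set V)
    (hA : ∀ i z, z ∈ A i → ∀ z', z' ∈ A i ↔ z' - z ∈ K i)
    (hne : ∀ i, (A i).Nonempty)
    (hdir : ∀ i j, ∃ l, A l ⊆ A i ∩ A j) : ∃ z, ∀ i, z ∈ A i := by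
  classical
  rcases isEmpty_or_nonempty I with hI | hI
  · exact ⟨0, fun i => (hI.false i).elim⟩
  · haveI : IsArtinian k V := inferInstance
    obtain ⟨K₀, ⟨i₀, rfl⟩, hmin⟩ :=
      (wellFounded_lt (α := Submodule k V)).has_min (Set.range K) (Set.range_nonempty K)
    obtain ⟨z, hz⟩ := hne i₀
    refine ⟨z, fun i => ?_⟩
    obtain ⟨l, hl⟩ := hdir i₀ i
    obtain ⟨z', hz'⟩ := hne l
    have hz'0 : z' ∈ A i₀ := (hl hz').1
    have hle : K l ≤ K i₀ := by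
      intro x hx
      have h1 : z' + x ∈ A l := (hA l z' hz' (z' + x)).2 (by simpa using hx)
      have h2 : z' + x ∈ A i₀ := (hl h1).1
      have := (hA i₀ z' hz'0 (z' + x)).1 h2
      simpa using this
    have heq : K l = K i₀ := by
      by_contra hne'
      exact hmin (K l) ⟨l, rfl⟩ (lt_of_le_of_ne hle hne')
    have h3 : z - z' ∈ K i₀ := (hA i₀ z' hz'0 z).1 hz
    rw [← heq] at h3
    exact (hl ((hA l z' hz' z).2 h3)).2

variable {k : Type w} [Field k]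
  {D : Type u} [Category.{v} D] [Preadditive D] [HasCoproducts.{v} D]
  (H : (Cpt D)ᵒᵖ ⥤ ModuleCat.{v} k) [H.Additive]
  {T : Type v} (ob : T → D) (hob : ∀ t, CohDer.IsCompactObject (ob t))

/-- The action of `H` on morphisms between members of the small family. -/
noncomputable abbrev hm {t' t : T} (a : ob t' ⟶ ob t) : HO H ob hob t →ₗ[k] HO H ob hob t' :=
  Hm H (X := cobj ob hob t') (Y := cobj ob hob t) a

lemma hm_id (t : T) (x : HO H ob hob t) : hm H ob hob (𝟙 (ob t)) x = x :=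
  Hm_id H (cobj ob hob t) x

lemma hm_comp {t'' t' t : T} (a : ob t'' ⟶ ob t') (b : ob t' ⟶ ob t) (x : HO H ob hob t) :
    hm H ob hob (a ≫ b) x = hm H ob hob a (hm H ob hob b x) :=
  Hm_comp H (X := cobj ob hob t'') (Y := cobj ob hob t') (Z := cobj ob hob t) a b x

lemma hm_add {t' t : T} (a b : ob t' ⟶ ob t) (x : HO H ob hob t) :
    hm H ob hob (a + b) x = hm H ob hob a x + hm H ob hob b x :=
  Hm_add H (X := cobj ob hob t') (Y := cobj ob hob t) a b x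

lemma hm_zero {t' t : T} (x : HO H ob hob t) :
    hm H ob hob (0 : ob t' ⟶ ob t) x = 0 :=
  Hm_zero H (X := cobj ob hob t') (Y := cobj ob hob t) x

lemma hm_neg {t' t : T} (a : ob t' ⟶ ob t) (x : HO H ob hob t) :
    hm H ob hob (-a) x = - hm H ob hob a x := by
  have h := hm_add H ob hob (-a) a x
  rw [neg_add_cancel, hm_zero] at h
  exact eq_neg_of_add_eq_zero_left h.symm

variable {X Y Z : D} (u : X ⟶ Y) (v : Y ⟶ Z) (η : Fam H ob hob Y)

/-- Partial extensions of `η` along `v`, as graphs. -/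
structure IsGood (Γ : ∀ t, AddSubgroup ((ob t ⟶ Z) × HO H ob hob t)) : Prop where
  zero : ∀ t (y : HO H ob hob t), ((0 : ob t ⟶ Z), y) ∈ Γ t → y = 0
  nat : ∀ t t' (a : ob t' ⟶ ob t) (f : ob t ⟶ Z) (y : HO H ob hob t),
    (f, y) ∈ Γ t → (a ≫ f, hm H ob hob a y) ∈ Γ t'
  base : ∀ t (g : ob t ⟶ Y), (g ≫ v, η.1 t g) ∈ Γ t

/-- The smallest graph. -/
def Γ₀ : ∀ t, AddSubgroup ((ob t ⟶ Z) × HO H ob hob t) := fun t =>
  (AddMonoidHom.prod (Preadditive.rightComp (ob t) v) (η.1 t)).range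

lemma mem_Γ₀ (t : T) (p : (ob t ⟶ Z) × HO H ob hob t) :
    p ∈ Γ₀ H ob hob v η t ↔ ∃ g : ob t ⟶ Y, (g ≫ v, η.1 t g) = p := by
  unfold Γ₀
  rw [AddMonoidHom.mem_range]
  rfl

lemma isGood_Γ₀ (hv : ∀ t (g : ob t ⟶ Y), g ≫ v = 0 → ∃ e : ob t ⟶ X, e ≫ u = g)
    (hη : ∀ t (e : ob t ⟶ X), η.1 t (e ≫ u) = 0) :
    IsGood H ob hob v η (Γ₀ H ob hob v η) where
  zero t y hy := by
    rw [mem_Γ₀] at hy
    obtain ⟨g, hg⟩ := hy
    have h1 : g ≫ v = 0 := congrArg Prod.fst hg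
    have h2 : η.1 t g = y := congrArg Prod.snd hg
    obtain ⟨e, rfl⟩ := hv t g h1
    rw [← h2]
    exact hη t e
  nat t t' a f y hy := by
    rw [mem_Γ₀] at hy ⊢
    obtain ⟨g, hg⟩ := hy
    have h1 : g ≫ v = f := congrArg Prod.fst hg
    have h2 : η.1 t g = y := congrArg Prod.snd hg
    refine ⟨a ≫ g, ?_⟩
    rw [Category.assoc, h1, fam_nat H ob hob η t t' a g, h2]
  base t g := by
    rw [mem_Γ₀]
    exact ⟨g, rfl⟩

/-- The union of a nonempty chain of graphs. -/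
def chainSup (c : Set (∀ t, AddSubgroup ((ob t ⟶ Z) × HO H ob hob t)))
    (hc : IsChain (· ≤ ·) c) (y₀ : ∀ t, AddSubgroup ((ob t ⟶ Z) × HO H ob hob t)) (hy₀ : y₀ ∈ c) :
    ∀ t, AddSubgroup ((ob t ⟶ Z) × HO H ob hob t) := fun t =>
  { carrier := {p | ∃ Γ ∈ c, p ∈ Γ t}
    zero_mem' := ⟨y₀, hy₀, zero_mem _⟩
    add_mem' := by
      rintro p q ⟨Γ₁, h₁, hp⟩ ⟨Γ₂, h₂, hq⟩
      rcases hc.total h₁ h₂ with h | h
      · exact ⟨Γ₂, h₂, add_mem (h t hp) hq⟩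
      · exact ⟨Γ₁, h₁, add_mem hp (h t hq)⟩
    neg_mem' := by
      rintro p ⟨Γ, h, hp⟩
      exact ⟨Γ, h, neg_mem hp⟩ }

lemma mem_chainSup (c : Set (∀ t, AddSubgroup ((ob t ⟶ Z) × HO H ob hob t)))
    (hc : IsChain (· ≤ ·) c) (y₀ : ∀ t, AddSubgroup ((ob t ⟶ Z) × HO H ob hob t)) (hy₀ : y₀ ∈ c)
    (t : T) (p : (ob t ⟶ Z) × HO H ob hob t) :
    p ∈ chainSup H ob hob c hc y₀ hy₀ t ↔ ∃ Γ ∈ c, p ∈ Γ t := Iff.rfl

lemma isGood_chainSup (c : Set (∀ t, AddSubgroup ((ob t ⟶ Z) × HO H ob hob t)))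
    (hcS : ∀ Γ ∈ c, IsGood H ob hob v η Γ)
    (hc : IsChain (· ≤ ·) c) (y₀ : ∀ t, AddSubgroup ((ob t ⟶ Z) × HO H ob hob t)) (hy₀ : y₀ ∈ c) :
    IsGood H ob hob v η (chainSup H ob hob c hc y₀ hy₀) where
  zero t y hy := by
    rw [mem_chainSup] at hy
    obtain ⟨Γ, hΓ, h⟩ := hy
    exact (hcS Γ hΓ).zero t y h
  nat t t' a f y hy := by
    rw [mem_chainSup] at hy ⊢
    obtain ⟨Γ, hΓ, h⟩ := hy
    exact ⟨Γ, hΓ, (hcS Γ hΓ).nat t t' a f y h⟩
  base t g := by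
    rw [mem_chainSup]
    exact ⟨y₀, hy₀, (hcS y₀ hy₀).base t g⟩

/-- Evaluation at `ζ₀` as an additive map in the morphism. -/
noncomputable def evalHom {t : T} (ζ₀ : HO H ob hob t) (s : T) :
    (ob s ⟶ ob t) →+ HO H ob hob s where
  toFun a := hm H ob hob a ζ₀
  map_zero' := hm_zero H ob hob ζ₀
  map_add' a b := hm_add H ob hob a b ζ₀

/-- The graph obtained by adjoining `(f₀, ζ₀)`. -/
noncomputable def Γext (m : ∀ t, AddSubgroup ((ob t ⟶ Z) × HO H ob hob t)) {t : T}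
    (f₀ : ob t ⟶ Z) (ζ₀ : HO H ob hob t) :
    ∀ s, AddSubgroup ((ob s ⟶ Z) × HO H ob hob s) := fun s =>
  m s ⊔ (AddMonoidHom.prod (Preadditive.rightComp (ob s) f₀) (evalHom H ob hob ζ₀ s)).range

lemma mem_Γext (m : ∀ t, AddSubgroup ((ob t ⟶ Z) × HO H ob hob t)) {t : T}
    (f₀ : ob t ⟶ Z) (ζ₀ : HO H ob hob t) (s : T) (p : (ob s ⟶ Z) × HO H ob hob s) :
    p ∈ Γext H ob hob m f₀ ζ₀ s ↔
      ∃ q ∈ m s, ∃ a : ob s ⟶ ob t, q + (a ≫ f₀, hm H ob hob a ζ₀) = p := by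
  unfold Γext
  rw [AddSubgroup.mem_sup]
  constructor
  · rintro ⟨q, hq, z, hz, rfl⟩
    rw [AddMonoidHom.mem_range] at hz
    obtain ⟨a, rfl⟩ := hz
    exact ⟨q, hq, a, rfl⟩
  · rintro ⟨q, hq, a, rfl⟩
    exact ⟨q, hq, _, ⟨a, rfl⟩, rfl⟩

lemma isGood_Γext (m : ∀ t, AddSubgroup ((ob t ⟶ Z) × HO H ob hob t))
    (hm' : IsGood H ob hob v η m) {t : T}
    (f₀ : ob t ⟶ Z) (ζ₀ : HO H ob hob t)
    (hζ₀ : ∀ (s : T) (b : ob s ⟶ ob t) (w : HO H ob hob s), (b ≫ f₀, w) ∈ m s →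
      hm H ob hob b ζ₀ = w) :
    IsGood H ob hob v η (Γext H ob hob m f₀ ζ₀) where
  zero s y hy := by
    rw [mem_Γext] at hy
    obtain ⟨⟨f, y'⟩, hq, a, h⟩ := hy
    have h1 : f + a ≫ f₀ = 0 := congrArg Prod.fst h
    have h2 : y' + hm H ob hob a ζ₀ = y := congrArg Prod.snd h
    have h3 : f = (-a) ≫ f₀ := by
      rw [Preadditive.neg_comp]
      exact eq_neg_of_add_eq_zero_left h1
    rw [h3] at hq
    have h4 := hζ₀ s (-a) y' hq
    rw [← h2, ← h4, hm_neg, neg_add_cancel]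
  nat s s' c f y hy := by
    rw [mem_Γext] at hy ⊢
    obtain ⟨⟨f₁, y₁⟩, hq, a, h⟩ := hy
    have h1 : f₁ + a ≫ f₀ = f := congrArg Prod.fst h
    have h2 : y₁ + hm H ob hob a ζ₀ = y := congrArg Prod.snd h
    refine ⟨(c ≫ f₁, hm H ob hob c y₁), hm'.nat s s' c f₁ y₁ hq, c ≫ a, ?_⟩
    rw [← h1, ← h2, Preadditive.comp_add, map_add, hm_comp, Category.assoc]
    rfl
  base s g := by
    have : m s ≤ Γext H ob hob m f₀ ζ₀ s := le_sup_left
    exact this (hm'.base s g)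

variable
    (hex : ∀ (t s : T) (b : ob s ⟶ ob t) (y : HO H ob hob s),
      (∀ (s' : T) (c : ob s' ⟶ ob s), c ≫ b = 0 → hm H ob hob c y = 0) →
        ∃ z : HO H ob hob t, hm H ob hob b z = y)
    (hbip : ∀ s s' : T, ∃ (r : T) (i₁ : ob s ⟶ ob r) (i₂ : ob s' ⟶ ob r)
      (p₁ : ob r ⟶ ob s) (p₂ : ob r ⟶ ob s'),
      i₁ ≫ p₁ = 𝟙 _ ∧ i₂ ≫ p₂ = 𝟙 _ ∧ i₁ ≫ p₂ = 0 ∧ i₂ ≫ p₁ = 0)
    (hfin : ∀ t, Module.Finite k (HO H ob hob t))

include hex hbip hfin in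
/-- A maximal graph is total. -/
lemma exists_mem_of_maximal (m : ∀ t, AddSubgroup ((ob t ⟶ Z) × HO H ob hob t))
    (hm' : IsGood H ob hob v η m)
    (hmax : ∀ Γ, IsGood H ob hob v η Γ → m ≤ Γ → Γ ≤ m) (t : T) (f₀ : ob t ⟶ Z) :
    ∃ ζ₀ : HO H ob hob t, (f₀, ζ₀) ∈ m t := by
  classical
  haveI := hfin t
  let I := Σ s : T, {p : (ob s ⟶ ob t) × HO H ob hob s // (p.1 ≫ f₀, p.2) ∈ m s}
  let K : I → Submodule k (HO H ob hob t) := fun i => LinearMap.ker (hm H ob hob i.2.1.1)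
  let A : I → Set (HO H ob hob t) := fun i => {z | hm H ob hob i.2.1.1 z = i.2.1.2}
  obtain ⟨ζ₀, hζ₀⟩ : ∃ z, ∀ i, z ∈ A i := by
    apply exists_mem_all_cosets K A
    · rintro ⟨s, ⟨⟨b, w⟩, h⟩⟩ z hz z'
      show hm H ob hob b z' = w ↔ hm H ob hob b (z' - z) = 0
      have hz' : hm H ob hob b z = w := hz
      rw [map_sub, hz', sub_eq_zero]
    · rintro ⟨s, ⟨⟨b, w⟩, h⟩⟩
      obtain ⟨z, hz⟩ := hex t s b w (by
        intro s' c hc
        have h1 := hm'.nat s s' c (b ≫ f₀) w h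
        rw [← Category.assoc, hc, zero_comp] at h1
        exact hm'.zero s' _ h1)
      exact ⟨z, hz⟩
    · rintro ⟨s₁, ⟨⟨b₁, w₁⟩, h₁⟩⟩ ⟨s₂, ⟨⟨b₂, w₂⟩, h₂⟩⟩
      obtain ⟨r, i₁, i₂, p₁, p₂, h11, h22, h12, h21⟩ := hbip s₁ s₂
      have hmem : ((p₁ ≫ b₁ + p₂ ≫ b₂) ≫ f₀, hm H ob hob p₁ w₁ + hm H ob hob p₂ w₂) ∈ m r := by
        have e1 := hm'.nat s₁ r p₁ (b₁ ≫ f₀) w₁ h₁
        have e2 := hm'.nat s₂ r p₂ (b₂ ≫ f₀) w₂ h₂
        have := add_mem e1 e2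
        rw [Preadditive.add_comp, Category.assoc, Category.assoc]
        exact this
      refine ⟨⟨r, ⟨(p₁ ≫ b₁ + p₂ ≫ b₂, hm H ob hob p₁ w₁ + hm H ob hob p₂ w₂), hmem⟩⟩, ?_⟩
      intro z hz
      have hz' : hm H ob hob (p₁ ≫ b₁ + p₂ ≫ b₂) z = hm H ob hob p₁ w₁ + hm H ob hob p₂ w₂ := hz
      constructor
      · show hm H ob hob b₁ z = w₁
        have e : b₁ = i₁ ≫ (p₁ ≫ b₁ + p₂ ≫ b₂) := by
          rw [Preadditive.comp_add, ← Category.assoc, ← Category.assoc, h11, h12, Category.id_comp,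
            zero_comp, add_zero]
        rw [e, hm_comp, hz', map_add, ← hm_comp, ← hm_comp, h11, h12, hm_id, hm_zero, add_zero]
      · show hm H ob hob b₂ z = w₂
        have e : b₂ = i₂ ≫ (p₁ ≫ b₁ + p₂ ≫ b₂) := by
          rw [Preadditive.comp_add, ← Category.assoc, ← Category.assoc, h22, h21, Category.id_comp,
            zero_comp, zero_add]
        rw [e, hm_comp, hz', map_add, ← hm_comp, ← hm_comp, h22, h21, hm_id, hm_zero, zero_add]
  have hgood := isGood_Γext H ob hob v η m hm' f₀ ζ₀ (fun s b w h => hζ₀ ⟨s, ⟨(b, w), h⟩⟩)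
  have hle : m ≤ Γext H ob hob m f₀ ζ₀ := fun s => le_sup_left
  have hge := hmax _ hgood hle
  refine ⟨ζ₀, hge t ?_⟩
  rw [mem_Γext]
  refine ⟨0, zero_mem _, 𝟙 _, ?_⟩
  rw [zero_add, Category.id_comp, hm_id]

include hex hbip hfin in
/-- Exactness of the functor of compatible families. -/
theorem fam_exact (hv : ∀ t (g : ob t ⟶ Y), g ≫ v = 0 → ∃ e : ob t ⟶ X, e ≫ u = g)
    (hη : ∀ t (e : ob t ⟶ X), η.1 t (e ≫ u) = 0) :
    ∃ ζ : Fam H ob hob Z, famMap H ob hob v ζ = η := by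
  classical
  obtain ⟨m, -, hmS, hmax⟩ := zorn_le_nonempty₀ {Γ | IsGood H ob hob v η Γ}
    (by
      intro c hcS hc y hy
      exact ⟨chainSup H ob hob c hc y hy, isGood_chainSup H ob hob v η c hcS hc y hy,
        fun z hz t p hp => ⟨z, hz, hp⟩⟩)
    (Γ₀ H ob hob v η) (isGood_Γ₀ H ob hob u v η hv hη)
  have hmS' : IsGood H ob hob v η m := hmS
  have htot : ∀ t (f : ob t ⟶ Z), ∃ z : HO H ob hob t, (f, z) ∈ m t := fun t f =>
    exists_mem_of_maximal H ob hob v η hex hbip hfin m hmS'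
      (fun Γ hΓ hle => hmax hΓ hle) t f
  have huniq : ∀ t (f : ob t ⟶ Z) (z z' : HO H ob hob t), (f, z) ∈ m t → (f, z') ∈ m t →
      z = z' := by
    intro t f z z' h h'
    have h0 : ((0 : ob t ⟶ Z), z - z') ∈ m t := by
      have := sub_mem h h'
      rwa [Prod.mk_sub_mk, sub_self] at this
    exact sub_eq_zero.1 (hmS'.zero t _ h0)
  choose ζ hζ using htot
  refine ⟨⟨fun t => { toFun := ζ t, map_zero' := ?_, map_add' := ?_ }, ?_⟩, ?_⟩
  · exact huniq t 0 _ 0 (hζ t 0) (zero_mem _)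
  · intro f g
    exact huniq t (f + g) _ _ (hζ t (f + g)) (add_mem (hζ t f) (hζ t g))
  · intro t t' a f
    exact huniq t' (a ≫ f) _ _ (hζ t' (a ≫ f)) (hmS'.nat t t' a f _ (hζ t f))
  · apply Subtype.ext
    funext t
    ext g
    exact huniq t (g ≫ v) _ _ (hζ t (g ≫ v)) (hmS'.base t g)

end Groth.Agent.Lib.Helper13.BvdB4
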