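import Mathlib
import Groth.Prelude.Def_CohDer
import Groth.Agent.Lib.Helper13.BvdB2
import Groth.Agent.Lib.Helper13.BvdB4

/-!
# Bondal–Van den Bergh: finite cohomological functors on compacts are representable (helper13)
-/

set_option autoImplicit false
universe w v u
open CategoryTheory CategoryTheory.Limits CategoryTheory.Pretriangulated Opposite

namespace Groth.Agent.Lib.Helper13.BvdB5

open Groth.Agent.Lib.Helper13.BvdB3 Groth.Agent.Lib.Helper13.BvdB4
open Groth.Agent.Lib.Helper40.Cpt Helper89.Compact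

variable {k : Type w} [Field k]
  {D : Type u} [Category.{v} D] [Preadditive D] [HasZeroObject D] [HasShift D ℤ]
  [∀ n : ℤ, (shiftFunctor D n).Additive]
  [Pretriangulated D] [IsTriangulated D] [HasCoproducts.{v} D]
  (H : (Cpt D)ᵒᵖ ⥤ ModuleCat.{v} k) [H.Additive]
  {T : Type v} (ob : T → D) (hob : ∀ t, CohDer.IsCompactObject (ob t))
  (hiso : ∀ X : D, CohDer.IsCompactObject X → ∃ t, Nonempty (X ≅ ob t))
  (hcoh : ∀ T ∈ distTriang D, ∀ (h₁ : CohDer.IsCompactObject T.obj₁)
      (h₂ : CohDer.IsCompactObject T.obj₂) (h₃ : CohDer.IsCompactObject T.obj₃)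
      (y : H.obj (op ⟨T.obj₂, h₂⟩)),
      Hm H (X := ⟨T.obj₁, h₁⟩) (Y := ⟨T.obj₂, h₂⟩) T.mor₁ y = 0 →
        ∃ z : H.obj (op ⟨T.obj₃, h₃⟩),
          Hm H (X := ⟨T.obj₂, h₂⟩) (Y := ⟨T.obj₃, h₃⟩) T.mor₂ z = y)

include hiso hcoh in
lemma hex_of_hcoh (t s : T) (b : ob s ⟶ ob t) (y : HO H ob hob s)
    (hy : ∀ (s' : T) (c : ob s' ⟶ ob s), c ≫ b = 0 → hm H ob hob c y = 0) :
    ∃ z : HO H ob hob t, hm H ob hob b z = y := by
  obtain ⟨W, c, h, hT⟩ := distinguished_cocone_triangle₁ b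
  have hW : CohDer.IsCompactObject W :=
    isCompact_of_distTriang₁ (Triangle.mk c b h) hT (hob s) (hob t)
  obtain ⟨s', ⟨e⟩⟩ := hiso W hW
  have hcb : c ≫ b = 0 := comp_distTriang_mor_zero₁₂ _ hT
  have h1 : hm H ob hob (e.inv ≫ c) y = 0 := hy s' (e.inv ≫ c) (by rw [Category.assoc, hcb, comp_zero])
  have h2 : Hm H (X := ⟨W, hW⟩) (Y := cobj ob hob s) c y = 0 := by
    have h3 : Hm H (X := cobj ob hob s') (Y := cobj ob hob s) (e.inv ≫ c) y =
        Hm H (X := cobj ob hob s') (Y := ⟨W, hW⟩) e.inv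
          (Hm H (X := ⟨W, hW⟩) (Y := cobj ob hob s) c y) :=
      Hm_comp H (X := cobj ob hob s') (Y := ⟨W, hW⟩) (Z := cobj ob hob s) e.inv c y
    have h4 := Hm_comp H (X := ⟨W, hW⟩) (Y := cobj ob hob s') (Z := ⟨W, hW⟩) e.hom e.inv
      (Hm H (X := ⟨W, hW⟩) (Y := cobj ob hob s) c y)
    rw [← h3] at h4
    have h5 : Hm H (X := cobj ob hob s') (Y := cobj ob hob s) (e.inv ≫ c) y = 0 := h1
    rw [h5, map_zero] at h4
    have h6 := Hm_id H (⟨W, hW⟩ : Cpt D) (Hm H (X := ⟨W, hW⟩) (Y := cobj ob hob s) c y)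
    have h7 : (e.hom ≫ e.inv : W ⟶ W) = 𝟙 W := e.hom_inv_id
    rw [h7] at h4
    rw [← h6]
    exact h4
  exact hcoh (Triangle.mk c b h) hT hW (hob s) (hob t) y h2

include hob hiso in
lemma hbip_of_hiso (s s' : T) : ∃ (r : T) (i₁ : ob s ⟶ ob r) (i₂ : ob s' ⟶ ob r)
      (p₁ : ob r ⟶ ob s) (p₂ : ob r ⟶ ob s'),
      i₁ ≫ p₁ = 𝟙 _ ∧ i₂ ≫ p₂ = 𝟙 _ ∧ i₁ ≫ p₂ = 0 ∧ i₂ ≫ p₁ = 0 := by
  haveI : HasFiniteBiproducts D := HasFiniteBiproducts.of_hasFiniteCoproducts
  let A : Bool → D := fun b => cond b (ob s) (ob s')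
  have hA : ∀ b, CohDer.IsCompactObject (A b) := by
    rintro (_ | _)
    · exact hob s'
    · exact hob s
  obtain ⟨r, ⟨e⟩⟩ := hiso (⨁ A) (isCompact_biproduct A hA)
  refine ⟨r, (biproduct.ι A true : ob s ⟶ ⨁ A) ≫ e.hom, (biproduct.ι A false : ob s' ⟶ ⨁ A) ≫ e.hom,
    e.inv ≫ (biproduct.π A true : ⨁ A ⟶ ob s), e.inv ≫ (biproduct.π A false : ⨁ A ⟶ ob s'),
    ?_, ?_, ?_, ?_⟩
  · rw [Category.assoc, e.hom_inv_id_assoc]
    exact biproduct.ι_π_self A true
  · rw [Category.assoc, e.hom_inv_id_assoc]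
    exact biproduct.ι_π_self A false
  · rw [Category.assoc, e.hom_inv_id_assoc]
    exact biproduct.ι_π_ne A (by decide)
  · rw [Category.assoc, e.hom_inv_id_assoc]
    exact biproduct.ι_π_ne A (by decide)

variable (hfin : ∀ t, Module.Finite k (HO H ob hob t))

include hiso hcoh hfin in
/-- The functor of compatible families is homological. -/
lemma isHomological_famFunctor : (famFunctor H ob hob).IsHomological where
  map_zero := by
    intro X Y
    ext ξ
    apply Subtype.ext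
    funext t
    ext f
    show ξ.1 t (f ≫ 0) = 0
    rw [comp_zero, map_zero]
  exact T hT := by
    rw [ShortComplex.ab_exact_iff]
    intro (η : Fam H ob hob T.obj₂.unop) hη
    have hT' := Pretriangulated.unop_distinguished T hT
    have hη' : ∀ t (e : ob t ⟶ T.obj₃.unop), η.1 t (e ≫ T.mor₂.unop) = 0 := by
      intro t e
      have := congrArg (fun ζ : Fam H ob hob T.obj₃.unop => ζ.1 t e) hη
      exact this
    obtain ⟨ζ, hζ⟩ := fam_exact H ob hob T.mor₂.unop T.mor₁.unop η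
      (hex_of_hcoh H ob hob hiso hcoh) (hbip_of_hiso ob hob hiso) hfin
      (by
        intro t g hg
        obtain ⟨e, he⟩ := Triangle.coyoneda_exact₂ _ hT' g hg
        exact ⟨e, he.symm⟩)
      hη'
    exact ⟨ζ, hζ⟩

/-- The functor of compatible families sends coproducts to products. -/
lemma preservesProduct_famFunctor (κ : Type v) (f : κ → Dᵒᵖ) :
    PreservesLimit (Discrete.functor f) (famFunctor H ob hob) := by
  let X : κ → D := fun j => (f j).unop
  let c : Cofan X := Cofan.mk (∐ X) (Sigma.ι X)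
  have hc : IsColimit c := coproductIsCoproduct X
  apply preservesLimit_of_preserves_limit_cone (Cofan.IsColimit.op hc)
  apply isLimitOfReflects (forget AddCommGrpCat.{v})
  apply Nonempty.some
  rw [Types.isLimit_iff_bijective_sectionOfCone]
  constructor
  · intro (ξ : Fam H ob hob (∐ X)) (ξ' : Fam H ob hob (∐ X)) h
    apply (famResEquiv H ob hob X).injective
    funext i
    have := congrArg (fun s => s.1 ⟨i⟩) h
    exact this
  · intro s
    obtain ⟨ζ, hζ⟩ := famRes_surjective H ob hob X (fun i => s.1 ⟨i⟩)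
    refine ⟨ζ, ?_⟩
    apply Subtype.ext
    funext ⟨i⟩
    exact hζ i

lemma preservesProducts_famFunctor (κ : Type v) :
    PreservesLimitsOfShape (Discrete κ) (famFunctor H ob hob) := by
  haveI : ∀ f : κ → Dᵒᵖ, PreservesLimit (Discrete.functor f) (famFunctor H ob hob) :=
    preservesProduct_famFunctor H ob hob κ
  exact preservesLimitsOfShape_of_discrete _

include hiso hcoh hfin in
/-- Brown representability applied to the functor of compatible families. -/
theorem exists_universal (hD : CohDer.IsCompactlyGenerated D) :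
    ∃ (Y : D) (y₀ : Fam H ob hob Y), ∀ X : D,
      Function.Bijective (fun f : X ⟶ Y => famMap H ob hob f y₀) := by
  haveI := isHomological_famFunctor H ob hob hiso hcoh hfin
  haveI : ∀ κ : Type v, PreservesLimitsOfShape (Discrete κ) (famFunctor H ob hob) :=
    preservesProducts_famFunctor H ob hob
  haveI hrep := Helper89.BrownCompact.representable_of_compactlyGenerated hD (famFunctor H ob hob)
  let F := famFunctor H ob hob ⋙ forget AddCommGrpCat.{v}
  let R := F.representableBy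
  refine ⟨F.reprX, R.homEquiv (𝟙 _), fun X => ?_⟩
  have : (fun f : X ⟶ F.reprX => famMap H ob hob f (R.homEquiv (𝟙 _))) = R.homEquiv := by
    funext f
    have := R.homEquiv_comp f (𝟙 _)
    rw [Category.comp_id] at this
    exact this.symm
  rw [this]
  exact R.homEquiv.bijective

section Iso

variable [Linear k D]
  (hlin : ∀ (X Y : Cpt D) (r : k) (f : X ⟶ Y), H.map (r • f).op = r • H.map f.op)

include hlin in
lemma Hm_smul {X Y : Cpt D} (r : k) (f : X.obj ⟶ Y.obj) (x : H.obj (op Y)) :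
    Hm H (X := X) (Y := Y) (r • f) x = r • Hm H (X := X) (Y := Y) f x := by
  have : (ObjectProperty.homMk (r • f) : X ⟶ Y) = r • (ObjectProperty.homMk f : X ⟶ Y) := by
    ext
    rfl
  unfold Hm
  rw [this, hlin]
  rfl

variable {Y : D} (y₀ : Fam H ob hob Y)
  (tX : Cpt D → T) (eX : ∀ X : Cpt D, X.obj ≅ ob (tX X))

/-- The comparison map `Hom(X, Y) → H(X)` for compact `X`. -/
noncomputable def theta (X : Cpt D) (f : X.obj ⟶ Y) : H.obj (op X) :=
  Hm H (X := X) (Y := cobj ob hob (tX X)) (eX X).hom (y₀.1 (tX X) ((eX X).inv ≫ f))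

lemma theta_nat (X' X : Cpt D) (a : X'.obj ⟶ X.obj) (f : X.obj ⟶ Y) :
    theta H ob hob y₀ tX eX X' (a ≫ f) =
      Hm H (X := X') (Y := X) a (theta H ob hob y₀ tX eX X f) := by
  unfold theta
  have h1 : (eX X').inv ≫ a ≫ f = ((eX X').inv ≫ a ≫ (eX X).hom) ≫ ((eX X).inv ≫ f) := by
    simp only [Category.assoc, Iso.hom_inv_id_assoc]
  rw [h1, fam_nat H ob hob y₀ (tX X) (tX X') ((eX X').inv ≫ a ≫ (eX X).hom) ((eX X).inv ≫ f)]
  rw [← Hm_comp H (X := X') (Y := cobj ob hob (tX X')) (Z := cobj ob hob (tX X)),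
    ← Hm_comp H (X := X') (Y := X) (Z := cobj ob hob (tX X))]
  congr 2
  simp only [Iso.hom_inv_id_assoc]

lemma theta_add (X : Cpt D) (f g : X.obj ⟶ Y) :
    theta H ob hob y₀ tX eX X (f + g) =
      theta H ob hob y₀ tX eX X f + theta H ob hob y₀ tX eX X g := by
  unfold theta
  rw [Preadditive.comp_add, map_add, map_add]

include hlin in
lemma theta_smul (X : Cpt D) (r : k) (f : X.obj ⟶ Y) :
    theta H ob hob y₀ tX eX X (r • f) = r • theta H ob hob y₀ tX eX X f := by
  have h1 : r • f = (r • 𝟙 X.obj) ≫ f := by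
    rw [Linear.smul_comp, Category.id_comp]
  rw [h1, theta_nat H ob hob y₀ tX eX X X (r • 𝟙 X.obj) f, Hm_smul H hlin, Hm_id]

variable (hy₀ : ∀ X : D, Function.Bijective (fun f : X ⟶ Y => famMap H ob hob f y₀))

include hy₀ in
lemma y₀_bijective (t : T) : Function.Bijective (fun f : ob t ⟶ Y => y₀.1 t f) := by
  have h : (fun f : ob t ⟶ Y => y₀.1 t f) =
      (fun ξ : Fam H ob hob (ob t) => ξ.1 t (𝟙 (ob t))) ∘
        (fun f : ob t ⟶ Y => famMap H ob hob f y₀) := by
    funext f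
    show y₀.1 t f = y₀.1 t (𝟙 _ ≫ f)
    rw [Category.id_comp]
  rw [h]
  exact (fam_yoneda_bijective H ob hob t).comp (hy₀ (ob t))

include hy₀ in
lemma theta_bijective (X : Cpt D) : Function.Bijective (theta H ob hob y₀ tX eX X) := by
  have h : theta H ob hob y₀ tX eX X =
      (fun x => Hm H (X := X) (Y := cobj ob hob (tX X)) (eX X).hom x) ∘
        (fun f : ob (tX X) ⟶ Y => y₀.1 (tX X) f) ∘ (fun f : X.obj ⟶ Y => (eX X).inv ≫ f) := rfl
  rw [h]
  refine Function.Bijective.comp ?_ (Function.Bijective.comp (y₀_bijective H ob hob y₀ hy₀ _) ?_)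
  · refine Function.bijective_iff_has_inverse.2
      ⟨fun x => Hm H (X := cobj ob hob (tX X)) (Y := X) (eX X).inv x, ?_, ?_⟩
    · intro x
      show Hm H (X := cobj ob hob (tX X)) (Y := X) (eX X).inv
        (Hm H (X := X) (Y := cobj ob hob (tX X)) (eX X).hom x) = x
      rw [← Hm_comp H (X := cobj ob hob (tX X)) (Y := X) (Z := cobj ob hob (tX X))]
      have : ((eX X).inv ≫ (eX X).hom : ob (tX X) ⟶ ob (tX X)) = 𝟙 _ := (eX X).inv_hom_id
      rw [this]
      exact Hm_id H (cobj ob hob (tX X)) x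
    · intro x
      show Hm H (X := X) (Y := cobj ob hob (tX X)) (eX X).hom
        (Hm H (X := cobj ob hob (tX X)) (Y := X) (eX X).inv x) = x
      rw [← Hm_comp H (X := X) (Y := cobj ob hob (tX X)) (Z := X)]
      have : ((eX X).hom ≫ (eX X).inv : X.obj ⟶ X.obj) = 𝟙 _ := (eX X).hom_inv_id
      rw [this]
      exact Hm_id H X x
  · refine Function.bijective_iff_has_inverse.2 ⟨fun g => (eX X).hom ≫ g, ?_, ?_⟩
    · intro f
      simp
    · intro g
      simp

/-- The comparison map as a linear map. -/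
noncomputable def thetaL (X : Cpt D) : (X.obj ⟶ Y) →ₗ[k] H.obj (op X) where
  toFun := theta H ob hob y₀ tX eX X
  map_add' := theta_add H ob hob y₀ tX eX X
  map_smul' r f := theta_smul H ob hob hlin y₀ tX eX X r f

/-- The comparison natural transformation. -/
noncomputable def thetaNat :
    (ObjectProperty.ι (fun K : D => CohDer.IsCompactObject K)).op ⋙ (linearYoneda k D).obj Y ⟶ H where
  app A := ModuleCat.ofHom (thetaL H ob hob hlin y₀ tX eX A.unop)
  naturality A B g := by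
    ext (f : A.unop.obj ⟶ Y)
    exact theta_nat H ob hob y₀ tX eX B.unop A.unop g.unop.hom f

include hy₀ in
lemma isIso_thetaNat : IsIso (thetaNat H ob hob hlin y₀ tX eX) := by
  haveI : ∀ A, IsIso ((thetaNat H ob hob hlin y₀ tX eX).app A) := by
    intro A
    rw [ConcreteCategory.isIso_iff_bijective]
    exact theta_bijective H ob hob y₀ tX eX hy₀ A.unop
  exact NatIso.isIso_of_isIso_app _

end Iso

section Final

variable [Linear k D]

/-- Bondal–Van den Bergh representability. -/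
theorem representable_of_findim (hD : CohDer.IsCompactlyGenerated D)
    (hlin : ∀ (X Y : Cpt D) (r : k) (f : X ⟶ Y), H.map (r • f).op = r • H.map f.op)
    (hcoh' : ∀ T ∈ distTriang D, ∀ (h₁ : CohDer.IsCompactObject T.obj₁)
      (h₂ : CohDer.IsCompactObject T.obj₂) (h₃ : CohDer.IsCompactObject T.obj₃)
      (y : H.obj (op ⟨T.obj₂, h₂⟩)),
      Hm H (X := ⟨T.obj₁, h₁⟩) (Y := ⟨T.obj₂, h₂⟩) T.mor₁ y = 0 →
        ∃ z : H.obj (op ⟨T.obj₃, h₃⟩),
          Hm H (X := ⟨T.obj₂, h₂⟩) (Y := ⟨T.obj₃, h₃⟩) T.mor₂ z = y)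
    (hfin' : ∀ X, Module.Finite k (H.obj X)) :
    ∃ Y : D, Nonempty (H ≅ (ObjectProperty.ι _).op ⋙ (linearYoneda k D).obj Y) := by
  obtain ⟨T, ob, hob, hiso⟩ := BvdB2.exists_small_compacts hD
  obtain ⟨Y, y₀, hy₀⟩ := exists_universal H ob hob hiso hcoh' (fun t => hfin' _) hD
  choose tX eX using (fun X : Cpt D => hiso X.obj X.property)
  haveI := isIso_thetaNat H ob hob hlin y₀ tX (fun X => (eX X).some) hy₀
  exact ⟨Y, ⟨(asIso (thetaNat H ob hob hlin y₀ tX (fun X => (eX X).some))).symm⟩⟩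

end Final

end Groth.Agent.Lib.Helper13.BvdB5
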