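import Mathlib

/-!
# Pushforward of abelian sheaves along a closed embedding preserves colimits (helper13)

Stalkwise argument: `(i_* F)_x = F_z` for `x = i z` and `0` for `x ∉ range i`.
-/

set_option autoImplicit false
universe u
open CategoryTheory Limits TopologicalSpace Opposite TopCat

namespace Groth.Agent.Lib.Helper13.ClosedPushColim

/-- A functor all of whose values are zero objects preserves colimits. -/
theorem preservesColimit_of_isZero {C D J : Type*} [Category C] [Category D] [Category J]
    [HasZeroMorphisms D] (F : C ⥤ D) (h : ∀ c, IsZero (F.obj c)) (K : J ⥤ C) :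
    PreservesColimit K F where
  preserves {c} _ := ⟨{
    desc := fun s => (h c.pt).to_ s.pt
    fac := fun _ j => (h (K.obj j)).eq_of_src _ _
    uniq := fun _ _ _ => (h c.pt).eq_of_src _ _ }⟩

variable {Z X : TopCat.{u}} (i : Z ⟶ X)

/-- the stalk functor on abelian sheaves -/
noncomputable abbrev stalkSh {Y : TopCat.{u}} (y : Y) : TopCat.Sheaf AddCommGrpCat.{u} Y ⥤ AddCommGrpCat.{u} :=
  Sheaf.forget AddCommGrpCat.{u} Y ⋙ Presheaf.stalkFunctor AddCommGrpCat.{u} y

noncomputable def stalkPushIso (hi : Topology.IsInducing i) (z : Z) :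
    TopCat.Sheaf.pushforward AddCommGrpCat.{u} i ⋙ stalkSh (i z) ≅ stalkSh z :=
  NatIso.ofComponents (fun F =>
    @asIso _ _ _ _ (TopCat.Presheaf.stalkPushforward AddCommGrpCat.{u} i F.obj z)
      (TopCat.Presheaf.stalkPushforward.stalkPushforward_iso_of_isInducing _ hi F.obj z))
    (by
      intro F G φ
      dsimp
      refine TopCat.Presheaf.stalk_hom_ext _ fun U hU => ?_
      erw [TopCat.Presheaf.stalkFunctor_map_germ_assoc]
      erw [TopCat.Presheaf.stalkPushforward_germ_assoc, TopCat.Presheaf.stalkPushforward_germ]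
      erw [TopCat.Presheaf.stalkFunctor_map_germ]
      rfl)

theorem isZero_stalk_push (hi : IsClosed (Set.range i)) (x : X) (hx : x ∉ Set.range i)
    (F : TopCat.Sheaf AddCommGrpCat.{u} Z) :
    IsZero ((TopCat.Sheaf.pushforward AddCommGrpCat.{u} i ⋙ stalkSh x).obj F) := by
  rw [IsZero.iff_id_eq_zero]
  refine TopCat.Presheaf.stalk_hom_ext _ fun U hU => ?_
  let W : Opens X := ⟨(Set.range i)ᶜ, hi.isOpen_compl⟩
  have hxW : x ∈ U ⊓ W := ⟨hU, hx⟩
  have hbot : (Opens.map i).obj (U ⊓ W) = ⊥ := by
    ext z
    simp only [Opens.map_coe, Opens.coe_inf, Set.preimage_inter, Set.mem_inter_iff,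
      Set.mem_preimage, SetLike.mem_coe, Opens.coe_bot, Set.mem_empty_iff_false, iff_false,
      not_and]
    intro _ hz
    exact hz ⟨z, rfl⟩
  have hz : IsZero (((TopCat.Sheaf.pushforward AddCommGrpCat.{u} i).obj F).obj.obj (op (U ⊓ W))) := by
    have ht : IsTerminal (F.obj.obj (op ((Opens.map i).obj (U ⊓ W)))) := F.isTerminalOfEqEmpty hbot
    exact (isZero_zero _).of_iso (ht.uniqueUpToIso (isZero_zero _).isTerminal)
  have h1 := TopCat.Presheaf.germ_res ((TopCat.Sheaf.pushforward AddCommGrpCat.{u} i).obj F).obj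
    (homOfLE (inf_le_left : U ⊓ W ≤ U)) x hxW
  erw [← h1]
  erw [Category.assoc, Category.assoc]
  congr 1
  exact hz.eq_of_src _ _

theorem preservesColimit_push_stalk (hi : Topology.IsClosedEmbedding i) (x : X)
    {J : Type u} [SmallCategory J] (K : J ⥤ TopCat.Sheaf AddCommGrpCat.{u} Z) :
    PreservesColimit K (TopCat.Sheaf.pushforward AddCommGrpCat.{u} i ⋙ stalkSh x) := by
  by_cases hx : x ∈ Set.range i
  · obtain ⟨z, rfl⟩ := hx
    exact preservesColimit_of_natIso K (stalkPushIso i hi.toIsInducing z).symm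
  · exact preservesColimit_of_isZero _ (isZero_stalk_push i hi.isClosed_range x hx) K

theorem preservesColimit_push (hi : Topology.IsClosedEmbedding i)
    {J : Type u} [SmallCategory J] (K : J ⥤ TopCat.Sheaf AddCommGrpCat.{u} Z) :
    PreservesColimit K (TopCat.Sheaf.pushforward AddCommGrpCat.{u} i) := by
  have : IsIso (colimit.post K (TopCat.Sheaf.pushforward AddCommGrpCat.{u} i)) := by
    have hst : ∀ x : X, IsIso ((TopCat.Presheaf.stalkFunctor AddCommGrpCat.{u} x).map
        (colimit.post K (TopCat.Sheaf.pushforward AddCommGrpCat.{u} i)).hom) := by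
      intro x
      have := preservesColimit_push_stalk i hi x K
      have h1 := colimit.post_post K (TopCat.Sheaf.pushforward AddCommGrpCat.{u} i) (stalkSh x)
      have h2 : IsIso (colimit.post K (TopCat.Sheaf.pushforward AddCommGrpCat.{u} i ⋙ stalkSh x)) :=
        inferInstance
      have h3 : IsIso (colimit.post (K ⋙ TopCat.Sheaf.pushforward AddCommGrpCat.{u} i) (stalkSh x)) :=
        inferInstance
      have h4 : IsIso ((stalkSh x).map
          (colimit.post K (TopCat.Sheaf.pushforward AddCommGrpCat.{u} i))) := by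
        rw [← h1] at h2
        exact IsIso.of_isIso_comp_left
          (colimit.post (K ⋙ TopCat.Sheaf.pushforward AddCommGrpCat.{u} i) (stalkSh x)) _
      exact h4
    exact TopCat.Presheaf.isIso_of_stalkFunctor_map_iso _
  exact preservesColimit_of_isIso_post _ _

theorem preservesColimitsOfSize_push (hi : Topology.IsClosedEmbedding i) :
    PreservesColimitsOfSize.{u, u} (TopCat.Sheaf.pushforward AddCommGrpCat.{u} i) :=
  ⟨fun {J} _ => ⟨fun {K} => preservesColimit_push i hi K⟩⟩

end Groth.Agent.Lib.Helper13.ClosedPushColim
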