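import Groth.Agent.Lib.Helper13.ClosedPushColim
import Groth.Agent.Lib.Helper42.ModSheaf
import Groth.Agent.Lib.Helper53.ModGroth

/-!
# Pushforward of O-modules along a closed immersion preserves colimits and is a left adjoint
(helper13)
-/

set_option autoImplicit false
universe u
open CategoryTheory Limits TopologicalSpace Opposite AlgebraicGeometry

namespace Groth.Agent.Lib.Helper13.ClosedPushMod

open Groth.Agent.Lib.Helper42.ModSheaf Groth.Agent.Lib.Helper53.ModGroth

variable {Z X : Scheme.{u}} (i : Z ⟶ X)

/-- the underlying abelian sheaf of the pushforward -/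
noncomputable def pushToSheafIso :
    Scheme.Modules.pushforward i ⋙ SheafOfModules.toSheaf.{u} X.ringCatSheaf ≅
      SheafOfModules.toSheaf.{u} Z.ringCatSheaf ⋙
        TopCat.Sheaf.pushforward AddCommGrpCat.{u} i.base :=
  NatIso.ofComponents (fun _ => Iso.refl _) (by
    intro M N f
    rfl)

theorem preservesColimitsOfSize_pushforward [IsClosedImmersion i] :
    PreservesColimitsOfSize.{u, u} (Scheme.Modules.pushforward i) := by
  have hi : Topology.IsClosedEmbedding i.base := i.isClosedEmbedding
  have h0 := ClosedPushColim.preservesColimitsOfSize_push i.base hi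
  have h1 : PreservesColimitsOfSize.{u, u} (SheafOfModules.toSheaf.{u} Z.ringCatSheaf) :=
    toSheaf_preservesColimitsOfSize (J := Opens.grothendieckTopology Z) Z.ringCatSheaf
  have h2 : ReflectsColimitsOfSize.{u, u} (SheafOfModules.toSheaf.{u} X.ringCatSheaf) :=
    toSheaf_reflectsColimitsOfSize (J := Opens.grothendieckTopology X) X.ringCatSheaf
  have h3 : PreservesColimitsOfSize.{u, u}
      (SheafOfModules.toSheaf.{u} Z.ringCatSheaf ⋙
        TopCat.Sheaf.pushforward AddCommGrpCat.{u} i.base) :=
    @comp_preservesColimits _ _ _ _ _ _ _ _ h1 h0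
  have h4 : PreservesColimitsOfSize.{u, u}
      (Scheme.Modules.pushforward i ⋙ SheafOfModules.toSheaf.{u} X.ringCatSheaf) :=
    @preservesColimits_of_natIso _ _ _ _ _ _ (pushToSheafIso i).symm h3
  exact @preservesColimits_of_reflects_of_preserves _ _ _ _ _ _ (Scheme.Modules.pushforward i)
    (SheafOfModules.toSheaf.{u} X.ringCatSheaf) h4 h2

theorem isLeftAdjoint_pushforward [IsClosedImmersion i] :
    (Scheme.Modules.pushforward i).IsLeftAdjoint := by
  have : PreservesColimitsOfSize.{u, u}
      (SheafOfModules.pushforward.{u} i.toRingCatSheafHom) := preservesColimitsOfSize_pushforward i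
  have := isGrothendieckAbelian (Opens.grothendieckTopology Z) Z.ringCatSheaf
  have : WellPowered.{u} (SheafOfModules.{u} Z.ringCatSheaf) := IsGrothendieckAbelian.wellPowered _
  have : WellPowered.{u} (SheafOfModules.{u} Z.ringCatSheaf)ᵒᵖ := Abelian.wellPowered_opposite
  exact isLeftAdjoint_of_preservesColimits_of_isSeparating
    (isSeparating_gen (Opens.grothendieckTopology Z) Z.ringCatSheaf)
    (SheafOfModules.pushforward.{u} i.toRingCatSheafHom)

end Groth.Agent.Lib.Helper13.ClosedPushMod
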