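import Groth.Agent.Lib.Helper84.KInj
import Mathlib.Algebra.Homology.HomotopyCategory.KInjective
import Mathlib.Algebra.Homology.HomologicalComplexLimits
import Mathlib.Algebra.Homology.Factorizations.CM5a

/-!
# Cochains into limit complexes, products of K-injective complexes — helper13

* `cochain_ext_of_isLimit`, `exists_cochain_of_isLimit`: cochains into the point of a limit cone
  of cochain complexes are the same as compatible families of cochains.
* `isKInjective_of_isLimit_discrete`: a product of K-injective complexes is K-injective.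
* `isLimit_Q_fan`: `Q` sends a product of K-injective complexes to a product in `D(A)`.
-/

set_option autoImplicit false
universe w v u
open CategoryTheory CategoryTheory.Limits Opposite

namespace Groth.Agent.Lib.Helper13.CochainLimit

open CochainComplex HomComplex

variable {A : Type u} [Category.{v} A] [Abelian A]

section General

variable {J : Type*} [Category J] [HasLimitsOfShape J A] {F : J ⥤ CochainComplex A ℤ}
  (c : Cone F) (hc : IsLimit c)

include hc in
/-- joint monicity of the projections from a limit complex, for cochains -/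
lemma cochain_ext_of_isLimit {K : CochainComplex A ℤ} {d : ℤ} (β β' : Cochain K c.pt d)
    (h : ∀ j : J, β.comp (Cochain.ofHom (c.π.app j)) (add_zero d) =
      β'.comp (Cochain.ofHom (c.π.app j)) (add_zero d)) : β = β' := by
  ext p q hpq
  have hq := isLimitOfPreserves (HomologicalComplex.eval A (ComplexShape.up ℤ) q) hc
  apply hq.hom_ext
  intro j
  have := Cochain.congr_v (h j) p q hpq
  simp only [Cochain.comp_zero_cochain_v, Cochain.ofHom_v] at this
  exact this

include hc in
/-- assembling compatible cochains into a cochain to a limit complex -/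
lemma exists_cochain_of_isLimit {K : CochainComplex A ℤ} {d : ℤ}
    (α : ∀ j : J, Cochain K (F.obj j) d)
    (hα : ∀ {j j' : J} (φ : j ⟶ j'), (α j).comp (Cochain.ofHom (F.map φ)) (add_zero d) = α j') :
    ∃ β : Cochain K c.pt d,
      ∀ j : J, β.comp (Cochain.ofHom (c.π.app j)) (add_zero d) = α j := by
  have hq := fun q : ℤ =>
    isLimitOfPreserves (HomologicalComplex.eval A (ComplexShape.up ℤ) q) hc
  let cc : ∀ (p q : ℤ) (_ : p + d = q),
      Cone (F ⋙ HomologicalComplex.eval A (ComplexShape.up ℤ) q) :=
    fun p q hpq =>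
      { pt := K.X p
        π :=
          { app := fun j => (α j).v p q hpq
            naturality := fun j j' φ => by
              have := Cochain.congr_v (hα φ) p q hpq
              simp only [Cochain.comp_zero_cochain_v, Cochain.ofHom_v] at this
              simp only [Functor.const_obj_obj, Functor.const_obj_map, Category.id_comp,
                Functor.comp_map, HomologicalComplex.eval_map]
              exact this.symm } }
  refine ⟨Cochain.mk (fun p q hpq => (hq q).lift (cc p q hpq)), fun j => ?_⟩
  ext p q hpq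
  simp only [Cochain.comp_zero_cochain_v, Cochain.ofHom_v, Cochain.mk_v]
  exact (hq q).fac (cc p q hpq) j

end General

section Products

variable {ι : Type*} [HasLimitsOfShape (Discrete ι) A] {I : ι → CochainComplex A ℤ}
  (c : Fan I) (hc : IsLimit c)

include hc in
/-- Two chain maps to a product are homotopic if all their components are. -/
lemma nonempty_homotopy_of_isLimit_fan {K : CochainComplex A ℤ} (g g' : K ⟶ c.pt)
    (h : ∀ i : ι, Nonempty (Homotopy (g ≫ c.proj i) (g' ≫ c.proj i))) :
    Nonempty (Homotopy g g') := by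
  classical
  have ho : ∀ i, Homotopy (g ≫ c.proj i) (g' ≫ c.proj i) := fun i => (h i).some
  let α : ∀ i : ι, Cochain K (I i) (-1) := fun i => (Cochain.equivHomotopy _ _ (ho i)).1
  have hα' : ∀ i : ι, Cochain.ofHom (g ≫ c.proj i) =
      δ (-1) 0 (α i) + Cochain.ofHom (g' ≫ c.proj i) := fun i =>
    (Cochain.equivHomotopy _ _ (ho i)).2
  obtain ⟨β, hβ⟩ := exists_cochain_of_isLimit c hc (fun j => α j.as) (by
    rintro ⟨i⟩ ⟨i'⟩ φ
    obtain rfl : i = i' := Discrete.eq_of_hom φ
    obtain rfl : φ = 𝟙 _ := Subsingleton.elim _ _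
    ext p q hpq
    simp)
  refine ⟨(Cochain.equivHomotopy g g').symm ⟨β, ?_⟩⟩
  apply cochain_ext_of_isLimit c hc
  rintro ⟨i⟩
  rw [Cochain.add_comp, ← δ_comp_ofHom, hβ ⟨i⟩, ← Cochain.ofHom_comp, ← Cochain.ofHom_comp]
  exact hα' i

include hc in
/-- A product of K-injective complexes is K-injective. -/
lemma isKInjective_of_isLimit_fan (hI : ∀ i, (I i).IsKInjective) : c.pt.IsKInjective := by
  refine ⟨fun {K} f hK => ?_⟩
  apply nonempty_homotopy_of_isLimit_fan c hc
  intro i
  have := hI i
  rw [zero_comp]
  exact IsKInjective.nonempty_homotopy_zero _ hK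

variable [HasDerivedCategory.{w} A]

open DerivedCategory in
include hc in
/-- `Q` sends a product of K-injective complexes to a product in the derived category. -/
lemma nonempty_isLimit_Q_fan (hI : ∀ i, (I i).IsKInjective) :
    Nonempty (IsLimit (Fan.mk (Q.obj c.pt) (fun i => Q.map (c.proj i)))) := by
  have hP := isKInjective_of_isLimit_fan c hc hI
  -- existence and uniqueness of lifts from `Q.obj Z`
  have hex : ∀ (Z : CochainComplex A ℤ) (φ : ∀ i, Q.obj Z ⟶ Q.obj (I i)),
      ∃ ψ : Q.obj Z ⟶ Q.obj c.pt, ∀ i, ψ ≫ Q.map (c.proj i) = φ i := by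
    intro Z φ
    have := hI
    choose g hg using fun i => Groth.Agent.Lib.Helper84.KInj.exists_Q_map_eq Z (I i) (φ i)
    refine ⟨Q.map (Fan.IsLimit.lift hc g), fun i => ?_⟩
    rw [← Functor.map_comp, Fan.IsLimit.fac, hg]
  have huniq : ∀ (Z : CochainComplex A ℤ) (ψ ψ' : Q.obj Z ⟶ Q.obj c.pt),
      (∀ i, ψ ≫ Q.map (c.proj i) = ψ' ≫ Q.map (c.proj i)) → ψ = ψ' := by
    intro Z ψ ψ' h
    obtain ⟨g, rfl⟩ := Groth.Agent.Lib.Helper84.KInj.exists_Q_map_eq Z c.pt ψ
    obtain ⟨g', rfl⟩ := Groth.Agent.Lib.Helper84.KInj.exists_Q_map_eq Z c.pt ψ'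
    obtain ⟨ho⟩ := nonempty_homotopy_of_isLimit_fan c hc g g' (fun i => by
      have := hI i
      apply Groth.Agent.Lib.Helper84.KInj.nonempty_homotopy_of_Q_map_eq
      rw [Functor.map_comp, Functor.map_comp]
      exact h i)
    exact DerivedCategory.Q_map_eq_of_homotopy (C := A) ho
  -- general `T`
  have hex' : ∀ (T : DerivedCategory A) (φ : ∀ i, T ⟶ Q.obj (I i)),
      ∃ ψ : T ⟶ Q.obj c.pt, ∀ i, ψ ≫ Q.map (c.proj i) = φ i := by
    intro T φ
    let e : Q.obj (Q.objPreimage T) ≅ T := Q.objObjPreimageIso T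
    obtain ⟨ψ, hψ⟩ := hex (Q.objPreimage T) (fun i => e.hom ≫ φ i)
    exact ⟨e.inv ≫ ψ, fun i => by rw [Category.assoc, hψ, Iso.inv_hom_id_assoc]⟩
  have huniq' : ∀ (T : DerivedCategory A) (ψ ψ' : T ⟶ Q.obj c.pt),
      (∀ i, ψ ≫ Q.map (c.proj i) = ψ' ≫ Q.map (c.proj i)) → ψ = ψ' := by
    intro T ψ ψ' h
    let e : Q.obj (Q.objPreimage T) ≅ T := Q.objObjPreimageIso T
    rw [← cancel_epi e.hom]
    apply huniq
    intro i
    rw [Category.assoc, Category.assoc, h i]
  choose lift hlift using hex'
  exact ⟨Fan.IsLimit.mk _ (fun s => lift s.pt s.proj) (fun s i => hlift s.pt s.proj i)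
    (fun s m hm => huniq' _ _ _ (fun i => by
      rw [hlift s.pt s.proj i]
      exact hm i))⟩

end Products

end Groth.Agent.Lib.Helper13.CochainLimit
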