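import Mathlib.CategoryTheory.Abelian.GrothendieckAxioms.Colim
import Mathlib.Algebra.Homology.ShortComplex.Exact
import Mathlib.Algebra.Homology.ShortComplex.Abelian
import Mathlib.Algebra.Homology.HomologicalComplexLimits
import Mathlib.Algebra.Homology.ShortComplex.HomologicalComplex
import Mathlib.CategoryTheory.Limits.Preserves.Shapes.Products

/-!
# Coproducts of exact short complexes are exact (AB4)
-/

universe w v u

open CategoryTheory Limits

namespace Groth.Agent.Lib.Helper13

variable {A : Type u} [Category.{v} A] [Abelian A] {J : Type w}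
  [HasColimitsOfShape (Discrete J) A] [HasExactColimitsOfShape (Discrete J) A]

lemma shortComplex_exact_of_isColimit_cofan (S : J → ShortComplex A) (T : ShortComplex A)
    (ι : ∀ j, S j ⟶ T)
    (h₁ : IsColimit (Cofan.mk T.X₁ (fun j => (ι j).τ₁)))
    (h₂ : IsColimit (Cofan.mk T.X₂ (fun j => (ι j).τ₂)))
    (h₃ : IsColimit (Cofan.mk T.X₃ (fun j => (ι j).τ₃)))
    (hS : ∀ j, (S j).Exact) : T.Exact := by
  rw [ShortComplex.exact_iff_mono_cokernel_desc]
  let c : ∀ j, cokernel (S j).f ⟶ cokernel T.f := fun j =>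
    cokernel.map (S j).f T.f (ι j).τ₁ (ι j).τ₂ (ι j).comm₁₂.symm
  have hcπ : ∀ j, cokernel.π (S j).f ≫ c j = (ι j).τ₂ ≫ cokernel.π T.f := fun j => by
    simp [c]
  have hc : IsColimit (Cofan.mk (cokernel T.f) c) := by
    have fac₂ : ∀ (s : Cofan (fun j => cokernel (S j).f)) (j : J),
        (ι j).τ₂ ≫ Cofan.IsColimit.desc h₂ (fun j => cokernel.π (S j).f ≫ s.inj j) =
          cokernel.π (S j).f ≫ s.inj j := fun s j =>
      Cofan.IsColimit.fac h₂ (fun j => cokernel.π (S j).f ≫ s.inj j) j
    refine Cofan.IsColimit.mk _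
      (fun s => cokernel.desc T.f
        (Cofan.IsColimit.desc h₂ (fun j => cokernel.π (S j).f ≫ s.inj j)) ?_) ?_ ?_
    · refine Cofan.IsColimit.hom_ext h₁ _ _ (fun j => ?_)
      change (ι j).τ₁ ≫ T.f ≫ _ = (ι j).τ₁ ≫ 0
      rw [(ι j).comm₁₂_assoc, fac₂, cokernel.condition_assoc, zero_comp, comp_zero]
    · intro s j
      change c j ≫ cokernel.desc T.f _ _ = s.inj j
      rw [← cancel_epi (cokernel.π (S j).f), reassoc_of% (hcπ j), cokernel.π_desc, fac₂]
    · intro s m hm
      rw [← cancel_epi (cokernel.π T.f), cokernel.π_desc]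
      refine Cofan.IsColimit.hom_ext h₂ _ _ (fun j => ?_)
      change (ι j).τ₂ ≫ cokernel.π T.f ≫ m = (ι j).τ₂ ≫ _
      rw [fac₂, ← hm j]
      change _ = cokernel.π (S j).f ≫ c j ≫ m
      rw [reassoc_of% (hcπ j)]
  have : ∀ j, Mono (cokernel.desc (S j).f (S j).g (S j).zero) := fun j =>
    (ShortComplex.exact_iff_mono_cokernel_desc _).1 (hS j)
  let φ : Discrete.functor (fun j => cokernel (S j).f) ⟶ Discrete.functor (fun j => (S j).X₃) :=
    Discrete.natTrans (fun ⟨j⟩ => cokernel.desc (S j).f (S j).g (S j).zero)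
  have : ∀ j, Mono (φ.app j) := fun ⟨j⟩ => by dsimp [φ]; infer_instance
  have : Mono φ := NatTrans.mono_of_mono_app φ
  refine colim.map_mono' φ hc h₃ _ (fun ⟨j⟩ => ?_)
  change c j ≫ cokernel.desc T.f T.g T.zero = cokernel.desc (S j).f (S j).g (S j).zero ≫ (ι j).τ₃
  rw [← cancel_epi (cokernel.π (S j).f), reassoc_of% (hcπ j), cokernel.π_desc,
    cokernel.π_desc_assoc, (ι j).comm₂₃]

/-- In an AB4 abelian category, a coproduct of complexes exact in degree `n` is exact in degree `n`. -/
lemma exactAt_sigma {ι' : Type*} {c : ComplexShape ι'} (F : J → HomologicalComplex A c)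
    (n : ι') (h : ∀ j, (F j).ExactAt n) : (∐ F).ExactAt n := by
  have hcol := coproductIsCoproduct F
  exact shortComplex_exact_of_isColimit_cofan (fun j => (F j).sc n) ((∐ F).sc n)
    (fun j => (HomologicalComplex.shortComplexFunctor A c n).map (Sigma.ι F j))
    (isColimitCofanMkObjOfIsColimit (HomologicalComplex.eval A c _) _ _ hcol)
    (isColimitCofanMkObjOfIsColimit (HomologicalComplex.eval A c _) _ _ hcol)
    (isColimitCofanMkObjOfIsColimit (HomologicalComplex.eval A c _) _ _ hcol) h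

end Groth.Agent.Lib.Helper13
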