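import Mathlib

open CategoryTheory CategoryTheory.Limits Opposite Simplicial

namespace Groth.Agent.Lib.Helper13.CosimpLim

universe v u
variable {A : Type u} [Category.{v} A] [HasLimitsOfSize.{0, 0} A]

/-- index type -/
abbrev Idx (k : SimplexCategory) := Σ m : ℕ, (k ⟶ SimplexCategory.mk m)

lemma π_congr (G : ℕ → A) {k : SimplexCategory} {m : ℕ} {a b : k ⟶ SimplexCategory.mk m} (h : a = b) :
    Pi.π (fun p : Idx k => G p.1) ⟨m, a⟩ = Pi.π (fun p : Idx k => G p.1) ⟨m, b⟩ := by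
  subst h; rfl

/-- coinduced cosimplicial object from a family `G : ℕ → A`. -/
noncomputable def coind (G : ℕ → A) : SimplexCategory ⥤ A where
  obj k := ∏ᶜ fun p : Idx k => G p.1
  map {k k'} g := Pi.lift fun p : Idx k' => Pi.π (fun p : Idx k => G p.1) ⟨p.1, g ≫ p.2⟩
  map_id k := by
    apply Pi.hom_ext
    rintro ⟨m, a⟩
    simp only [Pi.lift_π, Category.id_comp]
    exact π_congr G (Category.id_comp a)
  map_comp f g := by
    apply Pi.hom_ext
    rintro ⟨m, a⟩
    simp only [Pi.lift_π, Category.assoc]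
    exact π_congr G (Category.assoc _ _ _)

/-- projections -/
noncomputable def πc (G : ℕ → A) (k : SimplexCategory) (p : Idx k) : (coind G).obj k ⟶ G p.1 :=
  Pi.π (fun p : Idx k => G p.1) p

/-- lifting -/
noncomputable def liftc (G : ℕ → A) (k : SimplexCategory) {X : A} (φ : ∀ p : Idx k, X ⟶ G p.1) :
    X ⟶ (coind G).obj k := Pi.lift φ

@[reassoc (attr := simp)]
lemma liftc_π (G : ℕ → A) (k : SimplexCategory) {X : A} (φ : ∀ p : Idx k, X ⟶ G p.1) (p : Idx k) :
    liftc G k φ ≫ πc G k p = φ p :=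
  Pi.lift_π φ p

lemma hom_ext_c (G : ℕ → A) (k : SimplexCategory) {X : A} {f g : X ⟶ (coind G).obj k}
    (h : ∀ p, f ≫ πc G k p = g ≫ πc G k p) : f = g :=
  Pi.hom_ext _ _ h

@[reassoc (attr := simp)]
lemma coind_map_π (G : ℕ → A) {k k' : SimplexCategory} (g : k ⟶ k') (p : Idx k') :
    (coind G).map g ≫ πc G k' p = πc G k ⟨p.1, g ≫ p.2⟩ := by
  simp [coind, πc]

lemma πc_congr (G : ℕ → A) {k : SimplexCategory} {m : ℕ} {a b : k ⟶ SimplexCategory.mk m} (h : a = b) :
    πc G k ⟨m, a⟩ = πc G k ⟨m, b⟩ := by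
  subst h; rfl

/-- the unit `F ⟶ coind F_•` -/
noncomputable def unit (F : SimplexCategory ⥤ A) : F ⟶ coind (fun m => F.obj (SimplexCategory.mk m)) where
  app k := liftc _ k fun p : Idx k => F.map p.2
  naturality k k' g := by
    apply hom_ext_c
    intro p
    rw [Category.assoc, Category.assoc, coind_map_π, liftc_π, liftc_π, F.map_comp]

instance (F : SimplexCategory ⥤ A) : Mono (unit F) := by
  have : ∀ k, Mono ((unit F).app k) := fun k => by
    have : (unit F).app k ≫ πc (fun m => F.obj (SimplexCategory.mk m)) k ⟨k.len, 𝟙 k⟩ = 𝟙 _ := by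
      dsimp [unit]
      rw [liftc_π]
      exact F.map_id k
    exact mono_of_mono_fac this
  exact NatTrans.mono_of_mono_app _


section Homotopy

open AlgebraicTopology SSet.Augmented.StandardSimplex

lemma shift_δ_zero {n : ℕ} {Δ : SimplexCategory} (f : ⦋n⦌ ⟶ Δ) :
    SimplexCategory.δ 0 ≫ shift f = f := by
  apply SimplexCategory.Hom.ext
  ext i : 2
  rfl

lemma shift_δ_succ {n : ℕ} {Δ : SimplexCategory} (f : ⦋n + 1⦌ ⟶ Δ) (i : Fin (n + 2)) :
    SimplexCategory.δ i.succ ≫ shift f = shift (SimplexCategory.δ i ≫ f) := by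
  apply SimplexCategory.Hom.ext
  ext j : 2
  dsimp [SimplexCategory.δ]
  cases j using Fin.cases <;> simp <;> rfl

variable [Preadditive A]

/-- the contracting homotopy -/
noncomputable def hh (G : ℕ → A) (n : ℕ) : (coind G).obj ⦋n + 1⦌ ⟶ (coind G).obj ⦋n⦌ :=
  liftc G ⦋n⦌ fun p => πc G ⦋n + 1⦌ ⟨p.1, shift p.2⟩

lemma hh_spec (G : ℕ → A) (n : ℕ) :
    AlternatingCofaceMapComplex.objD (coind G) (n + 1) ≫ hh G (n + 1) +
      hh G n ≫ AlternatingCofaceMapComplex.objD (coind G) n = 𝟙 _ := by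
  apply hom_ext_c
  rintro ⟨m, f⟩
  have h1 : ∀ i : Fin (n + 3), CosimplicialObject.δ (coind G) i ≫ hh G (n + 1) ≫ πc G ⦋n + 1⦌ ⟨m, f⟩ =
      πc G ⦋n + 1⦌ ⟨m, SimplexCategory.δ i ≫ shift f⟩ := fun i => by
    dsimp only [hh, CosimplicialObject.δ]
    rw [liftc_π, coind_map_π]
  have h2 : ∀ i : Fin (n + 2), hh G n ≫ CosimplicialObject.δ (coind G) i ≫ πc G ⦋n + 1⦌ ⟨m, f⟩ =
      πc G ⦋n + 1⦌ ⟨m, shift (SimplexCategory.δ i ≫ f)⟩ := fun i => by
    dsimp only [hh, CosimplicialObject.δ]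
    rw [coind_map_π, liftc_π]
  simp only [AlternatingCofaceMapComplex.objD, Preadditive.add_comp, Preadditive.sum_comp,
    Preadditive.comp_sum, Preadditive.zsmul_comp, Preadditive.comp_zsmul, Category.assoc,
    Category.id_comp, h1, h2]
  rw [Fin.sum_univ_succ]
  simp only [Fin.val_zero, pow_zero, one_smul, Fin.val_succ, pow_succ, mul_neg, mul_one, neg_smul,
    Finset.sum_neg_distrib]
  rw [πc_congr G (shift_δ_zero f)]
  have : ∀ i : Fin (n + 2), πc G ⦋n + 1⦌ ⟨m, SimplexCategory.δ i.succ ≫ shift f⟩ =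
      πc G ⦋n + 1⦌ ⟨m, shift (SimplexCategory.δ i ≫ f)⟩ := fun i => πc_congr G (shift_δ_succ f i)
  simp only [this]
  abel

end Homotopy


section Acyclic

open AlgebraicTopology

variable {A : Type u} [Category.{v} A] [Abelian A] [HasLimitsOfSize.{0, 0} A]

variable (A) in
/-- the alternating coface complex functor on `SimplexCategory ⥤ A`. -/
noncomputable def Cx : (SimplexCategory ⥤ A) ⥤ CochainComplex A ℕ := alternatingCofaceMapComplex A

omit [HasLimitsOfSize.{0, 0} A] in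
@[simp] lemma Cx_obj_X (F : SimplexCategory ⥤ A) (n : ℕ) : ((Cx A).obj F).X n = F.obj ⦋n⦌ := rfl

omit [HasLimitsOfSize.{0, 0} A] in
lemma Cx_obj_d (F : SimplexCategory ⥤ A) (n : ℕ) :
    ((Cx A).obj F).d n (n + 1) = AlternatingCofaceMapComplex.objD F n := by
  simp [Cx, alternatingCofaceMapComplex, AlternatingCofaceMapComplex.obj]

omit [HasLimitsOfSize.{0, 0} A] in
@[simp] lemma Cx_map_f {F G : SimplexCategory ⥤ A} (φ : F ⟶ G) (n : ℕ) :
    ((Cx A).map φ).f n = φ.app ⦋n⦌ := rfl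

omit [HasLimitsOfSize.{0, 0} A] in
lemma exact_of_contraction (S : ShortComplex A) (r : S.X₂ ⟶ S.X₁) (s : S.X₃ ⟶ S.X₂)
    (h : r ≫ S.f + S.g ≫ s = 𝟙 S.X₂) : S.Exact := by
  rw [ShortComplex.exact_iff_exact_up_to_refinements]
  intro T x₂ hx₂
  refine ⟨T, 𝟙 T, inferInstance, x₂ ≫ r, ?_⟩
  rw [Category.id_comp, Category.assoc]
  calc x₂ = x₂ ≫ 𝟙 _ := (Category.comp_id _).symm
   _ = x₂ ≫ (r ≫ S.f + S.g ≫ s) := by rw [h]
   _ = x₂ ≫ r ≫ S.f := by rw [Preadditive.comp_add, reassoc_of% hx₂, zero_comp, add_zero]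

lemma exactAt_coind (G : ℕ → A) (n : ℕ) :
    ((Cx A).obj (coind G)).ExactAt (n + 1) := by
  rw [HomologicalComplex.exactAt_iff' _ n (n + 1) (n + 2) (by simp) (by simp)]
  refine exact_of_contraction _ (hh G n) (hh G (n + 1)) ?_
  have := (add_comm _ _).trans (hh_spec G n)
  show (hh G n ≫ ((Cx A).obj (coind G)).d n (n + 1) : (coind G).obj ⦋n + 1⦌ ⟶ (coind G).obj ⦋n + 1⦌) +
    (((Cx A).obj (coind G)).d (n + 1) (n + 2) ≫ hh G (n + 1) : (coind G).obj ⦋n + 1⦌ ⟶ (coind G).obj ⦋n + 1⦌) = 𝟙 _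
  rw [Cx_obj_d, Cx_obj_d]
  exact this

lemma exactAt_of_injective (F : SimplexCategory ⥤ A) [Injective F] (n : ℕ) :
    ((Cx A).obj F).ExactAt (n + 1) := by
  rw [HomologicalComplex.exactAt_iff_isZero_homology]
  let r := Injective.factorThru (𝟙 F) (unit F)
  have hr : unit F ≫ r = 𝟙 F := Injective.comp_factorThru _ _
  rw [IsZero.iff_id_eq_zero]
  have h0 : IsZero (((Cx A).obj
      (coind (fun m => F.obj (SimplexCategory.mk m)))).homology (n + 1)) :=
    (HomologicalComplex.exactAt_iff_isZero_homology _ _).1 (exactAt_coind _ n)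
  have : 𝟙 (((Cx A).obj F).homology (n + 1)) =
      HomologicalComplex.homologyMap ((Cx A).map (unit F)) (n + 1) ≫
        HomologicalComplex.homologyMap ((Cx A).map r) (n + 1) := by
    rw [← HomologicalComplex.homologyMap_comp, ← Functor.map_comp, hr, CategoryTheory.Functor.map_id,
      HomologicalComplex.homologyMap_id]
  rw [this, h0.eq_zero_of_tgt (HomologicalComplex.homologyMap _ _), zero_comp]

end Acyclic

end Groth.Agent.Lib.Helper13.CosimpLim
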