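import Groth.Agent.Lib.Helper13.CosimpLim

open CategoryTheory CategoryTheory.Limits Opposite Simplicial

namespace Groth.Agent.Lib.Helper13.CosimpLim

universe v u
variable {A : Type u} [Category.{v} A] [Abelian A]

section Lim

open AlgebraicTopology

lemma Cx_obj_d' (F : SimplexCategory ⥤ A) (n : ℕ) :
    ((Cx A).obj F).d n (n + 1) = ∑ i : Fin (n + 2), (-1 : ℤ) ^ (i : ℕ) • F.map (SimplexCategory.δ i) := by
  rw [Cx_obj_d]
  rfl

/-- 0-cycles -/
noncomputable abbrev Z₀ (F : SimplexCategory ⥤ A) : A := ((Cx A).obj F).cycles 0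

/-- inclusion of 0-cycles -/
noncomputable def ι₀ (F : SimplexCategory ⥤ A) : Z₀ F ⟶ F.obj ⦋0⦌ := ((Cx A).obj F).iCycles 0

instance (F : SimplexCategory ⥤ A) : Mono (ι₀ F) :=
  inferInstanceAs (Mono (((Cx A).obj F).iCycles 0))

lemma d01_eq (F : SimplexCategory ⥤ A) :
    ((Cx A).obj F).d 0 1 = (F.map (SimplexCategory.δ (0 : Fin 2)) - F.map (SimplexCategory.δ (1 : Fin 2)) :
      F.obj ⦋0⦌ ⟶ F.obj ⦋1⦌) := by
  rw [Cx_obj_d', Fin.sum_univ_two]
  simp only [Fin.val_zero, pow_zero, one_smul, Fin.val_one, pow_one, neg_smul]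
  rw [← sub_eq_add_neg]

lemma ι₀_δ (F : SimplexCategory ⥤ A) :
    ι₀ F ≫ F.map (SimplexCategory.δ (0 : Fin 2)) = ι₀ F ≫ F.map (SimplexCategory.δ (1 : Fin 2)) := by
  have h : ι₀ F ≫ (F.map (SimplexCategory.δ (0 : Fin 2)) - F.map (SimplexCategory.δ (1 : Fin 2))) = 0 := by
    have := ((Cx A).obj F).iCycles_d 0 1
    rw [d01_eq] at this
    exact this
  rwa [Preadditive.comp_sub, sub_eq_zero] at h

/-- lifting to 0-cycles -/
noncomputable def lift₀ (F : SimplexCategory ⥤ A) {T : A} (x : T ⟶ F.obj ⦋0⦌)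
    (hx : x ≫ F.map (SimplexCategory.δ (0 : Fin 2)) = x ≫ F.map (SimplexCategory.δ (1 : Fin 2))) :
    T ⟶ Z₀ F :=
  ((Cx A).obj F).liftCycles x 1 (by simp) (by
    rw [d01_eq]
    show x ≫ (F.map (SimplexCategory.δ (0 : Fin 2)) - F.map (SimplexCategory.δ (1 : Fin 2))) = 0
    rw [Preadditive.comp_sub, sub_eq_zero]
    exact hx)

@[reassoc (attr := simp)]
lemma lift₀_ι (F : SimplexCategory ⥤ A) {T : A} (x : T ⟶ F.obj ⦋0⦌)
    (hx : x ≫ F.map (SimplexCategory.δ (0 : Fin 2)) = x ≫ F.map (SimplexCategory.δ (1 : Fin 2))) :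
    lift₀ F x hx ≫ ι₀ F = x :=
  HomologicalComplex.liftCycles_i _ _ _ _ _

@[reassoc]
lemma cyclesMap_ι₀ {F G : SimplexCategory ⥤ A} (φ : F ⟶ G) :
    HomologicalComplex.cyclesMap ((Cx A).map φ) 0 ≫ ι₀ G = ι₀ F ≫ φ.app ⦋0⦌ :=
  HomologicalComplex.cyclesMap_i _ _

lemma δ_one_mkOfLe {n : ℕ} (i j : Fin (n + 1)) (h : i ≤ j) :
    SimplexCategory.δ (1 : Fin 2) ≫ SimplexCategory.mkOfLe i j h = SimplexCategory.const ⦋0⦌ ⦋n⦌ i :=
  SimplexCategory.Hom.ext_zero_left _ _ rfl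

lemma δ_zero_mkOfLe {n : ℕ} (i j : Fin (n + 1)) (h : i ≤ j) :
    SimplexCategory.δ (0 : Fin 2) ≫ SimplexCategory.mkOfLe i j h = SimplexCategory.const ⦋0⦌ ⦋n⦌ j :=
  SimplexCategory.Hom.ext_zero_left _ _ rfl

lemma ι₀_const_le (F : SimplexCategory ⥤ A) {n : ℕ} (i j : Fin (n + 1)) (h : i ≤ j) :
    ι₀ F ≫ F.map (SimplexCategory.const ⦋0⦌ ⦋n⦌ i) = ι₀ F ≫ F.map (SimplexCategory.const ⦋0⦌ ⦋n⦌ j) := by
  rw [← δ_one_mkOfLe i j h, ← δ_zero_mkOfLe i j h, F.map_comp, F.map_comp,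
    ← Category.assoc, ← Category.assoc, ι₀_δ]

lemma ι₀_map_eq (F : SimplexCategory ⥤ A) {n : ℕ} (a b : ⦋0⦌ ⟶ ⦋n⦌) :
    ι₀ F ≫ F.map a = ι₀ F ≫ F.map b := by
  rw [SimplexCategory.eq_const_of_zero a, SimplexCategory.eq_const_of_zero b]
  rcases le_total (a.toOrderHom 0) (b.toOrderHom 0) with h | h
  · exact ι₀_const_le F _ _ h
  · exact (ι₀_const_le F _ _ h).symm

/-- the cone over `F` with apex the 0-cycles of the coface complex. -/
noncomputable def cyclesCone (F : SimplexCategory ⥤ A) : Cone F where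
  pt := Z₀ F
  π :=
    { app := fun k => ι₀ F ≫ F.map (SimplexCategory.const ⦋0⦌ k 0)
      naturality := fun k k' g => by
        dsimp
        rw [Category.id_comp, Category.assoc, ← F.map_comp]
        exact ι₀_map_eq F (n := k'.len) _ _ }

lemma cyclesCone_π_zero (F : SimplexCategory ⥤ A) : (cyclesCone F).π.app ⦋0⦌ = ι₀ F := by
  dsimp [cyclesCone]
  rw [SimplexCategory.const_eq_id, F.map_id, Category.comp_id]

/-- it is a limit cone. -/
noncomputable def cyclesConeIsLimit (F : SimplexCategory ⥤ A) : IsLimit (cyclesCone F) where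
  lift s := lift₀ F (s.π.app ⦋0⦌) (by rw [s.w, s.w])
  fac s k := by
    dsimp [cyclesCone]
    rw [lift₀_ι_assoc]
    exact s.w _
  uniq s m hm := by
    apply (cancel_mono (ι₀ F)).1
    rw [lift₀_ι]
    have := hm ⦋0⦌
    rw [cyclesCone_π_zero] at this
    exact this

variable [HasLimitsOfShape SimplexCategory A]

/-- `lim F ≅ Z⁰(C F)` -/
noncomputable def limIsoCycles (F : SimplexCategory ⥤ A) : limit F ≅ Z₀ F :=
  (limit.isLimit F).conePointUniqueUpToIso (cyclesConeIsLimit F)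

@[reassoc (attr := simp)]
lemma limIsoCycles_hom_ι (F : SimplexCategory ⥤ A) :
    (limIsoCycles F).hom ≫ ι₀ F = limit.π F ⦋0⦌ := by
  rw [← cyclesCone_π_zero]
  exact IsLimit.conePointUniqueUpToIso_hom_comp (limit.isLimit F) (cyclesConeIsLimit F) ⦋0⦌

/-- `lim F ≅ H⁰(C F)` -/
noncomputable def limIsoH0 (F : SimplexCategory ⥤ A) : lim.obj F ≅ ((Cx A).obj F).homology 0 :=
  limIsoCycles F ≪≫ ((Cx A).obj F).isoHomologyπ₀

lemma limIsoH0_naturality {F G : SimplexCategory ⥤ A} (φ : F ⟶ G) :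
    lim.map φ ≫ (limIsoH0 G).hom =
      (limIsoH0 F).hom ≫ HomologicalComplex.homologyMap ((Cx A).map φ) 0 := by
  have h1 : lim.map φ ≫ (limIsoCycles G).hom =
      (limIsoCycles F).hom ≫ HomologicalComplex.cyclesMap ((Cx A).map φ) 0 := by
    rw [← cancel_mono (ι₀ G), Category.assoc, Category.assoc,
      limIsoCycles_hom_ι, cyclesMap_ι₀, limIsoCycles_hom_ι_assoc]
    simp
  have hF : ((Cx A).obj F).isoHomologyπ₀.hom = ((Cx A).obj F).homologyπ 0 := rfl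
  have hG : ((Cx A).obj G).isoHomologyπ₀.hom = ((Cx A).obj G).homologyπ 0 := rfl
  simp only [limIsoH0, Iso.trans_hom, Category.assoc, hF, hG]
  rw [← Category.assoc, h1, Category.assoc, HomologicalComplex.homologyπ_naturality]

end Lim

end Groth.Agent.Lib.Helper13.CosimpLim
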