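import Groth.Agent.Lib.Helper13.CosimpLim2

open CategoryTheory CategoryTheory.Limits Opposite Simplicial

namespace Groth.Agent.Lib.Helper13.CosimpLim

universe v u v' u' v'' u''

section Resol

variable {D : Type u'} [Category.{v'} D] [Abelian D] (K : CochainComplex D ℕ)

/-- cycles as kernels -/
noncomputable abbrev Zk (q : ℕ) : D := kernel (K.d q (q + 1))

/-- the map `K^q ⟶ Z^{q+1}` -/
noncomputable def pk (q : ℕ) : K.X q ⟶ Zk K (q + 1) :=
  kernel.lift _ (K.d q (q + 1)) (K.d_comp_d _ _ _)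

@[reassoc (attr := simp)]
lemma pk_ι (q : ℕ) : pk K q ≫ kernel.ι (K.d (q + 1) (q + 2)) = K.d q (q + 1) :=
  kernel.lift_ι _ _ _

/-- the short complex `Z^q ⟶ K^q ⟶ Z^{q+1}` -/
noncomputable def Sk (q : ℕ) : ShortComplex D :=
  ShortComplex.mk (kernel.ι (K.d q (q + 1))) (pk K q) (by
    rw [← cancel_mono (kernel.ι (K.d (q + 1) (q + 2))), Category.assoc, pk_ι, kernel.condition,
      zero_comp])

lemma Sk_shortExact (q : ℕ)
    (h : (ShortComplex.mk (K.d q (q + 1)) (K.d (q + 1) (q + 2)) (K.d_comp_d _ _ _)).Exact) :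
    (Sk K q).ShortExact where
  exact := by
    apply ShortComplex.exact_of_f_is_kernel
    exact isKernelOfComp (f := pk K q) (kernel.ι (K.d (q + 1) (q + 2))) (K.d q (q + 1))
      (kernelIsKernel (K.d q (q + 1))) (Sk K q).zero (pk_ι K q)
  mono_f := by dsimp [Sk]; infer_instance
  epi_g := (ShortComplex.exact_iff_epi_kernel_lift _).1 h

variable {E : Type u''} [Category.{v''} E] [Abelian E] (L : D ⥤ E) [L.Additive]
  [PreservesFiniteLimits L]

/-- `H^{n+1}(L K) ≅ coker (L K^n ⟶ L Z^{n+1})` -/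
noncomputable def homologyMapIsoCokernel (n : ℕ) :
    ((L.mapHomologicalComplex (ComplexShape.up ℕ)).obj K).homology (n + 1) ≅
      cokernel (L.map (pk K n)) :=
  ((L.mapHomologicalComplex (ComplexShape.up ℕ)).obj K).homologyIsoSc' n (n + 1) (n + 2)
      (by simp) (by simp) ≪≫
    (((L.mapHomologicalComplex (ComplexShape.up ℕ)).obj K).sc' n (n + 1)
      (n + 2)).homologyIsoCokernelLift ≪≫
    (cokernel.mapIso (L.map (pk K n)) _ (Iso.refl _) (PreservesKernel.iso L (K.d (n + 1) (n + 2)))
      (by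
        rw [PreservesKernel.iso_hom]
        exact (map_lift_kernelComparison _ _ _).trans (Category.id_comp _).symm)).symm

end Resol

section Main

variable {A : Type u} [Category.{v} A] [Abelian A] [HasLimitsOfSize.{0, 0} A]

omit [HasLimitsOfSize.{0, 0} A] in
instance : (Cx A).PreservesZeroMorphisms where
  map_zero F G := by
    ext n
    rfl

omit [HasLimitsOfSize.{0, 0} A] in
lemma shortExact_map_Cx {S : ShortComplex (SimplexCategory ⥤ A)} (hS : S.ShortExact) :
    (S.map (Cx A)).ShortExact := by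
  apply HomologicalComplex.shortExact_of_degreewise_shortExact
  intro i
  exact hS.map_of_exact ((evaluation SimplexCategory A).obj ⦋i⦌)

lemma isZero_homology_of_injective (F : SimplexCategory ⥤ A) [Injective F] (n : ℕ) :
    IsZero (((Cx A).obj F).homology (n + 1)) :=
  (HomologicalComplex.exactAt_iff_isZero_homology _ _).1 (exactAt_of_injective F n)

/-- dimension shifting in degrees `≥ 1`. -/
noncomputable def shiftIso {S : ShortComplex (SimplexCategory ⥤ A)} (hS : S.ShortExact)
    [Injective S.X₂] (k : ℕ) :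
    ((Cx A).obj S.X₃).homology (k + 1) ≅ ((Cx A).obj S.X₁).homology (k + 2) :=
  (shortExact_map_Cx hS).δIso (k + 1) (k + 2) rfl
    (isZero_homology_of_injective S.X₂ k) (isZero_homology_of_injective S.X₂ (k + 1))

/-- dimension shifting in degree `0`. -/
noncomputable def h1IsoCokernel {S : ShortComplex (SimplexCategory ⥤ A)} (hS : S.ShortExact)
    [Injective S.X₂] :
    ((Cx A).obj S.X₁).homology 1 ≅ cokernel (lim.map S.g) := by
  have hS' := shortExact_map_Cx hS
  have hex := hS'.homology_exact₃ 0 1 rfl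
  haveI : Epi (hS'.δ 0 1 rfl) := hS'.epi_δ 0 1 rfl (isZero_homology_of_injective S.X₂ 0)
  have hcok := hex.gIsCokernel
  exact (IsColimit.coconePointUniqueUpToIso hcok (cokernelIsCokernel _)) ≪≫
    (cokernel.mapIso (lim.map S.g) (HomologicalComplex.homologyMap ((Cx A).map S.g) 0)
      (limIsoH0 S.X₂) (limIsoH0 S.X₃) (limIsoH0_naturality S.g)).symm

variable (K : CochainComplex (SimplexCategory ⥤ A) ℕ) [∀ q, Injective (K.X q)]
  (hK : ∀ q, (ShortComplex.mk (K.d q (q + 1)) (K.d (q + 1) (q + 2)) (K.d_comp_d _ _ _)).Exact)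

include hK in
lemma claim : ∀ (k q m : ℕ), q + k = m →
    Nonempty (((Cx A).obj (Zk K q)).homology (k + 1) ≅ cokernel (lim.map (pk K m))) := by
  intro k
  induction k with
  | zero =>
    intro q m h
    obtain rfl : q = m := by simpa using h
    haveI : Injective (Sk K q).X₂ := inferInstanceAs (Injective (K.X q))
    exact ⟨h1IsoCokernel (Sk_shortExact K q (hK q))⟩
  | succ k ih =>
    intro q m h
    haveI : Injective (Sk K q).X₂ := inferInstanceAs (Injective (K.X q))
    obtain ⟨e⟩ := ih (q + 1) m (by omega)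
    exact ⟨(shiftIso (Sk_shortExact K q (hK q)) k).symm ≪≫ e⟩

theorem main [EnoughInjectives (SimplexCategory ⥤ A)]
    [(lim : (SimplexCategory ⥤ A) ⥤ A).Additive] (F : SimplexCategory ⥤ A) (n : ℕ) :
    Nonempty (((lim : (SimplexCategory ⥤ A) ⥤ A).rightDerived n).obj F ≅
      ((Cx A).obj F).homology n) := by
  haveI : PreservesLimitsOfSize.{0, 0} (lim : (SimplexCategory ⥤ A) ⥤ A) :=
    constLimAdj.rightAdjoint_preservesLimits
  haveI : PreservesFiniteLimits (lim : (SimplexCategory ⥤ A) ⥤ A) := inferInstance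
  cases n with
  | zero =>
    exact ⟨(Functor.rightDerivedZeroIsoSelf (lim : (SimplexCategory ⥤ A) ⥤ A)).app F ≪≫ limIsoH0 F⟩
  | succ n =>
    let I : InjectiveResolution F := injectiveResolution F
    obtain ⟨e⟩ := claim I.cocomplex (fun q => I.exact_succ q) n 0 n (by simp)
    let e₀ : Zk I.cocomplex 0 ≅ F :=
      IsLimit.conePointUniqueUpToIso (kernelIsKernel (I.cocomplex.d 0 1)) I.isLimitKernelFork
    exact ⟨I.isoRightDerivedObj lim (n + 1) ≪≫ homologyMapIsoCokernel I.cocomplex lim n ≪≫ e.symm ≪≫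
      (Cx A ⋙ HomologicalComplex.homologyFunctor A _ (n + 1)).mapIso e₀⟩

end Main

end Groth.Agent.Lib.Helper13.CosimpLim
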