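import Mathlib.CategoryTheory.Functor.Derived.Adjunction
import Mathlib.CategoryTheory.Functor.Derived.PointwiseLeftDerived
import Mathlib.CategoryTheory.Functor.Derived.PointwiseRightDerived

set_option autoImplicit false
open CategoryTheory Category Functor

namespace Groth.Agent.Lib.Helper13.DerAdjFormal

variable {C₁ C₂ D₁ D₂ : Type*} [Category C₁] [Category C₂] [Category D₁] [Category D₂]
  {G : C₁ ⥤ C₂} {F : C₂ ⥤ C₁} (adj : G ⊣ F)
  {L₁ : C₁ ⥤ D₁} {L₂ : C₂ ⥤ D₂} (W₁ : MorphismProperty C₁) (W₂ : MorphismProperty C₂)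
  [L₁.IsLocalization W₁] [L₂.IsLocalization W₂]
  {G' : D₁ ⥤ D₂} {F' : D₂ ⥤ D₁}
  (e : L₁ ⋙ G' ≅ G ⋙ L₂) (β : F ⋙ L₁ ⟶ L₂ ⋙ F')
  [F'.IsRightDerivedFunctor β W₂]
  {R₀ : D₂ ⥤ D₁} (adj₀ : G' ⊣ R₀)

/-- The mate of the counit. -/
@[simps]
def mateα : F ⋙ L₁ ⟶ L₂ ⋙ R₀ where
  app X₂ := adj₀.homEquiv _ _ (e.hom.app (F.obj X₂) ≫ L₂.map (adj.counit.app X₂))
  naturality X Y f := by
    dsimp
    rw [← adj₀.homEquiv_naturality_left, ← adj₀.homEquiv_naturality_right]
    congr 1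
    have h1 := e.hom.naturality (F.map f)
    dsimp at h1
    rw [reassoc_of% h1, Category.assoc, ← L₂.map_comp, ← L₂.map_comp]
    congr 2
    exact adj.counit.naturality f

/-- If the functor `G'` induced by `G` on the localized categories has some right adjoint, then
any right derived functor of `F` is right adjoint to `G'`. -/
noncomputable def derivedOfRightAdjoint : G' ⊣ F' := by
  haveI : G'.IsLeftDerivedFunctor e.hom W₁ := isLeftDerivedFunctor_of_inverts W₁ G' e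
  let γ : F' ⟶ R₀ := F'.rightDerivedDesc β W₂ R₀ (mateα adj e adj₀)
  let τ : L₁ ⟶ L₁ ⋙ G' ⋙ F' :=
    { app := fun X => L₁.map (adj.unit.app X) ≫ β.app (G.obj X) ≫ F'.map (e.inv.app X)
      naturality := fun X Y f => by
        dsimp
        have h1 := adj.unit.naturality f
        have h2 := β.naturality (G.map f)
        have h3 := e.inv.naturality f
        dsimp at h1 h2 h3
        rw [← L₁.map_comp_assoc, h1, L₁.map_comp_assoc, reassoc_of% h2, Category.assoc,
          Category.assoc, ← F'.map_comp, ← F'.map_comp, h3] }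
  let η : 𝟭 D₁ ⟶ G' ⋙ F' := Localization.liftNatTrans L₁ W₁ L₁ (L₁ ⋙ G' ⋙ F') (𝟭 D₁) (G' ⋙ F') τ
  let ε : F' ⋙ G' ⟶ 𝟭 D₂ := whiskerRight γ G' ≫ adj₀.counit
  refine adj.derived' W₁ W₂ e.hom β η ε ?_ ?_
  · intro X₁
    simp only [η, Localization.liftNatTrans_app]
    simp [τ, ← F'.map_comp]
  · intro X₂
    have h := F'.rightDerived_fac_app β W₂ R₀ (mateα adj e adj₀) X₂
    simp only [ε, NatTrans.comp_app, whiskerRight_app]
    rw [← G'.map_comp_assoc]
    erw [h]
    simp only [mateα_app]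
    exact (adj₀.homEquiv_counit _ _ _).symm.trans (Equiv.symm_apply_apply _ _)

end Groth.Agent.Lib.Helper13.DerAdjFormal
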