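import Groth.Agent.Lib.Helper83.Dk0
set_option autoImplicit false

namespace Groth.Agent.Lib.Helper13.Dickson1

open CliffordAlgebra Groth.Agent.Lib.Helper83.Cl2 Groth.Agent.Lib.Helper83.Cl5
  Groth.Agent.Lib.Helper83.Cl6 Groth.Agent.Lib.Helper83.Dk Groth.Agent.Lib.Helper75.OrthSplit

universe u v
variable {R : Type u} [CommRing R]

/-- DK1: when `2` is a unit, an even `z` anticommuting with all vectors with unit square gives a
Dickson generator `ζ = (1 - z)/2`. -/
theorem zeta_of_two_unit {N : Type v} [AddCommGroup N] [Module R N] (q : QuadraticForm R N)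
    (h2 : IsUnit (2 : R)) (z : CliffordAlgebra q) (hz : z ∈ evenOdd q 0)
    (hza : ∀ v, ι q v * z = -(z * ι q v)) (r : Rˣ) (hr : z * z = algebraMap R _ (r : R)) :
    ∃ ζ, Zeta q ζ := by
  obtain ⟨w, hw⟩ := h2.exists_left_inv
  -- hw : w * 2 = 1
  have hw2 : w + w = 1 := by rw [← hw]; ring
  refine ⟨w • (1 - z), ?_, ?_, w * w * (1 - (r : R)), ?_, ?_⟩
  · exact Submodule.smul_mem _ _ (Submodule.sub_mem _ (SetLike.one_mem_graded _) hz)
  · intro v
    have h1 : (1 : CliffordAlgebra q) - w • (1 - z) = w • (1 + z) := by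
      have h11 : (1 : CliffordAlgebra q) = w • (1 : CliffordAlgebra q) + w • 1 := by
        rw [← add_smul, hw2, one_smul]
      calc (1 : CliffordAlgebra q) - w • (1 - z)
          = (w • (1 : CliffordAlgebra q) + w • 1) - w • (1 - z) := by rw [← h11]
        _ = w • (1 + z) := by
          rw [smul_sub, smul_add]
          abel
    rw [h1, mul_smul_comm, smul_mul_assoc, mul_sub, mul_one, hza v, add_mul, one_mul]
    congr 1
    abel
  · have hz2 : (w • (1 - z)) * (w • (1 - z)) = (w * w) • ((1 - z) * (1 - z)) := by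
      rw [smul_mul_smul_comm]
    have hexp : (1 - z) * (1 - z) = (1 + (r : R)) • (1 : CliffordAlgebra q) - (2 : R) • z := by
      simp only [mul_sub, sub_mul, mul_one, one_mul]
      rw [hr, add_smul, one_smul, Algebra.algebraMap_eq_smul_one, two_smul]
      abel
    rw [hz2, hexp, smul_sub, smul_smul, smul_smul]
    have e1 : w * w * 2 = w := by rw [mul_assoc, hw, mul_one]
    rw [e1, Algebra.algebraMap_eq_smul_one, smul_sub]
    have e2 : w * w * (1 + (r : R)) = w - w * w * (1 - (r : R)) := by
      linear_combination e1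
    rw [e2, sub_smul]
    abel
  · have : 1 - 4 * (w * w * (1 - (r : R))) = (r : R) := by
      have h4 : 4 * (w * w) = 1 := by
        have : (4 : R) * (w * w) = (w * 2) * (w * 2) := by ring
        rw [this, hw, one_mul]
      rw [← mul_assoc, h4]; ring
    rw [this]; exact r.isUnit

end Groth.Agent.Lib.Helper13.Dickson1
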