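import Groth.Agent.Lib.Helper83.Dk0
set_option autoImplicit false

namespace Groth.Agent.Lib.Helper13.Dickson8

open CliffordAlgebra Groth.Agent.Lib.Helper83.Cl2 Groth.Agent.Lib.Helper83.Cl5
  Groth.Agent.Lib.Helper83.Cl6 Groth.Agent.Lib.Helper83.Dk Groth.Agent.Lib.Helper75.OrthSplit

universe u v
variable {R : Type u} [CommRing R]

/-- a Dickson generator commutes with every even element. -/
theorem zeta_comm_even {M : Type v} [AddCommGroup M] [Module R M] (Q : QuadraticForm R M)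
    (ζ : CliffordAlgebra Q) (hζ : Zeta Q ζ) (y : CliffordAlgebra Q) (hy : y ∈ evenOdd Q 0) :
    y * ζ = ζ * y := by
  obtain ⟨-, hv, -⟩ := hζ
  induction y, hy using CliffordAlgebra.even_induction with
  | algebraMap r => exact Algebra.commutes r ζ
  | add x y hx hy ihx ihy => rw [add_mul, mul_add, ihx, ihy]
  | ι_mul_ι_mul m₁ m₂ x hx ih =>
    have h2 : ι Q m₁ * ι Q m₂ * ζ = ζ * (ι Q m₁ * ι Q m₂) := by
      rw [mul_assoc, hv m₂, ← mul_assoc, mul_sub, mul_one, hv m₁, sub_mul, sub_mul, sub_mul,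
        one_mul, mul_assoc ζ]
      abel
    rw [mul_assoc, ih, ← mul_assoc, h2, mul_assoc, mul_assoc]

/-- DK8. -/
theorem dickson_iff {M : Type v} [AddCommGroup M] [Module R M] (Q : QuadraticForm R M)
    (ζ : CliffordAlgebra Q) (hζ : Zeta Q ζ)
    (hstruct : ∀ x ∈ evenOdd Q 0, (∀ y ∈ evenOdd Q 0, y * x = x * y) →
      ∃ α β : R, x = algebraMap R _ α + β • ζ)
    (g : M ≃ₗ[R] M) (hg : g ∈ QuadGrp.O Q) :
    QuadGrp.IsDicksonTrivial Q g hg ↔
      CliffordAlgebra.map (QuadGrp.isometryOfMem Q g hg) ζ = ζ := by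
  have hmem : ∀ x : CliffordAlgebra Q, x ∈ CliffordAlgebra.even Q ↔ x ∈ evenOdd Q 0 := by
    intro x
    rw [← Subalgebra.mem_toSubmodule, CliffordAlgebra.even_toSubmodule]
  constructor
  · intro h
    have hζe : ζ ∈ CliffordAlgebra.even Q := (hmem ζ).2 hζ.1
    refine h ⟨ζ, hζe⟩ ?_
    rw [Subalgebra.mem_center_iff]
    intro y
    apply Subtype.ext
    exact zeta_comm_even Q ζ hζ y.1 ((hmem _).1 y.2)
  · intro h z hz
    rw [Subalgebra.mem_center_iff] at hz
    have hz0 : (z : CliffordAlgebra Q) ∈ evenOdd Q 0 := (hmem _).1 z.2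
    obtain ⟨α, β, hαβ⟩ := hstruct (z : CliffordAlgebra Q) hz0 (by
      intro y hy
      have := hz ⟨y, (hmem y).2 hy⟩
      exact congrArg Subtype.val this)
    rw [hαβ, map_add, AlgHom.commutes, map_smul, h]

end Groth.Agent.Lib.Helper13.Dickson8
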