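import Groth.Agent.Lib.Helper13.ProSys

/-!
# Essentially constant ℕ-indexed inverse systems via `Hom(B, -) ≃ colim Hom(X_n, -)` — helper13

`IsRep X B i σ` says that `σ : X_i ⟶ B` induces bijections `Hom(B, W) ≃ colim_n Hom(X_n, W)`.
It is equivalent to `∃ c, DerCA.IsEssConstant X B c`, and is convenient for five-lemma arguments.
Main result: `essConstant_middle` (two-out-of-three for systems of distinguished triangles).
-/

set_option autoImplicit false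
universe v u
open CategoryTheory CategoryTheory.Limits Opposite

namespace Groth.Agent.Lib.Helper13.ProSys

section Rep

variable {C : Type u} [Category.{v} C] [Preadditive C]

/-- `σ : X_i ⟶ B` induces `Hom(B, W) ≃ colim_n Hom(X_n, W)` for all `W`. -/
structure IsRep (X : ARSys.PS C) (B : C) (i : ℕ) (σ : X.obj (op i) ⟶ B) : Prop where
  inj : ∀ {W : C} (φ : B ⟶ W) (n : ℕ) (h : i ≤ n), ARSys.tr X h ≫ σ ≫ φ = 0 → φ = 0
  surj : ∀ {W : C} (n : ℕ) (φ : X.obj (op n) ⟶ W),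
    ∃ (m : ℕ) (hn : n ≤ m) (hi : i ≤ m) (ψ : B ⟶ W), ARSys.tr X hn ≫ φ = ARSys.tr X hi ≫ σ ≫ ψ

lemma IsRep.inj' {X : ARSys.PS C} {B : C} {i : ℕ} {σ : X.obj (op i) ⟶ B} (hX : IsRep X B i σ)
    {W : C} (φ ψ : B ⟶ W) (n : ℕ) (h : i ≤ n)
    (hφ : ARSys.tr X h ≫ σ ≫ φ = ARSys.tr X h ≫ σ ≫ ψ) : φ = ψ := by
  rw [← sub_eq_zero]
  apply hX.inj _ n h
  rw [Preadditive.comp_sub, Preadditive.comp_sub, hφ, sub_self]

lemma isRep_of_isEssConstant {X : ARSys.PS C} {A : C} {c : (Functor.const ℕᵒᵖ).obj A ⟶ X}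
    (hX : DerCA.IsEssConstant X A c) : ∃ (i : ℕ) (σ : X.obj (op i) ⟶ A), IsRep X A i σ := by
  obtain ⟨i, s, hcs, hX⟩ := hX
  let cc : ∀ n : ℕ, A ⟶ X.obj (op n) := fun n => c.app (op n)
  have hcc : ∀ {n m : ℕ} (h : n ≤ m), cc m ≫ ARSys.tr X h = cc n := fun h => cone_tr c h
  replace hcs : cc i ≫ s = 𝟙 A := hcs
  replace hX : ∀ (j : ℕ), ∃ k, ∃ (hi : i ≤ k) (hj : j ≤ k),
      ARSys.tr X hj = ARSys.tr X hi ≫ s ≫ cc j := hX
  refine ⟨i, s, ⟨?_, ?_⟩⟩
  · intro W φ n h hφ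
    have : cc n ≫ ARSys.tr X h ≫ s ≫ φ = φ := by
      rw [← Category.assoc, hcc, ← Category.assoc, hcs, Category.id_comp]
    rw [← this, hφ, comp_zero]
  · intro W n φ
    obtain ⟨k, hi, hn, hk⟩ := hX n
    exact ⟨k, hn, hi, cc n ≫ φ, by rw [hk]; simp only [Category.assoc]⟩

lemma IsRep.of_le {X : ARSys.PS C} {B : C} {i : ℕ} {σ : X.obj (op i) ⟶ B} (hX : IsRep X B i σ)
    {i' : ℕ} (hi : i ≤ i') : IsRep X B i' (ARSys.tr X hi ≫ σ) := by
  refine ⟨?_, ?_⟩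
  · intro W φ n h hφ
    apply hX.inj φ n (hi.trans h)
    rw [← tr_comp X hi h, Category.assoc]
    simpa only [Category.assoc] using hφ
  · intro W n φ
    obtain ⟨m, hn, him, ψ, hψ⟩ := hX.surj n φ
    refine ⟨max m i', hn.trans (le_max_left _ _), le_max_right _ _, ψ, ?_⟩
    have e1 : ARSys.tr X (le_max_right m i') ≫ (ARSys.tr X hi ≫ σ) ≫ ψ =
        (ARSys.tr X (le_max_right m i') ≫ ARSys.tr X hi) ≫ σ ≫ ψ := by
      simp only [Category.assoc]
    have e2 : ARSys.tr X (le_max_left m i') ≫ ARSys.tr X him ≫ σ ≫ ψ =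
        (ARSys.tr X (le_max_left m i') ≫ ARSys.tr X him) ≫ σ ≫ ψ := by
      simp only [Category.assoc]
    rw [← tr_comp X hn (le_max_left m i'), Category.assoc, hψ, e1, e2, tr_comp, tr_comp]

lemma IsRep.exists_isEssConstant {X : ARSys.PS C} {B : C} {i : ℕ} {σ : X.obj (op i) ⟶ B}
    (hX : IsRep X B i σ) : ∃ c : (Functor.const ℕᵒᵖ).obj B ⟶ X, DerCA.IsEssConstant X B c := by
  choose m hjm him cc hcc using fun j : ℕ => hX.surj j (𝟙 (X.obj (op j)))
  simp only [Category.comp_id] at hcc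
  -- `hcc j : tr X (hjm j) = tr X (him j) ≫ σ ≫ cc j`
  have key : ∀ (j : ℕ) (n : ℕ) (hn : m j ≤ n),
      ARSys.tr X ((him j).trans hn) ≫ σ ≫ cc j = ARSys.tr X ((hjm j).trans hn) := by
    intro j n hn
    rw [← tr_comp X (him j) hn, Category.assoc, ← hcc j, tr_comp]
  have hnat : ∀ (j k : ℕ) (hjk : j ≤ k), cc k ≫ ARSys.tr X hjk = cc j := by
    intro j k hjk
    apply hX.inj' _ _ (max (m j) (m k)) ((him j).trans (le_max_left _ _))
    rw [key j _ (le_max_left _ _)]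
    have := key k _ (le_max_right (m j) (m k))
    have e1 : ARSys.tr X ((him j).trans (le_max_left (m j) (m k))) ≫ σ ≫ cc k ≫ ARSys.tr X hjk =
        (ARSys.tr X ((him k).trans (le_max_right (m j) (m k))) ≫ σ ≫ cc k) ≫ ARSys.tr X hjk := by
      simp only [Category.assoc]
    rw [e1, this, tr_comp]
  let c : (Functor.const ℕᵒᵖ).obj B ⟶ X :=
    { app := fun j => cc j.unop
      naturality := by
        intro j k f
        have hkj : k.unop ≤ j.unop := leOfHom f.unop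
        have : X.map f = ARSys.tr X hkj := by
          congr 1
        simp only [Functor.const_obj_obj, Functor.const_obj_map, Category.id_comp]
        rw [this]
        exact (hnat _ _ hkj).symm }
  refine ⟨c, i, σ, ?_, ?_⟩
  · show cc i ≫ σ = 𝟙 B
    apply hX.inj' _ _ (m i) (him i)
    have e1 : ARSys.tr X (him i) ≫ σ ≫ cc i ≫ σ = (ARSys.tr X (him i) ≫ σ ≫ cc i) ≫ σ := by
      simp only [Category.assoc]
    rw [Category.comp_id, e1, ← hcc i]
  · intro j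
    exact ⟨m j, him j, hjm j, hcc j⟩

end Rep


section Transfer

variable {C : Type u} [Category.{v} C]

/-- Essential constancy transfers along an isomorphism of systems. -/
lemma isEssConstant_of_iso {X X' : ARSys.PS C} (e : X ≅ X') {B : C}
    {c : (Functor.const ℕᵒᵖ).obj B ⟶ X} (hX : DerCA.IsEssConstant X B c) :
    DerCA.IsEssConstant X' B (c ≫ e.hom) := by
  obtain ⟨i, s, hcs, hX⟩ := hX
  refine ⟨i, e.inv.app (op i) ≫ s, ?_, ?_⟩
  · rw [NatTrans.comp_app, Category.assoc, ← Category.assoc (e.hom.app (op i)),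
      ← NatTrans.comp_app, e.hom_inv_id, NatTrans.id_app, Category.id_comp, hcs]
  · intro j
    obtain ⟨k, hi, hj, hk⟩ := hX j
    refine ⟨k, hi, hj, ?_⟩
    have h1 : ARSys.tr X' hj = e.inv.app (op k) ≫ ARSys.tr X hj ≫ e.hom.app (op j) := by
      rw [tr_naturality e.hom hj, ← Category.assoc, ← NatTrans.comp_app, e.inv_hom_id,
        NatTrans.id_app, Category.id_comp]
    have h2 : ARSys.tr X' hi ≫ e.inv.app (op i) = e.inv.app (op k) ≫ ARSys.tr X hi :=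
      tr_naturality e.inv hi
    rw [h1, hk, NatTrans.comp_app]
    simp only [Category.assoc]
    rw [reassoc_of% h2]

lemma exists_isEssConstant_of_iso {X X' : ARSys.PS C} (e : X ≅ X')
    (hX : ∃ (B : C) (c : (Functor.const ℕᵒᵖ).obj B ⟶ X), DerCA.IsEssConstant X B c) :
    ∃ (B : C) (c : (Functor.const ℕᵒᵖ).obj B ⟶ X'), DerCA.IsEssConstant X' B c := by
  obtain ⟨B, c, h⟩ := hX
  exact ⟨B, _, isEssConstant_of_iso e h⟩

/-- A system of zero objects is essentially constant. -/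
lemma exists_isEssConstant_of_isZero [HasZeroMorphisms C] (X : ARSys.PS C)
    (hX : ∀ k : ℕ, IsZero (X.obj (op k))) :
    ∃ (B : C) (c : (Functor.const ℕᵒᵖ).obj B ⟶ X), DerCA.IsEssConstant X B c := by
  refine ⟨X.obj (op 0), { app := fun _ => 0, naturality := ?_ }, 0, 𝟙 _, ?_, ?_⟩
  · intro j k f
    exact (hX k.unop).eq_of_tgt _ _
  · exact (hX 0).eq_of_tgt _ _
  · intro j
    exact ⟨j, Nat.zero_le j, le_refl j, (hX j).eq_of_tgt _ _⟩

/-- Essential constancy is preserved by any functor. -/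
lemma exists_isEssConstant_comp {E : Type*} [Category E] (F : C ⥤ E) {X : ARSys.PS C}
    (hX : ∃ (B : C) (c : (Functor.const ℕᵒᵖ).obj B ⟶ X), DerCA.IsEssConstant X B c) :
    ∃ (B : E) (c : (Functor.const ℕᵒᵖ).obj B ⟶ X ⋙ F), DerCA.IsEssConstant (X ⋙ F) B c := by
  obtain ⟨B, c, i, s, hcs, hX⟩ := hX
  let cc : ∀ n : ℕ, B ⟶ X.obj (op n) := fun n => c.app (op n)
  replace hcs : cc i ≫ s = 𝟙 B := hcs
  replace hX : ∀ (j : ℕ), ∃ k, ∃ (hi : i ≤ k) (hj : j ≤ k),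
      ARSys.tr X hj = ARSys.tr X hi ≫ s ≫ cc j := hX
  refine ⟨F.obj B, { app := fun k => F.map (c.app k), naturality := ?_ }, i, F.map s, ?_, ?_⟩
  · intro j k f
    have := c.naturality f
    simp only [Functor.const_obj_obj, Functor.const_obj_map, Category.id_comp] at this
    simp only [Functor.const_obj_obj, Functor.const_obj_map, Category.id_comp, Functor.comp_map]
    rw [this, Functor.map_comp]
  · show F.map (cc i) ≫ F.map s = 𝟙 _
    rw [← F.map_comp, hcs, F.map_id]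
  · intro j
    obtain ⟨k, hi, hj, hk⟩ := hX j
    refine ⟨k, hi, hj, ?_⟩
    show F.map (ARSys.tr X hj) = F.map (ARSys.tr X hi) ≫ F.map s ≫ F.map (cc j)
    rw [hk, F.map_comp, F.map_comp]

end Transfer

section Triang
open CategoryTheory.Pretriangulated

variable {D : Type u} [Category.{v} D] [Preadditive D] [HasZeroObject D] [HasShift D ℤ]
    [∀ n : ℤ, (shiftFunctor D n).Additive] [Pretriangulated D]

/-- Surjectivity part of `IsRep` for the shifted system. -/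
lemma IsRep.surj_shift {X : ARSys.PS D} {A : D} {i : ℕ} {σ : X.obj (op i) ⟶ A} (hX : IsRep X A i σ)
    {W : D} (n : ℕ) (φ : (shiftFunctor D (1 : ℤ)).obj (X.obj (op n)) ⟶ W) :
    ∃ (m : ℕ) (hn : n ≤ m) (hi : i ≤ m) (ψ : (shiftFunctor D (1 : ℤ)).obj A ⟶ W),
      (shiftFunctor D (1 : ℤ)).map (ARSys.tr X hn) ≫ φ =
        (shiftFunctor D (1 : ℤ)).map (ARSys.tr X hi ≫ σ) ≫ ψ := by
  let e : (shiftFunctor D (1 : ℤ)).obj ((shiftFunctor D (-1 : ℤ)).obj W) ≅ W :=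
    (shiftFunctorCompIsoId D (-1 : ℤ) (1 : ℤ) (by simp)).app W
  let φ0 : X.obj (op n) ⟶ (shiftFunctor D (-1 : ℤ)).obj W :=
    (shiftFunctor D (1 : ℤ)).preimage (φ ≫ e.inv)
  have hφ0 : (shiftFunctor D (1 : ℤ)).map φ0 = φ ≫ e.inv := Functor.map_preimage _ _
  obtain ⟨m, hn, hi, ψ0, hψ0⟩ := hX.surj n φ0
  refine ⟨m, hn, hi, (shiftFunctor D (1 : ℤ)).map ψ0 ≫ e.hom, ?_⟩
  have := congrArg (fun t => (shiftFunctor D (1 : ℤ)).map t ≫ e.hom) hψ0
  simp only [Functor.map_comp, Category.assoc] at this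
  rw [hφ0, Category.assoc, Iso.inv_hom_id, Category.comp_id] at this
  rw [this, Functor.map_comp, Category.assoc]

/-- Two-out-of-three for essentially constant systems in a system of distinguished triangles
(`IsRep` form). -/
theorem isRep_middle (X Y Z : ARSys.PS D) (f : X ⟶ Y) (g : Y ⟶ Z)
    (h : Z ⟶ X ⋙ shiftFunctor D (1 : ℤ))
    (hT : ∀ n : ℕ, Triangle.mk (f.app (op n)) (g.app (op n)) (h.app (op n)) ∈ distinguishedTriangles)
    {A C : D} {iA iC : ℕ} {σA : X.obj (op iA) ⟶ A} {σC : Z.obj (op iC) ⟶ C}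
    (hA : IsRep X A iA σA) (hC : IsRep Z C iC σC) :
    ∃ (B : D) (i : ℕ) (σ : Y.obj (op i) ⟶ B), IsRep Y B i σ := by
  -- notation
  let ff : ∀ n : ℕ, X.obj (op n) ⟶ Y.obj (op n) := fun n => f.app (op n)
  let gg : ∀ n : ℕ, Y.obj (op n) ⟶ Z.obj (op n) := fun n => g.app (op n)
  let hh : ∀ n : ℕ, Z.obj (op n) ⟶ (shiftFunctor D (1 : ℤ)).obj (X.obj (op n)) :=
    fun n => h.app (op n)
  have hT' : ∀ n, Triangle.mk (ff n) (gg n) (hh n) ∈ distTriang D := hT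
  have fnat : ∀ {n m : ℕ} (hnm : n ≤ m), ARSys.tr X hnm ≫ ff n = ff m ≫ ARSys.tr Y hnm :=
    fun hnm => tr_naturality f hnm
  have gnat : ∀ {n m : ℕ} (hnm : n ≤ m), ARSys.tr Y hnm ≫ gg n = gg m ≫ ARSys.tr Z hnm :=
    fun hnm => tr_naturality g hnm
  have hnat : ∀ {n m : ℕ} (hnm : n ≤ m),
      ARSys.tr Z hnm ≫ hh n = hh m ≫ (shiftFunctor D (1 : ℤ)).map (ARSys.tr X hnm) :=
    fun hnm => h.naturality (homOfLE hnm).op
  -- common index
  let i0 := max iA iC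
  have hA0 := hA.of_le (le_max_left iA iC)
  have hC0 := hC.of_le (le_max_right iA iC)
  -- the connecting map δ
  obtain ⟨m, hm0, hm0', δ, hδ⟩ := hC0.surj i0
    (hh i0 ≫ (shiftFunctor D (1 : ℤ)).map (ARSys.tr X (le_max_left iA iC) ≫ σA))
  obtain ⟨sA, hsA⟩ : ∃ sA : X.obj (op m) ⟶ A,
      sA = ARSys.tr X hm0 ≫ ARSys.tr X (le_max_left iA iC) ≫ σA := ⟨_, rfl⟩
  obtain ⟨sC, hsC⟩ : ∃ sC : Z.obj (op m) ⟶ C,
      sC = ARSys.tr Z hm0 ≫ ARSys.tr Z (le_max_right iA iC) ≫ σC := ⟨_, rfl⟩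
  have hAm : IsRep X A m sA := hsA ▸ hA0.of_le hm0
  have hCm : IsRep Z C m sC := hsC ▸ hC0.of_le hm0
  have hsq : hh m ≫ (shiftFunctor D (1 : ℤ)).map sA = sC ≫ δ := by
    have e1 : hh m ≫ (shiftFunctor D (1 : ℤ)).map sA =
        ARSys.tr Z hm0 ≫ hh i0 ≫
          (shiftFunctor D (1 : ℤ)).map (ARSys.tr X (le_max_left iA iC) ≫ σA) := by
      rw [hsA, Functor.map_comp, ← Category.assoc, ← hnat hm0, Category.assoc]
    rw [e1, hδ, hsC]
    simp only [Category.assoc]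
  -- the triangle (A, B, C, δ)
  obtain ⟨B, u, w, hB⟩ := distinguished_cocone_triangle₂ δ
  obtain ⟨sB, hsB1, hsB2⟩ : ∃ sB : Y.obj (op m) ⟶ B, ff m ≫ sB = sA ≫ u ∧ gg m ≫ sC = sB ≫ w :=
    complete_distinguished_triangle_morphism₂ _ _ (hT' m) hB sA sC hsq
  have huw : u ≫ w = 0 := comp_distTriang_mor_zero₁₂ _ hB
  have hwδ : w ≫ δ = 0 := comp_distTriang_mor_zero₂₃ _ hB
  -- key computation
  have hkey : ∀ {p : ℕ} (hp : m ≤ p), ARSys.tr Z hp ≫ sC ≫ δ =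
      hh p ≫ (shiftFunctor D (1 : ℤ)).map (ARSys.tr X hp ≫ sA) := by
    intro p hp
    rw [← hsq, ← Category.assoc, hnat hp, Category.assoc, ← Functor.map_comp]
  refine ⟨B, m, sB, ⟨?_, ?_⟩⟩
  · -- injectivity
    intro W θ n hn hθ
    -- Step 1 : u ≫ θ = 0
    have h1 : u ≫ θ = 0 := by
      apply hAm.inj _ n hn
      have : ARSys.tr X hn ≫ sA ≫ u ≫ θ = ff n ≫ ARSys.tr Y hn ≫ sB ≫ θ := by
        rw [← Category.assoc sA, ← hsB1, Category.assoc, ← Category.assoc (ARSys.tr X hn),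
          fnat hn, Category.assoc]
      rw [this, hθ, comp_zero]
    -- Step 2
    obtain ⟨θ', hθ'⟩ : ∃ θ' : C ⟶ W, θ = w ≫ θ' := Triangle.yoneda_exact₂ _ hB θ h1
    have h2 : gg n ≫ (ARSys.tr Z hn ≫ sC ≫ θ') = 0 := by
      rw [← Category.assoc, ← gnat hn, Category.assoc, ← Category.assoc (gg m), hsB2,
        Category.assoc, ← hθ', hθ]
    obtain ⟨ξ', hξ'⟩ : ∃ ξ' : (shiftFunctor D (1 : ℤ)).obj (X.obj (op n)) ⟶ W,
        ARSys.tr Z hn ≫ sC ≫ θ' = hh n ≫ ξ' := Triangle.yoneda_exact₃ _ (hT' n) _ h2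
    -- Step 3
    obtain ⟨p, hnp, hmp, ζ, hζ⟩ := hAm.surj_shift n ξ'
    -- Step 4
    have h4 : ARSys.tr Z hmp ≫ sC ≫ (θ' - δ ≫ ζ) = 0 := by
      rw [Preadditive.comp_sub, Preadditive.comp_sub, sub_eq_zero]
      have e1 : ARSys.tr Z hmp ≫ sC ≫ θ' = ARSys.tr Z hnp ≫ (ARSys.tr Z hn ≫ sC ≫ θ') := by
        rw [← Category.assoc (ARSys.tr Z hnp) (ARSys.tr Z hn), tr_comp]
      have e2 : ARSys.tr Z hmp ≫ sC ≫ δ ≫ ζ = (ARSys.tr Z hmp ≫ sC ≫ δ) ≫ ζ := by
        simp only [Category.assoc]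
      rw [e1, hξ', e2, hkey hmp, Category.assoc, ← hζ, ← Category.assoc, hnat hnp, Category.assoc]
    have h5 : θ' = δ ≫ ζ := by
      rw [← sub_eq_zero]
      exact hCm.inj _ p hmp h4
    rw [hθ', h5, ← Category.assoc, hwδ, zero_comp]
  · -- surjectivity
    intro W n φ
    -- Step 1
    obtain ⟨p, hnp, hmp, α, hα⟩ := hAm.surj n (ff n ≫ φ)
    -- Step 2 : δ ≫ α⟦1⟧ = 0
    have h2 : δ ≫ (shiftFunctor D (1 : ℤ)).map α = 0 := by
      apply hCm.inj _ p hmp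
      have e1 : ARSys.tr Z hmp ≫ sC ≫ δ ≫ (shiftFunctor D (1 : ℤ)).map α =
          (ARSys.tr Z hmp ≫ sC ≫ δ) ≫ (shiftFunctor D (1 : ℤ)).map α := by
        simp only [Category.assoc]
      rw [e1, hkey hmp, Category.assoc, ← Functor.map_comp, Category.assoc, ← hα,
        ← Category.assoc, fnat hnp, Category.assoc, Functor.map_comp, ← Category.assoc]
      have : hh p ≫ (shiftFunctor D (1 : ℤ)).map (ff p) = 0 :=
        comp_distTriang_mor_zero₃₁ _ (hT' p)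
      rw [this, zero_comp]
    obtain ⟨β1, hβ1⟩ : ∃ β1 : (shiftFunctor D (1 : ℤ)).obj B ⟶ (shiftFunctor D (1 : ℤ)).obj W,
        (shiftFunctor D (1 : ℤ)).map α = (-(shiftFunctor D (1 : ℤ)).map u) ≫ β1 :=
      Triangle.yoneda_exact₃ _ (rot_of_distTriang _ hB) _ h2
    let β : B ⟶ W := -(shiftFunctor D (1 : ℤ)).preimage β1
    have hβ : α = u ≫ β := by
      apply (shiftFunctor D (1 : ℤ)).map_injective
      rw [hβ1, Functor.map_comp, Functor.map_neg, Functor.map_preimage, Preadditive.neg_comp,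
        Preadditive.comp_neg]
    -- Step 3
    have h3 : ff p ≫ (ARSys.tr Y hnp ≫ φ - ARSys.tr Y hmp ≫ sB ≫ β) = 0 := by
      rw [Preadditive.comp_sub, sub_eq_zero, ← Category.assoc, ← fnat hnp, Category.assoc, hα,
        ← Category.assoc (ff p), ← fnat hmp, Category.assoc, ← Category.assoc (ff m), hsB1,
        Category.assoc, ← hβ]
    obtain ⟨ε', hε'⟩ : ∃ ε' : Z.obj (op p) ⟶ W,
        ARSys.tr Y hnp ≫ φ - ARSys.tr Y hmp ≫ sB ≫ β = gg p ≫ ε' :=
      Triangle.yoneda_exact₂ _ (hT' p) _ h3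
    -- Step 4
    obtain ⟨q, hpq, hmq, γ, hγ⟩ := hCm.surj p ε'
    refine ⟨q, hnp.trans hpq, hmq, w ≫ γ + β, ?_⟩
    have e1 : ARSys.tr Y (hnp.trans hpq) ≫ φ =
        ARSys.tr Y hpq ≫ (ARSys.tr Y hnp ≫ φ - ARSys.tr Y hmp ≫ sB ≫ β) +
          ARSys.tr Y hpq ≫ ARSys.tr Y hmp ≫ sB ≫ β := by
      rw [Preadditive.comp_sub, sub_add_cancel, ← Category.assoc, tr_comp]
    rw [e1, hε', ← Category.assoc, gnat hpq, Category.assoc, hγ, ← Category.assoc (ARSys.tr Y hpq),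
      tr_comp, Preadditive.comp_add, Preadditive.comp_add, ← Category.assoc (gg q), ← gnat hmq,
      Category.assoc, ← Category.assoc (gg m), hsB2, Category.assoc]

/-- Two-out-of-three for essentially constant systems in a system of distinguished triangles. -/
theorem essConstant_middle (X Y Z : ARSys.PS D) (f : X ⟶ Y) (g : Y ⟶ Z)
    (h : Z ⟶ X ⋙ shiftFunctor D (1 : ℤ))
    (hT : ∀ n : ℕ, Triangle.mk (f.app (op n)) (g.app (op n)) (h.app (op n)) ∈ distinguishedTriangles)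
    (hX : ∃ (A : D) (cA : (Functor.const ℕᵒᵖ).obj A ⟶ X), DerCA.IsEssConstant X A cA)
    (hZ : ∃ (C : D) (cC : (Functor.const ℕᵒᵖ).obj C ⟶ Z), DerCA.IsEssConstant Z C cC) :
    ∃ (B : D) (cB : (Functor.const ℕᵒᵖ).obj B ⟶ Y), DerCA.IsEssConstant Y B cB := by
  obtain ⟨A, cA, hA⟩ := hX
  obtain ⟨C, cC, hC⟩ := hZ
  obtain ⟨iA, σA, hA'⟩ := isRep_of_isEssConstant hA
  obtain ⟨iC, σC, hC'⟩ := isRep_of_isEssConstant hC
  obtain ⟨B, i, σ, hB⟩ := isRep_middle X Y Z f g h hT hA' hC'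
  exact ⟨B, hB.exists_isEssConstant⟩

end Triang

end Groth.Agent.Lib.Helper13.ProSys
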