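import Groth.Agent.Lib.Helper13.EssConst
import Groth.Agent.Lib.Helper22.WayOut
import Mathlib.Algebra.Homology.DerivedCategory.TStructure
import Mathlib.Algebra.Homology.DerivedCategory.FullyFaithful

/-!
# Essentially constant systems in `D(A)` from essentially constant cohomology — helper13
-/

set_option autoImplicit false
universe w v u
open CategoryTheory CategoryTheory.Limits Opposite

namespace Groth.Agent.Lib.Helper13.ProSys

open DerivedCategory

variable {A : Type u} [Category.{v} A] [Abelian A] [HasDerivedCategory.{w} A]

section Heart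

variable (a : ℤ)

/-- An object with cohomology concentrated in degree `a` is canonically (compatibly with `ε`)
isomorphic to the single complex of its `a`-th cohomology. -/
lemma exists_iso_single_homology (K : DerivedCategory A) [K.IsGE a] [K.IsLE a] :
    ∃ β : K ≅ (singleFunctor A a).obj ((homologyFunctor A a).obj K),
      (homologyFunctor A a).map β.hom ≫
        (singleFunctorCompHomologyFunctorIso A a).hom.app ((homologyFunctor A a).obj K) = 𝟙 _ := by
  obtain ⟨Y, ⟨α⟩⟩ := exists_iso_singleFunctor_obj_of_isGE_of_isLE K a
  let ε := singleFunctorCompHomologyFunctorIso A a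
  let γ : (homologyFunctor A a).obj K ≅ Y := (homologyFunctor A a).mapIso α ≪≫ ε.app Y
  refine ⟨α ≪≫ (singleFunctor A a).mapIso γ.symm, ?_⟩
  have hnat := ε.hom.naturality γ.inv
  simp only [Functor.comp_obj, Functor.comp_map, Functor.id_obj, Functor.id_map] at hnat
  simp only [Iso.trans_hom, Functor.mapIso_hom, Iso.symm_hom, Functor.map_comp, Category.assoc]
  rw [hnat]
  have : (homologyFunctor A a).map α.hom ≫ ε.hom.app Y = γ.hom := rfl
  rw [reassoc_of% this, Iso.hom_inv_id]

lemma single_homology_naturality {K L : DerivedCategory A}
    (βK : K ≅ (singleFunctor A a).obj ((homologyFunctor A a).obj K))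
    (hK : (homologyFunctor A a).map βK.hom ≫
        (singleFunctorCompHomologyFunctorIso A a).hom.app ((homologyFunctor A a).obj K) = 𝟙 _)
    (βL : L ≅ (singleFunctor A a).obj ((homologyFunctor A a).obj L))
    (hL : (homologyFunctor A a).map βL.hom ≫
        (singleFunctorCompHomologyFunctorIso A a).hom.app ((homologyFunctor A a).obj L) = 𝟙 _)
    (τ : K ⟶ L) :
    τ ≫ βL.hom = βK.hom ≫ (singleFunctor A a).map ((homologyFunctor A a).map τ) := by
  let ε := singleFunctorCompHomologyFunctorIso A a
  obtain ⟨φ, hφ⟩ := (singleFunctor A a).map_surjective (βK.inv ≫ τ ≫ βL.hom)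
  have h1 : τ ≫ βL.hom = βK.hom ≫ (singleFunctor A a).map φ := by
    rw [hφ, Iso.hom_inv_id_assoc]
  rw [h1]
  congr 2
  -- φ = H^a τ
  have hnat := ε.hom.naturality φ
  simp only [Functor.comp_obj, Functor.comp_map, Functor.id_obj, Functor.id_map] at hnat
  have h2 : (homologyFunctor A a).map τ ≫ (homologyFunctor A a).map βL.hom =
      (homologyFunctor A a).map βK.hom ≫
        (homologyFunctor A a).map ((singleFunctor A a).map φ) := by
    rw [← Functor.map_comp, ← Functor.map_comp, h1]
  have h3 : (homologyFunctor A a).map τ =
      (homologyFunctor A a).map βK.hom ≫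
        (homologyFunctor A a).map ((singleFunctor A a).map φ) ≫
          ε.hom.app ((homologyFunctor A a).obj L) := by
    rw [← Category.assoc, ← h2, Category.assoc, hL, Category.comp_id]
  rw [h3, hnat, reassoc_of% hK]

/-- Base case: a system of objects with cohomology concentrated in degree `a` whose `H^a`-system
is essentially constant, is essentially constant. -/
lemma exists_isEssConstant_of_single (X : ARSys.PS (DerivedCategory A))
    (hGE : ∀ k : ℕ, (X.obj (op k)).IsGE a) (hLE : ∀ k : ℕ, (X.obj (op k)).IsLE a)
    (hH : ∃ (B : A) (c : (Functor.const ℕᵒᵖ).obj B ⟶ X ⋙ homologyFunctor A a),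
      DerCA.IsEssConstant (X ⋙ homologyFunctor A a) B c) :
    ∃ (L : DerivedCategory A) (c : (Functor.const ℕᵒᵖ).obj L ⟶ X), DerCA.IsEssConstant X L c := by
  have hβ : ∀ k : ℕᵒᵖ, ∃ β : X.obj k ≅
      (singleFunctor A a).obj ((homologyFunctor A a).obj (X.obj k)),
      (homologyFunctor A a).map β.hom ≫
        (singleFunctorCompHomologyFunctorIso A a).hom.app
          ((homologyFunctor A a).obj (X.obj k)) = 𝟙 _ := by
    intro k
    have := hGE k.unop
    have := hLE k.unop
    exact exists_iso_single_homology a (X.obj k)
  choose β hβ' using hβ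
  let e : X ≅ (X ⋙ homologyFunctor A a) ⋙ singleFunctor A a :=
    NatIso.ofComponents β (by
      intro j k f
      exact single_homology_naturality a (β j) (hβ' j) (β k) (hβ' k) (X.map f))
  exact exists_isEssConstant_of_iso e.symm (exists_isEssConstant_comp (singleFunctor A a) hH)

end Heart


section Bounded

open DerivedCategory.TStructure Groth.Agent.Lib.Helper22 CategoryTheory.Pretriangulated

/-- `H^i` of the `truncLT n`-system agrees with that of `X` for `i < n`. -/
noncomputable def homologyTruncLTIso (X : ARSys.PS (DerivedCategory A)) (n i : ℤ) (hi : i < n) :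
    (X ⋙ t.truncLT n) ⋙ homologyFunctor A i ≅ X ⋙ homologyFunctor A i :=
  NatIso.ofComponents
    (fun k =>
      haveI := isIso_homologyMap_truncLTι (X.obj k) n i hi
      asIso ((homologyFunctor A i).map ((t.truncLTι n).app (X.obj k))))
    (by
      intro j k f
      dsimp
      rw [← Functor.map_comp, ← Functor.map_comp]
      congr 1
      exact (t.truncLTι n).naturality (X.map f))

/-- `H^i` of the `truncGE n`-system agrees with that of `X` for `n ≤ i`. -/
noncomputable def homologyTruncGEIso (X : ARSys.PS (DerivedCategory A)) (n i : ℤ) (hi : n ≤ i) :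
    X ⋙ homologyFunctor A i ≅ (X ⋙ t.truncGE n) ⋙ homologyFunctor A i :=
  NatIso.ofComponents
    (fun k =>
      haveI := isIso_homologyMap_truncGEπ (X.obj k) n i hi
      asIso ((homologyFunctor A i).map ((t.truncGEπ n).app (X.obj k))))
    (by
      intro j k f
      dsimp
      rw [← Functor.map_comp, ← Functor.map_comp]
      congr 1
      exact (t.truncGEπ n).naturality (X.map f))

lemma isZero_homology_truncLT (K : DerivedCategory A) (n i : ℤ) (hi : n ≤ i) :
    IsZero ((homologyFunctor A i).obj ((t.truncLT n).obj K)) := by
  have h1 : ((t.truncLT n).obj K).IsLE (n - 1) := inferInstance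
  exact isZero_of_isLE ((t.truncLT n).obj K) (n - 1) i (by lia)

lemma isZero_homology_truncGE (K : DerivedCategory A) (n i : ℤ) (hi : i < n) :
    IsZero ((homologyFunctor A i).obj ((t.truncGE n).obj K)) := by
  have h1 : ((t.truncGE n).obj K).IsGE n := inferInstance
  exact isZero_of_isGE ((t.truncGE n).obj K) n i hi

/-- Bounded systems in `D(A)` with essentially constant cohomology are essentially constant. -/
theorem exists_isEssConstant_of_homology (d : ℕ) :
    ∀ (X : ARSys.PS (DerivedCategory A)) (a b : ℤ) (_ : a ≤ b) (_ : b ≤ a + d)
      (_ : ∀ (n : ℕ) (i : ℤ), i < a ∨ b < i →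
        IsZero ((homologyFunctor A i).obj (X.obj (op n))))
      (_ : ∀ i : ℤ, ∃ (B : A) (c : (Functor.const ℕᵒᵖ).obj B ⟶ X ⋙ homologyFunctor A i),
        DerCA.IsEssConstant (X ⋙ homologyFunctor A i) B c),
      ∃ (L : DerivedCategory A) (c : (Functor.const ℕᵒᵖ).obj L ⟶ X),
        DerCA.IsEssConstant X L c := by
  induction d with
  | zero =>
    intro X a b hab hbd hX hH
    have hba : b = a := by lia
    subst hba
    refine exists_isEssConstant_of_single b X ?_ ?_ (hH b)
    · intro k
      rw [isGE_iff]
      intro i hi
      exact hX k i (Or.inl hi)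
    · intro k
      rw [isLE_iff]
      intro i hi
      exact hX k i (Or.inr hi)
  | succ d ih =>
    intro X a b hab hbd hX hH
    by_cases hab' : b ≤ a + d
    · exact ih X a b hab hab' hX hH
    · have hb : b = a + d + 1 := by lia
      let n : ℤ := a + 1
      -- the truncated systems
      have hlt : ∃ (L : DerivedCategory A) (c : (Functor.const ℕᵒᵖ).obj L ⟶ X ⋙ t.truncLT n),
          DerCA.IsEssConstant (X ⋙ t.truncLT n) L c := by
        refine ih (X ⋙ t.truncLT n) a a le_rfl (by lia) ?_ ?_
        · intro k i hi
          by_cases hin : i < n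
          · have hia : i < a := by lia
            exact (hX k i (Or.inl hia)).of_iso ((homologyTruncLTIso X n i hin).app (op k))
          · exact isZero_homology_truncLT _ n i (by lia)
        · intro i
          by_cases hin : i < n
          · exact exists_isEssConstant_of_iso (homologyTruncLTIso X n i hin).symm (hH i)
          · exact exists_isEssConstant_of_isZero _
              (fun k => isZero_homology_truncLT _ n i (by lia))
      have hge : ∃ (L : DerivedCategory A) (c : (Functor.const ℕᵒᵖ).obj L ⟶ X ⋙ t.truncGE n),
          DerCA.IsEssConstant (X ⋙ t.truncGE n) L c := by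
        refine ih (X ⋙ t.truncGE n) (a + 1) b (by lia) (by lia) ?_ ?_
        · intro k i hi
          by_cases hin : i < n
          · exact isZero_homology_truncGE _ n i hin
          · have hbi : b < i := by lia
            exact (hX k i (Or.inr hbi)).of_iso ((homologyTruncGEIso X n i (by lia)).symm.app (op k))
        · intro i
          by_cases hin : i < n
          · exact exists_isEssConstant_of_isZero _
              (fun k => isZero_homology_truncGE _ n i hin)
          · exact exists_isEssConstant_of_iso (homologyTruncGEIso X n i (by lia)) (hH i)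
      -- the system of truncation triangles
      let f : X ⋙ t.truncLT n ⟶ X :=
        { app := fun k => (t.truncLTι n).app (X.obj k)
          naturality := fun j k φ => (t.truncLTι n).naturality (X.map φ) }
      let g : X ⟶ X ⋙ t.truncGE n :=
        { app := fun k => (t.truncGEπ n).app (X.obj k)
          naturality := fun j k φ => (t.truncGEπ n).naturality (X.map φ) }
      let h : X ⋙ t.truncGE n ⟶ (X ⋙ t.truncLT n) ⋙ shiftFunctor (DerivedCategory A) (1 : ℤ) :=
        { app := fun k => (t.truncGEδLT n).app (X.obj k)
          naturality := fun j k φ => (t.truncGEδLT n).naturality (X.map φ) }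
      exact essConstant_middle (X ⋙ t.truncLT n) X (X ⋙ t.truncGE n) f g h
        (fun k => t.triangleLTGE_distinguished n (X.obj (op k))) hlt hge

end Bounded

end Groth.Agent.Lib.Helper13.ProSys
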