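import Groth.Prelude.Def_SixF1
import Groth.Agent.Lib.Helper19.LanFlat
import Mathlib

/-!
# Exactness of the inverse image of sheaves of Λ-modules on small étale sites (helper13)
-/

set_option autoImplicit false
universe u
open CategoryTheory Limits AlgebraicGeometry Opposite

namespace Groth.Agent.Lib.Helper13.EtModPullExact

open Groth.Agent.Lib.Helper19

variable (Λ : Type (u + 1)) [CommRing Λ] {X Y : Scheme.{u}} (f : X ⟶ Y)

attribute [local instance] reflectsLimitsOfShape_of_reflectsIsomorphisms in
theorem lan_bc_preservesFiniteLimits :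
    PreservesFiniteLimits
      ((EtCoh.bc f).op.lan : ((Y.Etale)ᵒᵖ ⥤ ModuleCat.{u + 1} Λ) ⥤ ((X.Etale)ᵒᵖ ⥤ ModuleCat.{u + 1} Λ)) :=
  LanFlat.lan_preservesFiniteLimits_of_flat (ModuleCat.{u + 1} Λ) (EtCoh.bc f) (fun K J _ _ => by
    haveI : IsFiltered (CostructuredArrow (EtCoh.bc f).op K) :=
      IsFiltered.of_equivalence (structuredArrowOpEquivalence (EtCoh.bc f) (Opposite.unop K))
    haveI : PreservesFilteredColimitsOfSize.{u, u + 1} (forget (ModuleCat.{u + 1} Λ)) :=
      preservesFilteredColimitsOfSize_shrink.{u + 1, u + 1, u, u + 1} _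
    exact filtered_colim_preservesFiniteLimits)

instance preservesFiniteLimits_pull : PreservesFiniteLimits (EtModW.pull Λ f) := by
  haveI := lan_bc_preservesFiniteLimits Λ f
  exact Functor.sheafPullbackConstruction.preservesFiniteLimits (EtCoh.bc f) (ModuleCat.{u + 1} Λ)
    Y.smallEtaleTopology X.smallEtaleTopology

instance preservesFiniteColimits_pull : PreservesFiniteColimits (EtModW.pull Λ f) :=
  haveI : PreservesColimitsOfSize.{0, 0} (EtModW.pull Λ f) :=
    (EtSix.pullPushModAdj Λ f).leftAdjoint_preservesColimits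
  PreservesColimitsOfSize.preservesFiniteColimits _

end Groth.Agent.Lib.Helper13.EtModPullExact
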