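import Mathlib.Algebra.Homology.DerivedCategory.Ext.ExactSequences
import Mathlib.Algebra.Homology.HomologicalComplexAbelian

/-!
# Ext-acyclicity along acyclic complexes

For an object `P` of an abelian category `A` we consider the vanishing of `Ext^p(P, -)` on the
terms of an acyclic complex `C` and deduce (dimension shifting) the vanishing of `Ext^1(P, Z^n C)`
on its cycles, either when `Ext^p(P, -) = 0` for `p > d` or when `C` is bounded below.  As a
consequence cycles `P ⟶ C^{n+1}` lift to `C^n`.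
-/

set_option autoImplicit false
set_option linter.unusedSectionVars false
universe w v u
open CategoryTheory Category Limits

namespace Groth.Agent.Lib.Helper13.ExtAcyc

open Abelian

variable {A : Type u} [Category.{v} A] [Abelian A] [HasExt.{w} A]

/-- All classes in `Ext^p(P, Y)` vanish. -/
def ExtZero (P Y : A) (p : ℕ) : Prop := ∀ e : Ext P Y p, e = 0

lemma extZero_of_isZero (P : A) {Y : A} (hY : IsZero Y) (p : ℕ) : ExtZero P Y p := by
  intro e
  have h1 : e = e.comp (Ext.mk₀ (𝟙 Y)) (add_zero p) := (Ext.comp_mk₀_id e).symm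
  rw [h1, hY.eq_of_src (𝟙 Y) 0, Ext.mk₀_zero, Ext.comp_zero]

lemma extZero_of_iso (P : A) {Y Y' : A} (e : Y ≅ Y') (p : ℕ) (h : ExtZero P Y p) :
    ExtZero P Y' p := by
  intro x
  have h1 : x = (x.comp (Ext.mk₀ e.inv) (add_zero p)).comp (Ext.mk₀ e.hom) (add_zero p) := by
    rw [Ext.comp_assoc_of_third_deg_zero, Ext.mk₀_comp_mk₀, e.inv_hom_id, Ext.comp_mk₀_id]
  rw [h1, h (x.comp (Ext.mk₀ e.inv) (add_zero p)), Ext.zero_comp]

/-- Dimension shifting. -/
lemma extZero_X₃ (P : A) {S : ShortComplex A} (hS : S.ShortExact) (p : ℕ)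
    (h2 : ExtZero P S.X₂ p) (h1 : ExtZero P S.X₁ (p + 1)) : ExtZero P S.X₃ p := by
  intro x₃
  obtain ⟨x₂, hx₂⟩ := Ext.covariant_sequence_exact₃ P hS x₃ rfl (h1 _)
  rw [← hx₂, h2 x₂, Ext.zero_comp]

/-- If `Ext^1(P, X₁) = 0`, maps from `P` lift along the epimorphism of a short exact sequence. -/
lemma exists_lift (P : A) {S : ShortComplex A} (hS : S.ShortExact)
    (h1 : ExtZero P S.X₁ 1) (f : P ⟶ S.X₃) : ∃ g : P ⟶ S.X₂, g ≫ S.g = f := by
  obtain ⟨x₂, hx₂⟩ := Ext.covariant_sequence_exact₃ P hS (Ext.mk₀ f) rfl (h1 _)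
  obtain ⟨g, rfl⟩ := (Ext.mk₀_bijective P S.X₂).2 x₂
  refine ⟨g, ?_⟩
  rw [Ext.mk₀_comp_mk₀] at hx₂
  exact (Ext.mk₀_bijective P S.X₃).1 hx₂

section Cycles

variable (C : CochainComplex A ℤ)

/-- The cycles of a cochain complex, as a kernel. -/
noncomputable abbrev Zc (n : ℤ) : A := kernel (C.d n (n + 1))

/-- The map `C^n ⟶ Z^{n+1}` induced by the differential. -/
noncomputable def toZ (n : ℤ) : C.X n ⟶ Zc C (n + 1) :=
  kernel.lift _ (C.d n (n + 1)) (C.d_comp_d _ _ _)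

@[reassoc (attr := simp)]
lemma toZ_ι (n : ℤ) : toZ C n ≫ kernel.ι (C.d (n + 1) (n + 1 + 1)) = C.d n (n + 1) :=
  kernel.lift_ι _ _ _

/-- The short complex `Z^n ⟶ C^n ⟶ Z^{n+1}`. -/
noncomputable def cycSC (n : ℤ) : ShortComplex A :=
  ShortComplex.mk (kernel.ι (C.d n (n + 1))) (toZ C n) (by
    rw [← cancel_mono (kernel.ι (C.d (n + 1) (n + 1 + 1))), assoc, toZ_ι, kernel.condition,
      zero_comp])

lemma cycSC_shortExact (n : ℤ) (h : C.ExactAt (n + 1)) : (cycSC C n).ShortExact := by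
  have hex : (cycSC C n).Exact := by
    apply ShortComplex.exact_of_f_is_kernel
    exact isKernelOfComp (kernel.ι (C.d (n + 1) (n + 1 + 1))) (C.d n (n + 1))
      (kernelIsKernel (C.d n (n + 1))) _ (toZ_ι C n)
  have hepi : Epi (toZ C n) := by
    have h' : (C.sc' n (n + 1) (n + 1 + 1)).Exact :=
      (C.exactAt_iff' n (n + 1) (n + 1 + 1) (by simp) (by simp)).1 h
    exact h'.epi_kernelLift
  exact { exact := hex, mono_f := by dsimp [cycSC]; infer_instance, epi_g := hepi }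

variable (P : A)

lemma extZero_Zc_succ (n : ℤ) (h : C.ExactAt (n + 1)) (p : ℕ)
    (h2 : ExtZero P (C.X n) p) (h1 : ExtZero P (Zc C n) (p + 1)) :
    ExtZero P (Zc C (n + 1)) p :=
  extZero_X₃ P (cycSC_shortExact C n h) p h2 h1

lemma extZero_Zc_of_pred (n : ℤ) (h : C.ExactAt n) (p : ℕ)
    (h2 : ExtZero P (C.X (n - 1)) p) (h1 : ExtZero P (Zc C (n - 1)) (p + 1)) :
    ExtZero P (Zc C n) p := by
  obtain ⟨m, rfl⟩ : ∃ m, n = m + 1 := ⟨n - 1, by omega⟩
  have e : m + 1 - 1 = m := by omega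
  rw [e] at h2 h1
  exact extZero_Zc_succ C P m h p h2 h1

/-- Dimension shifting along an acyclic complex, finite cohomological dimension. -/
theorem extZero_Zc_of_finite_dim (hC : C.Acyclic)
    (hT : ∀ n p, 1 ≤ p → ExtZero P (C.X n) p)
    (d : ℕ) (hd : ∀ (Y : A) (p : ℕ), d < p → ExtZero P Y p) :
    ∀ (n : ℤ) (p : ℕ), 1 ≤ p → ExtZero P (Zc C n) p := by
  have key : ∀ (k : ℕ) (n : ℤ) (p : ℕ), 1 ≤ p → d < p + k → ExtZero P (Zc C n) p := by
    intro k
    induction k with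
    | zero => intro n p _ hp; exact hd _ _ (by omega)
    | succ k ih =>
      intro n p hp1 hp
      exact extZero_Zc_of_pred C P n (hC n) p (hT _ _ hp1) (ih (n - 1) (p + 1) (by omega) (by omega))
  intro n p hp
  exact key (d + 1) n p hp (by omega)

/-- Dimension shifting along an acyclic complex which is bounded below. -/
theorem extZero_Zc_of_bounded_below (hC : C.Acyclic)
    (hT : ∀ n p, 1 ≤ p → ExtZero P (C.X n) p)
    (a : ℤ) (ha : ∀ n, n < a → IsZero (C.X n)) :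
    ∀ (n : ℤ) (p : ℕ), 1 ≤ p → ExtZero P (Zc C n) p := by
  have hz : ∀ n, n < a → IsZero (Zc C n) := fun n hn =>
    IsZero.of_mono (kernel.ι (C.d n (n + 1))) (ha n hn)
  have key : ∀ (k : ℕ) (p : ℕ), 1 ≤ p → ExtZero P (Zc C (a - 1 + k)) p := by
    intro k
    induction k with
    | zero => intro p _; exact extZero_of_isZero P (hz _ (by omega)) p
    | succ k ih =>
      intro p hp1
      have := extZero_Zc_succ C P (a - 1 + k) (hC _) p (hT _ _ hp1) (ih (p + 1) (by omega))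
      have e : a - 1 + (k : ℤ) + 1 = a - 1 + ((k + 1 : ℕ) : ℤ) := by push_cast; ring
      rwa [e] at this
  intro n p hp
  by_cases hn : n < a
  · exact extZero_of_isZero P (hz n hn) p
  · obtain ⟨k, hk⟩ : ∃ k : ℕ, n = a - 1 + k := ⟨(n - (a - 1)).toNat, by omega⟩
    rw [hk]
    exact key k p hp

/-- Cycles `P ⟶ C^{n+1}` lift to `C^n` when `Ext^1(P, Z^n) = 0`. -/
lemma exists_lift_cycle (n : ℤ) (h : C.ExactAt (n + 1)) (h1 : ExtZero P (Zc C n) 1)
    (f : P ⟶ C.X (n + 1)) (hf : f ≫ C.d (n + 1) (n + 1 + 1) = 0) :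
    ∃ g : P ⟶ C.X n, g ≫ C.d n (n + 1) = f := by
  obtain ⟨g, hg⟩ := exists_lift P (cycSC_shortExact C n h) h1 (kernel.lift _ f hf)
  let g' : P ⟶ C.X n := g
  refine ⟨g', ?_⟩
  have hg' : g' ≫ toZ C n = kernel.lift _ f hf := hg
  rw [← toZ_ι, ← assoc, hg', kernel.lift_ι]

lemma exists_lift_cycle' (n m : ℤ) (hnm : n + 1 = m) (h : C.ExactAt m) (h1 : ExtZero P (Zc C n) 1)
    (f : P ⟶ C.X m) (hf : f ≫ C.d m (m + 1) = 0) :
    ∃ g : P ⟶ C.X n, g ≫ C.d n m = f := by
  subst hnm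
  exact exists_lift_cycle C P n h h1 f hf

lemma exists_lift_cycle'' (n m k : ℤ) (hnm : n + 1 = m) (hmk : m + 1 = k) (h : C.ExactAt m)
    (h1 : ExtZero P (Zc C n) 1)
    (f : P ⟶ C.X m) (hf : f ≫ C.d m k = 0) :
    ∃ g : P ⟶ C.X n, g ≫ C.d n m = f := by
  subst hmk
  exact exists_lift_cycle' C P n m hnm h h1 f hf

end Cycles

end Groth.Agent.Lib.Helper13.ExtAcyc
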