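/-
Base change of `Ext^1(M, S)` along `S → S ⧸ I` for a module with a two-term free resolution
`0 → S^c → S^r → M → 0` whose reduction mod `I` stays exact (sub-lemma X1 for helper52's S16192).
Author: helper13
-/
import Mathlib
import Groth.Agent.Lib.Helper88.ExtLen

set_option autoImplicit false

universe u

open CategoryTheory

namespace Groth.Agent.Lib.Helper13.FAdicX1

section General

variable {R : Type u} [CommRing R] {c r : ℕ}

/-- The transpose of `σ : R^c → R^r`, as a map `R^r → R^c`. -/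
noncomputable def sT (σ : (Fin c → R) →ₗ[R] (Fin r → R)) : (Fin r → R) →ₗ[R] (Fin c → R) :=
  LinearMap.pi fun i =>
    (LinearMap.applyₗ (σ (Pi.single i 1))).comp (Module.piEquiv (Fin r) R R).toLinearMap

lemma sT_apply (σ : (Fin c → R) →ₗ[R] (Fin r → R)) (w : Fin r → R) (i : Fin c) :
    sT σ w i = ∑ j, σ (Pi.single i 1) j * w j := by
  simp [sT, Module.piEquiv_apply_apply]

lemma piEquiv_sT (σ : (Fin c → R) →ₗ[R] (Fin r → R)) (w : Fin r → R) :
    Module.piEquiv (Fin c) R R (sT σ w) = (Module.piEquiv (Fin r) R R w) ∘ₗ σ := by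
  apply LinearMap.pi_ext'
  intro i
  ext
  simp only [LinearMap.coe_comp, LinearMap.coe_single, Function.comp_apply,
    Module.piEquiv_apply_apply]
  rw [Finset.sum_eq_single i]
  · simp [sT, Module.piEquiv_apply_apply]
  · intro b _ hb
    simp [hb]
  · intro h
    exact absurd (Finset.mem_univ i) h

/-- `Ext^1(M, R)` is the cokernel of the transpose of `σ`. -/
theorem nonempty_ext_one_equiv {M : Type u} [AddCommGroup M] [Module R M]
    (π : (Fin r → R) →ₗ[R] M) (hπ : Function.Surjective π)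
    (σ : (Fin c → R) →ₗ[R] (Fin r → R)) (hσ : Function.Injective σ)
    (hex : LinearMap.range σ = LinearMap.ker π) :
    Nonempty (((Fin c → R) ⧸ LinearMap.range (sT σ)) ≃ₗ[R]
      Abelian.Ext.{u} (ModuleCat.of R M) (ModuleCat.of R R) 1) := by
  obtain ⟨e₀⟩ := Groth.Agent.Lib.Helper88.ExtLen.nonempty_coker_equiv_ext_one (N := R) π hπ
  suffices h : Nonempty (((Fin c → R) ⧸ LinearMap.range (sT σ)) ≃ₗ[R]
      ((LinearMap.ker π →ₗ[R] R) ⧸
        LinearMap.range (LinearMap.lcomp R R (LinearMap.ker π).subtype))) by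
    obtain ⟨e₁⟩ := h
    exact ⟨e₁.trans e₀⟩
  constructor
  -- `e : R^c ≃ ker π`
  let e : (Fin c → R) ≃ₗ[R] LinearMap.ker π :=
    (LinearEquiv.ofInjective σ hσ).trans (LinearEquiv.ofEq _ _ hex)
  have he : ∀ v, ((e v : LinearMap.ker π) : Fin r → R) = σ v := fun v => rfl
  let Φ : (LinearMap.ker π →ₗ[R] R) ≃ₗ[R] (Fin c → R) :=
    (LinearEquiv.arrowCongr e.symm (LinearEquiv.refl R R)).trans
      (Module.piEquiv (Fin c) R R).symm
  have hΦ : ∀ (f : LinearMap.ker π →ₗ[R] R), Module.piEquiv (Fin c) R R (Φ f) = f ∘ₗ e.toLinearMap := by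
    intro f
    simp only [Φ, LinearEquiv.trans_apply, LinearEquiv.apply_symm_apply]
    ext v
    simp [LinearEquiv.arrowCongr_apply]
  refine (Submodule.Quotient.equiv _ _ Φ ?_).symm
  ext v
  constructor
  · rintro ⟨f, ⟨g, rfl⟩, rfl⟩
    refine ⟨(Module.piEquiv (Fin r) R R).symm g, ?_⟩
    apply (Module.piEquiv (Fin c) R R).injective
    rw [piEquiv_sT, LinearEquiv.apply_symm_apply]
    erw [hΦ]
    ext w
    simp [LinearMap.lcomp_apply, he]
  · rintro ⟨w, rfl⟩
    refine ⟨(Module.piEquiv (Fin r) R R w) ∘ₗ (LinearMap.ker π).subtype,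
      ⟨Module.piEquiv (Fin r) R R w, rfl⟩, ?_⟩
    apply (Module.piEquiv (Fin c) R R).injective
    rw [piEquiv_sT]
    erw [hΦ]
    ext w
    simp [he]

end General

section BaseChange

open TensorProduct

variable (S : Type u) [CommRing S] (I : Ideal S) {c r : ℕ}

/-- Reduction mod `I` on vectors. -/
noncomputable def red (n : ℕ) : (Fin n → S) →ₗ[S] (Fin n → S ⧸ I) :=
  (Algebra.linearMap S (S ⧸ I)).compLeft (Fin n)

lemma red_apply (n : ℕ) (v : Fin n → S) (i : Fin n) :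
    red S I n v i = Ideal.Quotient.mk I (v i) := rfl

lemma red_surjective (n : ℕ) : Function.Surjective (red S I n) := by
  intro u
  choose v hv using fun i => Ideal.Quotient.mk_surjective (u i)
  exact ⟨v, funext hv⟩

lemma red_single (n : ℕ) (i : Fin n) :
    (fun k => Ideal.Quotient.mk I ((Pi.single i 1 : Fin n → S) k)) =
      (Pi.single i 1 : Fin n → S ⧸ I) := by
  funext k
  by_cases h : k = i
  · subst h; simp
  · simp [h]

variable {S I}

lemma red_sT (σ : (Fin c → S) →ₗ[S] (Fin r → S))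
    (σ' : (Fin c → S ⧸ I) →ₗ[S ⧸ I] (Fin r → S ⧸ I))
    (hcompat : ∀ (v : Fin c → S) (j : Fin r),
      σ' (fun i => Ideal.Quotient.mk I (v i)) j = Ideal.Quotient.mk I (σ v j))
    (w : Fin r → S) :
    red S I c (sT σ w) = sT σ' (red S I r w) := by
  funext i
  rw [red_apply, sT_apply, sT_apply, map_sum]
  refine Finset.sum_congr rfl fun j _ => ?_
  rw [map_mul, ← hcompat, red_apply, red_single]

/-- Base change of the cokernel of the transpose. -/
theorem nonempty_baseChange_coker (σ : (Fin c → S) →ₗ[S] (Fin r → S))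
    (σ' : (Fin c → S ⧸ I) →ₗ[S ⧸ I] (Fin r → S ⧸ I))
    (hcompat : ∀ (v : Fin c → S) (j : Fin r),
      σ' (fun i => Ideal.Quotient.mk I (v i)) j = Ideal.Quotient.mk I (σ v j)) :
    Nonempty (((S ⧸ I) ⊗[S] ((Fin c → S) ⧸ LinearMap.range (sT σ))) ≃ₗ[S ⧸ I]
      ((Fin c → S ⧸ I) ⧸ LinearMap.range (sT σ'))) := by
  set N := LinearMap.range (sT σ) with hN
  set N' := LinearMap.range (sT σ') with hN'
  let q : ((Fin c → S) ⧸ N) →ₗ[S] ((Fin c → S ⧸ I) ⧸ N') :=
    Submodule.liftQ N ((N'.mkQ.restrictScalars S) ∘ₗ red S I c) (by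
      rintro _ ⟨w, rfl⟩
      rw [LinearMap.mem_ker]
      show N'.mkQ (red S I c (sT σ w)) = 0
      rw [red_sT σ σ' hcompat, Submodule.mkQ_apply, Submodule.Quotient.mk_eq_zero]
      exact ⟨_, rfl⟩)
  have hq : ∀ v : Fin c → S, q (Submodule.Quotient.mk v) = Submodule.Quotient.mk (red S I c v) :=
    fun v => rfl
  let Ψ : ((S ⧸ I) ⊗[S] ((Fin c → S) ⧸ N)) →ₗ[S ⧸ I] ((Fin c → S ⧸ I) ⧸ N') :=
    q.liftBaseChange (S ⧸ I)
  have hΨ : ∀ x, Ψ (1 ⊗ₜ x) = q x := fun x => by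
    simp [Ψ, LinearMap.liftBaseChange_tmul]
  have hmk : ∀ s : S, (Ideal.Quotient.mk I s : S ⧸ I) = s • (1 : S ⧸ I) := by
    intro s
    rw [Algebra.smul_def, mul_one]
    rfl
  have h1 : ∀ t : (S ⧸ I) ⊗[S] ((Fin c → S) ⧸ N), ∃ x, t = 1 ⊗ₜ x := by
    intro t
    induction t using TensorProduct.induction_on with
    | zero => exact ⟨0, (TensorProduct.tmul_zero _ _).symm⟩
    | tmul a x =>
      obtain ⟨s, rfl⟩ := Ideal.Quotient.mk_surjective a
      exact ⟨s • x, by rw [hmk, TensorProduct.smul_tmul]⟩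
    | add x y hx hy =>
      obtain ⟨x', rfl⟩ := hx
      obtain ⟨y', rfl⟩ := hy
      exact ⟨x' + y', (TensorProduct.tmul_add _ _ _).symm⟩
  have hzero : ∀ (s : S) (x : (Fin c → S) ⧸ N), s ∈ I →
      ((1 : S ⧸ I) ⊗ₜ[S] (s • x)) = 0 := by
    intro s x hs
    rw [← TensorProduct.smul_tmul, ← hmk, Ideal.Quotient.eq_zero_iff_mem.2 hs,
      TensorProduct.zero_tmul]
  refine ⟨LinearEquiv.ofBijective Ψ ⟨?_, ?_⟩⟩
  · rw [injective_iff_map_eq_zero]
    intro t ht
    obtain ⟨x, rfl⟩ := h1 t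
    obtain ⟨v, rfl⟩ := Submodule.Quotient.mk_surjective _ x
    rw [hΨ, hq, Submodule.Quotient.mk_eq_zero] at ht
    obtain ⟨w', hw'⟩ := ht
    obtain ⟨w, rfl⟩ := red_surjective S I r w'
    rw [← red_sT σ σ' hcompat] at hw'
    have hd : ∀ i, (v - sT σ w) i ∈ I := by
      intro i
      rw [← Ideal.Quotient.eq_zero_iff_mem, ← red_apply, map_sub, hw', sub_self]
      rfl
    have hv : (Submodule.Quotient.mk v : (Fin c → S) ⧸ N) =
        Submodule.Quotient.mk (v - sT σ w) := by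
      rw [Submodule.Quotient.eq]
      simp only [sub_sub_cancel]
      exact ⟨_, rfl⟩
    rw [hv]
    have hsum : (v - sT σ w) = ∑ i, (v - sT σ w) i • (Pi.single i 1 : Fin c → S) := by
      funext k
      simp [Finset.sum_apply, Pi.single_apply]
    rw [← Submodule.mkQ_apply, hsum, map_sum, TensorProduct.tmul_sum]
    refine Finset.sum_eq_zero fun i _ => ?_
    rw [map_smul]
    exact hzero _ _ (hd i)
  · intro y
    obtain ⟨u, rfl⟩ := Submodule.Quotient.mk_surjective _ y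
    obtain ⟨v, rfl⟩ := red_surjective S I c u
    exact ⟨1 ⊗ₜ Submodule.Quotient.mk v, by rw [hΨ, hq]⟩

end BaseChange

/-- Sub-lemma X1 (msg 4029, S16192). -/
theorem ext_one_baseChange_quotient (S : Type u) [CommRing S] (I : Ideal S) (M : Type u) [AddCommGroup M] [Module S M] (M' : Type u) [AddCommGroup M'] [Module (S ⧸ I) M'] (c r : ℕ) (π : (Fin r → S) →ₗ[S] M) (hπ : Function.Surjective π) (σ : (Fin c → S) →ₗ[S] (Fin r → S)) (hσ : Function.Injective σ) (hex : LinearMap.range σ = LinearMap.ker π) (π' : (Fin r → S ⧸ I) →ₗ[S ⧸ I] M') (hπ' : Function.Surjective π') (σ' : (Fin c → S ⧸ I) →ₗ[S ⧸ I] (Fin r → S ⧸ I)) (hσ' : Function.Injective σ') (hex' : LinearMap.range σ' = LinearMap.ker π') (hcompat : ∀ (v : Fin c → S) (j : Fin r), σ' (fun i => Ideal.Quotient.mk I (v i)) j = Ideal.Quotient.mk I (σ v j)) : Nonempty (TensorProduct S (S ⧸ I) (Abelian.Ext.{u} (ModuleCat.of S M) (ModuleCat.of S S) 1) ≃ₗ[S ⧸ I] Abelian.Ext.{u} (ModuleCat.of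 (S ⧸ I) M') (ModuleCat.of (S ⧸ I) (S ⧸ I)) 1) := by
  obtain ⟨e₁⟩ := nonempty_ext_one_equiv π hπ σ hσ hex
  obtain ⟨e₂⟩ := nonempty_ext_one_equiv π' hπ' σ' hσ' hex'
  obtain ⟨e₃⟩ := nonempty_baseChange_coker σ σ' hcompat
  exact ⟨((LinearEquiv.baseChange S (S ⧸ I) _ _ e₁.symm).trans e₃).trans e₂⟩

end Groth.Agent.Lib.Helper13.FAdicX1
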