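import Groth.Agent.Lib.Helper13.KInjDerAdj
import Mathlib

set_option autoImplicit false
universe v u
open CategoryTheory Category Limits

namespace Groth.Agent.Lib.Helper13.FilKInj

variable {A : Type u} [Category.{v} A] [Abelian A] [IsGrothendieckAbelian.{v} A]
  {𝒞 : Type v} [SmallCategory 𝒞]

/-- Functor categories on a small category with values in a Grothendieck abelian category are
Grothendieck abelian. -/
instance isGrothendieckAbelian_functor : IsGrothendieckAbelian.{v} (𝒞 ⥤ A) where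
  ab5OfSize := ⟨fun J _ _ => inferInstance⟩
  hasSeparator := by
    have : HasSeparator (𝒞ᵒᵖᵒᵖ ⥤ A) := Presheaf.hasSeparator (C := 𝒞ᵒᵖ) A
    exact HasSeparator.of_equivalence ((opOpEquivalence 𝒞).congrLeft (E := A))

section Eval

variable (A) in
/-- The left adjoint of evaluation at `c`. -/
noncomputable abbrev evL (c : 𝒞) : A ⥤ 𝒞 ⥤ A := evaluationLeftAdjoint A c

variable (A) in
/-- The evaluation adjunction. -/
noncomputable abbrev evAdj (c : 𝒞) : evL A c ⊣ (evaluation 𝒞 A).obj c :=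
  evaluationAdjunctionRight A c

lemma mono_sigma_map {I : Type v} {M M' : A} (m : M ⟶ M') [Mono m] :
    Mono (Limits.Sigma.map (fun _ : I => m)) := by
  let α : Discrete.functor (fun _ : I => M) ⟶ Discrete.functor (fun _ : I => M') :=
    Discrete.natTrans (fun _ => m)
  have : ∀ X, Mono (α.app X) := fun X => by dsimp [α]; infer_instance
  have : Mono α := NatTrans.mono_of_mono_app α
  exact inferInstanceAs (Mono (colim.map α))

instance (c : 𝒞) : (evL A c).PreservesMonomorphisms where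
  preserves {M M'} m _ := by
    have : ∀ t, Mono (((evL A c).map m).app t) := by
      intro t
      have h := mono_sigma_map (I := (c ⟶ t)) m
      have e : ((evL A c).map m).app t = Limits.Sigma.map (fun _ : (c ⟶ t) => m) := by
        show Limits.Sigma.desc (fun h : c ⟶ t => m ≫ Sigma.ι (fun _ : (c ⟶ t) => M') h) = _
        apply Limits.Sigma.hom_ext
        intro g
        rw [Limits.Sigma.ι_desc, Limits.Sigma.ι_map]
      rw [e]
      exact h
    apply NatTrans.mono_of_mono_app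

instance (c : 𝒞) : (evL A c).Additive := (evAdj A c).left_adjoint_additive

instance (c : 𝒞) : PreservesFiniteColimits (evL A c) := by
  have := (evAdj A c).leftAdjoint_preservesColimits
  infer_instance

instance (c : 𝒞) : PreservesFiniteLimits (evL A c) := by
  have : (evL A c).PreservesHomology :=
    (evL A c).preservesHomology_of_preservesMonos_and_cokernels
  exact (evL A c).preservesFiniteLimits_of_preservesHomology

lemma injective_eval (G : 𝒞 ⥤ A) [Injective G] (c : 𝒞) : Injective (G.obj c) :=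
  Injective.injective_of_adjoint (evAdj A c) G

/-- Evaluation of complexes of functors. -/
noncomputable abbrev evCx (c : 𝒞) : CochainComplex (𝒞 ⥤ A) ℤ ⥤ CochainComplex A ℤ :=
  ((evaluation 𝒞 A).obj c).mapHomologicalComplex (ComplexShape.up ℤ)

lemma isKInjective_eval (I : CochainComplex (𝒞 ⥤ A) ℤ) [I.IsKInjective] (c : 𝒞) :
    CochainComplex.IsKInjective ((evCx c).obj I) := by
  let _ := HasDerivedCategory.standard A
  let _ := HasDerivedCategory.standard (𝒞 ⥤ A)
  exact KInjDerAdj.isKInjective_map (evAdj A c) I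

/-- The canonical inclusion of the summand indexed by `g`. -/
noncomputable def evLι (c : 𝒞) (M : A) {t : 𝒞} (g : c ⟶ t) : M ⟶ ((evL A c).obj M).obj t :=
  Sigma.ι (fun _ : (c ⟶ t) => M) g

/-- Morphisms out of `(L_c M)(t)`. -/
noncomputable def evLdesc (c : 𝒞) (M : A) {t : 𝒞} {Z : A} (φ : (c ⟶ t) → (M ⟶ Z)) :
    ((evL A c).obj M).obj t ⟶ Z :=
  Limits.Sigma.desc φ

@[reassoc (attr := simp)]
lemma evLι_desc (c : 𝒞) (M : A) {t : 𝒞} {Z : A} (φ : (c ⟶ t) → (M ⟶ Z)) (g : c ⟶ t) :
    evLι c M g ≫ evLdesc c M φ = φ g :=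
  Limits.Sigma.ι_desc _ _

@[reassoc (attr := simp)]
lemma evLι_map (c : 𝒞) (M : A) {t t' : 𝒞} (g : c ⟶ t) (h : t ⟶ t') :
    evLι c M g ≫ ((evL A c).obj M).map h = evLι c M (g ≫ h) :=
  Limits.Sigma.ι_desc _ _

lemma evL_hom_ext (c : 𝒞) (M : A) {t : 𝒞} {Z : A} (a b : ((evL A c).obj M).obj t ⟶ Z)
    (h : ∀ g : c ⟶ t, evLι c M g ≫ a = evLι c M g ≫ b) : a = b :=
  Limits.Sigma.hom_ext _ _ h

lemma evAdj_unit (c : 𝒞) (M : A) : (evAdj A c).unit.app M = evLι c M (𝟙 c) :=
  evaluationAdjunctionRight_unit_app A c M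

lemma evAdj_homEquiv (c : 𝒞) (M : A) (G : 𝒞 ⥤ A) (ψ : (evL A c).obj M ⟶ G) :
    (evAdj A c).homEquiv M G ψ = evLι c M (𝟙 c) ≫ ψ.app c := by
  rw [Adjunction.homEquiv_unit, evAdj_unit]
  rfl

/-- The comparison map `L_{c'} M ⟶ L_c M` induced by `f : c ⟶ c'`. -/
noncomputable def evLMap {c c' : 𝒞} (f : c ⟶ c') (M : A) :
    (evL A c').obj M ⟶ (evL A c).obj M where
  app t := evLdesc c' M (fun g : c' ⟶ t => evLι c M (f ≫ g))
  naturality t t' h := by
    apply evL_hom_ext
    intro g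
    rw [evLι_map_assoc, evLι_desc, evLι_desc_assoc, evLι_map, assoc]

@[reassoc (attr := simp)]
lemma evLι_evLMap {c c' : 𝒞} (f : c ⟶ c') (M : A) {t : 𝒞} (g : c' ⟶ t) :
    evLι c' M g ≫ (evLMap f M).app t = evLι c M (f ≫ g) :=
  evLι_desc _ _ _ _

lemma evAdj_homEquiv_evLMap_comp {c c' : 𝒞} (f : c ⟶ c') (M : A) (G : 𝒞 ⥤ A)
    (ψ : (evL A c).obj M ⟶ G) :
    (evAdj A c').homEquiv M G (evLMap f M ≫ ψ) = (evAdj A c).homEquiv M G ψ ≫ G.map f := by
  rw [evAdj_homEquiv, evAdj_homEquiv, NatTrans.comp_app, evLι_evLMap_assoc, assoc,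
    ← ψ.naturality, evLι_map_assoc, comp_id, id_comp]

lemma mono_evLMap {c c' : 𝒞} (f : c ⟶ c') [Epi f] (M : A) : Mono (evLMap f M) := by
  classical
  have : ∀ t, Mono ((evLMap f M).app t) := by
    intro t
    let r : ((evL A c).obj M).obj t ⟶ ((evL A c').obj M).obj t :=
      evLdesc c M (fun g : c ⟶ t =>
        if h : ∃ g' : c' ⟶ t, f ≫ g' = g then evLι c' M h.choose else 0)
    have hr : (evLMap f M).app t ≫ r = 𝟙 _ := by
      apply evL_hom_ext
      intro g
      rw [evLι_evLMap_assoc, evLι_desc, comp_id]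
      have h : ∃ g' : c' ⟶ t, f ≫ g' = f ≫ g := ⟨g, rfl⟩
      rw [dif_pos h]
      congr 1
      exact (cancel_epi f).1 h.choose_spec
    exact mono_of_mono_fac hr
  apply NatTrans.mono_of_mono_app

/-- The transition maps of an injective functor along epimorphisms are split epimorphisms. -/
lemma exists_section_of_injective (G : 𝒞 ⥤ A) [Injective G] {c c' : 𝒞} (f : c ⟶ c') [Epi f] :
    ∃ s : G.obj c' ⟶ G.obj c, s ≫ G.map f = 𝟙 _ := by
  have := mono_evLMap f (G.obj c')
  let φ' : (evL A c').obj (G.obj c') ⟶ G := ((evAdj A c').homEquiv _ _).symm (𝟙 _)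
  let ψ := Injective.factorThru φ' (evLMap f (G.obj c'))
  have hψ : evLMap f _ ≫ ψ = φ' := Injective.comp_factorThru _ _
  refine ⟨(evAdj A c).homEquiv _ _ ψ, ?_⟩
  rw [← evAdj_homEquiv_evLMap_comp, hψ, Equiv.apply_symm_apply]

end Eval

end Groth.Agent.Lib.Helper13.FilKInj
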