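import Mathlib

set_option autoImplicit false
universe v u
open CategoryTheory Category Limits

namespace Groth.Agent.Lib.Helper13.FilKInj

variable {A : Type u} [Category.{v} A] [Abelian A]

open HomologicalComplex Pretriangulated

/-- In a degreewise split short exact sequence of cochain complexes, if the middle and right
terms are K-injective, so is the left term. -/
lemma isKInjective_X₁_of_degreewiseSplit (S : ShortComplex (CochainComplex A ℤ))
    (σ : ∀ n, (S.map (eval A _ n)).Splitting)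
    (h₂ : S.X₂.IsKInjective) (h₃ : S.X₃.IsKInjective) : S.X₁.IsKInjective := by
  rw [CochainComplex.isKInjective_iff_rightOrthogonal] at h₂ h₃ ⊢
  have hT : CochainComplex.trianglehOfDegreewiseSplit S σ ∈
      distTriang (HomotopyCategory A (ComplexShape.up ℤ)) := by
    rw [HomotopyCategory.distinguished_iff_iso_trianglehOfDegreewiseSplit]
    exact ⟨S, σ, ⟨Iso.refl _⟩⟩
  exact (HomotopyCategory.subcategoryAcyclic A).rightOrthogonal.ext_of_isTriangulatedClosed₁ _ hT
    h₂ h₃

lemma isKInjective_X₃_of_degreewiseSplit (S : ShortComplex (CochainComplex A ℤ))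
    (σ : ∀ n, (S.map (eval A _ n)).Splitting)
    (h₁ : S.X₁.IsKInjective) (h₂ : S.X₂.IsKInjective) : S.X₃.IsKInjective := by
  rw [CochainComplex.isKInjective_iff_rightOrthogonal] at h₁ h₂ ⊢
  have hT : CochainComplex.trianglehOfDegreewiseSplit S σ ∈
      distTriang (HomotopyCategory A (ComplexShape.up ℤ)) := by
    rw [HomotopyCategory.distinguished_iff_iso_trianglehOfDegreewiseSplit]
    exact ⟨S, σ, ⟨Iso.refl _⟩⟩
  exact (HomotopyCategory.subcategoryAcyclic A).rightOrthogonal.ext_of_isTriangulatedClosed₃ _ hT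
    h₁ h₂

/-- K-injective with injective terms. -/
def Good (Z : CochainComplex A ℤ) : Prop := Z.IsKInjective ∧ ∀ n, Injective (Z.X n)

lemma Good.of_iso {Z Z' : CochainComplex A ℤ} (e : Z ≅ Z') (h : Good Z) : Good Z' := by
  obtain ⟨h1, h2⟩ := h
  refine ⟨CochainComplex.isKInjective_of_iso e, fun n => ?_⟩
  exact Injective.of_iso ((eval A _ n).mapIso e) (h2 n)

lemma good_X₁_of_sections (S : ShortComplex (CochainComplex A ℤ)) (hS : S.ShortExact)
    (s : ∀ n, S.X₃.X n ⟶ S.X₂.X n) (hs : ∀ n, s n ≫ S.g.f n = 𝟙 _)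
    (h₂ : Good S.X₂) (h₃ : Good S.X₃) : Good S.X₁ := by
  have hS' := fun n => hS.map_of_exact (eval A (ComplexShape.up ℤ) n)
  let σ : ∀ n, (S.map (eval A _ n)).Splitting := fun n =>
    ShortComplex.Splitting.ofExactOfSection _ (hS' n).exact (s n) (hs n) (hS' n).mono_f
  refine ⟨isKInjective_X₁_of_degreewiseSplit S σ h₂.1 h₃.1, fun n => ?_⟩
  have := h₂.2 n
  exact Retract.injective (Y := S.X₂.X n) ⟨S.f.f n, (σ n).r, (σ n).f_r⟩

lemma good_X₃_of_injective (S : ShortComplex (CochainComplex A ℤ)) (hS : S.ShortExact)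
    (h₁ : Good S.X₁) (h₂ : Good S.X₂) : Good S.X₃ := by
  have hS' := fun n => hS.map_of_exact (eval A (ComplexShape.up ℤ) n)
  let σ : ∀ n, (S.map (eval A _ n)).Splitting := fun n => by
    haveI : Injective (S.X₁.X n) := h₁.2 n
    haveI : Mono (S.f.f n) := (hS' n).mono_f
    exact ShortComplex.Splitting.ofExactOfRetraction _ (hS' n).exact
      (Injective.factorThru (𝟙 (S.X₁.X n)) (S.f.f n) : S.X₂.X n ⟶ S.X₁.X n)
      (Injective.comp_factorThru (𝟙 (S.X₁.X n)) (S.f.f n))
      (hS' n).epi_g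
  refine ⟨isKInjective_X₃_of_degreewiseSplit S σ h₁.1 h₂.1, fun n => ?_⟩
  have := h₂.2 n
  exact Retract.injective (Y := S.X₂.X n) ⟨(σ n).s, S.g.f n, (σ n).s_g⟩

section QuasiIso

open HomologicalComplex.HomologySequence ComposableArrows

variable {S₁ S₂ : ShortComplex (CochainComplex A ℤ)} (φ : S₁ ⟶ S₂)
  (hS₁ : S₁.ShortExact) (hS₂ : S₂.ShortExact)

include hS₁ hS₂ in
/-- Two-out-of-three for quasi-isomorphisms between short exact sequences of complexes:
the left map. -/
lemma quasiIso_τ₁ (h₂ : QuasiIso φ.τ₂) (h₃ : QuasiIso φ.τ₃) : QuasiIso φ.τ₁ := by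
  rw [quasiIso_iff]
  intro j
  rw [quasiIsoAt_iff_isIso_homologyMap]
  have hij : (ComplexShape.up ℤ).Rel (j - 1) j := by simp
  have e₁ := composableArrows₅_exact hS₁ (j - 1) j hij
  have e₂ := composableArrows₅_exact hS₂ (j - 1) j hij
  have := Abelian.isIso_of_epi_of_isIso_of_isIso_of_mono
    (R₁ := δ₀Functor.obj (composableArrows₅ hS₁ (j - 1) j hij))
    (R₂ := δ₀Functor.obj (composableArrows₅ hS₂ (j - 1) j hij)) e₁.δ₀ e₂.δ₀
    (δ₀Functor.map (mapComposableArrows₅ φ hS₁ hS₂ (j - 1) j hij))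
    (by show Epi (homologyMap φ.τ₂ (j - 1)); infer_instance)
    (by show IsIso (homologyMap φ.τ₃ (j - 1)); infer_instance)
    (by show IsIso (homologyMap φ.τ₂ j); infer_instance)
    (by show Mono (homologyMap φ.τ₃ j); infer_instance)
  exact this

end QuasiIso

end Groth.Agent.Lib.Helper13.FilKInj
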