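import Mathlib
import Groth.Prelude.Def_SpSeq
import Groth.Agent.Lib.Helper13.FilKInj2

set_option autoImplicit false
universe v u
open CategoryTheory Category Limits

namespace Groth.Agent.Lib.Helper13.FilKInj

open SpSeq

variable {𝒜 : Type u} [Category.{v} 𝒜] [Abelian 𝒜]

/-- The short exact sequence `0 → F^p → K → K/F^p → 0`. -/
noncomputable def sesStep (K : FilObj 𝒜) (p : ℤ) : ShortComplex 𝒜 :=
  ShortComplex.mk (K.fil p).arrow (cokernel.π (K.fil p).arrow) (cokernel.condition _)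

lemma sesStep_shortExact (K : FilObj 𝒜) (p : ℤ) : (sesStep K p).ShortExact :=
  ShortComplex.ShortExact.mk' (ShortComplex.exact_of_g_is_cokernel _ (cokernelIsCokernel _))
    (by dsimp [sesStep]; infer_instance) (by dsimp [sesStep]; infer_instance)

/-- The short exact sequence `0 → F^q → F^p → F^p/F^q → 0` for `p ≤ q`. -/
noncomputable def sesGr (K : FilObj 𝒜) {p q : ℤ} (h : p ≤ q) : ShortComplex 𝒜 :=
  ShortComplex.mk (K.stepLE h) (cokernel.π (K.stepLE h)) (cokernel.condition _)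

lemma sesGr_shortExact (K : FilObj 𝒜) {p q : ℤ} (h : p ≤ q) : (sesGr K h).ShortExact :=
  ShortComplex.ShortExact.mk' (ShortComplex.exact_of_g_is_cokernel _ (cokernelIsCokernel _))
    (by dsimp [sesGr]; infer_instance) (by dsimp [sesGr]; infer_instance)

variable {K J : FilObj 𝒜} (j : K ⟶ J)

/-- The map induced on `F^p`. -/
noncomputable def stepMap (p : ℤ) : K.step p ⟶ J.step p :=
  (K.fil p).ofLE _ (j.compat p) ≫ Subobject.pullbackπ j.hom (J.fil p)

@[reassoc (attr := simp)]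
lemma stepMap_arrow (p : ℤ) : stepMap j p ≫ (J.fil p).arrow = (K.fil p).arrow ≫ j.hom := by
  dsimp only [stepMap]
  rw [assoc, (Subobject.isPullback j.hom (J.fil p)).w, Subobject.ofLE_arrow_assoc]

@[reassoc]
lemma stepMap_stepLE {p q : ℤ} (h : p ≤ q) :
    stepMap j q ≫ J.stepLE h = K.stepLE h ≫ stepMap j p := by
  rw [← cancel_mono (J.fil p).arrow, assoc, assoc, stepMap_arrow, Subobject.ofLE_arrow,
    stepMap_arrow, Subobject.ofLE_arrow_assoc]

/-- The map induced on `K/F^p`. -/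
noncomputable def quotMap' (p : ℤ) : K.quot p ⟶ J.quot p :=
  cokernel.map _ _ (stepMap j p) j.hom (stepMap_arrow j p).symm

@[reassoc (attr := simp)]
lemma π_quotMap' (p : ℤ) :
    cokernel.π (K.fil p).arrow ≫ quotMap' j p = j.hom ≫ cokernel.π (J.fil p).arrow := by
  simp [quotMap']

/-- The map induced on `F^p/F^q`. -/
noncomputable def grMap {p q : ℤ} (h : p ≤ q) : cokernel (K.stepLE h) ⟶ cokernel (J.stepLE h) :=
  cokernel.map _ _ (stepMap j q) (stepMap j p) (stepMap_stepLE j h).symm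

@[reassoc (attr := simp)]
lemma π_grMap {p q : ℤ} (h : p ≤ q) :
    cokernel.π (K.stepLE h) ≫ grMap j h = stepMap j p ≫ cokernel.π (J.stepLE h) := by
  simp [grMap]

/-- The morphism of short exact sequences `sesStep`. -/
noncomputable def sesStepMap (p : ℤ) : sesStep K p ⟶ sesStep J p where
  τ₁ := stepMap j p
  τ₂ := j.hom
  τ₃ := quotMap' j p
  comm₁₂ := stepMap_arrow j p
  comm₂₃ := (π_quotMap' j p).symm

/-- The morphism of short exact sequences `sesGr`. -/
noncomputable def sesGrMap {p q : ℤ} (h : p ≤ q) : sesGr K h ⟶ sesGr J h where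
  τ₁ := stepMap j q
  τ₂ := stepMap j p
  τ₃ := grMap j h
  comm₁₂ := stepMap_stepLE j h
  comm₂₃ := (π_grMap j h).symm

section Degreewise

variable {A : Type u} [Category.{v} A] [Abelian A] (J : FilCx A) (n : ℤ)

/-- `F^p(J^n) ≅ (F^p J)^n`. -/
noncomputable def xfilStepIso (p : ℤ) : (J.XFil n).step p ≅ (J.step p).X n :=
  Subobject.underlyingIso ((J.fil p).arrow.f n)

@[reassoc (attr := simp)]
lemma xfilStepIso_hom_arrow (p : ℤ) :
    (xfilStepIso J n p).hom ≫ (J.fil p).arrow.f n = ((J.XFil n).fil p).arrow :=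
  Subobject.underlyingIso_hom_comp_eq_mk _

lemma xfilStepLE {p q : ℤ} (h : p ≤ q) :
    (J.XFil n).stepLE h ≫ (xfilStepIso J n p).hom =
      (xfilStepIso J n q).hom ≫ (J.stepLE h).f n := by
  rw [← cancel_mono ((J.fil p).arrow.f n), assoc, assoc, xfilStepIso_hom_arrow,
    ← HomologicalComplex.comp_f, Subobject.ofLE_arrow, xfilStepIso_hom_arrow]
  exact Subobject.ofLE_arrow _

/-- `J^n / F^p(J^n) ≅ (J / F^p J)^n`. -/
noncomputable def xfilQuotIso (p : ℤ) : (J.XFil n).quot p ≅ (J.quot p).X n :=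
  cokernel.mapIso ((J.XFil n).fil p).arrow ((J.fil p).arrow.f n) (xfilStepIso J n p)
    (Iso.refl (J.obj.X n))
    (by rw [xfilStepIso_hom_arrow]; exact comp_id ((J.XFil n).fil p).arrow) ≪≫
  (PreservesCokernel.iso (HomologicalComplex.eval A (ComplexShape.up ℤ) n) (J.fil p).arrow).symm

/-- `F^p(J^n) / F^q(J^n) ≅ (F^p J / F^q J)^n`. -/
noncomputable def xfilGrIso {p q : ℤ} (h : p ≤ q) :
    cokernel ((J.XFil n).stepLE h) ≅ (cokernel (J.stepLE h)).X n :=
  cokernel.mapIso ((J.XFil n).stepLE h) ((J.stepLE h).f n) (xfilStepIso J n q)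
    (xfilStepIso J n p) (xfilStepLE J n h) ≪≫
  (PreservesCokernel.iso (HomologicalComplex.eval A (ComplexShape.up ℤ) n) (J.stepLE h)).symm

end Degreewise

section Reduction

variable {A : Type u} [Category.{v} A] [Abelian A] {K J : FilCx A} (j : K ⟶ J)

/-- Reduction of the filtered K-injective embedding statement to a few checks. -/
theorem conclusion_of_good (hJ : Good J.obj) (hstep : ∀ p, Good (J.step p))
    (hquot : ∀ p, Good (J.quot p)) (hq : QuasiIso j.hom) (hqq : ∀ p, QuasiIso (quotMap' j p)) :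
    (∀ n p : ℤ, Injective (J.obj.X n) ∧ Injective ((J.XFil n).step p) ∧
        Injective ((J.XFil n).quot p) ∧
        ∀ (p' : ℤ) (h : p ≤ p'), Injective (cokernel ((J.XFil n).stepLE h))) ∧
      (CochainComplex.IsKInjective J.obj ∧ ∀ p : ℤ, CochainComplex.IsKInjective (J.step p) ∧
        CochainComplex.IsKInjective (J.quot p) ∧
        ∀ (p' : ℤ) (h : p ≤ p'), CochainComplex.IsKInjective (cokernel (J.stepLE h))) ∧
      QuasiIso j.hom ∧
      (∀ p : ℤ, ∃ jp : K.step p ⟶ J.step p,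
        jp ≫ (J.fil p).arrow = (K.fil p).arrow ≫ j.hom ∧ QuasiIso jp ∧
        (∀ (p' : ℤ) (h : p ≤ p'), ∃ (jp' : K.step p' ⟶ J.step p')
          (jg : cokernel (K.stepLE h) ⟶ cokernel (J.stepLE h)),
          jp' ≫ (J.fil p').arrow = (K.fil p').arrow ≫ j.hom ∧
          jp' ≫ J.stepLE h = K.stepLE h ≫ jp ∧
          cokernel.π (K.stepLE h) ≫ jg = jp ≫ cokernel.π (J.stepLE h) ∧ QuasiIso jg)) ∧
      (∀ p : ℤ, ∃ jq : K.quot p ⟶ J.quot p,
        cokernel.π (K.fil p).arrow ≫ jq = j.hom ≫ cokernel.π (J.fil p).arrow ∧ QuasiIso jq) := by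
  have hgr : ∀ {p q : ℤ} (h : p ≤ q), Good (cokernel (J.stepLE h)) := fun {p q} h =>
    good_X₃_of_injective (sesGr J h) (sesGr_shortExact J h) (hstep q) (hstep p)
  have hqs : ∀ p, QuasiIso (stepMap j p) := fun p =>
    quasiIso_τ₁ (sesStepMap j p) (sesStep_shortExact K p) (sesStep_shortExact J p) hq (hqq p)
  have hqg : ∀ {p q : ℤ} (h : p ≤ q), QuasiIso (grMap j h) := fun {p q} h =>
    HomologicalComplex.HomologySequence.quasiIso_τ₃ (sesGrMap j h) (sesGr_shortExact K h)
      (sesGr_shortExact J h) (hqs q) (hqs p)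
  refine ⟨fun n p => ⟨hJ.2 n, ?_, ?_, fun p' h => ?_⟩, ⟨hJ.1, fun p => ⟨(hstep p).1, (hquot p).1,
    fun p' h => (hgr h).1⟩⟩, hq, fun p => ⟨stepMap j p, stepMap_arrow j p, hqs p, fun p' h =>
      ⟨stepMap j p', grMap j h, stepMap_arrow j p', stepMap_stepLE j h, π_grMap j h, hqg h⟩⟩,
    fun p => ⟨quotMap' j p, π_quotMap' j p, hqq p⟩⟩
  · exact Injective.of_iso (xfilStepIso J n p).symm ((hstep p).2 n)
  · exact Injective.of_iso (xfilQuotIso J n p).symm ((hquot p).2 n)
  · exact Injective.of_iso (xfilGrIso J n h).symm ((hgr h).2 n)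

end Reduction

end Groth.Agent.Lib.Helper13.FilKInj
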