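import Groth.Agent.Lib.Helper13.FilKInj1

set_option autoImplicit false
universe v u
open CategoryTheory Category Limits

namespace Groth.Agent.Lib.Helper13.FilKInj

variable {A : Type u} [Category.{v} A] [Abelian A]
  {𝒞 : Type v} [SmallCategory 𝒞]

/-- A functor to cochain complexes, viewed as a cochain complex of functors. -/
@[simps]
noncomputable def cxOfFunctor (Q₀ : 𝒞 ⥤ CochainComplex A ℤ) : CochainComplex (𝒞 ⥤ A) ℤ where
  X n := Q₀ ⋙ HomologicalComplex.eval A (ComplexShape.up ℤ) n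
  d n m :=
    { app := fun c => (Q₀.obj c).d n m
      naturality := fun c c' f => ((Q₀.map f).comm n m) }
  shape n m h := by
    ext c
    exact (Q₀.obj c).shape n m h
  d_comp_d' n m k _ _ := by
    ext c
    exact (Q₀.obj c).d_comp_d n m k

/-- Evaluating `cxOfFunctor Q₀` at `c` recovers `Q₀.obj c`. -/
noncomputable def evCxIso (Q₀ : 𝒞 ⥤ CochainComplex A ℤ) (c : 𝒞) :
    (evCx c).obj (cxOfFunctor Q₀) ≅ Q₀.obj c :=
  HomologicalComplex.Hom.isoOfComponents (fun n => Iso.refl _) (by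
    intro n m _
    exact (id_comp _).trans (comp_id _).symm)

@[simp]
lemma evCxIso_hom_f (Q₀ : 𝒞 ⥤ CochainComplex A ℤ) (c : 𝒞) (n : ℤ) :
    (evCxIso Q₀ c).hom.f n = 𝟙 _ := rfl

@[simp]
lemma evCxIso_inv_f (Q₀ : 𝒞 ⥤ CochainComplex A ℤ) (c : 𝒞) (n : ℤ) :
    (evCxIso Q₀ c).inv.f n = 𝟙 _ := rfl

/-- The transition maps between evaluations. -/
noncomputable abbrev tr {c c' : 𝒞} (f : c ⟶ c') : evCx (A := A) c ⟶ evCx c' :=
  NatTrans.mapHomologicalComplex ((evaluation 𝒞 A).map f) (ComplexShape.up ℤ)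

lemma tr_comp {c c' c'' : 𝒞} (f : c ⟶ c') (g : c' ⟶ c'') :
    tr (A := A) (f ≫ g) = tr f ≫ tr g := by
  dsimp only [tr]
  rw [Functor.map_comp, NatTrans.mapHomologicalComplex_comp]

@[simp]
lemma tr_app_f {c c' : 𝒞} (f : c ⟶ c') (I : CochainComplex (𝒞 ⥤ A) ℤ) (n : ℤ) :
    ((tr f).app I).f n = (I.X n).map f := rfl

@[reassoc]
lemma evCxIso_naturality (Q₀ : 𝒞 ⥤ CochainComplex A ℤ) {c c' : 𝒞} (f : c ⟶ c') :
    (tr f).app (cxOfFunctor Q₀) ≫ (evCxIso Q₀ c').hom = (evCxIso Q₀ c).hom ≫ Q₀.map f := by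
  ext n
  rw [HomologicalComplex.comp_f, HomologicalComplex.comp_f, evCxIso_hom_f, evCxIso_hom_f,
    tr_app_f]
  exact (comp_id _).trans (id_comp _).symm

end Groth.Agent.Lib.Helper13.FilKInj
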