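import Groth.Agent.Lib.Helper13.FilKInj3
import Groth.Agent.Lib.Helper13.FilKInj4
import Groth.Agent.Lib.Helper13.KInjMain
import Groth.Agent.Lib.Helper13.SubLat

set_option autoImplicit false
universe v u
open CategoryTheory Category Limits Opposite

namespace Groth.Agent.Lib.Helper13.FilKInj

open SpSeq

/-- The index poset `ℤ ∪ {⊤}`, lifted to the universe of morphisms. -/
abbrev Idx : Type v := ULift.{v} (WithTop ℤ)

section Quot

variable {𝒜 : Type u} [Category.{v} 𝒜] [Abelian 𝒜] (K : FilObj 𝒜)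

/-- The filtration extended by `F^⊤ = 0`. -/
noncomputable def fil' (a : WithTop ℤ) : Subobject K.obj := a.recTopCoe ⊥ K.fil

lemma fil'_top : fil' K ⊤ = ⊥ := rfl

lemma fil'_coe (p : ℤ) : fil' K p = K.fil p := rfl

lemma fil'_anti : Antitone (fil' K) := by
  intro a b h
  induction b using WithTop.recTopCoe with
  | top => rw [fil'_top]; exact bot_le
  | coe q =>
    induction a using WithTop.recTopCoe with
    | top => exact absurd h (by simp)
    | coe p => exact K.anti (by exact_mod_cast h)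

/-- The system of quotients `K / F^a`, `a ∈ ℤ ∪ {⊤}`. -/
noncomputable def quotSys : Idx.{v}ᵒᵖ ⥤ 𝒜 where
  obj c := cokernel (fil' K c.unop.down).arrow
  map {c c'} f := cokernel.desc _ (cokernel.π (fil' K c'.unop.down).arrow) (by
    have h0 : c'.unop ≤ c.unop := leOfHom f.unop
    have h : fil' K c.unop.down ≤ fil' K c'.unop.down := fil'_anti K h0
    rw [← Subobject.ofLE_arrow h, assoc, cokernel.condition, comp_zero])
  map_id c := by
    apply coequalizer.hom_ext
    simp
  map_comp f g := by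
    apply coequalizer.hom_ext
    simp

/-- The index `⊤`. -/
abbrev iTop : Idx.{v}ᵒᵖ := op ⟨⊤⟩

/-- The index `p`. -/
abbrev iZ (p : ℤ) : Idx.{v}ᵒᵖ := op ⟨(p : WithTop ℤ)⟩

/-- The arrow `⊤ ⟶ p`. -/
noncomputable abbrev fTop (p : ℤ) : iTop.{v} ⟶ iZ p := (homOfLE (show (⟨(p : WithTop ℤ)⟩ : Idx.{v}) ≤ ⟨⊤⟩ from
  le_top (a := (p : WithTop ℤ)))).op

@[reassoc (attr := simp)]
lemma π_quotSys_map {c c' : Idx.{v}ᵒᵖ} (f : c ⟶ c') :
    cokernel.π (fil' K c.unop.down).arrow ≫ (quotSys K).map f =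
      cokernel.π (fil' K c'.unop.down).arrow :=
  cokernel.π_desc _ _ _

/-- The identification of `K` with the quotient by `F^⊤ = 0`. -/
noncomputable def θ : K.obj ⟶ (quotSys K).obj iTop := cokernel.π (fil' K ⊤).arrow

omit K in
lemma isIso_cokernel_π_of_eq_zero {X Y : 𝒜} (f : X ⟶ Y) (h : f = 0) : IsIso (cokernel.π f) := by
  subst h
  infer_instance

instance : IsIso (θ K) := by
  have h0 : (fil' K ⊤).arrow = 0 := by rw [fil'_top]; exact Subobject.bot_arrow
  exact isIso_cokernel_π_of_eq_zero _ h0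

lemma θ_map (p : ℤ) :
    θ K ≫ (quotSys K).map (fTop p) = cokernel.π (K.fil p).arrow :=
  π_quotSys_map K (fTop p)

end Quot

section Epi

variable {𝒜 : Type u} [Category.{v} 𝒜] [Abelian 𝒜] {X Y : 𝒜} (π : X ⟶ Y)

/-- For an epimorphism `π`, the quotient of `X` by the kernel of `π` is `Y`. -/
noncomputable def cokerKer : cokernel (kernelSubobject π).arrow ⟶ Y :=
  cokernel.desc _ π (kernelSubobject_arrow_comp π)

@[reassoc (attr := simp)]
lemma π_cokerKer : cokernel.π (kernelSubobject π).arrow ≫ cokerKer π = π :=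
  cokernel.π_desc _ _ _

instance [Epi π] : IsIso (cokerKer π) := by
  have : Epi (cokerKer π) := epi_of_epi_fac (π_cokerKer π)
  have : Mono (cokerKer π) := by
    apply Preadditive.mono_of_cancel_zero
    intro T g hg
    obtain ⟨T', π', hπ', x, hx⟩ :=
      surjective_up_to_refinements_of_epi (cokernel.π (kernelSubobject π).arrow) g
    have hx0 : x ≫ π = 0 := by
      rw [← π_cokerKer π, ← assoc, ← hx, assoc, hg, comp_zero]
    have hfac : (kernelSubobject π).Factors x := (kernelSubobject_factors_iff π x).2 hx0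
    have h1 : π' ≫ g = 0 := by
      rw [hx, ← Subobject.factorThru_arrow _ x hfac, assoc, cokernel.condition, comp_zero]
    rw [← cancel_epi π', h1, comp_zero]
  exact isIso_of_mono_of_epi _

end Epi

section Main

variable {A : Type u} [Category.{v} A] [Abelian A] [IsGrothendieckAbelian.{v} A] (K : FilCx A)

open Groth.Agent.Lib.Helper13.SubLat Groth.Agent.Lib.Helper89.SubobjectModular in
theorem exists_good_embedding :
    ∃ (J : FilCx A) (j : K ⟶ J), Good J.obj ∧ (∀ p, Good (J.step p)) ∧ (∀ p, Good (J.quot p)) ∧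
      QuasiIso j.hom ∧ ∀ p, QuasiIso (quotMap' j p) := by
  let Q₀ : Idx.{v}ᵒᵖ ⥤ CochainComplex A ℤ := quotSys K
  obtain ⟨I, η, hI, hη, -, hext⟩ := KInjMain.exists_kInjective_resolution (cxOfFunctor Q₀)
  have := hI
  have hinj : ∀ n, Injective (I.X n) := fun n => KInjBasic.injective_of_extProp hext n
  let Y : Idx.{v}ᵒᵖ → CochainComplex A ℤ := fun c => (evCx c).obj I
  have hY : ∀ c, Good (Y c) := fun c => ⟨isKInjective_eval I c, fun n => by
    have := hinj n
    exact injective_eval (I.X n) c⟩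
  let ηc : ∀ c, Q₀.obj c ⟶ Y c := fun c => (evCxIso Q₀ c).inv ≫ (evCx c).map η
  have hηc : ∀ c, QuasiIso (ηc c) := fun c => by
    have := (HomologicalComplex.quasiIso_iff_evaluation η).1 hη c
    dsimp only [ηc]
    infer_instance
  have hnat : ∀ {c c' : Idx.{v}ᵒᵖ} (f : c ⟶ c'), Q₀.map f ≫ ηc c' = ηc c ≫ (tr f).app I := by
    intro c c' f
    dsimp only [ηc]
    rw [assoc, (tr f).naturality η, ← assoc, ← assoc]
    congr 1
    rw [← cancel_mono (evCxIso Q₀ c').hom, assoc, Iso.inv_hom_id, comp_id, assoc,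
      evCxIso_naturality, Iso.inv_hom_id_assoc]
  let π : ∀ p : ℤ, Y iTop ⟶ Y (iZ p) := fun p => (tr (fTop p)).app I
  have hsec : ∀ (p n : ℤ), ∃ s : (Y (iZ p)).X n ⟶ (Y iTop).X n, s ≫ (π p).f n = 𝟙 _ := by
    intro p n
    have := hinj n
    have : Epi (fTop.{v} p) := ⟨fun g h _ => Subsingleton.elim _ _⟩
    exact exists_section_of_injective (I.X n) (fTop p)
  have hepi : ∀ p, Epi (π p) := by
    intro p
    have : ∀ n, Epi ((π p).f n) := fun n => by
      obtain ⟨s, hs⟩ := hsec p n
      have : Epi (s ≫ (π p).f n) := by rw [hs]; infer_instance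
      exact epi_of_epi s _
    exact HomologicalComplex.epi_of_epi_f (π p) inferInstance
  have hanti : Antitone (fun p : ℤ => kernelSubobject (π p)) := by
    intro p q h
    have hle : (⟨(p : WithTop ℤ)⟩ : Idx.{v}) ≤ ⟨(q : WithTop ℤ)⟩ := by
      show (p : WithTop ℤ) ≤ (q : WithTop ℤ)
      exact_mod_cast h
    have hpq : π p = π q ≫ (tr (homOfLE hle).op).app I := by
      dsimp only [π]
      rw [← NatTrans.comp_app, ← tr_comp]
      congr 2
    show kernelSubobject (π q) ≤ kernelSubobject (π p)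
    rw [hpq]
    exact kernelSubobject_comp_le _ _
  let J : FilCx A := ⟨Y iTop, fun p => kernelSubobject (π p), hanti⟩
  let jh : K.obj ⟶ Y iTop := θ K ≫ ηc iTop
  let ηz : ∀ p : ℤ, K.quot p ⟶ Y (iZ p) := fun p => ηc (iZ p)
  have hηz : ∀ p, QuasiIso (ηz p) := fun p => hηc (iZ p)
  have hjπ : ∀ p, jh ≫ π p = cokernel.π (K.fil p).arrow ≫ ηz p := by
    intro p
    dsimp only [jh, π]
    rw [assoc, ← hnat, ← assoc]
    congr 1
    exact θ_map K p
  let j : K ⟶ J := ⟨jh, fun p => by
    apply Subobject.le_of_factors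
    rw [pullback_factors_iff, kernelSubobject_factors_iff, assoc]
    show (K.fil p).arrow ≫ jh ≫ π p = 0
    rw [hjπ, cokernel.condition_assoc, zero_comp]⟩
  have hJq : ∀ p, Good (J.quot p) := fun p => by
    have := hepi p
    exact Good.of_iso (asIso (cokerKer (π p))).symm (hY (iZ p))
  refine ⟨J, j, hY iTop, ?_, hJq, ?_, ?_⟩
  · intro p
    have := hepi p
    choose σ hσ using hsec p
    refine good_X₁_of_sections (sesStep J p) (sesStep_shortExact J p)
      (fun n => (cokerKer (π p)).f n ≫ σ n) (fun n => ?_) (hY iTop) (hJq p)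
    have h1 : (cokernel.π (kernelSubobject (π p)).arrow).f n ≫ (cokerKer (π p)).f n =
        (π p).f n := by
      rw [← HomologicalComplex.comp_f, π_cokerKer]
    have : IsIso ((cokerKer (π p)).f n) := inferInstance
    show ((cokerKer (π p)).f n ≫ σ n) ≫ (cokernel.π (kernelSubobject (π p)).arrow).f n = 𝟙 _
    rw [← cancel_mono ((cokerKer (π p)).f n), assoc, assoc, h1, hσ, comp_id, id_comp]
  · show QuasiIso (θ K ≫ ηc iTop)
    have := hηc iTop
    infer_instance
  · intro p
    have := hepi p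
    have h1 : quotMap' j p ≫ cokerKer (π p) = ηz p := by
      apply coequalizer.hom_ext
      show cokernel.π (K.fil p).arrow ≫ quotMap' j p ≫ cokerKer (π p) =
        cokernel.π (K.fil p).arrow ≫ ηz p
      rw [π_quotMap'_assoc]
      show jh ≫ cokernel.π (kernelSubobject (π p)).arrow ≫ cokerKer (π p) = _
      rw [π_cokerKer, hjπ]
    have : QuasiIso (quotMap' j p ≫ cokerKer (π p)) := by rw [h1]; exact hηz p
    exact quasiIso_of_comp_right (quotMap' j p) (cokerKer (π p))

/-- Filtered K-injective resolutions in a Grothendieck abelian category. -/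
theorem exists_filtered_kInjective_embedding :
    ∃ (J : SpSeq.FilCx A) (j : K ⟶ J),
      (∀ n p : ℤ, Injective (J.obj.X n) ∧ Injective ((J.XFil n).step p) ∧
        Injective ((J.XFil n).quot p) ∧
        ∀ (p' : ℤ) (h : p ≤ p'), Injective (cokernel ((J.XFil n).stepLE h))) ∧
      (CochainComplex.IsKInjective J.obj ∧ ∀ p : ℤ, CochainComplex.IsKInjective (J.step p) ∧
        CochainComplex.IsKInjective (J.quot p) ∧
        ∀ (p' : ℤ) (h : p ≤ p'), CochainComplex.IsKInjective (cokernel (J.stepLE h))) ∧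
      QuasiIso j.hom ∧
      (∀ p : ℤ, ∃ jp : K.step p ⟶ J.step p,
        jp ≫ (J.fil p).arrow = (K.fil p).arrow ≫ j.hom ∧ QuasiIso jp ∧
        (∀ (p' : ℤ) (h : p ≤ p'), ∃ (jp' : K.step p' ⟶ J.step p')
          (jg : cokernel (K.stepLE h) ⟶ cokernel (J.stepLE h)),
          jp' ≫ (J.fil p').arrow = (K.fil p').arrow ≫ j.hom ∧
          jp' ≫ J.stepLE h = K.stepLE h ≫ jp ∧
          cokernel.π (K.stepLE h) ≫ jg = jp ≫ cokernel.π (J.stepLE h) ∧ QuasiIso jg)) ∧
      (∀ p : ℤ, ∃ jq : K.quot p ⟶ J.quot p,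
        cokernel.π (K.fil p).arrow ≫ jq = j.hom ≫ cokernel.π (J.fil p).arrow ∧ QuasiIso jq) := by
  obtain ⟨J, j, h1, h2, h3, h4, h5⟩ := exists_good_embedding K
  exact ⟨J, j, conclusion_of_good j h1 h2 h3 h4 h5⟩

end Main

end Groth.Agent.Lib.Helper13.FilKInj
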