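import Groth.Agent.Lib.Helper13.ModSiteCompact
import Groth.Agent.S0862
import Groth.Agent.Lib.Helper53.ModLoc
import Groth.Agent.Lib.Helper42.ModSheaf
import Groth.Agent.Lib.Helper45.QcTop

/-!
# `j_! O_U` is compact with respect to uniformly bounded below families, for `U` in a class `B`
of "quasi-compact, quasi-separated" objects of a ringed site
-/

set_option autoImplicit false
universe w v u
open CategoryTheory Category Limits Opposite

namespace Groth.Agent.Lib.Helper13.FreeOnSum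

open Groth.Agent.Lib.Helper13.ExtAcyc Groth.Agent.Lib.Helper13.ExtCompact Abelian

section AbColim

/-- Induction principle for elements of a colimit of abelian groups. -/
lemma ab_colimit_induction {I : Type*} [Category I] {Z : I ⥤ AddCommGrpCat.{w}} (c : Cocone Z)
    (hc : IsColimit c) (motive : c.pt → Prop) (h0 : motive 0)
    (hadd : ∀ x y, motive x → motive y → motive (x + y))
    (hι : ∀ (i : I) (z : Z.obj i), motive (c.ι.app i z)) : ∀ x, motive x := by
  let H : AddSubgroup c.pt :=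
    { carrier := {x | motive x ∧ motive (-x)}
      zero_mem' := ⟨h0, by rw [neg_zero]; exact h0⟩
      add_mem' := fun {x y} hx hy => ⟨hadd _ _ hx.1 hy.1, by
        rw [neg_add]; exact hadd _ _ hx.2 hy.2⟩
      neg_mem' := fun {x} hx => ⟨hx.2, by rw [neg_neg]; exact hx.1⟩ }
  let q : c.pt ⟶ AddCommGrpCat.of (c.pt ⧸ H) := AddCommGrpCat.ofHom (QuotientAddGroup.mk' H)
  have hq : q = 0 := by
    apply hc.hom_ext
    intro i
    rw [comp_zero]
    ext z
    show QuotientAddGroup.mk' H (c.ι.app i z) = 0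
    rw [QuotientAddGroup.mk'_apply, QuotientAddGroup.eq_zero_iff]
    refine ⟨hι i z, ?_⟩
    rw [← map_neg]
    exact hι i (-z)
  intro x
  have hx : QuotientAddGroup.mk' H x = 0 := by
    have := congrArg (fun f => f.hom x) hq
    exact this
  rw [QuotientAddGroup.mk'_apply, QuotientAddGroup.eq_zero_iff] at hx
  exact hx.1

end AbColim

section General

variable {𝒜 : Type u} [Category.{v} 𝒜] [Abelian 𝒜] [HasExt.{w} 𝒜]

lemma extZero_of_isColimit (X : 𝒜) (p : ℕ) {I : Type*} [Category I] {D : I ⥤ 𝒜} (c : Cocone D)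
    (hc : IsColimit c) [PreservesColimit D (extFunctorObj X p)]
    (h : ∀ i, ExtZero X (D.obj i) p) : ExtZero X c.pt p := by
  have hc' := isColimitOfPreserves (extFunctorObj X p) hc
  intro e
  refine ab_colimit_induction _ hc' (fun x => x = 0) rfl ?_ ?_ e
  · intro x y hx hy
    rw [hx, hy, add_zero]
  · intro i z
    have hz : z = 0 := h i z
    rw [hz, map_zero]

lemma extZero_of_iso_left {P P' : 𝒜} (e : P ≅ P') (Y : 𝒜) (p : ℕ) (h : ExtZero P Y p) :
    ExtZero P' Y p := by
  intro x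
  have h1 : x = (Ext.mk₀ e.inv).comp ((Ext.mk₀ e.hom).comp x (zero_add _)) (zero_add _) := by
    rw [← Ext.comp_assoc_of_second_deg_zero, Ext.mk₀_comp_mk₀, e.inv_hom_id, Ext.mk₀_id_comp]
  have h2 : (Ext.mk₀ e.hom).comp x (zero_add _) = 0 := h _
  rw [h1, h2, Ext.comp_zero]

lemma extZero_of_iso_right (P : 𝒜) {Y Y' : 𝒜} (e : Y ≅ Y') (p : ℕ) (h : ExtZero P Y p) :
    ExtZero P Y' p := by
  intro x
  have h1 : x = (x.comp (Ext.mk₀ e.inv) (add_zero _)).comp (Ext.mk₀ e.hom) (add_zero _) := by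
    rw [Ext.comp_assoc_of_second_deg_zero, Ext.mk₀_comp_mk₀, e.inv_hom_id, Ext.comp_mk₀_id]
  have h2 : x.comp (Ext.mk₀ e.inv) (add_zero _) = 0 := h _
  rw [h1, h2, Ext.zero_comp]

end General

section Sigma

variable {𝒜 : Type u} [Category.{v} 𝒜] [Abelian 𝒜] [HasExt.{w} 𝒜] [HasCoproducts.{v} 𝒜]

open CoproductsFromFiniteFiltered in
lemma extZero_sigma_of_filtered (X : 𝒜) (p : ℕ) {ι : Type v} (Y : ι → 𝒜)
    [HasColimitsOfShape (Finset (Discrete ι)) 𝒜]
    [PreservesColimit (liftToFinsetObj (Discrete.functor Y)) (extFunctorObj X p)]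
    (h : ∀ i, ExtZero X (Y i) p) : ExtZero X (∐ Y) p := by
  refine extZero_of_isColimit X p (finiteSubcoproductsCocone Y)
    (isColimitFiniteSubproductsCocone Y) (fun S => ?_)
  obtain ⟨n, ⟨e⟩⟩ := Finite.exists_equiv_fin ↥S
  haveI : PreservesColimitsOfShape (Discrete (Fin n)) (extFunctorObj X p) :=
    PreservesFiniteCoproducts.preserves n
  haveI : PreservesColimitsOfShape (Discrete ↥S) (extFunctorObj X p) :=
    preservesColimitsOfShape_of_equiv (Discrete.equivalence e.symm) _
  exact extZero_sigma_of_preserves X p (fun x : ↥S => (Discrete.functor Y).obj x.1)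
    (fun x => h _)

end Sigma

section Site

open Groth.Agent.Lib.Helper28 ModSite Groth.Agent.Lib.Helper45.QcSum

variable {C : Type u} [SmallCategory C] [HasPullbacks C]
    (J : GrothendieckTopology C) (B : Set C) (Cov : ∀ (U : C) (ι : Type u), (ι → Over U) → Prop)
    (h1 : ∀ (U : C) (ι : Type u) (Y : ι → Over U), Cov U ι Y → Finite ι ∧ U ∈ B ∧
      Sieve.ofArrows (fun i => (Y i).left) (fun i => (Y i).hom) ∈ J U ∧
      ∀ (p : ℕ) (a : Fin (p + 1) → ι), (∏ᶜ fun k => Y (a k)).left ∈ B)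
    (h2 : ∀ U ∈ B, ∀ T ∈ J U, ∃ (ι : Type u) (Y : ι → Over U), Cov U ι Y ∧ ∀ i, T.arrows (Y i).hom)

include h1 h2 in
/-- Coproducts of `H^p(U, -)`-acyclic abelian sheaves are `H^p(U, -)`-acyclic, for `U ∈ B`. -/
lemma extZero_freeSheaf_sigma {U : C} (hU : U ∈ B) (p : ℕ) {ι : Type u}
    (Y : ι → Sheaf J AddCommGrpCat.{u})
    (h : ∀ i, ExtZero (CohCx.freeSheaf J U) (Y i) p) :
    ExtZero (CohCx.freeSheaf J U) (∐ Y) p := by
  haveI : PreservesColimit (CoproductsFromFiniteFiltered.liftToFinsetObj (Discrete.functor Y))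
      (extFunctorObj (CohCx.freeSheaf J U) p) :=
    ExtColim.preservesColimit_extFunctorObj ((RpushIso.freeSheaf J).obj U)
      (Finset (Discrete ι))
      (fun F' => Groth.Agent.S0862.preservesColimit_ext_zero J B Cov h1 h2 F' hU)
      (fun M hM n x => Groth.Agent.S0862.ext_vanish_colimit J B Cov h1 h2 M hM hU n x) _ p
  exact extZero_sigma_of_filtered (CohCx.freeSheaf J U) p Y h

include h1 h2 in
lemma isQcObject_of_mem {U : C} (hU : U ∈ B) :
    CohCx.IsQcObject ((presheafToSheaf J (Type u)).obj (yoneda.obj U)) := by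
  apply isQcObject_of_finite_subcover
  intro S hS
  obtain ⟨ι, Y, hCov, hYS⟩ := h2 U hU S hS
  obtain ⟨hfin, -, hcov, -⟩ := h1 U ι Y hCov
  exact ⟨ι, hfin, fun i => (Y i).left, fun i => (Y i).hom, hYS, hcov⟩

end Site

section Mod

open Groth.Agent.Lib.Helper28 ModSite Groth.Agent.Lib.Helper45.QcSum
open Groth.Agent.Lib.Helper53

variable {C : Type u} [SmallCategory C] {J : GrothendieckTopology C}
  (O : Sheaf J CommRingCat.{u})

/-- The two models of the free module on `U` agree. -/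
lemma nonempty_Tm_iso (U : C) : Nonempty (ModLoc.Tm J (ringSh O) U ≅ freeOn O U) := by
  refine ModLoc.nonempty_iso_of_natural_equiv _ _
    (fun N => (ModLoc.sec J (ringSh O) U N).toEquiv.trans (freeOnAddEquiv O U N).symm.toEquiv) ?_
  intro N N' φ x
  show ofSec O (ModLoc.sec J (ringSh O) U N' (x ≫ φ)) = ofSec O (ModLoc.sec J (ringSh O) U N x) ≫ φ
  rw [ModLoc.sec_right, ofSec_comp]
  rfl

variable [HasExt.{u} (Mod O)]

lemma extZero_freeOn_iff (U : C) (N : Mod O) (p : ℕ) :
    ExtZero (freeOn O U) N p ↔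
      ExtZero (CohCx.freeSheaf J U) ((SheafOfModules.toSheaf (ringSh O)).obj N) p := by
  obtain ⟨e⟩ := nonempty_Tm_iso O U
  obtain ⟨ε⟩ := ModLoc.nonempty_ext_Tm_equiv J (ringSh O) U N p
  constructor
  · intro h x
    have h' := extZero_of_iso_left e.symm N p h
    have : ε.symm x = 0 := h' _
    simpa using congrArg ε this
  · intro h
    apply extZero_of_iso_left e N p
    intro x
    have : ε x = 0 := h _
    simpa using congrArg ε.symm this

end Mod

section Main

open Groth.Agent.Lib.Helper28 ModSite Groth.Agent.Lib.Helper45.QcSum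

variable {C : Type u} [SmallCategory C] [HasPullbacks C]
    {J : GrothendieckTopology C} (O : Sheaf J CommRingCat.{u})
    (B : Set C) (Cov : ∀ (U : C) (ι : Type u), (ι → Over U) → Prop)
    (h1 : ∀ (U : C) (ι : Type u) (Y : ι → Over U), Cov U ι Y → Finite ι ∧ U ∈ B ∧
      Sieve.ofArrows (fun i => (Y i).left) (fun i => (Y i).hom) ∈ J U ∧
      ∀ (p : ℕ) (a : Fin (p + 1) → ι), (∏ᶜ fun k => Y (a k)).left ∈ B)
    (h2 : ∀ U ∈ B, ∀ T ∈ J U, ∃ (ι : Type u) (Y : ι → Over U), Cov U ι Y ∧ ∀ i, T.arrows (Y i).hom)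
    [HasDerivedCategory.{u} (Mod O)]

instance : IsGrothendieckAbelian.{u} (Mod O) :=
  Groth.Agent.Lib.Helper53.ModGroth.isGrothendieckAbelian J (ringSh O)

include h1 h2 in
lemma sumHyp_freeOn {U : C} (hU : U ∈ B) : SumHyp (freeOn O U) where
  fin ι Y m := by
    have hqc := isQcObject_of_mem J B Cov h1 h2 hU
    have := Groth.Agent.S9103.result O U hqc ι
    exact Groth.Agent.Lib.Helper13.ModSiteCompact.finSum_of_preserves_coyoneda _ Y m
  ext ι Y p _ hY := by
    rw [extZero_freeOn_iff]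
    have e : (SheafOfModules.toSheaf (ringSh O)).obj (∐ Y) ≅
        ∐ fun i => (SheafOfModules.toSheaf (ringSh O)).obj (Y i) :=
      PreservesCoproduct.iso (SheafOfModules.toSheaf (ringSh O)) Y
    apply extZero_of_iso_right _ e.symm
    apply extZero_freeSheaf_sigma J B Cov h1 h2 hU p
    intro i
    exact (extZero_freeOn_iff O U (Y i) p).1 (hY i)

include h1 h2 in
theorem homSum_bijective_freeOn (U : C) (hU : U ∈ B) {I : Type u}
    (M : I → DerivedCategory (Mod O)) [HasCoproduct M] (a : ℤ) (hM : ∀ i, (M i).IsGE a) :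
    Function.Bijective (CohDer.homSumToHomCoprod
      ((DerivedCategory.singleFunctor (Mod O) 0).obj (freeOn O U)) M) :=
  homSum_bijective_of_isGE (freeOn O U) (sumHyp_freeOn O B Cov h1 h2 hU) M a hM

end Main

end Groth.Agent.Lib.Helper13.FreeOnSum
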