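import Mathlib.CategoryTheory.Abelian.GrothendieckCategory.EnoughInjectives

/-!
# Functorial injective embeddings in Grothendieck abelian categories

`Groth.Agent.Lib.Helper13.functorialInjective`: in a Grothendieck abelian category there is an
endofunctor `J` and a natural transformation `𝟭 ⟶ J` with injective values and monic components.
-/

universe w v u

open CategoryTheory Limits ZeroObject MorphismProperty

namespace Groth.Agent.Lib.Helper13

variable (C : Type u) [Category.{v} C] [Abelian C] [IsGrothendieckAbelian.{w} C]

/-- The functor sending `X` to the arrow `X ⟶ 0`. -/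
@[simps]
noncomputable def toZeroArrow : C ⥤ Arrow C where
  obj X := Arrow.mk (0 : X ⟶ 0)
  map f := Arrow.homMk f (𝟙 0) (by simp)

/-- The functorial injective hull functor. -/
noncomputable def injFunctor : C ⥤ C :=
  toZeroArrow C ⋙ (functorialFactorizationData (monomorphisms C) (monomorphisms C).rlp).Z

/-- The natural embedding. -/
noncomputable def injUnit : 𝟭 C ⟶ injFunctor C :=
  Functor.whiskerLeft (toZeroArrow C)
    (functorialFactorizationData (monomorphisms C) (monomorphisms C).rlp).i

instance (X : C) : Mono ((injUnit C).app X) :=
  (functorialFactorizationData (monomorphisms C) (monomorphisms C).rlp).hi _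

instance (X : C) : Injective ((injFunctor C).obj X) := by
  let data := functorialFactorizationData (monomorphisms C) (monomorphisms C).rlp
  have hp := data.hp ((toZeroArrow C).obj X)
  rw [injective_iff_rlp_monomorphisms_zero]
  have : data.p.app ((toZeroArrow C).obj X) = (0 : (injFunctor C).obj X ⟶ 0) :=
    (isZero_zero C).eq_of_tgt _ _
  rw [← this]
  exact hp

theorem functorialInjective :
    ∃ (J : C ⥤ C) (j : 𝟭 _ ⟶ J), ∀ X : C, Injective (J.obj X) ∧ Mono (j.app X) :=
  ⟨injFunctor C, injUnit C, fun _ => ⟨inferInstance, inferInstance⟩⟩

end Groth.Agent.Lib.Helper13
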