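import Groth.Agent.Lib.Helper13.HDUSheafify
import Groth.Prelude.Def_CohTop

set_option autoImplicit false
universe u
open CategoryTheory CategoryTheory.Limits Opposite

namespace Groth.Agent.Lib.Helper13.HDUSect

section General

variable {C : Type u} [SmallCategory C] {J : GrothendieckTopology C}

/-- Sheafification of an objectwise cokernel. -/
theorem sheafify_iso_cokernel {A B : Sheaf J AddCommGrpCat.{u}} (t : A ⟶ B)
    (P : Cᵒᵖ ⥤ AddCommGrpCat.{u})
    (β : (sheafToPresheaf J AddCommGrpCat.{u}).obj B ⟶ P)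
    (h1 : ∀ U, Function.Surjective (β.app U).hom)
    (h2 : ∀ U (s : B.obj.obj U), (β.app U).hom s = 0 ↔
      ∃ x : A.obj.obj U, (t.hom.app U).hom x = s) :
    Nonempty ((presheafToSheaf J AddCommGrpCat.{u}).obj P ≅ cokernel t) := by
  let ι := sheafToPresheaf J AddCommGrpCat.{u}
  let a := presheafToSheaf J AddCommGrpCat.{u}
  let α := ι.map t
  have w : α ≫ β = 0 := by
    ext U x
    exact (h2 U _).2 ⟨x, rfl⟩
  have hc := isColimitOfObjectwise α β w h1 (fun U s hs => (h2 U s).1 hs)
  have hc' := CokernelCofork.mapIsColimit _ hc a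
  let ε := (sheafificationAdjunction J AddCommGrpCat.{u}).counit
  have nat : a.map α ≫ ε.app B = ε.app A ≫ t := ε.naturality t
  let e1 : a.obj P ≅ cokernel (a.map α) :=
    hc'.coconePointUniqueUpToIso (colimit.isColimit _)
  let e2 : cokernel (a.map α) ≅ cokernel t :=
    cokernel.mapIso (a.map α) t (asIso (ε.app A)) (asIso (ε.app B)) nat
  exact ⟨e1 ≪≫ e2⟩

/-- Variant of `sheafify_iso_homology` with an arbitrary kernel of the differential. -/
theorem sheafify_iso_homology' (G : CochainComplex (Sheaf J AddCommGrpCat.{u}) ℤ) (n : ℤ)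
    (Z : Sheaf J AddCommGrpCat.{u}) (i : Z ⟶ G.X n) (hi : i ≫ G.d n (n + 1) = 0)
    (hZ : IsLimit (KernelFork.ofι i hi)) (t : G.X (n - 1) ⟶ Z) (ht : t ≫ i = G.d (n - 1) n)
    (P : Cᵒᵖ ⥤ AddCommGrpCat.{u})
    (β : (sheafToPresheaf J AddCommGrpCat.{u}).obj Z ⟶ P)
    (h1 : ∀ U, Function.Surjective (β.app U).hom)
    (h2 : ∀ U (s : Z.obj.obj U), (β.app U).hom s = 0 ↔
      ∃ x : (G.X (n - 1)).obj.obj U, (t.hom.app U).hom x = s) :
    Nonempty ((presheafToSheaf J AddCommGrpCat.{u}).obj P ≅ G.homology n) := by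
  obtain ⟨e1⟩ := sheafify_iso_cokernel t P β h1 h2
  let hK := G.cyclesIsKernel n (n + 1) (by simp)
  let e : Z ≅ G.cycles n := IsLimit.conePointUniqueUpToIso hZ hK
  have he : e.hom ≫ G.iCycles n = i :=
    IsLimit.conePointUniqueUpToIso_hom_comp hZ hK WalkingParallelPair.zero
  have hte : t ≫ e.hom = G.toCycles (n - 1) n := by
    rw [← cancel_mono (G.iCycles n), Category.assoc, he, ht, G.toCycles_i]
  let e2 : cokernel t ≅ cokernel (G.toCycles (n - 1) n) :=
    cokernel.mapIso t (G.toCycles (n - 1) n) (Iso.refl _) e (by simp [hte])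
  let e3 : cokernel (G.toCycles (n - 1) n) ≅ G.homology n :=
    (colimit.isColimit _).coconePointUniqueUpToIso
      (G.homologyIsCokernel (n - 1) n (by simp))
  exact ⟨e1 ≪≫ e2 ≪≫ e3⟩

end General

section Push

open TopologicalSpace

variable {X Y : TopCat.{u}} (f : X ⟶ Y) [HasDerivedCategory.{u} (CohTop.Ab X)]

/-- For a K-injective complex `I` on `X`, the sheafification of `V ↦ H^p(f⁻¹V, I)` is the
`p`-th cohomology sheaf of `f_* I`. -/
theorem sheafify_push_iso_homology (I : CochainComplex (CohTop.Ab X) ℤ) [I.IsKInjective] (p : ℤ) :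
    Nonempty ((presheafToSheaf (Opens.grothendieckTopology Y) AddCommGrpCat.{u}).obj
        ((Opens.map f).op ⋙ CohCx.HDUPresheaf (DerivedCategory.Q.obj I) p) ≅
      (((CohTop.push f).mapHomologicalComplex (ComplexShape.up ℤ)).obj I).homology p) := by
  have : PreservesLimitsOfSize.{0, 0} (CohTop.push f) :=
    (TopCat.Sheaf.pullbackPushforwardAdjunction AddCommGrpCat.{u} f).rightAdjoint_preservesLimits
  let G := ((CohTop.push f).mapHomologicalComplex (ComplexShape.up ℤ)).obj I
  let Z := (CohTop.push f).obj (I.cycles p)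
  let i : Z ⟶ G.X p := (CohTop.push f).map (I.iCycles p)
  have hi : i ≫ G.d p (p + 1) = 0 := by
    show (CohTop.push f).map (I.iCycles p) ≫ (CohTop.push f).map (I.d p (p + 1)) = 0
    rw [← Functor.map_comp, I.iCycles_d, Functor.map_zero]
  have hZ : IsLimit (KernelFork.ofι i hi) :=
    KernelFork.mapIsLimit _ (I.cyclesIsKernel p (p + 1) (by simp)) (CohTop.push f)
  let t : G.X (p - 1) ⟶ Z := (CohTop.push f).map (I.toCycles (p - 1) p)
  have ht : t ≫ i = G.d (p - 1) p := by
    show (CohTop.push f).map _ ≫ (CohTop.push f).map _ = (CohTop.push f).map (I.d (p - 1) p)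
    rw [← Functor.map_comp, I.toCycles_i]
  let β : (sheafToPresheaf (Opens.grothendieckTopology Y) AddCommGrpCat.{u}).obj Z ⟶
      (Opens.map f).op ⋙ CohCx.HDUPresheaf (DerivedCategory.Q.obj I) p :=
    Functor.whiskerLeft (Opens.map f).op (theta I p)
  exact sheafify_iso_homology' G p Z i hi hZ t ht _ β
    (fun V => thetaHom_surjective I p ((Opens.map f).obj V.unop))
    (fun V s => thetaHom_eq_zero_iff I p ((Opens.map f).obj V.unop) s)

end Push

end Groth.Agent.Lib.Helper13.HDUSect
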