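import Groth.Agent.Lib.Helper13.KInjMain
import Groth.Agent.Lib.Helper13.DerAdjFormal
import Groth.Agent.Lib.Helper84.KInj
import Groth.Agent.Lib.Helper39.DerAdj
import Mathlib.Algebra.Homology.DerivedCategory.ExactFunctor

set_option autoImplicit false
universe w w' v v' u u'
open CategoryTheory Category Limits

namespace Groth.Agent.Lib.Helper13.KInjDerAdj

open Groth.Agent.Lib.Helper39.DerAdj DerivedCategory

variable {A : Type u} [Category.{v} A] [Abelian A] {B : Type u'} [Category.{v'} B] [Abelian B]
  [HasDerivedCategory.{w} A] [HasDerivedCategory.{w'} B]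
  {F : A ⥤ B} {G : B ⥤ A} (adj : F ⊣ G) [F.Additive] [G.Additive]
  [PreservesFiniteLimits F] [PreservesFiniteColimits F]

/-- Shorthand for the functor induced on cochain complexes. -/
abbrev cx {A : Type*} [Category A] [Preadditive A] {B : Type*} [Category B] [Preadditive B]
    (F : A ⥤ B) [F.Additive] : CochainComplex A ℤ ⥤ CochainComplex B ℤ :=
  F.mapHomologicalComplex (ComplexShape.up ℤ)

/-- The adjunction on cochain complexes. -/
noncomputable abbrev adjc : cx F ⊣ cx G := mapHCAdj adj (ComplexShape.up ℤ)

include adj in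
/-- `G` preserves K-injective complexes when its left adjoint is exact. -/
lemma isKInjective_map (I : CochainComplex B ℤ) [I.IsKInjective] :
    CochainComplex.IsKInjective ((cx G).obj I) where
  nonempty_homotopy_zero {K} f hK := by
    have hFK : ((cx F).obj K).Acyclic := fun i => (hK i).map F
    have h := CochainComplex.IsKInjective.homotopyZero
      (((adjc adj).homEquiv K I).symm f) hFK
    have h1 := (G.mapHomotopy h).compLeft ((adjc adj).unit.app K)
    have e1 : f = (adjc adj).unit.app K ≫ (cx G).map (((adjc adj).homEquiv K I).symm f) :=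
      (Equiv.apply_symm_apply _ f).symm.trans ((adjc adj).homEquiv_unit K I _)
    refine ⟨(Homotopy.ofEq e1).trans (h1.trans (Homotopy.ofEq ?_))⟩
    simp

/-- The counit at a complex, in the derived category. -/
noncomputable def counitD (I : CochainComplex B ℤ) :
    F.mapDerivedCategory.obj (Q.obj ((cx G).obj I)) ⟶ Q.obj I :=
  F.mapDerivedCategoryFactors.hom.app ((cx G).obj I) ≫ Q.map ((adjc adj).counit.app I)

lemma map_Q_map_comp_counitD {X : CochainComplex A ℤ} {I : CochainComplex B ℤ}
    (a : X ⟶ (cx G).obj I) :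
    F.mapDerivedCategory.map (Q.map a) ≫ counitD adj I =
      F.mapDerivedCategoryFactors.hom.app X ≫ Q.map (((adjc adj).homEquiv X I).symm a) := by
  dsimp only [counitD]
  rw [F.mapDerivedCategoryFactors_hom_naturality_assoc, ← Q.map_comp,
    Adjunction.homEquiv_counit]

lemma bijective_comp_counitD_Q (X : CochainComplex A ℤ) (I : CochainComplex B ℤ)
    [I.IsKInjective] :
    Function.Bijective (fun u : Q.obj X ⟶ Q.obj ((cx G).obj I) =>
      F.mapDerivedCategory.map u ≫ counitD adj I) := by
  haveI := isKInjective_map adj I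
  constructor
  · intro u u' h
    dsimp only at h
    obtain ⟨a, rfl⟩ := Groth.Agent.Lib.Helper84.KInj.exists_Q_map_eq X ((cx G).obj I) u
    obtain ⟨a', rfl⟩ := Groth.Agent.Lib.Helper84.KInj.exists_Q_map_eq X ((cx G).obj I) u'
    rw [map_Q_map_comp_counitD, map_Q_map_comp_counitD, cancel_epi] at h
    obtain ⟨H⟩ := Groth.Agent.Lib.Helper84.KInj.nonempty_homotopy_of_Q_map_eq _ _ _ _ h
    have h1 := (G.mapHomotopy H).compLeft ((adjc adj).unit.app X)
    have e1 : ∀ b : X ⟶ (cx G).obj I,
        b = (adjc adj).unit.app X ≫ (cx G).map (((adjc adj).homEquiv X I).symm b) := by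
      intro b
      exact (Equiv.apply_symm_apply _ b).symm.trans ((adjc adj).homEquiv_unit X I _)
    exact DerivedCategory.Q_map_eq_of_homotopy (C := A)
      ((Homotopy.ofEq (e1 a)).trans (h1.trans (Homotopy.ofEq (e1 a').symm)))
  · intro g
    obtain ⟨h, hh⟩ := Groth.Agent.Lib.Helper84.KInj.exists_Q_map_eq ((cx F).obj X) I
      (F.mapDerivedCategoryFactors.inv.app X ≫ g)
    refine ⟨Q.map ((adjc adj).homEquiv X I h), ?_⟩
    dsimp only
    rw [map_Q_map_comp_counitD, Equiv.symm_apply_apply, hh, Iso.hom_inv_id_app_assoc]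

lemma bijective_comp_counitD (X : DerivedCategory A) (I : CochainComplex B ℤ)
    [I.IsKInjective] :
    Function.Bijective (fun u : X ⟶ Q.obj ((cx G).obj I) =>
      F.mapDerivedCategory.map u ≫ counitD adj I) := by
  let e : Q.obj (Q.objPreimage X) ≅ X := Q.objObjPreimageIso X
  have h := bijective_comp_counitD_Q adj (Q.objPreimage X) I
  constructor
  · intro u u' huu
    dsimp only at huu
    rw [← cancel_epi e.hom]
    apply h.1
    dsimp only
    rw [Functor.map_comp, Functor.map_comp, Category.assoc, Category.assoc, huu]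
  · intro g
    obtain ⟨v, hv⟩ := h.2 (F.mapDerivedCategory.map e.hom ≫ g)
    dsimp only at hv
    refine ⟨e.inv ≫ v, ?_⟩
    dsimp only
    rw [Functor.map_comp, Category.assoc, hv, ← Functor.map_comp_assoc, Iso.inv_hom_id,
      CategoryTheory.Functor.map_id, Category.id_comp]

section RightAdjoint

variable [IsGrothendieckAbelian.{v'} B]

omit [HasDerivedCategory.{w} A] in
lemma exists_kInj (Y : DerivedCategory B) :
    ∃ (I : CochainComplex B ℤ), I.IsKInjective ∧ Nonempty (Q.obj I ≅ Y) := by
  obtain ⟨I, f, h1, h2, -, -⟩ :=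
    Groth.Agent.Lib.Helper13.KInjMain.exists_kInjective_resolution (Q.objPreimage Y)
  haveI : IsIso (Q.map f) := by
    rw [DerivedCategory.isIso_Q_map_iff_quasiIso]; exact h2
  exact ⟨I, h1, ⟨(asIso (Q.map f)).symm ≪≫ Q.objObjPreimageIso Y⟩⟩

/-- A chosen K-injective representative. -/
noncomputable def repI (Y : DerivedCategory B) : CochainComplex B ℤ := (exists_kInj Y).choose

instance (Y : DerivedCategory B) : (repI Y).IsKInjective := (exists_kInj Y).choose_spec.1

/-- The chosen K-injective representative represents `Y`. -/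
noncomputable def repIso (Y : DerivedCategory B) : Q.obj (repI Y) ≅ Y :=
  (exists_kInj Y).choose_spec.2.some

variable (G) in
/-- The right adjoint on objects. -/
noncomputable abbrev Gobj (Y : DerivedCategory B) : DerivedCategory A :=
  Q.obj ((cx G).obj (repI Y))

lemma bijective_homEquiv₀ (X : DerivedCategory A) (Y : DerivedCategory B) :
    Function.Bijective (fun u : X ⟶ Gobj G Y =>
      F.mapDerivedCategory.map u ≫ counitD adj (repI Y) ≫ (repIso Y).hom) := by
  have h := bijective_comp_counitD adj X (repI Y)
  constructor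
  · intro u u' huu
    apply h.1
    dsimp only at huu ⊢
    rw [← cancel_mono (repIso Y).hom, Category.assoc, Category.assoc]
    exact huu
  · intro g
    obtain ⟨u, hu⟩ := h.2 (g ≫ (repIso Y).inv)
    dsimp only at hu
    refine ⟨u, ?_⟩
    dsimp only
    rw [← Category.assoc, hu, Category.assoc, Iso.inv_hom_id, Category.comp_id]

/-- The hom equivalence. -/
noncomputable def homEquiv₀ (X : DerivedCategory A) (Y : DerivedCategory B) :
    (F.mapDerivedCategory.obj X ⟶ Y) ≃ (X ⟶ Gobj G Y) :=
  (Equiv.ofBijective _ (bijective_homEquiv₀ adj X Y)).symm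

lemma homEquiv₀_symm_apply (X : DerivedCategory A) (Y : DerivedCategory B) (u : X ⟶ Gobj G Y) :
    (homEquiv₀ adj X Y).symm u =
      F.mapDerivedCategory.map u ≫ counitD adj (repI Y) ≫ (repIso Y).hom := rfl

lemma homEquiv₀_naturality (X' X : DerivedCategory A) (Y : DerivedCategory B) (f : X' ⟶ X)
    (g : F.mapDerivedCategory.obj X ⟶ Y) :
    homEquiv₀ adj X' Y (F.mapDerivedCategory.map f ≫ g) = f ≫ homEquiv₀ adj X Y g := by
  apply (homEquiv₀ adj X' Y).symm.injective
  rw [Equiv.symm_apply_apply, homEquiv₀_symm_apply, Functor.map_comp, Category.assoc,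
    ← homEquiv₀_symm_apply, Equiv.symm_apply_apply]

/-- The right adjoint of `F.mapDerivedCategory`. -/
noncomputable def rightAdj : DerivedCategory B ⥤ DerivedCategory A :=
  Adjunction.rightAdjointOfEquiv (homEquiv₀ adj) (homEquiv₀_naturality adj)

/-- The adjunction `F.mapDerivedCategory ⊣ rightAdj`. -/
noncomputable def adj₀ : F.mapDerivedCategory ⊣ rightAdj adj :=
  Adjunction.adjunctionOfEquivRight (homEquiv₀ adj) (homEquiv₀_naturality adj)

include adj in
/-- If `F` is exact with right adjoint `G` and the target is a Grothendieck abelian category,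
then any right derived functor of `G` is right adjoint to the functor induced by `F` on
derived categories. -/
theorem nonempty_adjunction (RG : DerivedCategory B ⥤ DerivedCategory A)
    (α : cx G ⋙ Q ⟶ Q ⋙ RG)
    [RG.IsRightDerivedFunctor α (HomologicalComplex.quasiIso B (ComplexShape.up ℤ))] :
    Nonempty (F.mapDerivedCategory ⊣ RG) :=
  ⟨Groth.Agent.Lib.Helper13.DerAdjFormal.derivedOfRightAdjoint (adjc adj)
    (HomologicalComplex.quasiIso A (ComplexShape.up ℤ))
    (HomologicalComplex.quasiIso B (ComplexShape.up ℤ)) F.mapDerivedCategoryFactors α (adj₀ adj)⟩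

end RightAdjoint

end Groth.Agent.Lib.Helper13.KInjDerAdj
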