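import Groth.Prelude.Def_SiteCmp
import Groth.Prelude.Def_WeakSerre
import Groth.Prelude.Def_FreeSh
import Mathlib.CategoryTheory.Sites.Abelian
import Mathlib.CategoryTheory.Sites.EpiMono
import Mathlib.Algebra.FreeAbelianGroup.Finsupp
import Mathlib.CategoryTheory.Preadditive.Injective.Basic

set_option autoImplicit false
universe u
open CategoryTheory CategoryTheory.Limits Opposite

namespace Groth.Agent.Lib.Helper13.TorsSheaf

variable {C : Type u} [SmallCategory C] (J : GrothendieckTopology C)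

/-- Locally torsion sections. -/
def IsLocTors (F : Sheaf J AddCommGrpCat.{u}) {U : C} (s : F.obj.obj (op U)) : Prop :=
  ∃ S ∈ J U, ∀ ⦃V : C⦄ (g : V ⟶ U), S g → IsOfFinAddOrder ((F.obj.map g.op).hom s)

variable {J}

lemma map_map (F : Sheaf J AddCommGrpCat.{u}) {U V W : C} (g : V ⟶ U) (h : W ⟶ V)
    (s : F.obj.obj (op U)) :
    (F.obj.map h.op).hom ((F.obj.map g.op).hom s) = (F.obj.map (h ≫ g).op).hom s := by
  rw [op_comp, F.obj.map_comp]; rfl

lemma isLocTors_map (F : Sheaf J AddCommGrpCat.{u}) {U V : C} (g : V ⟶ U)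
    {s : F.obj.obj (op U)} (hs : IsLocTors J F s) : IsLocTors J F ((F.obj.map g.op).hom s) := by
  obtain ⟨S, hS, h⟩ := hs
  refine ⟨S.pullback g, J.pullback_stable g hS, fun W k hk => ?_⟩
  rw [map_map]
  exact h _ hk

/-- The subgroup of locally torsion sections. -/
def torsSub (F : Sheaf J AddCommGrpCat.{u}) (U : C) : AddSubgroup (F.obj.obj (op U)) where
  carrier := {s | IsLocTors J F s}
  zero_mem' := ⟨⊤, J.top_mem _, fun V g _ => by
    rw [map_zero]; exact IsOfFinAddOrder.zero⟩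
  add_mem' := by
    rintro a b ⟨S, hS, ha⟩ ⟨S', hS', hb⟩
    refine ⟨S ⊓ S', J.intersection_covering hS hS', fun V g hg => ?_⟩
    rw [map_add]
    exact (ha g hg.1).add (hb g hg.2)
  neg_mem' := by
    rintro a ⟨S, hS, ha⟩
    refine ⟨S, hS, fun V g hg => ?_⟩
    rw [map_neg]
    exact (ha g hg).neg

lemma mem_torsSub (F : Sheaf J AddCommGrpCat.{u}) {U : C} (s : F.obj.obj (op U)) :
    s ∈ torsSub F U ↔ IsLocTors J F s := Iff.rfl

/-- The presheaf of locally torsion sections. -/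
def Tpre (F : Sheaf J AddCommGrpCat.{u}) : Cᵒᵖ ⥤ AddCommGrpCat.{u} where
  obj U := AddCommGrpCat.of (torsSub F U.unop)
  map {U V} i := AddCommGrpCat.ofHom
    (((F.obj.map i).hom.comp (torsSub F U.unop).subtype).codRestrict (torsSub F V.unop)
      (fun x => isLocTors_map F i.unop x.2))
  map_id U := by
    ext x
    change (F.obj.map (𝟙 U)).hom x.1 = x.1
    rw [F.obj.map_id]; rfl
  map_comp i j := by
    ext x
    change (F.obj.map (i ≫ j)).hom x.1 = (F.obj.map j).hom ((F.obj.map i).hom x.1)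
    rw [F.obj.map_comp]; rfl

lemma Tpre_map_val (F : Sheaf J AddCommGrpCat.{u}) {U V : Cᵒᵖ} (i : U ⟶ V)
    (x : (Tpre F).obj U) : (((Tpre F).map i).hom x).1 = (F.obj.map i).hom x.1 := rfl

/-- The inclusion of presheaves. -/
def TpreI (F : Sheaf J AddCommGrpCat.{u}) : Tpre F ⟶ F.obj where
  app U := AddCommGrpCat.ofHom (torsSub F U.unop).subtype
  naturality U V i := by
    ext x
    rfl

lemma TpreI_app (F : Sheaf J AddCommGrpCat.{u}) (U : Cᵒᵖ) (x : (Tpre F).obj U) :
    ((TpreI F).app U).hom x = x.1 := rfl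

lemma isSheaf_Tpre (F : Sheaf J AddCommGrpCat.{u}) : Presheaf.IsSheaf J (Tpre F) := by
  rw [Presheaf.isSheaf_iff_isSheaf_forget J (Tpre F) (forget AddCommGrpCat.{u}),
    isSheaf_iff_isSheaf_of_type]
  have hF : Presieve.IsSheaf J (F.obj ⋙ forget AddCommGrpCat.{u}) := by
    rw [← isSheaf_iff_isSheaf_of_type,
      ← Presheaf.isSheaf_iff_isSheaf_forget J F.obj (forget AddCommGrpCat.{u})]
    exact F.property
  intro U S hS x hx
  let y : Presieve.FamilyOfElements (F.obj ⋙ forget AddCommGrpCat.{u}) S.arrows :=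
    fun V f hf => (x f hf).1
  have hy : y.Compatible := fun V₁ V₂ W g₁ g₂ f₁ f₂ h₁ h₂ e =>
    congrArg Subtype.val (hx g₁ g₂ h₁ h₂ e)
  obtain ⟨t, ht, htu⟩ := hF S hS y hy
  have htT : IsLocTors J F (U := U) t := by
    choose R hR hR' using fun (V : C) (f : V ⟶ U) (hf : S f) => (x f hf).2
    refine ⟨Sieve.bind S R, J.bind_covering hS (fun V f hf => hR V f hf), ?_⟩
    rintro Y g ⟨W, h, f, hf, hh, rfl⟩
    rw [← map_map]
    have e1 : (F.obj.map f.op).hom t = (x f hf).1 := ht f hf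
    rw [e1]
    exact hR' W f hf h hh
  refine ⟨⟨t, htT⟩, fun V f hf => Subtype.ext (ht f hf), fun t' ht' => ?_⟩
  apply Subtype.ext
  exact htu t'.1 (fun V f hf => congrArg Subtype.val (ht' f hf))


/-- The torsion subsheaf. -/
def Tsh (F : Sheaf J AddCommGrpCat.{u}) : Sheaf J AddCommGrpCat.{u} := ⟨Tpre F, isSheaf_Tpre F⟩

/-- The inclusion of the torsion subsheaf. -/
def Tι (F : Sheaf J AddCommGrpCat.{u}) : Tsh F ⟶ F := ⟨TpreI F⟩

lemma Tι_app (F : Sheaf J AddCommGrpCat.{u}) (U : Cᵒᵖ) (x : (Tsh F).obj.obj U) :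
    ((Tι F).hom.app U).hom x = x.1 := rfl

instance mono_Tι (F : Sheaf J AddCommGrpCat.{u}) : Mono (Tι F) :=
  Sheaf.mono_of_injective _ (fun _ _ _ h => Subtype.ext h)

lemma isTorsionSh_Tsh (F : Sheaf J AddCommGrpCat.{u}) : SiteCmp.IsTorsionSh J (Tsh F) := by
  intro U s
  obtain ⟨S, hS, h⟩ := s.2
  refine ⟨S, hS, fun V g hg => ?_⟩
  have h1 := h g hg
  rw [isOfFinAddOrder_iff_nsmul_eq_zero] at h1 ⊢
  obtain ⟨n, hn, e⟩ := h1
  exact ⟨n, hn, Subtype.ext e⟩

lemma isLocTors_of_isTorsionSh {G : Sheaf J AddCommGrpCat.{u}} (hG : SiteCmp.IsTorsionSh J G)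
    {F : Sheaf J AddCommGrpCat.{u}} (φ : G ⟶ F) {U : C} (s : G.obj.obj (op U)) :
    IsLocTors J F ((φ.hom.app (op U)).hom s) := by
  obtain ⟨S, hS, h⟩ := hG U s
  refine ⟨S, hS, fun V g hg => ?_⟩
  have e : (F.obj.map g.op).hom ((φ.hom.app (op U)).hom s) =
      (φ.hom.app (op V)).hom ((G.obj.map g.op).hom s) :=
    (ConcreteCategory.congr_hom (φ.hom.naturality g.op) s).symm
  rw [e]
  exact (φ.hom.app (op V)).hom.isOfFinAddOrder (h g hg)

/-- Maps from torsion sheaves factor through the torsion subsheaf. -/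
def Tlift {G : Sheaf J AddCommGrpCat.{u}} (hG : SiteCmp.IsTorsionSh J G)
    {F : Sheaf J AddCommGrpCat.{u}} (φ : G ⟶ F) : G ⟶ Tsh F :=
  ⟨{ app := fun U => AddCommGrpCat.ofHom ((φ.hom.app U).hom.codRestrict (torsSub F U.unop)
        (fun s => isLocTors_of_isTorsionSh hG φ s))
     naturality := fun U V i => by
      ext s
      apply Subtype.ext
      exact ConcreteCategory.congr_hom (φ.hom.naturality i) s }⟩

@[reassoc (attr := simp)]
lemma Tlift_ι {G : Sheaf J AddCommGrpCat.{u}} (hG : SiteCmp.IsTorsionSh J G)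
    {F : Sheaf J AddCommGrpCat.{u}} (φ : G ⟶ F) : Tlift hG φ ≫ Tι F = φ := by
  apply Sheaf.hom_ext
  ext U s
  rfl

variable (J) in
/-- The torsion subsheaf as an object of the full subcategory. -/
abbrev Tobj (F : Sheaf J AddCommGrpCat.{u}) : (SiteCmp.torsionSh J).FullSubcategory :=
  ⟨Tsh F, isTorsionSh_Tsh F⟩

lemma prop' (X : (SiteCmp.torsionSh J).FullSubcategory) : SiteCmp.IsTorsionSh J X.obj :=
  X.property

variable (J) in
/-- The hom-set bijection. -/
def homEquivT (X : (SiteCmp.torsionSh J).FullSubcategory) (F : Sheaf J AddCommGrpCat.{u}) :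
    ((SiteCmp.torsionSh J).ι.obj X ⟶ F) ≃ (X ⟶ Tobj J F) where
  toFun φ := ObjectProperty.homMk (Tlift (prop' X) φ)
  invFun ψ := ψ.hom ≫ Tι F
  left_inv φ := Tlift_ι (prop' X) φ
  right_inv ψ := by
    apply ObjectProperty.hom_ext
    show Tlift (prop' X) (ψ.hom ≫ Tι F) = ψ.hom
    rw [← cancel_mono (Tι F)]
    exact Tlift_ι _ _

lemma homEquivT_naturality (X' X : (SiteCmp.torsionSh J).FullSubcategory)
    (F : Sheaf J AddCommGrpCat.{u}) (f : X' ⟶ X) (g : (SiteCmp.torsionSh J).ι.obj X ⟶ F) :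
    homEquivT J X' F ((SiteCmp.torsionSh J).ι.map f ≫ g) = f ≫ homEquivT J X F g := by
  apply ObjectProperty.hom_ext
  dsimp [homEquivT]
  show Tlift (prop' X') (f.hom ≫ g) = f.hom ≫ Tlift (prop' X) g
  rw [← cancel_mono (Tι F), Tlift_ι, Category.assoc, Tlift_ι]

variable (J) in
/-- The torsion subsheaf functor. -/
noncomputable def Tfun : Sheaf J AddCommGrpCat.{u} ⥤ (SiteCmp.torsionSh J).FullSubcategory :=
  Adjunction.rightAdjointOfEquiv (homEquivT J) (homEquivT_naturality)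

variable (J) in
/-- The inclusion of torsion sheaves is left adjoint to the torsion subsheaf functor. -/
noncomputable def adjT : (SiteCmp.torsionSh J).ι ⊣ Tfun J :=
  Adjunction.adjunctionOfEquivRight (homEquivT J) (homEquivT_naturality)

lemma adjT_counit_app (F : Sheaf J AddCommGrpCat.{u}) : (adjT J).counit.app F = Tι F := by
  dsimp only [adjT]
  rw [Adjunction.adjunctionOfEquivRight_counit_app]
  dsimp [homEquivT]
  exact Category.id_comp (Tι F)

section Facts

lemma isSheaf_forget (F : Sheaf J AddCommGrpCat.{u}) :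
    Presieve.IsSheaf J (F.obj ⋙ forget AddCommGrpCat.{u}) := by
  rw [← isSheaf_iff_isSheaf_of_type,
    ← Presheaf.isSheaf_iff_isSheaf_forget J F.obj (forget AddCommGrpCat.{u})]
  exact F.property

lemma sec_ext (F : Sheaf J AddCommGrpCat.{u}) {U : C} (S : Sieve U) (hS : S ∈ J U)
    (x y : F.obj.obj (op U))
    (h : ∀ ⦃V : C⦄ (g : V ⟶ U), S g → (F.obj.map g.op).hom x = (F.obj.map g.op).hom y) :
    x = y :=
  (isSheaf_forget F S hS).isSeparatedFor.ext (fun _ g hg => h g hg)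

lemma nsmul_app {F G : Sheaf J AddCommGrpCat.{u}} (φ : F ⟶ G) (m : ℕ) (U : Cᵒᵖ)
    (s : F.obj.obj U) : ((m • φ).hom.app U).hom s = m • (φ.hom.app U).hom s := by
  induction m with
  | zero => rw [zero_nsmul, zero_nsmul]; rfl
  | succ k ih =>
    rw [succ_nsmul, succ_nsmul, Sheaf.Hom.add_app, ← ih]
    rfl

lemma nsmul_id_app (F : Sheaf J AddCommGrpCat.{u}) (m : ℕ) (U : Cᵒᵖ)
    (s : F.obj.obj U) : ((m • 𝟙 F).hom.app U).hom s = m • s := by
  rw [nsmul_app]; rfl

/-- A torsion sheaf on which multiplication by every positive integer is injective is zero. -/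
lemma isZero_of_torsion_of_mono {H : Sheaf J AddCommGrpCat.{u}} (hH : SiteCmp.IsTorsionSh J H)
    (hinj : ∀ m : ℕ, 0 < m → ∀ (U : Cᵒᵖ) (s : H.obj.obj U), m • s = 0 → s = 0) : IsZero H := by
  have key : ∀ (U : C) (s : H.obj.obj (op U)), s = 0 := fun U s => by
    obtain ⟨S, hS, h⟩ := hH U s
    refine sec_ext H S hS _ _ (fun V g hg => ?_)
    rw [map_zero]
    obtain ⟨m, hm, e⟩ := (isOfFinAddOrder_iff_nsmul_eq_zero.1 (h g hg))
    exact hinj m hm _ _ e
  rw [IsZero.iff_id_eq_zero]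
  apply Sheaf.hom_ext
  ext U s
  exact key U.unop s

end Facts

section Facts2

lemma injective_app_of_isIso {F G : Sheaf J AddCommGrpCat.{u}} (φ : F ⟶ G) [IsIso φ]
    (U : Cᵒᵖ) : Function.Injective (φ.hom.app U).hom := by
  have h1 : IsIso ((sheafToPresheaf J AddCommGrpCat.{u}).map φ) := inferInstance
  have h2 : IsIso (((sheafToPresheaf J AddCommGrpCat.{u}).map φ).app U) := inferInstance
  exact (ConcreteCategory.bijective_of_isIso
    (((sheafToPresheaf J AddCommGrpCat.{u}).map φ).app U)).1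

lemma mono_nsmul_freePre (U : C) (m : ℕ) (hm : 0 < m) :
    Mono (m • 𝟙 (CohFree.freePre U)) := by
  have : ∀ T, Mono ((m • 𝟙 (CohFree.freePre U)).app T) := fun T => by
    rw [AddCommGrpCat.mono_iff_injective]
    intro a b hab
    have h1 : ∀ c : FreeAbelianGroup (T.unop ⟶ U),
        (ConcreteCategory.hom ((m • 𝟙 (CohFree.freePre U)).app T)) c = m • c := fun c => by
      rw [NatTrans.app_nsmul]; rfl
    rw [h1 a, h1 b] at hab
    have key : ∀ a' b' : FreeAbelianGroup (T.unop ⟶ U), m • a' = m • b' → a' = b' := by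
      intro a' b' h
      have h2 := congrArg (FreeAbelianGroup.equivFinsupp (T.unop ⟶ U)) h
      rw [map_nsmul, map_nsmul] at h2
      exact (FreeAbelianGroup.equivFinsupp (T.unop ⟶ U)).injective
        (nsmul_right_injective (Nat.pos_iff_ne_zero.1 hm) h2)
    exact key a b hab
  exact NatTrans.mono_of_mono_app _

variable (J) in
lemma mono_nsmul_freeSheaf (U : C) (m : ℕ) (hm : 0 < m) :
    Mono (m • 𝟙 (CohCx.freeSheaf J U)) := by
  have h1 := mono_nsmul_freePre U m hm
  have h2 : m • 𝟙 (CohCx.freeSheaf J U) =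
      (presheafToSheaf J AddCommGrpCat.{u}).map (m • 𝟙 (CohFree.freePre U)) := by
    rw [Functor.map_nsmul, CategoryTheory.Functor.map_id]
  rw [h2]
  infer_instance

/-- Sections of an injective abelian sheaf are divisible. -/
lemma exists_nsmul_eq_of_injective (I : Sheaf J AddCommGrpCat.{u}) [Injective I] (m : ℕ)
    (hm : 0 < m) (U : C) (s : I.obj.obj (op U)) : ∃ t : I.obj.obj (op U), m • t = s := by
  have := mono_nsmul_freeSheaf J U m hm
  let φ := (CohFree.homEquivSect J U I).symm s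
  let ψ := Injective.factorThru φ (m • 𝟙 (CohCx.freeSheaf J U))
  have hψ : (m • 𝟙 (CohCx.freeSheaf J U)) ≫ ψ = φ := Injective.comp_factorThru _ _
  refine ⟨CohFree.homEquivSect J U I ψ, ?_⟩
  rw [← map_nsmul]
  have e : m • ψ = φ := by
    rw [← hψ, Preadditive.nsmul_comp, Category.id_comp]
  rw [e]
  exact (CohFree.homEquivSect J U I).apply_symm_apply s

end Facts2

section Facts3

lemma isLocTors_of_nsmul (F : Sheaf J AddCommGrpCat.{u}) {U : C} (s : F.obj.obj (op U)) (m : ℕ)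
    (hm : 0 < m) (h : IsLocTors J F (m • s)) : IsLocTors J F s := by
  obtain ⟨S, hS, h⟩ := h
  refine ⟨S, hS, fun V g hg => ?_⟩
  have h1 := h g hg
  rw [map_nsmul] at h1
  exact h1.of_nsmul (Nat.pos_iff_ne_zero.1 hm)

/-- Sections killed by an exact `Tι F ≫ p = 0` come from the torsion subsheaf. -/
lemma isLocTors_of_app_eq_zero {F Q : Sheaf J AddCommGrpCat.{u}} (p : F ⟶ Q)
    (w : Tι F ≫ p = 0) (hex : (ShortComplex.mk (Tι F) p w).Exact) {U : C}
    (s : F.obj.obj (op U)) (hs : (p.hom.app (op U)).hom s = 0) : IsLocTors J F s := by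
  let σ := (CohFree.homEquivSect J U F).symm s
  have hσ : σ ≫ p = 0 := by
    apply (CohFree.homEquivSect J U Q).injective
    rw [map_zero]
    have e1 : CohFree.homEquivSect J U Q (σ ≫ p) =
        (p.hom.app (op U)).hom (CohFree.homEquivSect J U F σ) := rfl
    rw [e1, (CohFree.homEquivSect J U F).apply_symm_apply s, hs]
  have : Mono (ShortComplex.mk (Tι F) p w).f := mono_Tι F
  let τ : CohCx.freeSheaf J U ⟶ Tsh F := hex.lift σ hσ
  have hτ : τ ≫ Tι F = σ := hex.lift_f σ hσ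
  have e2 : s = (CohFree.homEquivSect J U (Tsh F) τ).1 := by
    have e3 : CohFree.homEquivSect J U F (τ ≫ Tι F) =
        ((Tι F).hom.app (op U)).hom (CohFree.homEquivSect J U (Tsh F) τ) := rfl
    rw [hτ, (CohFree.homEquivSect J U F).apply_symm_apply s] at e3
    exact e3
  rw [e2]
  exact (CohFree.homEquivSect J U (Tsh F) τ).2

/-- The quotient by the torsion subsheaf is torsion free. -/
lemma eq_zero_of_nsmul_eq_zero {F Q : Sheaf J AddCommGrpCat.{u}} (p : F ⟶ Q) [Epi p]
    (w : Tι F ≫ p = 0) (hex : (ShortComplex.mk (Tι F) p w).Exact) (m : ℕ) (hm : 0 < m)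
    {U : C} (q : Q.obj.obj (op U)) (hq : m • q = 0) : q = 0 := by
  have hls : Sheaf.IsLocallySurjective p := (Sheaf.isLocallySurjective_iff_epi' _ _).2 inferInstance
  refine sec_ext Q _ (Presheaf.imageSieve_mem J p.hom q) _ _ (fun V g hg => ?_)
  obtain ⟨s, hs⟩ := hg
  rw [map_zero]
  have h1 : (p.hom.app (op V)).hom (m • s) = 0 := by
    rw [map_nsmul]
    have : (p.hom.app (op V)).hom s = (Q.obj.map g.op).hom q := hs
    rw [this, ← map_nsmul, hq, map_zero]
  have h2 : IsLocTors J F s :=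
    isLocTors_of_nsmul F s m hm (isLocTors_of_app_eq_zero p w hex _ h1)
  have h3 : (p.hom.app (op V)).hom s = 0 := by
    have e : s = ((Tι F).hom.app (op V)).hom ⟨s, h2⟩ := rfl
    rw [e]
    exact ConcreteCategory.congr_hom (congrArg (fun t => t.hom.app (op V)) w) ⟨s, h2⟩
  have : (p.hom.app (op V)).hom s = (Q.obj.map g.op).hom q := hs
  rw [← this, h3]

end Facts3

end Groth.Agent.Lib.Helper13.TorsSheaf
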