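import Groth.Agent.Lib.Helper13.HDUPush
import Groth.Agent.Lib.Helper13.KInjDerAdj
import Groth.Agent.Lib.Helper13.DerSmall
import Groth.Agent.Lib.Helper13.TorsSheaf
import Mathlib.Topology.Sheaves.SheafCondition.Sites
import Mathlib.CategoryTheory.Sites.Pullback

set_option autoImplicit false
universe u
open CategoryTheory CategoryTheory.Limits Opposite TopologicalSpace

namespace Groth.Agent.Lib.Helper13.HDUSect

section Push2

variable {X Y : TopCat.{u}} (f : X ⟶ Y)

lemma preservesFiniteLimits_pull : PreservesFiniteLimits (CohTop.pull f) := by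
  show PreservesFiniteLimits (TopCat.Sheaf.pullback AddCommGrpCat.{u} f)
  unfold TopCat.Sheaf.pullback
  exact CategoryTheory.Functor.SmallCategories.instPreservesFiniteLimitsSheafSheafPullbackOfRepresentablyFlat
    (TopologicalSpace.Opens.map f) AddCommGrpCat.{u} _ _

variable [HasDerivedCategory.{u} (CohTop.Ab X)] [HasDerivedCategory.{u} (CohTop.Ab Y)]

lemma isKInjective_push (I : CochainComplex (CohTop.Ab X) ℤ) [I.IsKInjective] :
    CochainComplex.IsKInjective
      (((CohTop.push f).mapHomologicalComplex (ComplexShape.up ℤ)).obj I) := by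
  let adj : CohTop.pull f ⊣ CohTop.push f :=
    TopCat.Sheaf.pullbackPushforwardAdjunction AddCommGrpCat.{u} f
  have : PreservesFiniteLimits (CohTop.pull f) := preservesFiniteLimits_pull f
  have : PreservesColimitsOfSize.{0, 0} (CohTop.pull f) := adj.leftAdjoint_preservesColimits
  have : (CohTop.pull f).Additive := adj.left_adjoint_additive
  exact Groth.Agent.Lib.Helper13.KInjDerAdj.isKInjective_map adj I

/-- For `I` K-injective on `X`, the presheaf `V ↦ H^n(f⁻¹V, I)` on `Y` is the hypercohomology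
presheaf of `f_* I`. -/
theorem push_presheaf_iso (I : CochainComplex (CohTop.Ab X) ℤ) [I.IsKInjective] (n : ℤ) :
    Nonempty ((Opens.map f).op ⋙ CohCx.HDUPresheaf (DerivedCategory.Q.obj I) n ≅
      CohCx.HDUPresheaf (DerivedCategory.Q.obj
        (((CohTop.push f).mapHomologicalComplex (ComplexShape.up ℤ)).obj I)) n) := by
  have : PreservesLimitsOfSize.{0, 0} (CohTop.push f) :=
    (TopCat.Sheaf.pullbackPushforwardAdjunction AddCommGrpCat.{u} f).rightAdjoint_preservesLimits
  let G : CochainComplex (CohTop.Ab Y) ℤ :=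
    ((CohTop.push f).mapHomologicalComplex (ComplexShape.up ℤ)).obj I
  have : CochainComplex.IsKInjective G := isKInjective_push f I
  let Z := (CohTop.push f).obj (I.cycles n)
  let i : Z ⟶ G.X n := (CohTop.push f).map (I.iCycles n)
  have hi : i ≫ G.d n (n + 1) = 0 := by
    show (CohTop.push f).map (I.iCycles n) ≫ (CohTop.push f).map (I.d n (n + 1)) = 0
    rw [← Functor.map_comp, I.iCycles_d, Functor.map_zero]
  have hZ : IsLimit (KernelFork.ofι i hi) :=
    KernelFork.mapIsLimit _ (I.cyclesIsKernel n (n + 1) (by simp)) (CohTop.push f)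
  let t : G.X (n - 1) ⟶ Z := (CohTop.push f).map (I.toCycles (n - 1) n)
  have ht : t ≫ i = G.d (n - 1) n := by
    show (CohTop.push f).map _ ≫ (CohTop.push f).map _ = (CohTop.push f).map (I.d (n - 1) n)
    rw [← Functor.map_comp, I.toCycles_i]
  let hK := G.cyclesIsKernel n (n + 1) (by simp)
  let e : Z ≅ G.cycles n := IsLimit.conePointUniqueUpToIso hZ hK
  have he : e.hom ≫ G.iCycles n = i :=
    IsLimit.conePointUniqueUpToIso_hom_comp hZ hK WalkingParallelPair.zero
  have hte : t ≫ e.hom = G.toCycles (n - 1) n := by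
    rw [← cancel_mono (G.iCycles n), Category.assoc, he, ht, G.toCycles_i]
  let ι := sheafToPresheaf (Opens.grothendieckTopology Y) AddCommGrpCat.{u}
  let β1 : ι.obj Z ⟶ (Opens.map f).op ⋙ CohCx.HDUPresheaf (DerivedCategory.Q.obj I) n :=
    Functor.whiskerLeft (Opens.map f).op (theta I n)
  let β2 : ι.obj Z ⟶ CohCx.HDUPresheaf (DerivedCategory.Q.obj G) n := ι.map e.hom ≫ theta G n
  have w1 : ι.map t ≫ β1 = 0 := by
    ext V x
    exact (thetaHom_eq_zero_iff I n ((Opens.map f).obj V.unop) _).2 ⟨x, rfl⟩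
  have hc1 := isColimitOfObjectwise (ι.map t) β1 w1
    (fun V => thetaHom_surjective I n ((Opens.map f).obj V.unop))
    (fun V s hs => (thetaHom_eq_zero_iff I n ((Opens.map f).obj V.unop) s).1 hs)
  have key : ∀ (V : (Opens Y)ᵒᵖ) (s : Z.obj.obj V), (β2.app V).hom s = 0 ↔
      ∃ x : (G.X (n - 1)).obj.obj V, (t.hom.app V).hom x = s := by
    intro V s
    have h := thetaHom_eq_zero_iff G n V.unop ((e.hom.hom.app V).hom s)
    refine Iff.trans h ?_
    have hinj : Function.Injective (e.hom.hom.app V).hom := by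
      intro a b hab
      have h1 := congrArg (fun y => (e.inv.hom.app V).hom y) hab
      have h2 : ∀ a, (e.inv.hom.app V).hom ((e.hom.hom.app V).hom a) = a := fun a => by
        have := ConcreteCategory.congr_hom (congrArg (fun φ => φ.hom.app V) e.hom_inv_id) a
        exact this
      simpa only [h2] using h1
    have hcomp : ∀ x, ((G.toCycles (n - 1) n).hom.app V).hom x =
        (e.hom.hom.app V).hom ((t.hom.app V).hom x) := fun x => by
      rw [← hte]; rfl
    constructor
    · rintro ⟨x, hx⟩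
      exact ⟨x, hinj (by rw [← hcomp, hx])⟩
    · rintro ⟨x, rfl⟩
      exact ⟨x, hcomp x⟩
  have w2 : ι.map t ≫ β2 = 0 := by
    ext V x
    exact (key V _).2 ⟨x, rfl⟩
  have hc2 := isColimitOfObjectwise (ι.map t) β2 w2
    (fun V m => by
      obtain ⟨s, hs⟩ := thetaHom_surjective G n V.unop m
      refine ⟨(e.inv.hom.app V).hom s, ?_⟩
      have h2 : (e.hom.hom.app V).hom ((e.inv.hom.app V).hom s) = s := by
        have := ConcreteCategory.congr_hom (congrArg (fun φ => φ.hom.app V) e.inv_hom_id) s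
        exact this
      show thetaHom G n V.unop ((e.hom.hom.app V).hom ((e.inv.hom.app V).hom s)) = m
      rw [h2, hs])
    (fun V s hs => (key V s).1 hs)
  exact ⟨hc1.coconePointUniqueUpToIso hc2⟩

end Push2

section Bounded

variable {C : Type u} [SmallCategory C] {J : GrothendieckTopology C}
  [HasDerivedCategory.{u} (Sheaf J AddCommGrpCat.{u})]

lemma section_eq_zero_of_isZero {Z : Sheaf J AddCommGrpCat.{u}} (hZ : IsZero Z) (U : Cᵒᵖ)
    (s : Z.obj.obj U) : s = 0 := by
  have h : (𝟙 Z : Z ⟶ Z) = 0 := hZ.eq_of_src _ _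
  have h2 := ConcreteCategory.congr_hom (congrArg (fun φ => φ.hom.app U) h) s
  exact h2

lemma subsingleton_HDU_of_isStrictlyGE (L : CochainComplex (Sheaf J AddCommGrpCat.{u}) ℤ)
    [L.IsKInjective] [L.IsStrictlyGE 0] (i : ℤ) (hi : i < 0) (U : C) :
    Subsingleton (CohCx.HDU (DerivedCategory.Q.obj L) i U) := by
  have hX : IsZero (L.X i) := CochainComplex.isZero_of_isStrictlyGE L 0 i hi
  have hZ : IsZero (L.cycles i) := IsZero.of_mono (L.iCycles i) hX
  have key : ∀ m : CohCx.HDU (DerivedCategory.Q.obj L) i U, m = 0 := fun m => by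
    obtain ⟨s, rfl⟩ := thetaHom_surjective L i U m
    rw [section_eq_zero_of_isZero hZ (op U) s, map_zero]
  exact ⟨fun a b => (key a).trans (key b).symm⟩

lemma isIso_theta_zero (L : CochainComplex (Sheaf J AddCommGrpCat.{u}) ℤ)
    [L.IsKInjective] [L.IsStrictlyGE 0] : IsIso (theta L 0) := by
  have hX : IsZero (L.X (0 - 1)) := CochainComplex.isZero_of_isStrictlyGE L 0 (0 - 1) (by norm_num)
  have : ∀ U, IsIso ((theta L 0).app U) := fun U => by
    rw [ConcreteCategory.isIso_iff_bijective]
    refine ⟨?_, thetaHom_surjective L 0 U.unop⟩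
    show Function.Injective (thetaHom L 0 U.unop)
    rw [injective_iff_map_eq_zero]
    intro s hs
    obtain ⟨x, rfl⟩ := (thetaHom_eq_zero_iff L 0 U.unop s).1 hs
    rw [section_eq_zero_of_isZero hX U x, map_zero]
  exact NatIso.isIso_of_isIso_app _

lemma isSheaf_HDUPresheaf_zero (L : CochainComplex (Sheaf J AddCommGrpCat.{u}) ℤ)
    [L.IsKInjective] [L.IsStrictlyGE 0] :
    Presheaf.IsSheaf J (CohCx.HDUPresheaf (DerivedCategory.Q.obj L) 0) := by
  have := isIso_theta_zero L
  exact (Presheaf.isSheaf_of_iso_iff (asIso (theta L 0))).1 (L.cycles 0).property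

end Bounded

section Basis

variable {Y : TopCat.{u}}

lemma isZero_sheafify_of_basis (P : (Opens Y)ᵒᵖ ⥤ AddCommGrpCat.{u}) (B : Set (Opens Y))
    (hB : Opens.IsBasis B) (h : ∀ V ∈ B, Subsingleton (P.obj (op V))) :
    IsZero ((presheafToSheaf (Opens.grothendieckTopology Y) AddCommGrpCat.{u}).obj P) := by
  have key : ∀ (F : Sheaf (Opens.grothendieckTopology Y) AddCommGrpCat.{u})
      (φ : P ⟶ (sheafToPresheaf _ _).obj F), φ = 0 := by
    intro F φ
    ext W s
    let S : Sieve W.unop :=
      { arrows := fun V _ => ∃ V' ∈ B, V ≤ V' ∧ V' ≤ W.unop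
        downward_closed := by
          rintro V₁ V₂ g ⟨V', hV', h1, h2⟩ k
          exact ⟨V', hV', le_trans (leOfHom k) h1, h2⟩ }
    have hS : S ∈ Opens.grothendieckTopology Y W.unop := by
      intro x hx
      obtain ⟨V', hV', hxV', hle⟩ := Opens.isBasis_iff_nbhd.1 hB hx
      exact ⟨V', homOfLE hle, ⟨V', hV', le_rfl, hle⟩, hxV'⟩
    refine Groth.Agent.Lib.Helper13.TorsSheaf.sec_ext F S hS _ _ ?_
    rintro V g ⟨V', hV', h1, h2⟩
    have e1 : (F.obj.map g.op).hom ((φ.app W).hom s) = (φ.app (op V)).hom ((P.map g.op).hom s) :=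
      (ConcreteCategory.congr_hom (φ.naturality g.op) s).symm
    have e2 : (P.map g.op).hom s = 0 := by
      have hg : g.op = (homOfLE h2).op ≫ (homOfLE h1).op := rfl
      rw [hg, P.map_comp]
      have : (P.map (homOfLE h2).op).hom s = 0 := (h V' hV').elim _ _
      show (P.map (homOfLE h1).op).hom ((P.map (homOfLE h2).op).hom s) = 0
      rw [this, map_zero]
    rw [e1, e2, map_zero]
    show (0 : F.obj.obj (op V)) = (F.obj.map g.op).hom 0
    rw [map_zero]
  rw [IsZero.iff_id_eq_zero]
  apply ((sheafificationAdjunction (Opens.grothendieckTopology Y) AddCommGrpCat.{u}).homEquiv P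
    _).injective
  rw [key _ ((sheafificationAdjunction _ _).homEquiv P _ (𝟙 _)),
    key _ ((sheafificationAdjunction _ _).homEquiv P _ 0)]

end Basis

end Groth.Agent.Lib.Helper13.HDUSect
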