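import Groth.Agent.Lib.Helper13.ExtCompact
import Groth.Prelude.Def_CohCx
import Groth.Prelude.Def_FreeSh
import Mathlib.Algebra.Homology.HomotopyCategory.HomComplexSingle
import Mathlib.Algebra.Homology.DerivedCategory.KInjective

set_option autoImplicit false
universe u
open CategoryTheory CategoryTheory.Limits Opposite

namespace Groth.Agent.Lib.Helper13.HDUSect

open DerivedCategory CochainComplex.HomComplex

variable {C : Type u} [SmallCategory C] {J : GrothendieckTopology C}
  [HasDerivedCategory.{u} (Sheaf J AddCommGrpCat.{u})]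

/-- The canonical chain map from the cycles (in degree `0`) to the shifted complex. -/
noncomputable def cycHom (L : CochainComplex (Sheaf J AddCommGrpCat.{u}) ℤ) (n : ℤ) :
    (CochainComplex.singleFunctor (Sheaf J AddCommGrpCat.{u}) 0).obj (L.cycles n) ⟶ L⟦n⟧ :=
  Cocycle.equivHomShift.symm
    (Cocycle.fromSingleMk (L.iCycles n) (zero_add n) (n + 1) rfl (L.iCycles_d n (n + 1)))

/-- The chain map attached to a cycle. -/
noncomputable def cocHom {P : Sheaf J AddCommGrpCat.{u}}
    (L : CochainComplex (Sheaf J AddCommGrpCat.{u}) ℤ) (n : ℤ) (f : P ⟶ L.X n)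
    (hf : f ≫ L.d n (n + 1) = 0) :
    (CochainComplex.singleFunctor (Sheaf J AddCommGrpCat.{u}) 0).obj P ⟶ L⟦n⟧ :=
  Cocycle.equivHomShift.symm (Cocycle.fromSingleMk f (zero_add n) (n + 1) rfl hf)

lemma single_map_comp_cocHom {P P' : Sheaf J AddCommGrpCat.{u}} (g : P' ⟶ P)
    (L : CochainComplex (Sheaf J AddCommGrpCat.{u}) ℤ) (n : ℤ) (f : P ⟶ L.X n)
    (hf : f ≫ L.d n (n + 1) = 0) :
    (CochainComplex.singleFunctor (Sheaf J AddCommGrpCat.{u}) 0).map g ≫ cocHom L n f hf =
      cocHom L n (g ≫ f) (by rw [Category.assoc, hf, comp_zero]) := by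
  dsimp only [cocHom]
  rw [Cocycle.fromSingleMk_precomp g f (zero_add n) (n + 1) rfl hf,
    Cocycle.equivHomShift_symm_precomp]

omit [HasDerivedCategory.{u} (Sheaf J AddCommGrpCat.{u})] in
lemma single_map_eq {A : Type*} [Category A] [Abelian A] [HasDerivedCategory A] {P P' : A}
    (g : P' ⟶ P) : (DerivedCategory.singleFunctor A 0).map g =
      Q.map ((CochainComplex.singleFunctor A 0).map g) := rfl

/-- The class in the derived category of a cycle. -/
noncomputable def cocD {P : Sheaf J AddCommGrpCat.{u}}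
    (L : CochainComplex (Sheaf J AddCommGrpCat.{u}) ℤ) (n : ℤ) (f : P ⟶ L.X n)
    (hf : f ≫ L.d n (n + 1) = 0) :
    Q.obj ((CochainComplex.singleFunctor (Sheaf J AddCommGrpCat.{u}) 0).obj P) ⟶
      (shiftFunctor (DerivedCategory (Sheaf J AddCommGrpCat.{u})) n).obj (Q.obj L) :=
  Q.map (cocHom L n f hf) ≫ (Q.commShiftIso n).hom.app L

lemma single_map_comp_cocD {P P' : Sheaf J AddCommGrpCat.{u}} (g : P' ⟶ P)
    (L : CochainComplex (Sheaf J AddCommGrpCat.{u}) ℤ) (n : ℤ) (f : P ⟶ L.X n)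
    (hf : f ≫ L.d n (n + 1) = 0) :
    Q.map ((CochainComplex.singleFunctor (Sheaf J AddCommGrpCat.{u}) 0).map g) ≫ cocD L n f hf =
      cocD L n (g ≫ f) (by rw [Category.assoc, hf, comp_zero]) := by
  dsimp only [cocD]
  rw [← Category.assoc, ← Q.map_comp, single_map_comp_cocHom]

lemma ofSect_map {F : Sheaf J AddCommGrpCat.{u}} {U V : C} (g : V ⟶ U) (s : F.obj.obj (op U)) :
    CohFree.ofSect J V F ((F.obj.map g.op).hom s) =
      CohCx.freeSheafMap J g ≫ CohFree.ofSect J U F s := by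
  have h := CohFree.evalGen_freeSheafMap_comp J g F (CohFree.ofSect J U F s)
  rw [CohFree.evalGen_ofSect] at h
  rw [← h, CohFree.ofSect_evalGen]

lemma ofSect_add {F : Sheaf J AddCommGrpCat.{u}} {U : C} (s t : F.obj.obj (op U)) :
    CohFree.ofSect J U F (s + t) = CohFree.ofSect J U F s + CohFree.ofSect J U F t :=
  (CohFree.homEquivSect J U F).symm.map_add s t

/-- The comparison map, as an additive map. -/
noncomputable def thetaHom (L : CochainComplex (Sheaf J AddCommGrpCat.{u}) ℤ) (n : ℤ) (U : C) :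
    (L.cycles n).obj.obj (op U) →+ CohCx.HDU (Q.obj L) n U :=
  (Preadditive.rightComp _ (cocD L n (L.iCycles n) (L.iCycles_d n (n + 1)))).comp
    ((Q.mapAddHom).comp
      (((CochainComplex.singleFunctor (Sheaf J AddCommGrpCat.{u}) 0).mapAddHom).comp
        (CohFree.homEquivSect J U (L.cycles n)).symm.toAddMonoidHom))

lemma thetaHom_apply (L : CochainComplex (Sheaf J AddCommGrpCat.{u}) ℤ) (n : ℤ) (U : C)
    (s : (L.cycles n).obj.obj (op U)) :
    thetaHom L n U s =
      Q.map ((CochainComplex.singleFunctor (Sheaf J AddCommGrpCat.{u}) 0).map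
          (CohFree.ofSect J U (L.cycles n) s)) ≫
          cocD L n (L.iCycles n) (L.iCycles_d n (n + 1)) := rfl

/-- The comparison map from sections of the cycle sheaf to hypercohomology. -/
noncomputable def theta (L : CochainComplex (Sheaf J AddCommGrpCat.{u}) ℤ) (n : ℤ) :
    (sheafToPresheaf J AddCommGrpCat.{u}).obj (L.cycles n) ⟶ CohCx.HDUPresheaf (Q.obj L) n where
  app U := AddCommGrpCat.ofHom (thetaHom L n U.unop)
  naturality U V g := by
    ext s
    show thetaHom L n V.unop (((L.cycles n).obj.map g.unop.op).hom s) =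
      Q.map ((CochainComplex.singleFunctor (Sheaf J AddCommGrpCat.{u}) 0).map
        (CohCx.freeSheafMap J g.unop)) ≫ thetaHom L n U.unop s
    rw [thetaHom_apply, thetaHom_apply]
    show Q.map ((CochainComplex.singleFunctor (Sheaf J AddCommGrpCat.{u}) 0).map
        (CohFree.ofSect J V.unop (L.cycles n) (((L.cycles n).obj.map g.unop.op).hom s))) ≫
        cocD L n (L.iCycles n) (L.iCycles_d n (n + 1)) =
      Q.map ((CochainComplex.singleFunctor (Sheaf J AddCommGrpCat.{u}) 0).map
        (CohCx.freeSheafMap J g.unop)) ≫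
        (Q.map ((CochainComplex.singleFunctor (Sheaf J AddCommGrpCat.{u}) 0).map
          (CohFree.ofSect J U.unop (L.cycles n) s)) ≫
        cocD L n (L.iCycles n) (L.iCycles_d n (n + 1)))
    rw [ofSect_map g.unop s, Functor.map_comp, Functor.map_comp, Category.assoc]

lemma cocD_congr {P : Sheaf J AddCommGrpCat.{u}}
    (L : CochainComplex (Sheaf J AddCommGrpCat.{u}) ℤ) (n : ℤ) {f f' : P ⟶ L.X n} (e : f = f')
    (hf : f ≫ L.d n (n + 1) = 0) :
    cocD L n f hf = cocD L n f' (by rw [← e]; exact hf) := by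
  subst e; rfl

lemma thetaHom_apply' (L : CochainComplex (Sheaf J AddCommGrpCat.{u}) ℤ) (n : ℤ) (U : C)
    (s : (L.cycles n).obj.obj (op U)) :
    thetaHom L n U s =
      cocD L n (CohFree.ofSect J U (L.cycles n) s ≫ L.iCycles n)
        (by rw [Category.assoc, L.iCycles_d, comp_zero]) :=
  single_map_comp_cocD _ L n (L.iCycles n) (L.iCycles_d n (n + 1))

lemma evalGen_comp {F G : Sheaf J AddCommGrpCat.{u}} {U : C} (ψ : CohCx.freeSheaf J U ⟶ F)
    (φ : F ⟶ G) : CohFree.evalGen J U G (ψ ≫ φ) =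
      (φ.hom.app (op U)).hom (CohFree.evalGen J U F ψ) := rfl

lemma ofSect_comp {F G : Sheaf J AddCommGrpCat.{u}} {U : C} (s : F.obj.obj (op U))
    (φ : F ⟶ G) : CohFree.ofSect J U F s ≫ φ =
      CohFree.ofSect J U G ((φ.hom.app (op U)).hom s) := by
  rw [← CohFree.ofSect_evalGen J U G (CohFree.ofSect J U F s ≫ φ), evalGen_comp,
    CohFree.evalGen_ofSect]

lemma cocD_surjective (L : CochainComplex (Sheaf J AddCommGrpCat.{u}) ℤ) [L.IsKInjective] (n : ℤ)
    (P : Sheaf J AddCommGrpCat.{u})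
    (m : Q.obj ((CochainComplex.singleFunctor (Sheaf J AddCommGrpCat.{u}) 0).obj P) ⟶
      (shiftFunctor (DerivedCategory (Sheaf J AddCommGrpCat.{u})) n).obj (Q.obj L)) :
    ∃ (f : P ⟶ L.X n) (hf : f ≫ L.d n (n + 1) = 0), cocD L n f hf = m := by
  let m' : Q.obj ((CochainComplex.singleFunctor (Sheaf J AddCommGrpCat.{u}) 0).obj P) ⟶
      Q.obj (L⟦n⟧) := m ≫ (Q.commShiftIso n).inv.app L
  obtain ⟨φ, hφ⟩ := Groth.Agent.Lib.Helper13.ExtCompact.exists_Q_map_eq_of_isKInjective _ _ m'
  obtain ⟨f, hf, hα⟩ := Cocycle.fromSingleMk_surjective (Cocycle.equivHomShift φ) n (zero_add n)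
    (n + 1) rfl
  refine ⟨f, hf, ?_⟩
  have e : cocHom L n f hf = φ := by
    dsimp only [cocHom]
    rw [hα, AddEquiv.symm_apply_apply]
  dsimp only [cocD]
  rw [e, hφ]
  dsimp only [m']
  rw [Category.assoc, Iso.inv_hom_id_app]
  exact Category.comp_id m

omit [HasDerivedCategory.{u} (Sheaf J AddCommGrpCat.{u})] in
lemma Q_map_eq_Qh_map {A : Type*} [Category A] [Abelian A] [HasDerivedCategory A]
    {K L : CochainComplex A ℤ} (φ : K ⟶ L) :
    Q.map φ = Qh.map ((HomotopyCategory.quotient A (ComplexShape.up ℤ)).map φ) := rfl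

lemma cocD_eq_zero_iff (L : CochainComplex (Sheaf J AddCommGrpCat.{u}) ℤ) [L.IsKInjective] (n : ℤ)
    {P : Sheaf J AddCommGrpCat.{u}} (f : P ⟶ L.X n) (hf : f ≫ L.d n (n + 1) = 0) :
    cocD L n f hf = 0 ↔ ∃ g : P ⟶ L.X (n - 1), g ≫ L.d (n - 1) n = f := by
  rw [← Cocycle.fromSingleMk_mem_coboundaries_iff f (zero_add n) (n + 1) rfl hf (n - 1) (by omega),
    ← CohomologyClass.toHom_mk_eq_zero_iff, CohomologyClass.toHom_mk]
  have h1 : cocD L n f hf = 0 ↔ Q.map (cocHom L n f hf) = 0 := by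
    dsimp only [cocD]
    constructor
    · intro h
      rw [← cancel_mono ((Q.commShiftIso n).hom.app L), h, zero_comp]
    · intro h
      rw [h, zero_comp]
  rw [h1, Q_map_eq_Qh_map]
  constructor
  · intro h
    apply (CochainComplex.IsKInjective.Qh_map_bijective _ (L⟦n⟧)).1
    rw [Functor.map_zero]
    exact h
  · intro h
    have : (HomotopyCategory.quotient _ (ComplexShape.up ℤ)).map (cocHom L n f hf) = 0 := h
    rw [this, Functor.map_zero]
    rfl

lemma thetaHom_surjective (L : CochainComplex (Sheaf J AddCommGrpCat.{u}) ℤ) [L.IsKInjective]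
    (n : ℤ) (U : C) : Function.Surjective (thetaHom L n U) := by
  intro m
  obtain ⟨f, hf, hm⟩ := cocD_surjective L n (CohCx.freeSheaf J U) m
  let lift : CohCx.freeSheaf J U ⟶ L.cycles n := L.liftCycles f (n + 1) (by simp) hf
  have hlift : lift ≫ L.iCycles n = f := L.liftCycles_i f (n + 1) (by simp) hf
  refine ⟨CohFree.evalGen J U (L.cycles n) lift, ?_⟩
  rw [thetaHom_apply', ← hm]
  apply cocD_congr
  rw [CohFree.ofSect_evalGen, hlift]

lemma thetaHom_eq_zero_iff (L : CochainComplex (Sheaf J AddCommGrpCat.{u}) ℤ) [L.IsKInjective]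
    (n : ℤ) (U : C) (s : (L.cycles n).obj.obj (op U)) :
    thetaHom L n U s = 0 ↔ ∃ t : (L.X (n - 1)).obj.obj (op U),
      ((L.toCycles (n - 1) n).hom.app (op U)).hom t = s := by
  rw [thetaHom_apply']
  refine (cocD_eq_zero_iff L n _ _).trans ?_
  constructor
  · rintro ⟨g, hg⟩
    refine ⟨CohFree.evalGen J U _ g, ?_⟩
    rw [← evalGen_comp]
    have e : g ≫ L.toCycles (n - 1) n = CohFree.ofSect J U (L.cycles n) s := by
      rw [← cancel_mono (L.iCycles n), Category.assoc, L.toCycles_i, hg]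
    rw [e, CohFree.evalGen_ofSect]
  · rintro ⟨t, rfl⟩
    refine ⟨CohFree.ofSect J U _ t, ?_⟩
    rw [← ofSect_comp, Category.assoc, L.toCycles_i]

end Groth.Agent.Lib.Helper13.HDUSect

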