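import Groth.Agent.Lib.Helper13.HDUSect
import Mathlib.Algebra.Homology.ShortComplex.Ab
import Mathlib.CategoryTheory.Limits.FunctorCategory.Basic
import Mathlib.CategoryTheory.Sites.Abelian

set_option autoImplicit false
universe u
open CategoryTheory CategoryTheory.Limits Opposite

namespace Groth.Agent.Lib.Helper13.HDUSect

variable {C : Type u} [SmallCategory C] {J : GrothendieckTopology C}

/-- A presheaf map which is objectwise surjective with objectwise kernel the image of `α` is a
cokernel of `α`. -/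
noncomputable def isColimitOfObjectwise {A B P : Cᵒᵖ ⥤ AddCommGrpCat.{u}} (α : A ⟶ B) (β : B ⟶ P)
    (w : α ≫ β = 0)
    (h1 : ∀ U, Function.Surjective (β.app U).hom)
    (h2 : ∀ U (s : B.obj U), (β.app U).hom s = 0 → ∃ t : A.obj U, (α.app U).hom t = s) :
    IsColimit (CokernelCofork.ofπ β w) := by
  apply evaluationJointlyReflectsColimits
  intro U
  refine (CokernelCofork.isColimitMapCoconeEquiv _ _).symm ?_
  let S : ShortComplex AddCommGrpCat.{u} := ShortComplex.mk (α.app U) (β.app U)
    (by rw [← NatTrans.comp_app, w]; rfl)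
  have hS : S.Exact := by
    rw [ShortComplex.ab_exact_iff]
    intro x hx
    exact h2 U x hx
  have : Epi S.g := (AddCommGrpCat.epi_iff_surjective _).2 (h1 U)
  exact hS.gIsCokernel

/-- The sheafification of a presheaf presented as the objectwise cokernel of
`L^{n-1} → Z^n(L)` is the cohomology sheaf. -/
theorem sheafify_iso_homology (G : CochainComplex (Sheaf J AddCommGrpCat.{u}) ℤ) (n : ℤ)
    (P : Cᵒᵖ ⥤ AddCommGrpCat.{u})
    (β : (sheafToPresheaf J AddCommGrpCat.{u}).obj (G.cycles n) ⟶ P)
    (h1 : ∀ U, Function.Surjective (β.app U).hom)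
    (h2 : ∀ U (s : (G.cycles n).obj.obj U), (β.app U).hom s = 0 ↔
      ∃ t : (G.X (n - 1)).obj.obj U, ((G.toCycles (n - 1) n).hom.app U).hom t = s) :
    Nonempty ((presheafToSheaf J AddCommGrpCat.{u}).obj P ≅ G.homology n) := by
  let ι := sheafToPresheaf J AddCommGrpCat.{u}
  let a := presheafToSheaf J AddCommGrpCat.{u}
  let t := G.toCycles (n - 1) n
  let α := ι.map t
  have w : α ≫ β = 0 := by
    ext U x
    exact (h2 U _).2 ⟨x, rfl⟩
  have hc := isColimitOfObjectwise α β w h1 (fun U s hs => (h2 U s).1 hs)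
  have hc' := CokernelCofork.mapIsColimit _ hc a
  let ε := (sheafificationAdjunction J AddCommGrpCat.{u}).counit
  have nat : a.map α ≫ ε.app (G.cycles n) = ε.app (G.X (n - 1)) ≫ t := ε.naturality t
  let e1 : a.obj P ≅ cokernel (a.map α) :=
    hc'.coconePointUniqueUpToIso (colimit.isColimit _)
  let e2 : cokernel (a.map α) ≅ cokernel t :=
    cokernel.mapIso (a.map α) t (asIso (ε.app (G.X (n - 1)))) (asIso (ε.app (G.cycles n))) nat
  let e3 : cokernel t ≅ G.homology n :=
    (colimit.isColimit _).coconePointUniqueUpToIso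
      (G.homologyIsCokernel (n - 1) n (by simp))
  exact ⟨e1 ≪≫ e2 ≪≫ e3⟩

end Groth.Agent.Lib.Helper13.HDUSect
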