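import Groth.Agent.Lib.Helper13.FunctorialInjective
import Mathlib.Algebra.Homology.DerivedCategory.Basic
import Mathlib.Algebra.Homology.DerivedCategory.ShortExact
import Mathlib.Algebra.Homology.HomotopyCategory.MappingCocone
import Mathlib.Algebra.Homology.HomotopyCategory.ShortExact
import Mathlib.Algebra.Homology.HomologicalComplexLimits

set_option autoImplicit false
universe v u
open CategoryTheory

namespace Groth.Agent.Lib.Helper13.InjHull

open CategoryTheory.Limits CochainComplex Pretriangulated HomComplex

section general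

variable {A : Type u} [Category.{v} A] [Abelian A]

/-- The functor `K ↦ mappingCone (𝟙 K)`. -/
@[simps]
noncomputable def coneId : CochainComplex A ℤ ⥤ CochainComplex A ℤ where
  obj K := mappingCone (𝟙 K)
  map {K L} q := mappingCone.map (𝟙 K) (𝟙 L) q q (by simp)
  map_id K := mappingCone.map_id _
  map_comp {K L M} q q' := mappingCone.map_comp _ _ _ _ _ _ _ _ _

/-- The functor `K ↦ mappingCocone (𝟙 K)`. -/
noncomputable def coconeId : CochainComplex A ℤ ⥤ CochainComplex A ℤ :=
  coneId ⋙ CategoryTheory.shiftFunctor (CochainComplex A ℤ) (-1 : ℤ)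

set_option backward.defeqAttrib.useBackward true in
set_option backward.isDefEq.respectTransparency false in
/-- The natural projection `mappingCocone (𝟙 K) ⟶ K`. -/
noncomputable def coconeIdFst : (coconeId : CochainComplex A ℤ ⥤ _) ⟶ 𝟭 _ where
  app K := mappingCocone.fst (𝟙 K)
  naturality {K L} q := by
    ext n
    dsimp [coconeId, mappingCocone.fst]
    simp [Cochain.leftShift_v (n := 1) _ _ _ _ _ n _ (n + -1) (by lia), mappingCone.map,
      mappingCone.desc_f _ _ _ _ (n + -1) n (by lia)]

lemma isZero_Q_coconeId [HasDerivedCategory.{max u v} A] (K : CochainComplex A ℤ) :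
    IsZero (DerivedCategory.Q.obj (coconeId.obj K)) := by
  have hT := DerivedCategory.mappingCocone_triangle_distinguished (𝟙 K)
  have : IsIso (DerivedCategory.Q.mapTriangle.obj (mappingCocone.triangle (𝟙 K))).mor₂ := by
    change IsIso (DerivedCategory.Q.map (𝟙 K))
    infer_instance
  exact Triangle.isZero₁_of_isIso₂ _ hT this

end general

section construction

variable {A : Type u} [Category.{v} A] [Abelian A] (J : A ⥤ A) (η : 𝟭 A ⟶ J)

/-- the graded object `J(M^n)` seen as a complex with zero differential -/
@[simps]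
noncomputable def Z : CochainComplex A ℤ ⥤ CochainComplex A ℤ where
  obj M :=
    { X := fun n => J.obj (M.X n)
      d := fun _ _ => 0
      shape := by simp
      d_comp_d' := by simp }
  map {M M'} g :=
    { f := fun n => J.map (g.f n)
      comm' := by simp }
  map_id M := by ext n; simp
  map_comp g g' := by ext n; simp

/-- the contractible complex -/
noncomputable def C : CochainComplex A ℤ ⥤ CochainComplex A ℤ := Z J ⋙ coneId

set_option backward.isDefEq.respectTransparency false in
/-- the embedding into the contractible complex -/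
noncomputable def iota (M : CochainComplex A ℤ) : M ⟶ (C J).obj M :=
  mappingCone.lift _
    (Cocycle.mk (Cochain.mk (fun p q _ => M.d p q ≫ η.app (M.X q))) 2
      (by lia) (by
        ext p q hpq
        simp [δ_v 1 2 (by lia) _ p q hpq (p + 1) (p + 1) (by lia) rfl]))
    (Cochain.ofHoms (fun n => η.app (M.X n))) (by cat_disch)

set_option backward.isDefEq.respectTransparency false in
lemma iota_f_snd (M : CochainComplex A ℤ) (n : ℤ) :
    (iota J η M).f n ≫ (mappingCone.snd (𝟙 ((Z J).obj M))).v n n (add_zero n) =
      η.app (M.X n) := by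
  simp [iota]

set_option backward.isDefEq.respectTransparency false in
lemma iota_f_fst (M : CochainComplex A ℤ) (n m : ℤ) (h : n + 1 = m) :
    (iota J η M).f n ≫ (mappingCone.fst (𝟙 ((Z J).obj M))).1.v n m h =
      M.d n m ≫ η.app (M.X m) := by
  simp [iota]

lemma mono_iota_f (hη : ∀ X, Mono (η.app X)) (M : CochainComplex A ℤ) (n : ℤ) :
    Mono ((iota J η M).f n) := by
  have : Mono ((iota J η M).f n ≫
      (mappingCone.snd (𝟙 ((Z J).obj M))).v n n (add_zero n)) := by
    rw [iota_f_snd]; exact hη _
  exact mono_of_mono _ ((mappingCone.snd (𝟙 ((Z J).obj M))).v n n (add_zero n))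

lemma mono_iota (hη : ∀ X, Mono (η.app X)) (M : CochainComplex A ℤ) : Mono (iota J η M) :=
  have := mono_iota_f J η hη M
  HomologicalComplex.mono_of_mono_f _ inferInstance

set_option backward.isDefEq.respectTransparency false in
lemma C_map_f_snd {M M' : CochainComplex A ℤ} (g : M ⟶ M') (n : ℤ) :
    ((C J).map g).f n ≫ (mappingCone.snd (𝟙 ((Z J).obj M'))).v n n (add_zero n) =
      (mappingCone.snd (𝟙 ((Z J).obj M))).v n n (add_zero n) ≫ J.map (g.f n) := by
  simp [C, mappingCone.map, mappingCone.desc_f _ _ _ _ n (n + 1) rfl]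

set_option backward.isDefEq.respectTransparency false in
lemma C_map_f_fst {M M' : CochainComplex A ℤ} (g : M ⟶ M') (n m : ℤ) (h : n + 1 = m) :
    ((C J).map g).f n ≫ (mappingCone.fst (𝟙 ((Z J).obj M'))).1.v n m h =
      (mappingCone.fst (𝟙 ((Z J).obj M))).1.v n m h ≫ J.map (g.f m) := by
  subst h
  simp [C, mappingCone.map, mappingCone.desc_f _ _ _ _ n (n + 1) rfl]

set_option backward.isDefEq.respectTransparency false in
lemma iota_naturality {M M' : CochainComplex A ℤ} (g : M ⟶ M') :
    iota J η M ≫ (C J).map g = g ≫ iota J η M' := by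
  ext n
  refine (mappingCone.ext_to_iff (𝟙 ((Z J).obj M')) n (n + 1) rfl _ _).2 ⟨?_, ?_⟩
  · simp only [HomologicalComplex.comp_f, Category.assoc]
    erw [C_map_f_fst, reassoc_of% (iota_f_fst J η M n (n + 1) rfl), iota_f_fst]
    have := η.naturality (g.f (n + 1))
    dsimp at this
    rw [← this, g.comm_assoc]
  · simp only [HomologicalComplex.comp_f, Category.assoc]
    erw [C_map_f_snd, reassoc_of% (iota_f_snd J η M n), iota_f_snd]
    have := η.naturality (g.f n)
    dsimp at this
    rw [this]

lemma injective_C_X (hJ : ∀ X, Injective (J.obj X)) (M : CochainComplex A ℤ) (n : ℤ) :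
    Injective (((C J).obj M).X n) := by
  have : ∀ k, Injective (((Z J).obj M).X k) := fun k => hJ _
  exact Injective.of_iso
    (HomologicalComplex.homotopyCofiber.XIsoBiprod (𝟙 ((Z J).obj M)) n (n + 1) rfl).symm
    inferInstance

/-- the quotient functor -/
noncomputable def Qf : CochainComplex A ℤ ⥤ CochainComplex A ℤ where
  obj M := cokernel (iota J η M)
  map {M M'} g := cokernel.map (iota J η M) (iota J η M') g ((C J).map g)
    (iota_naturality J η g)
  map_id M := by
    apply coequalizer.hom_ext
    simp
  map_comp g g' := by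
    apply coequalizer.hom_ext
    simp

/-- the projection to the quotient -/
noncomputable def piApp (M : CochainComplex A ℤ) : (C J).obj M ⟶ (Qf J η).obj M :=
  cokernel.π (iota J η M)

instance (M : CochainComplex A ℤ) : Epi (piApp J η M) :=
  coequalizer.π_epi

@[reassoc (attr := simp)]
lemma iota_piApp (M : CochainComplex A ℤ) : iota J η M ≫ piApp J η M = 0 :=
  cokernel.condition _

@[reassoc]
lemma piApp_naturality {M M' : CochainComplex A ℤ} (g : M ⟶ M') :
    piApp J η M ≫ (Qf J η).map g = (C J).map g ≫ piApp J η M' := by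
  simp [piApp, Qf]

/-- the path-space projection -/
noncomputable def rhoApp (M : CochainComplex A ℤ) :
    coconeId.obj ((Qf J η).obj M) ⟶ (Qf J η).obj M :=
  coconeIdFst.app ((Qf J η).obj M)

@[reassoc]
lemma rhoApp_naturality {M M' : CochainComplex A ℤ} (g : M ⟶ M') :
    rhoApp J η M ≫ (Qf J η).map g = coconeId.map ((Qf J η).map g) ≫ rhoApp J η M' :=
  (coconeIdFst.naturality ((Qf J η).map g)).symm

/-- the functor `N` -/
noncomputable def N : CochainComplex A ℤ ⥤ CochainComplex A ℤ where
  obj M := pullback (piApp J η M) (rhoApp J η M)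
  map {M M'} g := pullback.map _ _ _ _ ((C J).map g) (coconeId.map ((Qf J η).map g))
    ((Qf J η).map g) (piApp_naturality J η g) (rhoApp_naturality J η g)
  map_id M := by
    apply pullback.hom_ext
    · erw [pullback.lift_fst]; simp
    · erw [pullback.lift_snd]; simp
  map_comp g g' := by
    apply pullback.hom_ext
    · erw [pullback.lift_fst, Category.assoc, pullback.lift_fst, pullback.lift_fst_assoc]
      simp
    · erw [pullback.lift_snd, Category.assoc, pullback.lift_snd, pullback.lift_snd_assoc]
      simp

/-- first projection -/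
noncomputable def Nfst (M : CochainComplex A ℤ) : (N J η).obj M ⟶ (C J).obj M :=
  pullback.fst (piApp J η M) (rhoApp J η M)

/-- second projection -/
noncomputable def Nsnd (M : CochainComplex A ℤ) :
    (N J η).obj M ⟶ coconeId.obj ((Qf J η).obj M) :=
  pullback.snd (piApp J η M) (rhoApp J η M)

lemma N_condition (M : CochainComplex A ℤ) :
    Nfst J η M ≫ piApp J η M = Nsnd J η M ≫ rhoApp J η M :=
  pullback.condition

lemma N_isPullback (M : CochainComplex A ℤ) :
    IsPullback (Nfst J η M) (Nsnd J η M) (piApp J η M) (rhoApp J η M) :=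
  IsPullback.of_hasPullback _ _

lemma N_hom_ext {M T : CochainComplex A ℤ} {x y : T ⟶ (N J η).obj M}
    (h₁ : x ≫ Nfst J η M = y ≫ Nfst J η M) (h₂ : x ≫ Nsnd J η M = y ≫ Nsnd J η M) : x = y :=
  pullback.hom_ext h₁ h₂

@[reassoc]
lemma N_map_fst {M M' : CochainComplex A ℤ} (g : M ⟶ M') :
    (N J η).map g ≫ Nfst J η M' = Nfst J η M ≫ (C J).map g :=
  pullback.lift_fst _ _ _

@[reassoc]
lemma N_map_snd {M M' : CochainComplex A ℤ} (g : M ⟶ M') :
    (N J η).map g ≫ Nsnd J η M' = Nsnd J η M ≫ coconeId.map ((Qf J η).map g) :=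
  pullback.lift_snd _ _ _

/-- the natural map -/
noncomputable def jApp (M : CochainComplex A ℤ) : M ⟶ (N J η).obj M :=
  pullback.lift (iota J η M) 0 (by simp)

@[reassoc (attr := simp)]
lemma jApp_fst (M : CochainComplex A ℤ) :
    jApp J η M ≫ Nfst J η M = iota J η M :=
  pullback.lift_fst _ _ _

@[reassoc (attr := simp)]
lemma jApp_snd (M : CochainComplex A ℤ) :
    jApp J η M ≫ Nsnd J η M = 0 :=
  pullback.lift_snd _ _ _

/-- the natural transformation -/
noncomputable def jNat : 𝟭 _ ⟶ N J η where
  app M := jApp J η M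
  naturality {M M'} g := by
    apply N_hom_ext
    · dsimp
      rw [Category.assoc, Category.assoc, N_map_fst, jApp_fst, jApp_fst_assoc, iota_naturality]
    · dsimp
      rw [Category.assoc, Category.assoc, N_map_snd, jApp_snd, jApp_snd_assoc, comp_zero,
        zero_comp]

end construction

end Groth.Agent.Lib.Helper13.InjHull
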