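import Mathlib.Algebra.Homology.HomologySequenceLemmas
import Mathlib.Algebra.Homology.HomotopyCategory.KInjective
import Mathlib.Algebra.Homology.HomotopyCategory.Pretriangulated
import Mathlib.Algebra.Homology.Double

/-!
# K-injective complexes from an extension property

Basic homological lemmas (quasi-isomorphisms between acyclic complexes, monomorphisms with acyclic
cokernel), disc complexes, and the fact that a cochain complex having the extension property
with respect to all monomorphisms that are quasi-isomorphisms is K-injective with injective terms.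
-/

set_option autoImplicit false
universe v u
open CategoryTheory Limits HomologicalComplex

namespace Groth.Agent.Lib.Helper13.KInjBasic

variable {A : Type u} [Category.{v} A] [Abelian A]

lemma quasiIso_of_acyclic {K L : CochainComplex A ℤ} (f : K ⟶ L) (hK : K.Acyclic)
    (hL : L.Acyclic) : QuasiIso f := by
  rw [quasiIso_iff]
  intro i
  rw [quasiIsoAt_iff_isIso_homologyMap]
  have h1 : IsZero (K.homology i) := (exactAt_iff_isZero_homology _ _).1 (hK i)
  have h2 : IsZero (L.homology i) := (exactAt_iff_isZero_homology _ _).1 (hL i)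
  exact ⟨0, h1.eq_of_src _ _, h2.eq_of_src _ _⟩

lemma quasiIso_f_of_acyclic_X₃ {S : ShortComplex (CochainComplex A ℤ)} (hS : S.ShortExact)
    (h : S.X₃.Acyclic) : QuasiIso S.f := by
  rw [quasiIso_iff]
  intro i
  rw [quasiIsoAt_iff_isIso_homologyMap]
  have h3 : ∀ j, IsZero (S.X₃.homology j) := fun j => (exactAt_iff_isZero_homology _ _).1 (h j)
  have hm : Mono (homologyMap S.f i) :=
    (hS.homology_exact₁ (i - 1) i (by simp)).mono_g ((h3 _).eq_of_src _ _)
  have he : Epi (homologyMap S.f i) :=
    (hS.homology_exact₂ i).epi_f ((h3 _).eq_of_tgt _ _)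
  exact isIso_of_mono_of_epi _

lemma quasiIso_of_mono_of_acyclic_cokernel {K L : CochainComplex A ℤ} (f : K ⟶ L) [Mono f]
    (h : (cokernel f).Acyclic) : QuasiIso f := by
  have hS : (ShortComplex.mk f (cokernel.π f) (cokernel.condition f)).ShortExact :=
    { exact := ShortComplex.exact_cokernel f }
  exact quasiIso_f_of_acyclic_X₃ hS h

lemma acyclic_cokernel_of_mono_of_quasiIso {K L : CochainComplex A ℤ} (f : K ⟶ L) [Mono f]
    [QuasiIso f] : (cokernel f).Acyclic := by
  have hS : (ShortComplex.mk f (cokernel.π f) (cokernel.condition f)).ShortExact :=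
    { exact := ShortComplex.exact_cokernel f }
  exact hS.acyclic_X₃ (by dsimp; infer_instance)


section Disc

/-- The disc complex `U ⟶ U` in degrees `n`, `n + 1`. -/
noncomputable def disc (U : A) (n : ℤ) : CochainComplex A ℤ :=
  double (𝟙 U) (show (ComplexShape.up ℤ).Rel n (n + 1) from rfl)

lemma ne_succ (n : ℤ) : n ≠ n + 1 := by omega

/-- `disc U n` in degree `n`. -/
noncomputable def discIso₀ (U : A) (n : ℤ) : (disc U n).X n ≅ U := doubleXIso₀ _ _

/-- `disc U n` in degree `n + 1`. -/
noncomputable def discIso₁ (U : A) (n : ℤ) : (disc U n).X (n + 1) ≅ U :=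
  doubleXIso₁ _ _ (ne_succ n)

lemma disc_d (U : A) (n : ℤ) :
    (disc U n).d n (n + 1) = (discIso₀ U n).hom ≫ (discIso₁ U n).inv := by
  have := double_d (𝟙 U) (show (ComplexShape.up ℤ).Rel n (n + 1) from rfl) (ne_succ n)
  rw [Category.id_comp] at this
  exact this

lemma isZero_disc_X (U : A) (n k : ℤ) (h₀ : k ≠ n) (h₁ : k ≠ n + 1) : IsZero ((disc U n).X k) :=
  isZero_double_X _ _ k h₀ h₁

/-- Morphisms from the disc. -/
noncomputable def discMk {U : A} {n : ℤ} {K : CochainComplex A ℤ} (x : U ⟶ K.X n) :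
    disc U n ⟶ K :=
  mkHomFromDouble _ (ne_succ n) x (x ≫ K.d n (n + 1)) (by simp) (by simp)

@[simp]
lemma discMk_f₀ {U : A} {n : ℤ} {K : CochainComplex A ℤ} (x : U ⟶ K.X n) :
    (discMk x).f n = (discIso₀ U n).hom ≫ x :=
  mkHomFromDouble_f₀ _ _ _ _ _ _

@[simp]
lemma discMk_f₁ {U : A} {n : ℤ} {K : CochainComplex A ℤ} (x : U ⟶ K.X n) :
    (discMk x).f (n + 1) = (discIso₁ U n).hom ≫ x ≫ K.d n (n + 1) :=
  mkHomFromDouble_f₁ _ _ _ _ _ _

lemma disc_hom_ext {U : A} {n : ℤ} {K : CochainComplex A ℤ} {φ φ' : disc U n ⟶ K}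
    (h : φ.f n = φ'.f n) : φ = φ' := by
  apply from_double_hom_ext h
  have h1 : (disc U n).d n (n + 1) ≫ φ.f (n + 1) = (disc U n).d n (n + 1) ≫ φ'.f (n + 1) := by
    rw [← φ.comm, ← φ'.comm, h]
  rw [disc_d] at h1
  have h2 := congrArg (fun t => (discIso₁ U n).hom ≫ (discIso₀ U n).inv ≫ t) h1
  simp only [Category.assoc, Iso.inv_hom_id_assoc, Iso.hom_inv_id_assoc] at h2
  exact h2

lemma discMk_comp {U : A} {n : ℤ} {K L : CochainComplex A ℤ} (x : U ⟶ K.X n) (f : K ⟶ L) :
    discMk x ≫ f = discMk (x ≫ f.f n) := by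
  apply disc_hom_ext
  simp

lemma acyclic_disc (U : A) (n : ℤ) : (disc U n).Acyclic := by
  intro i
  by_cases h₀ : i = n
  · subst h₀
    rw [exactAt_iff' _ (i - 1) i (i + 1) (by simp) (by simp)]
    have hz : IsZero ((disc U i).X (i - 1)) := isZero_disc_X U i _ (by omega) (by omega)
    refine (ShortComplex.exact_iff_mono _ (hz.eq_of_src _ _)).2 ?_
    show Mono ((disc U i).d i (i + 1))
    rw [disc_d]
    infer_instance
  · by_cases h₁ : i = n + 1
    · subst h₁
      rw [exactAt_iff' _ n (n + 1) (n + 1 + 1) (by simp) (by simp)]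
      have hz : IsZero ((disc U n).X (n + 1 + 1)) := isZero_disc_X U n _ (by omega) (by omega)
      refine (ShortComplex.exact_iff_epi _ (hz.eq_of_tgt _ _)).2 ?_
      show Epi ((disc U n).d n (n + 1))
      rw [disc_d]
      infer_instance
    · exact ShortComplex.exact_of_isZero_X₂ _ (isZero_disc_X U n i h₀ h₁)

/-- Functoriality of the disc. -/
noncomputable def discMap {U V : A} (a : U ⟶ V) (n : ℤ) : disc U n ⟶ disc V n :=
  discMk (a ≫ (discIso₀ V n).inv)

instance mono_discMap {U V : A} (a : U ⟶ V) [Mono a] (n : ℤ) : Mono (discMap a n) := by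
  apply HomologicalComplex.mono_of_mono_f
  intro k
  by_cases h₀ : k = n
  · subst h₀
    rw [discMap, discMk_f₀]
    infer_instance
  · by_cases h₁ : k = n + 1
    · subst h₁
      rw [discMap, discMk_f₁, disc_d]
      simp only [Category.assoc, Iso.inv_hom_id_assoc]
      infer_instance
    · exact ⟨fun _ _ _ => (isZero_disc_X U n k h₀ h₁).eq_of_tgt _ _⟩

end Disc


open CochainComplex HomComplex

lemma acyclic_of_homotopy_id_zero {K : CochainComplex A ℤ} (h : Homotopy (𝟙 K) 0) :
    K.Acyclic := by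
  intro i
  rw [exactAt_iff_isZero_homology, IsZero.iff_id_eq_zero]
  have := h.homologyMap_eq i
  rw [homologyMap_id, homologyMap_zero] at this
  exact this

lemma acyclic_mappingCone_id (K : CochainComplex A ℤ) : (mappingCone (𝟙 K)).Acyclic :=
  acyclic_of_homotopy_id_zero (mappingCone.homotopyToZeroOfId K)

instance mono_inr {K L : CochainComplex A ℤ} (φ : K ⟶ L) : Mono (mappingCone.inr φ) := by
  have : ∀ n, Mono ((mappingCone.inr φ).f n) := fun n =>
    mono_of_mono_fac (mappingCone.inr_f_snd_v φ n)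
  exact HomologicalComplex.mono_of_mono_f _ this

/-- Extension property with respect to monomorphisms that are quasi-isomorphisms. -/
def ExtProp (I : CochainComplex A ℤ) : Prop :=
  ∀ ⦃K L : CochainComplex A ℤ⦄ (i : K ⟶ L), Mono i → QuasiIso i → ∀ f : K ⟶ I,
    ∃ g : L ⟶ I, i ≫ g = f

theorem isKInjective_of_extProp {I : CochainComplex A ℤ} (hI : ExtProp I) : I.IsKInjective where
  nonempty_homotopy_zero {K} f hK := by
    obtain ⟨g, hg⟩ := hI (mappingCone.inr (𝟙 K)) inferInstance
      (quasiIso_of_acyclic _ hK (acyclic_mappingCone_id K)) f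
    refine ⟨(Cochain.equivHomotopy f 0).symm
      ⟨(mappingCone.inl (𝟙 K)).comp (Cochain.ofHom g) (add_zero _), ?_⟩⟩
    rw [Cochain.ofHom_zero, add_zero, δ_comp_ofHom, mappingCone.δ_inl, Category.id_comp,
      ← Cochain.ofHom_comp, hg]


section Inj

theorem injective_of_extProp {I : CochainComplex A ℤ} (hI : ExtProp I) (n : ℤ) :
    Injective (I.X n) where
  factors {U V} g a _ := by
    obtain ⟨φ, hφ⟩ := hI (discMap a n) inferInstance
      (quasiIso_of_acyclic _ (acyclic_disc _ _) (acyclic_disc _ _)) (discMk g)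
    refine ⟨(discIso₀ V n).inv ≫ φ.f n, ?_⟩
    have h1 := congrArg (fun t => (discIso₀ U n).inv ≫ t.f n) hφ
    simp only [discMap, HomologicalComplex.comp_f, discMk_f₀, Category.assoc,
      Iso.inv_hom_id_assoc] at h1
    exact h1

end Inj

end Groth.Agent.Lib.Helper13.KInjBasic
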