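import Groth.Agent.Lib.Helper13.KInjBasic
import Mathlib.CategoryTheory.Abelian.GrothendieckAxioms.Colim
import Mathlib.Algebra.Homology.GrothendieckAbelian
import Mathlib.Algebra.Homology.HomologicalComplexLimits
import Mathlib.CategoryTheory.Abelian.CommSq
import Mathlib.CategoryTheory.MorphismProperty.TransfiniteComposition
import Mathlib.Algebra.Homology.CochainComplexPlus

/-!
# Monomorphic quasi-isomorphisms of cochain complexes: stability properties

`trivCof` (monomorphisms that are quasi-isomorphisms) is stable under colimits of any shape for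
which colimits are exact, cobase change, coproducts and transfinite compositions.
-/

set_option autoImplicit false
universe w' w v u
open CategoryTheory Limits HomologicalComplex

namespace Groth.Agent.Lib.Helper13.KInjColim

open Groth.Agent.Lib.Helper13.KInjBasic

variable {A : Type u} [Category.{v} A] [Abelian A]

section Pointwise

variable {J : Type w} [Category.{w'} J]

lemma exact_of_evaluation (S : ShortComplex (J ⥤ A))
    (h : ∀ j, (S.map ((evaluation J A).obj j)).Exact) : S.Exact := by
  rw [ShortComplex.exact_iff_isZero_homology, Functor.isZero_iff]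
  intro j
  have := (h j)
  rw [ShortComplex.exact_iff_isZero_homology] at this
  exact this.of_iso (S.mapHomologyIso ((evaluation J A).obj j)).symm

variable [HasColimitsOfShape J A] [HasExactColimitsOfShape J A]

lemma acyclic_of_isColimit {F : J ⥤ CochainComplex A ℤ} (c : Cocone F) (hc : IsColimit c)
    (hF : ∀ j, (F.obj j).Acyclic) : c.pt.Acyclic := by
  intro n
  rw [exactAt_iff' _ (n - 1) n (n + 1) (by simp) (by simp)]
  let S : ShortComplex (J ⥤ A) := ShortComplex.mk
    (X₁ := F ⋙ eval A _ (n - 1)) (X₂ := F ⋙ eval A _ n) (X₃ := F ⋙ eval A _ (n + 1))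
    { app := fun j => (F.obj j).d (n - 1) n
      naturality := fun X Y f => (F.map f).comm (n - 1) n }
    { app := fun j => (F.obj j).d n (n + 1)
      naturality := fun X Y f => (F.map f).comm n (n + 1) }
    (by ext j; exact (F.obj j).d_comp_d _ _ _)
  have hS : S.Exact := by
    apply exact_of_evaluation
    intro j
    have := hF j n
    rw [exactAt_iff' _ (n - 1) n (n + 1) (by simp) (by simp)] at this
    exact this
  exact colim.exact_mapShortComplex hS
    (isColimitOfPreserves (eval A _ (n - 1)) hc) (isColimitOfPreserves (eval A _ n) hc)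
    (isColimitOfPreserves (eval A _ (n + 1)) hc) (c.pt.d (n - 1) n) (c.pt.d n (n + 1))
    (fun j => (c.ι.app j).comm (n - 1) n) (fun j => (c.ι.app j).comm n (n + 1))

end Pointwise


/-- Monomorphisms of cochain complexes that are quasi-isomorphisms. -/
def trivCof : MorphismProperty (CochainComplex A ℤ) :=
  MorphismProperty.monomorphisms _ ⊓ HomologicalComplex.quasiIso A (ComplexShape.up ℤ)

lemma trivCof_iff {K L : CochainComplex A ℤ} (f : K ⟶ L) :
    trivCof f ↔ Mono f ∧ QuasiIso f := by
  simp [trivCof, MorphismProperty.monomorphisms.iff, mem_quasiIso_iff]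

section Colim

variable {J : Type w} [Category.{w'} J] [HasColimitsOfShape J A] [HasExactColimitsOfShape J A]

instance isStableUnderColimitsOfShape_trivCof :
    (trivCof (A := A)).IsStableUnderColimitsOfShape J where
  condition X₁ X₂ c₁ c₂ h₁ h₂ f hf φ hφ := by
    have hm : ∀ j, Mono (f.app j) := fun j => ((trivCof_iff _).1 (hf j)).1
    have hq : ∀ j, QuasiIso (f.app j) := fun j => ((trivCof_iff _).1 (hf j)).2
    have := NatTrans.mono_of_mono_app f
    have hφm : Mono φ := colim.map_mono' f h₁ h₂ φ hφ
    rw [trivCof_iff]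
    refine ⟨hφm, ?_⟩
    -- the cokernel
    let S : ShortComplex (J ⥤ CochainComplex A ℤ) :=
      ShortComplex.mk f (cokernel.π f) (cokernel.condition f)
    have hS : S.ShortExact := { exact := ShortComplex.exact_cokernel f }
    have hSj : ∀ j, (S.map ((evaluation J _).obj j)).ShortExact := fun j =>
      hS.map_of_exact _
    have hQ : ∀ j, ((cokernel f).obj j).Acyclic := fun j =>
      (hSj j).acyclic_X₃ (by dsimp [S]; exact hq j)
    let c₃ := colimit.cocone (cokernel f)
    have hc₃ : IsColimit c₃ := colimit.isColimit _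
    have hc₃a : c₃.pt.Acyclic := acyclic_of_isColimit c₃ hc₃ hQ
    let ψ : c₂.pt ⟶ c₃.pt := h₂.desc (Cocone.mk _ (cokernel.π f ≫ c₃.ι))
    have hψ : ∀ j, c₂.ι.app j ≫ ψ = (cokernel.π f).app j ≫ c₃.ι.app j := fun j => h₂.fac _ j
    have hex := colim.exact_mapShortComplex (S := S) hS.exact h₁ h₂ hc₃ φ ψ hφ hψ
    have : ∀ j, Epi ((cokernel.π f).app j) := fun j => (hSj j).epi_g
    have hψe : Epi ψ := colim.map_epi' (cokernel.π f) c₂ hc₃ ψ hψ
    have hSE : (colim.mapShortComplex S h₁ c₂ c₃ φ ψ hφ hψ).ShortExact :=
      { exact := hex, mono_f := hφm, epi_g := hψe }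
    exact quasiIso_f_of_acyclic_X₃ hSE hc₃a

end Colim


section Pushout

/-- In an abelian category, the cobase change of a monomorphism `f` along any map has the same
cokernel: short exactness of `B ⟶ B' ⟶ cokernel f`. -/
lemma shortExact_of_isPushout {C : Type*} [Category C] [Abelian C] {X A' B B' : C} {f : X ⟶ A'}
    {g : X ⟶ B} {f' : B ⟶ B'} {g' : A' ⟶ B'} (sq : IsPushout g f f' g') [Mono f] :
    ∃ (p : B' ⟶ cokernel f) (w : f' ≫ p = 0), g' ≫ p = cokernel.π f ∧
      (ShortComplex.mk f' p w).ShortExact := by
  have hf' : Mono f' :=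
    MorphismProperty.IsStableUnderCobaseChange.of_isPushout
      (P := MorphismProperty.monomorphisms C) sq (inferInstanceAs (Mono f))
  let p : B' ⟶ cokernel f := sq.desc 0 (cokernel.π f) (by rw [comp_zero, cokernel.condition])
  have h1 : f' ≫ p = 0 := sq.inl_desc _ _ _
  have h2 : g' ≫ p = cokernel.π f := sq.inr_desc _ _ _
  refine ⟨p, h1, h2, ?_⟩
  have hp : Epi p := epi_of_epi_fac h2
  refine ShortComplex.ShortExact.mk' ?_ hf' hp
  rw [ShortComplex.exact_iff_exact_up_to_refinements]
  intro T x hx
  dsimp at x hx ⊢
  obtain ⟨T₁, π₁, hπ₁, xB, xA', hx'⟩ := sq.hom_eq_add_up_to_refinements x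
  have h3 : xA' ≫ cokernel.π f = 0 := by
    have := congrArg (fun t => t ≫ p) hx'
    simp only [Category.assoc, hx, comp_zero, Preadditive.add_comp, h1, h2, zero_add] at this
    exact this.symm
  have hex : (ShortComplex.mk f (cokernel.π f) (cokernel.condition f)).Exact :=
    ShortComplex.exact_cokernel f
  obtain ⟨T₂, π₂, hπ₂, y, hy⟩ := hex.exact_up_to_refinements xA' h3
  dsimp at y hy
  refine ⟨T₂, π₂ ≫ π₁, epi_comp _ _, π₂ ≫ xB + y ≫ g, ?_⟩
  rw [Category.assoc, hx', Preadditive.comp_add, Preadditive.add_comp, Category.assoc,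
    Category.assoc, sq.w, ← Category.assoc y, ← hy, Category.assoc]

instance isStableUnderCobaseChange_trivCof : (trivCof (A := A)).IsStableUnderCobaseChange where
  of_isPushout {X A' B B' f g f' g'} sq hf := by
    rw [trivCof_iff] at hf ⊢
    obtain ⟨hm, hq⟩ := hf
    obtain ⟨p, w, -, hS⟩ := shortExact_of_isPushout sq
    exact ⟨hS.mono_f, quasiIso_f_of_acyclic_X₃ hS (acyclic_cokernel_of_mono_of_quasiIso f)⟩

end Pushout

section Instances

instance : (trivCof (A := A)).RespectsIso := by
  unfold trivCof; infer_instance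

instance : (trivCof (A := A)).IsMultiplicative := by
  unfold trivCof; infer_instance

instance : (trivCof (A := A)).IsStableUnderRetracts := by
  unfold trivCof; infer_instance

variable [IsGrothendieckAbelian.{w} A]

instance : MorphismProperty.IsStableUnderCoproducts.{w} (trivCof (A := A)) where

instance : MorphismProperty.IsStableUnderFilteredColimits.{w, w} (trivCof (A := A)) where
  isStableUnderColimitsOfShape J _ _ := by
    have : HasColimitsOfShape J A := HasFilteredColimitsOfSize.HasColimitsOfShape J
    infer_instance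

instance : MorphismProperty.IsStableUnderTransfiniteComposition.{w} (trivCof (A := A)) :=
  inferInstance

end Instances

end Groth.Agent.Lib.Helper13.KInjColim
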