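import Groth.Agent.Lib.Helper13.SubLat
import Mathlib.CategoryTheory.Abelian.GrothendieckCategory.Subobject
import Mathlib.CategoryTheory.Abelian.GrothendieckCategory.EnoughInjectives

set_option autoImplicit false
universe w v u
open CategoryTheory Limits

namespace Groth.Agent.Lib.Helper13.KInjLattice

open Groth.Agent.Lib.Helper13.SubLat Groth.Agent.Lib.Helper89.SubobjectModular

variable {C : Type u} [Category.{v} C] [Abelian C] [IsGrothendieckAbelian.{w} C]

section AB5

variable {ι : Type w} [Preorder ι] [IsDirected ι (· ≤ ·)] [Nonempty ι]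

/-- The functor to `MonoOver Y` attached to a monotone family of subobjects composed with a map
that is injective on each of them. -/
noncomputable def famFunctor {Y Q : C} (S : ι → Subobject Y) (hS : Monotone S) (π : Y ⟶ Q)
    (hπ : ∀ i, Mono ((S i).arrow ≫ π)) : ι ⥤ MonoOver Q where
  obj i := haveI := hπ i; MonoOver.mk ((S i).arrow ≫ π)
  map {i j} h := MonoOver.homMk (Subobject.ofLE _ _ (hS (leOfHom h)))
    (by
      show Subobject.ofLE _ _ _ ≫ ((S j).arrow ≫ π) = (S i).arrow ≫ π
      rw [← Category.assoc, Subobject.ofLE_arrow])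
  map_id i := Subsingleton.elim _ _
  map_comp f g := Subsingleton.elim _ _

/-- If `Z` meets each member of a directed family of subobjects trivially, it meets their
supremum trivially (AB5). -/
lemma inf_iSup_eq_bot {Y : C} (S : ι → Subobject Y) (hS : Monotone S) (Z : Subobject Y)
    (h : ∀ i, Z ⊓ S i = ⊥) : Z ⊓ ⨆ i, S i = ⊥ := by
  let π := cokernel.π Z.arrow
  have hker : ∀ {T : C} (x : T ⟶ Y), x ≫ π = 0 → Z.Factors x := by
    intro T x hx
    have hex : (ShortComplex.mk Z.arrow π (cokernel.condition _)).Exact :=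
      ShortComplex.exact_cokernel _
    haveI : Mono (ShortComplex.mk Z.arrow π (cokernel.condition _)).f := by
      dsimp; infer_instance
    rw [← hex.lift_f x hx]
    exact Z.factors_comp_arrow _
  have hπ : ∀ i, Mono ((S i).arrow ≫ π) := by
    intro i
    rw [Preadditive.mono_iff_cancel_zero]
    intro T x hx
    rw [← Category.assoc] at hx
    have h1 : Z.Factors (x ≫ (S i).arrow) := hker _ hx
    have h2 : (S i).Factors (x ≫ (S i).arrow) := (S i).factors_comp_arrow _
    have h3 : (Z ⊓ S i).Factors (x ≫ (S i).arrow) := (Subobject.inf_factors _).2 ⟨h1, h2⟩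
    rw [h i, Subobject.bot_factors_iff_zero] at h3
    rw [← cancel_mono (S i).arrow, h3, zero_comp]
  let F := famFunctor S hS π hπ
  let F₀ : ι ⥤ MonoOver Y :=
    { obj := fun i => MonoOver.mk (S i).arrow
      map := fun {i j} h => MonoOver.homMk (Subobject.ofLE _ _ (hS (leOfHom h)))
        (by
          show Subobject.ofLE _ _ _ ≫ (S j).arrow = (S i).arrow
          rw [Subobject.ofLE_arrow])
      map_id := fun i => Subsingleton.elim _ _
      map_comp := fun f g => Subsingleton.elim _ _ }
  let T := ⨆ i, S i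
  let c : Cocone (F₀ ⋙ MonoOver.forget Y) :=
    { pt := Over.mk T.arrow
      ι := { app := fun i => Over.homMk (Subobject.ofLE _ _ (le_iSup S i))
                (by simp [F₀, MonoOver.forget])
             naturality := fun i j f => by
               ext
               show Subobject.ofLE _ _ _ ≫ Subobject.ofLE _ _ _ = Subobject.ofLE _ _ _ ≫ 𝟙 _
               rw [Category.comp_id]
               exact Subobject.ofLE_comp_ofLE _ _ _ _ _ } }
  haveI : Mono c.pt.hom := by dsimp [c]; infer_instance
  have hc : IsColimit ((Over.forget _).mapCocone c) := by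
    apply IsGrothendieckAbelian.isColimitMapCoconeOfSubobjectMkEqISup F₀ c
    dsimp [c, F₀]
    simp only [Subobject.mk_arrow]
    rfl
  have hmono : Mono (T.arrow ≫ π) :=
    IsGrothendieckAbelian.mono_of_isColimit_monoOver F hc (T.arrow ≫ π) (fun i => by
      show Subobject.ofLE _ _ _ ≫ T.arrow ≫ π = (S i).arrow ≫ π
      rw [← Category.assoc, Subobject.ofLE_arrow])
  rw [eq_bot_iff]
  apply Subobject.le_of_factors
  rw [Subobject.bot_factors_iff_zero]
  obtain ⟨h1, h2⟩ := (Subobject.inf_factors _).1 (Subobject.factors_self (Z ⊓ T))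
  have e1 : (Z ⊓ T).arrow ≫ π = 0 := by
    rw [← Subobject.factorThru_arrow Z _ h1, Category.assoc, cokernel.condition, comp_zero]
  have e2 : T.factorThru _ h2 ≫ (T.arrow ≫ π) = 0 := by
    rw [← Category.assoc, Subobject.factorThru_arrow, e1]
  have e3 : T.factorThru _ h2 = 0 := by
    rw [← cancel_mono (T.arrow ≫ π), e2, zero_comp]
  rw [← Subobject.factorThru_arrow T _ h2, e3, zero_comp]

end AB5

lemma kernelSubobject_cokernel_π {Y : C} (Z : Subobject Y) :
    kernelSubobject (cokernel.π Z.arrow) = Z := by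
  apply le_antisymm
  · apply Subobject.le_of_factors
    have hex : (ShortComplex.mk Z.arrow (cokernel.π Z.arrow) (cokernel.condition _)).Exact :=
      ShortComplex.exact_cokernel _
    haveI : Mono (ShortComplex.mk Z.arrow (cokernel.π Z.arrow) (cokernel.condition _)).f := by
      dsimp; infer_instance
    have h0 : (kernelSubobject (cokernel.π Z.arrow)).arrow ≫ cokernel.π Z.arrow = 0 :=
      kernelSubobject_arrow_comp _
    rw [← hex.lift_f _ h0]
    exact Z.factors_comp_arrow _
  · apply Subobject.le_of_factors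
    rw [kernelSubobject_factors_iff]
    exact cokernel.condition _

lemma img_iSup {X Y : C} (f : X ⟶ Y) {ι : Sort*} (S : ι → Subobject X) :
    img f (⨆ i, S i) = ⨆ i, img f (S i) :=
  (gc_img f).l_iSup

lemma pullback_inf {X Y : C} (f : X ⟶ Y) (T T' : Subobject Y) :
    (Subobject.pullback f).obj (T ⊓ T') = (Subobject.pullback f).obj T ⊓ (Subobject.pullback f).obj T' :=
  (gc_img f).u_inf

/-- Lattice form of AB5. -/
lemma inf_iSup_le {ι : Type w} [Preorder ι] [IsDirected ι (· ≤ ·)] [Nonempty ι] {Y : C}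
    (S : ι → Subobject Y) (hS : Monotone S) (Z : Subobject Y) :
    Z ⊓ ⨆ i, S i ≤ ⨆ i, Z ⊓ S i := by
  set Z' := ⨆ i, Z ⊓ S i with hZ'
  have hZ'Z : Z' ≤ Z := iSup_le (fun i => inf_le_left)
  let π := cokernel.π Z'.arrow
  have hk : kernelSubobject π = Z' := kernelSubobject_cokernel_π Z'
  have h1 : ∀ i, img π Z ⊓ img π (S i) = ⊥ := by
    intro i
    have e : (Subobject.pullback π).obj (img π Z ⊓ img π (S i)) = Z' := by
      rw [pullback_inf, pullback_img, pullback_img, hk, sup_eq_left.2 hZ'Z]
      apply le_antisymm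
      · have := @IsModularLattice.sup_inf_le_assoc_of_le (Subobject Y) _ _ Z' (S i) Z hZ'Z
        rw [sup_comm, inf_comm]
        refine this.trans ?_
        apply sup_le le_rfl
        rw [inf_comm]
        exact le_iSup (fun i => Z ⊓ S i) i
      · exact le_inf hZ'Z le_sup_right
    have e2 := congrArg (img π) e
    rw [img_pullback_of_epi] at e2
    rw [e2, img_eq_bot_iff]
    exact cokernel.condition _
  have h2 : img π Z ⊓ ⨆ i, img π (S i) = ⊥ :=
    inf_iSup_eq_bot _ (fun i j hij => img_mono π (hS hij)) _ h1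
  rw [← img_iSup] at h2
  have h3 : img π (Z ⊓ ⨆ i, S i) = ⊥ := by
    rw [eq_bot_iff, ← h2]
    exact le_inf (img_mono π inf_le_left) (img_mono π inf_le_right)
  have h4 := (img_le_iff π _ _).1 h3.le
  rwa [pullback_bot, hk] at h4

lemma inf_iSup_nat_le {Y : C} (S : ℕ → Subobject Y) (hS : Monotone S) (Z : Subobject Y) :
    Z ⊓ ⨆ i, S i ≤ ⨆ i, Z ⊓ S i := by
  have h := inf_iSup_le (ι := ULift.{w} ℕ) (fun i => S i.down)
    (fun i j hij => hS (ULift.down_le.2 hij)) Z
  have e1 : (⨆ i : ULift.{w} ℕ, S i.down) = ⨆ i, S i :=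
    Equiv.ulift.iSup_comp (g := S)
  have e2 : (⨆ i : ULift.{w} ℕ, Z ⊓ S i.down) = ⨆ i, Z ⊓ S i :=
    Equiv.ulift.iSup_comp (g := fun i => Z ⊓ S i)
  rwa [e1, e2] at h

/-- The image of a map out of a colimit is the supremum of the images of the components. -/
lemma imageSubobject_eq_iSup_of_isColimit {J : Type*} [Category J] {F : J ⥤ C} (c : Cocone F)
    (hc : IsColimit c) {Y : C} (f : c.pt ⟶ Y) :
    imageSubobject f = ⨆ j, imageSubobject (c.ι.app j ≫ f) := by
  apply le_antisymm
  · set T := ⨆ j, imageSubobject (c.ι.app j ≫ f) with hT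
    have h0 : f ≫ cokernel.π T.arrow = 0 := by
      apply hc.hom_ext
      intro j
      rw [comp_zero, ← Category.assoc]
      have hj : T.Factors (c.ι.app j ≫ f) := by
        apply Subobject.factors_of_le _ (le_iSup (fun j => imageSubobject (c.ι.app j ≫ f)) j)
        have := imageSubobject_factors_comp_self (c.ι.app j ≫ f) (𝟙 _)
        rwa [Category.id_comp] at this
      rw [← T.factorThru_arrow _ hj, Category.assoc, cokernel.condition, comp_zero]
    have e : f = Abelian.monoLift T.arrow f h0 ≫ T.arrow := (Abelian.monoLift_comp _ _ _).symm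
    rw [e]
    refine (imageSubobject_comp_le _ _).trans ?_
    rw [imageSubobject_mono, Subobject.mk_arrow]
  · exact iSup_le (fun j => imageSubobject_comp_le _ _)

section Cover

variable {A : Type u} [Category.{v} A] [Abelian A] [IsGrothendieckAbelian.{v} A]

/-- A "bounded cover" object attached to `V`: every subobject of `V` which maps into the image of
some map can be covered by `coverObj V` compatibly. -/
noncomputable def coverObj (V : A) : A :=
  ∐ (fun (_ : (separator A ⟶ V) × (separator A ⟶ separator A)) => separator A)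

lemma exists_cover_aux {V Z Y R : A} (m : Z ⟶ V) [Mono m] (φ : Z ⟶ Y) (π : R ⟶ Y)
    (h : ∀ {T : A} (z : T ⟶ Z), ∃ (T' : A) (p : T' ⟶ T) (_ : Epi p) (r : T' ⟶ R),
      p ≫ z ≫ φ = r ≫ π) :
    ∃ (w : (∐ (fun (_ : (separator A ⟶ V) × (separator A ⟶ separator A)) => separator A)) ⟶ R)
      (e : (∐ (fun (_ : (separator A ⟶ V) × (separator A ⟶ separator A)) => separator A)) ⟶ Z),
      Epi e ∧ w ≫ π = e ≫ φ := by
  classical
  let G := separator A
  have hG : IsSeparator G := isSeparator_separator A
  let fst : pullback φ π ⟶ Z := pullback.fst φ π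
  let snd : pullback φ π ⟶ R := pullback.snd φ π
  haveI hfst : Epi fst := by
    rw [epi_iff_surjective_up_to_refinements]
    intro T z
    obtain ⟨T', p, hp, r, hr⟩ := h z
    exact ⟨T', p, hp, pullback.lift (p ≫ z) r (by rw [Category.assoc, hr]),
      (pullback.lift_fst _ _ _).symm⟩
  let P : ((G ⟶ V) × (G ⟶ G)) → (G ⟶ pullback φ π) → Prop :=
    fun idx g => ∃ z : G ⟶ Z, z ≫ m = idx.1 ∧ g ≫ fst = idx.2 ≫ z
  let g : ((G ⟶ V) × (G ⟶ G)) → (G ⟶ pullback φ π) :=
    fun idx => if hh : ∃ g, P idx g then hh.choose else 0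
  have hg : ∀ idx, (∃ g, P idx g) → P idx (g idx) := by
    intro idx hh
    simp only [g, dif_pos hh]
    exact hh.choose_spec
  let e : (∐ fun (_ : (G ⟶ V) × (G ⟶ G)) => G) ⟶ Z := Sigma.desc (fun idx => g idx ≫ fst)
  let w : (∐ fun (_ : (G ⟶ V) × (G ⟶ G)) => G) ⟶ R := Sigma.desc (fun idx => g idx ≫ snd)
  refine ⟨w, e, ?_, ?_⟩
  · rw [Preadditive.epi_iff_cancel_zero]
    intro T c hc
    apply hG.def
    intro z
    rw [comp_zero]
    haveI : Epi (pullback.fst z fst) := Abelian.epi_pullback_of_epi_g z fst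
    rw [← cancel_epi (pullback.fst z fst), comp_zero]
    apply hG.def
    intro hh
    rw [comp_zero]
    let idx : (G ⟶ V) × (G ⟶ G) := (z ≫ m, hh ≫ pullback.fst z fst)
    have hex : ∃ g, P idx g := ⟨hh ≫ pullback.snd z fst, z, rfl, by
      simp only [idx, Category.assoc, pullback.condition]⟩
    obtain ⟨z', hz', hgz⟩ := hg idx hex
    have hzz : z' = z := by
      rw [← cancel_mono m]; exact hz'
    subst hzz
    have h1 : (Sigma.ι (fun (_ : (G ⟶ V) × (G ⟶ G)) => G) idx ≫ e) ≫ c = 0 := by
      rw [Category.assoc]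
      exact (congrArg (fun t => Sigma.ι (fun (_ : (G ⟶ V) × (G ⟶ G)) => G) idx ≫ t) hc).trans
        comp_zero
    simp only [e] at h1
    rw [Sigma.ι_desc, hgz] at h1
    simpa [idx] using h1
  · apply Sigma.hom_ext
    intro idx
    simp only [e, w]
    rw [Sigma.ι_desc_assoc, Sigma.ι_desc_assoc, Category.assoc, Category.assoc]
    simp only [fst, snd, pullback.condition]

lemma exists_cover {V Z Y R : A} (m : Z ⟶ V) [Mono m] (φ : Z ⟶ Y) (π : R ⟶ Y)
    (h : ∀ {T : A} (z : T ⟶ Z), ∃ (T' : A) (p : T' ⟶ T) (_ : Epi p) (r : T' ⟶ R),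
      p ≫ z ≫ φ = r ≫ π) :
    ∃ (w : coverObj V ⟶ R) (e : coverObj V ⟶ Z), Epi e ∧ w ≫ π = e ≫ φ :=
  exists_cover_aux m φ π h

end Cover

end Groth.Agent.Lib.Helper13.KInjLattice
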