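import Groth.Agent.Lib.Helper13.KInjBasic
import Groth.Agent.Lib.Helper13.KInjColim
import Groth.Agent.Lib.Helper13.KInjLattice
import Mathlib.Algebra.Homology.GrothendieckAbelian

set_option autoImplicit false
universe v u
open CategoryTheory Limits HomologicalComplex

namespace Groth.Agent.Lib.Helper13.KInjGen

open Groth.Agent.Lib.Helper13.SubLat Groth.Agent.Lib.Helper89.SubobjectModular
open Groth.Agent.Lib.Helper13.KInjBasic Groth.Agent.Lib.Helper13.KInjColim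
open Groth.Agent.Lib.Helper13.KInjLattice

variable {A : Type u} [Category.{v} A] [Abelian A]

lemma factors_imageSubobject_iff {X Y T : A} (f : X ⟶ Y) (y : T ⟶ Y) :
    (imageSubobject f).Factors y ↔
      ∃ (T' : A) (π : T' ⟶ T) (_ : Epi π) (s : T' ⟶ X), π ≫ y = s ≫ f := by
  rw [← img_top, factors_img_iff]
  constructor
  · rintro ⟨T', π, hπ, s, _, hs⟩
    exact ⟨T', π, hπ, s, hs⟩
  · rintro ⟨T', π, hπ, s, hs⟩
    exact ⟨T', π, hπ, s, Subobject.top_factors _, hs⟩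

/-- The image of `τ` (as a subcomplex of `N`) is acyclic, in lattice form. -/
def ImgAcyclic {P N : CochainComplex A ℤ} (τ : P ⟶ N) : Prop :=
  ∀ n : ℤ, imageSubobject (τ.f n) ⊓ kernelSubobject (N.d n (n + 1)) ≤
    img (N.d (n - 1) n) (imageSubobject (τ.f (n - 1)))

lemma quasiIso_of_imgAcyclic {T P N : CochainComplex A ℤ} (i : T ⟶ P) [Mono i] (τ : P ⟶ N)
    (w : i ≫ τ = 0) (hex : (ShortComplex.mk i τ w).Exact) (h : ImgAcyclic τ) : QuasiIso i := by
  apply quasiIso_of_mono_of_acyclic_cokernel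
  let E := cokernel i
  let p : P ⟶ E := cokernel.π i
  let j : E ⟶ N := cokernel.desc i τ w
  have hpj : p ≫ j = τ := cokernel.π_desc _ _ _
  haveI : Mono j := (ShortComplex.exact_iff_mono_cokernel_desc _).1 hex
  haveI : ∀ n, Mono (j.f n) := fun n => inferInstance
  haveI : ∀ n, Epi (p.f n) := fun n => inferInstance
  have hpjn : ∀ n, p.f n ≫ j.f n = τ.f n := fun n => by rw [← HomologicalComplex.comp_f, hpj]
  intro n
  show E.ExactAt n
  rw [HomologicalComplex.exactAt_iff' E (n - 1) n (n + 1) (by simp) (by simp),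
    ShortComplex.exact_iff_exact_up_to_refinements]
  intro T₀ y hy
  change T₀ ⟶ E.X n at y
  change y ≫ E.d n (n + 1) = 0 at hy
  change ∃ (A' : A) (π : A' ⟶ T₀) (_ : Epi π) (x₁ : A' ⟶ E.X (n - 1)), π ≫ y = x₁ ≫ E.d (n - 1) n
  have h1 : (imageSubobject (τ.f n)).Factors (y ≫ j.f n) := by
    rw [factors_imageSubobject_iff]
    obtain ⟨T', π, hπ, s, hs⟩ := surjective_up_to_refinements_of_epi (p.f n) y
    exact ⟨T', π, hπ, s, by rw [← Category.assoc, hs, Category.assoc, hpjn]⟩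
  have h2 : (kernelSubobject (N.d n (n + 1))).Factors (y ≫ j.f n) := by
    rw [kernelSubobject_factors_iff, Category.assoc, j.comm, ← Category.assoc, hy, zero_comp]
  have h3 := Subobject.factors_of_le _ (h n) ((Subobject.inf_factors _).2 ⟨h1, h2⟩)
  rw [factors_img_iff] at h3
  obtain ⟨T', π, hπ, s, hs, hys⟩ := h3
  rw [factors_imageSubobject_iff] at hs
  obtain ⟨T'', π₂, hπ₂, s', hs'⟩ := hs
  refine ⟨T'', π₂ ≫ π, epi_comp _ _, s' ≫ p.f (n - 1), ?_⟩
  rw [← cancel_mono (j.f n)]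
  simp only [Category.assoc]
  rw [hys, ← Category.assoc π₂, hs', ← j.comm, ← Category.assoc (p.f (n-1)), hpjn, Category.assoc]
  
variable [IsGrothendieckAbelian.{v} A]

instance : HasCoproductsOfShape ℤ (CochainComplex A ℤ) :=
  hasCoproductsOfShape_of_small.{v} _ ℤ

instance : HasCoproductsOfShape ℕ (CochainComplex A ℤ) :=
  hasCoproductsOfShape_of_small.{v} _ ℕ

instance : HasCoproductsOfShape ℕ A :=
  hasCoproductsOfShape_of_small.{v} _ ℕ

/-- One step of the construction: add discs killing all cycles of the image. -/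
noncomputable def stepObj (P : CochainComplex A ℤ) : CochainComplex A ℤ :=
  P ⊞ ∐ (fun n : ℤ => disc (coverObj (P.X n)) (n - 1))

lemma exists_step {X N P : CochainComplex A ℤ} (q : X ⟶ N) [Epi q] (hN : N.Acyclic)
    (σ : P ⟶ X) :
    ∃ σ' : stepObj P ⟶ X, biprod.inl ≫ σ' = σ ∧
      ∀ n : ℤ, imageSubobject ((σ ≫ q).f n) ⊓ kernelSubobject (N.d n (n + 1)) ≤
        img (N.d (n - 1) n) (imageSubobject ((σ' ≫ q).f (n - 1))) := by
  haveI : ∀ n, Epi (q.f n) := fun n => inferInstance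
  let τ := σ ≫ q
  have hcov : ∀ n : ℤ, ∃ (w : coverObj (P.X n) ⟶ X.X (n - 1))
      (e : coverObj (P.X n) ⟶ kernel (τ.f n ≫ N.d n (n + 1))), Epi e ∧
        w ≫ (q.f (n - 1) ≫ N.d (n - 1) n) = e ≫ (kernel.ι _ ≫ τ.f n) := by
    intro n
    apply exists_cover (kernel.ι (τ.f n ≫ N.d n (n + 1)))
    intro T z
    have hz : (z ≫ kernel.ι _ ≫ τ.f n) ≫ N.d n (n + 1) = 0 := by
      simp only [Category.assoc, kernel.condition, comp_zero]
    have hex := (HomologicalComplex.exactAt_iff' N (n - 1) n (n + 1) (by simp) (by simp)).1 (hN n)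
    obtain ⟨T₁, p₁, hp₁, y, hy⟩ := hex.exact_up_to_refinements _ hz
    change T₁ ⟶ N.X (n - 1) at y
    change p₁ ≫ (z ≫ kernel.ι _ ≫ τ.f n) = y ≫ N.d (n - 1) n at hy
    obtain ⟨T₂, p₂, hp₂, r, hr⟩ := surjective_up_to_refinements_of_epi (q.f (n - 1)) y
    refine ⟨T₂, p₂ ≫ p₁, epi_comp _ _, r, ?_⟩
    rw [Category.assoc, hy, ← Category.assoc, hr, Category.assoc]
  choose w e he hwe using hcov
  let D : CochainComplex A ℤ := ∐ (fun n : ℤ => disc (coverObj (P.X n)) (n - 1))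
  let σ' : P ⊞ D ⟶ X := biprod.desc σ (Sigma.desc (fun n => discMk (w n)))
  refine ⟨σ', biprod.inl_desc _ _, ?_⟩
  intro n
  apply Subobject.le_of_factors
  obtain ⟨h1, h2⟩ := (Subobject.inf_factors _).1 (Subobject.factors_self
    (imageSubobject ((σ ≫ q).f n) ⊓ kernelSubobject (N.d n (n + 1))))
  set y := (imageSubobject ((σ ≫ q).f n) ⊓ kernelSubobject (N.d n (n + 1))).arrow with hy
  rw [kernelSubobject_factors_iff] at h2
  rw [factors_imageSubobject_iff] at h1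
  obtain ⟨T₁, π₁, hπ₁, s₁, hs₁⟩ := h1
  change π₁ ≫ y = s₁ ≫ τ.f n at hs₁
  have hs₁0 : s₁ ≫ (τ.f n ≫ N.d n (n + 1)) = 0 := by
    rw [← Category.assoc, ← hs₁, Category.assoc, h2, comp_zero]
  obtain ⟨T₂, π₂, hπ₂, t, ht⟩ := surjective_up_to_refinements_of_epi (e n) (kernel.lift _ s₁ hs₁0)
  let u : coverObj (P.X n) ⟶ (P ⊞ D).X (n - 1) :=
    (discIso₀ _ (n - 1)).inv ≫ (Sigma.ι (fun n : ℤ => disc (coverObj (P.X n)) (n - 1)) n ≫
      (biprod.inr : D ⟶ P ⊞ D)).f (n - 1)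
  have hσ' : (Sigma.ι (fun n : ℤ => disc (coverObj (P.X n)) (n - 1)) n ≫
      (biprod.inr : D ⟶ P ⊞ D)) ≫ σ' = discMk (w n) := by
    simp only [σ', D, Category.assoc, biprod.inr_desc, Sigma.ι_desc]
  have hu : u ≫ σ'.f (n - 1) = w n := by
    simp only [u, Category.assoc]
    rw [← HomologicalComplex.comp_f, hσ', discMk_f₀, Iso.inv_hom_id_assoc]
  rw [factors_img_iff]
  refine ⟨T₂, π₂ ≫ π₁, epi_comp _ _, t ≫ u ≫ (σ' ≫ q).f (n - 1), ?_, ?_⟩
  · rw [← Category.assoc]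
    exact imageSubobject_factors_comp_self _ _
  · have e1 : π₂ ≫ s₁ = t ≫ e n ≫ kernel.ι _ := by
      rw [← Category.assoc, ← ht, Category.assoc, kernel.lift_ι]
    calc (π₂ ≫ π₁) ≫ y = π₂ ≫ (π₁ ≫ y) := Category.assoc _ _ _
      _ = π₂ ≫ s₁ ≫ τ.f n := by rw [hs₁]
      _ = (π₂ ≫ s₁) ≫ τ.f n := (Category.assoc _ _ _).symm
      _ = (t ≫ e n ≫ kernel.ι _) ≫ τ.f n := by rw [e1]
      _ = t ≫ (e n ≫ kernel.ι _ ≫ τ.f n) := by simp only [Category.assoc]
      _ = t ≫ (w n ≫ q.f (n - 1) ≫ N.d (n - 1) n) := by rw [hwe n]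
      _ = t ≫ ((u ≫ σ'.f (n - 1)) ≫ q.f (n - 1) ≫ N.d (n - 1) n) := by rw [hu]
      _ = (t ≫ u ≫ (σ' ≫ q).f (n - 1)) ≫ N.d (n - 1) n := by
        simp only [HomologicalComplex.comp_f, Category.assoc]

variable (A) in
/-- The sequence of objects. -/
noncomputable def Pseq : ℕ → CochainComplex A ℤ
  | 0 => separator (CochainComplex A ℤ)
  | k + 1 => stepObj (Pseq k)

variable (A) in
noncomputable def Pinf : CochainComplex A ℤ := ∐ (Pseq A)

section Seq

variable {X N : CochainComplex A ℤ} (q : X ⟶ N) [Epi q] (hN : N.Acyclic)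
  (σ₀ : separator (CochainComplex A ℤ) ⟶ X)

noncomputable def sigmaSeq : (k : ℕ) → (Pseq A k ⟶ X)
  | 0 => σ₀
  | k + 1 => (exists_step q hN (sigmaSeq k)).choose

/-- The inclusion of one stage in the next. -/
noncomputable def inlSeq (k : ℕ) : Pseq A k ⟶ Pseq A (k + 1) :=
  (biprod.inl : Pseq A k ⟶ Pseq A k ⊞ ∐ (fun n : ℤ => disc (coverObj ((Pseq A k).X n)) (n - 1)))

lemma inlSeq_sigmaSeq_succ (k : ℕ) :
    inlSeq k ≫ sigmaSeq q hN σ₀ (k + 1) = sigmaSeq q hN σ₀ k :=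
  (exists_step q hN (sigmaSeq q hN σ₀ k)).choose_spec.1

/-- Degreewise images. -/
noncomputable def imgSeq (k : ℕ) (n : ℤ) : Subobject (N.X n) :=
  imageSubobject ((sigmaSeq q hN σ₀ k ≫ q).f n)

lemma imgSeq_step (k : ℕ) (n : ℤ) :
    imgSeq q hN σ₀ k n ⊓ kernelSubobject (N.d n (n + 1)) ≤
      img (N.d (n - 1) n) (imgSeq q hN σ₀ (k + 1) (n - 1)) :=
  (exists_step q hN (sigmaSeq q hN σ₀ k)).choose_spec.2 n

omit [IsGrothendieckAbelian.{v} A] in
lemma imageSubobject_le_of_eq_comp {X X' Y : A} {f : X ⟶ Y} {g : X' ⟶ Y} (a : X ⟶ X')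
    (h : f = a ≫ g) : imageSubobject f ≤ imageSubobject g := by
  subst h; exact imageSubobject_comp_le _ _

omit [IsGrothendieckAbelian.{v} A] in
lemma imageSubobject_congr {X Y : A} {f g : X ⟶ Y} (h : f = g) :
    imageSubobject f = imageSubobject g := by
  subst h; rfl

lemma imgSeq_mono (n : ℤ) : Monotone (fun k => imgSeq q hN σ₀ k n) := by
  apply monotone_nat_of_le_succ
  intro k
  refine imageSubobject_le_of_eq_comp ((inlSeq k).f n) ?_
  rw [← HomologicalComplex.comp_f, ← Category.assoc, inlSeq_sigmaSeq_succ]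

noncomputable def sigmaInf : Pinf A ⟶ X := Sigma.desc (sigmaSeq q hN σ₀)

/-- The inclusion of a stage in the coproduct. -/
noncomputable def ιInf (k : ℕ) : Pseq A k ⟶ Pinf A := Sigma.ι (Pseq A) k

lemma ιInf_sigmaInf (k : ℕ) : ιInf k ≫ sigmaInf q hN σ₀ = sigmaSeq q hN σ₀ k :=
  Sigma.ι_desc _ _

lemma imageSubobject_sigmaInf (n : ℤ) :
    imageSubobject ((sigmaInf q hN σ₀ ≫ q).f n) = ⨆ k, imgSeq q hN σ₀ k n := by
  have hc := isColimitOfPreserves (HomologicalComplex.eval A (ComplexShape.up ℤ) n)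
    (colimit.isColimit (Discrete.functor (Pseq A)))
  have h := imageSubobject_eq_iSup_of_isColimit _ hc ((sigmaInf q hN σ₀ ≫ q).f n)
  refine h.trans ?_
  have key : ∀ k : ℕ, imageSubobject ((ιInf k).f n ≫ (sigmaInf q hN σ₀ ≫ q).f n) =
      imgSeq q hN σ₀ k n := by
    intro k
    apply imageSubobject_congr
    rw [← HomologicalComplex.comp_f, ← Category.assoc, ιInf_sigmaInf]
  apply le_antisymm
  · apply iSup_le
    rintro ⟨k⟩
    exact le_trans (le_of_eq (key k)) (le_iSup (fun k => imgSeq q hN σ₀ k n) k)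
  · apply iSup_le
    intro k
    exact le_trans (le_of_eq (key k).symm) (le_iSup (fun j : Discrete ℕ => imageSubobject
      (((eval A (ComplexShape.up ℤ) n).mapCocone (colimit.cocone (Discrete.functor (Pseq A)))).ι.app j ≫
        (sigmaInf q hN σ₀ ≫ q).f n)) (Discrete.mk k))

lemma imgAcyclic_sigmaInf : ImgAcyclic (sigmaInf q hN σ₀ ≫ q) := by
  intro n
  rw [imageSubobject_sigmaInf, imageSubobject_sigmaInf, inf_comm]
  refine (inf_iSup_nat_le _ (imgSeq_mono q hN σ₀ n) _).trans ?_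
  apply iSup_le
  intro k
  rw [inf_comm]
  refine (imgSeq_step q hN σ₀ k n).trans ?_
  exact img_mono _ (le_iSup (fun k => imgSeq q hN σ₀ k (n - 1)) (k + 1))

end Seq

end Groth.Agent.Lib.Helper13.KInjGen
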