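import Groth.Agent.Lib.Helper13.KInjSmall

set_option autoImplicit false
universe v u
open CategoryTheory Limits HomologicalComplex Category

namespace Groth.Agent.Lib.Helper13.KInjIter

open Groth.Agent.Lib.Helper13.SubLat Groth.Agent.Lib.Helper89.SubobjectModular
open Groth.Agent.Lib.Helper13.KInjBasic Groth.Agent.Lib.Helper13.KInjColim
open Groth.Agent.Lib.Helper13.KInjLattice Groth.Agent.Lib.Helper13.KInjGen
open Groth.Agent.Lib.Helper13.KInjSmall

variable {A : Type u} [Category.{v} A] [Abelian A] [IsGrothendieckAbelian.{v} A]

set_option backward.defeqAttrib.useBackward true in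
lemma exists_larger_subobject {X : CochainComplex A ℤ} (S : Subobject X) (hS : S ≠ ⊤)
    (hq : QuasiIso S.arrow) :
    ∃ (S' : Subobject X) (h : S < S'),
      (genTrivCof A).pushouts (Subobject.ofLE S S' h.le) := by
  induction S using Subobject.ind with | _ f
  haveI : QuasiIso f := by
    rw [← Subobject.underlyingIso_arrow f]
    infer_instance
  obtain ⟨X', i, p', hi, hi', hp', fac⟩ := exists_pushouts f
    (by simpa only [Subobject.isIso_iff_mk_eq_top] using hS)
  refine ⟨Subobject.mk p', Subobject.mk_lt_mk_of_comm i fac hi',
    (MorphismProperty.arrow_mk_iso_iff _ ?_).2 hi⟩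
  refine Arrow.isoMk (Subobject.underlyingIso f) (Subobject.underlyingIso p') ?_
  dsimp
  simp only [← cancel_mono p', assoc, fac,
    Subobject.underlyingIso_hom_comp_eq_mk, Subobject.ofLE_arrow]

variable {X : CochainComplex A ℤ}

open scoped Classical in
/-- A larger subobject with the same quasi-isomorphism property, when possible. -/
noncomputable def largerSubobject (S : Subobject X) : Subobject X :=
  if h : S ≠ ⊤ ∧ QuasiIso S.arrow then (exists_larger_subobject S h.1 h.2).choose else ⊤

variable (X) in
@[simp]
lemma largerSubobject_top : largerSubobject (⊤ : Subobject X) = ⊤ :=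
  dif_neg (by simp)

lemma lt_largerSubobject (S : Subobject X) (hS : S ≠ ⊤) :
    S < largerSubobject S := by
  dsimp only [largerSubobject]
  by_cases h : QuasiIso S.arrow
  · rw [dif_pos ⟨hS, h⟩]
    exact (exists_larger_subobject S hS h).choose_spec.choose
  · rw [dif_neg (by tauto)]
    exact lt_top_iff_ne_top.2 hS

lemma le_largerSubobject (S : Subobject X) :
    S ≤ largerSubobject S := by
  by_cases hS : S = ⊤
  · subst hS
    simp only [largerSubobject_top, le_refl]
  · exact (lt_largerSubobject S hS).le

set_option backward.defeqAttrib.useBackward true in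
set_option backward.isDefEq.respectTransparency false in
lemma pushouts_ofLE_le_largerSubobject (S : Subobject X) (hq : QuasiIso S.arrow) :
      (genTrivCof A).pushouts
        (Subobject.ofLE _ _ (le_largerSubobject S)) := by
  by_cases hS : S = ⊤
  · subst hS
    have := (Subobject.isIso_arrow_iff_eq_top (largerSubobject (⊤ : Subobject X))).2 (by simp)
    exact (MorphismProperty.arrow_mk_iso_iff _
      (Arrow.isoMk (asIso (Subobject.arrow _)) (asIso (Subobject.arrow _)) (by simp))).2
        (isomorphisms_le_pushouts_genTrivCof (𝟙 X)
          (MorphismProperty.isomorphisms.infer_property _))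
  · refine (MorphismProperty.arrow_mk_iso_iff _ ?_).1
      (exists_larger_subobject S hS hq).choose_spec.choose_spec
    exact Arrow.isoMk (Iso.refl _)
      (Subobject.isoOfEq _ _ ((by simp [largerSubobject, dif_pos (And.intro hS hq)])))

lemma quasiIso_largerSubobject (S : Subobject X) (hq : QuasiIso S.arrow) :
    QuasiIso (largerSubobject S).arrow := by
  have h1 := pushouts_genTrivCof_le_trivCof _ (pushouts_ofLE_le_largerSubobject S hq)
  rw [trivCof_iff] at h1
  haveI := h1.2
  haveI : QuasiIso (Subobject.ofLE _ _ (le_largerSubobject S) ≫ (largerSubobject S).arrow) := by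
    rw [Subobject.ofLE_arrow]; exact hq
  exact quasiIso_of_comp_left (Subobject.ofLE _ _ (le_largerSubobject S)) _

lemma top_mem_range (A₀ : Subobject X) {J : Type v} [LinearOrder J] [OrderBot J] [SuccOrder J]
    [WellFoundedLT J] (hJ : HasCardinalLT (Subobject X) (Cardinal.mk J)) :
    ∃ (j : J), transfiniteIterate largerSubobject j A₀ = ⊤ :=
  top_mem_range_transfiniteIterate largerSubobject A₀ lt_largerSubobject (by simp)
    (fun h ↦ by simpa [hasCardinalLT_iff_cardinal_mk_lt] using hJ.of_injective _ h)

lemma exists_ordinal (A₀ : Subobject X) :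
    ∃ (o : Ordinal.{v}) (j : o.ToType), transfiniteIterate largerSubobject j A₀ = ⊤ := by
  let κ := Order.succ (Cardinal.mk (Shrink.{v} (Subobject X)))
  have : Nonempty κ.ord.ToType := by simp [κ]
  have := WellFoundedLT.toOrderBot κ.ord.ToType
  exact ⟨κ.ord, top_mem_range A₀ (lt_of_lt_of_le (Order.lt_succ _) (by simp [κ]))⟩

section

variable (A₀ : Subobject X) (J : Type v) [LinearOrder J] [OrderBot J] [SuccOrder J]
  [WellFoundedLT J]

lemma quasiIso_transfiniteIterate (hA₀ : QuasiIso A₀.arrow) (j : J) :
    QuasiIso (transfiniteIterate largerSubobject j A₀).arrow := by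
  induction j using SuccOrder.limitRecOn with
  | isMin k hk =>
    obtain rfl := hk.eq_bot
    rw [transfiniteIterate_bot]
    exact hA₀
  | succ k hk ih =>
    rw [transfiniteIterate_succ _ _ _ hk]
    exact quasiIso_largerSubobject _ ih
  | isSuccLimit k hk ih =>
    rw [transfiniteIterate_limit _ _ _ hk]
    have := hk.nonempty_Iio.to_subtype
    exact quasiIso_iSup_arrow (ι := Set.Iio k)
      (fun x => transfiniteIterate largerSubobject x.1 A₀)
      (fun x y hxy => monotone_transfiniteIterate _ _ le_largerSubobject hxy)
      (fun x => ih x.1 x.2)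

/-- The functor `J ⥤ MonoOver X` given by the transfinite iteration. -/
@[simps]
noncomputable def functorToMonoOver : J ⥤ MonoOver X where
  obj j := MonoOver.mk (transfiniteIterate largerSubobject j A₀).arrow
  map {j j'} f := MonoOver.homMk (Subobject.ofLE _ _
      (monotone_transfiniteIterate _ _ le_largerSubobject (leOfHom f)))

/-- The functor `J ⥤ C` induced by `functorToMonoOver`. -/
noncomputable abbrev functor : J ⥤ CochainComplex A ℤ :=
  functorToMonoOver A₀ J ⋙ MonoOver.forget _ ⋙ Over.forget _

set_option backward.defeqAttrib.useBackward true in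
instance : (functor A₀ J).IsWellOrderContinuous where
  nonempty_isColimit m hm := ⟨by
    have := hm.nonempty_Iio.to_subtype
    let c := (Set.principalSegIio m).cocone (functorToMonoOver A₀ J ⋙ MonoOver.forget _)
    have : Mono c.pt.hom := by dsimp [c]; infer_instance
    apply IsGrothendieckAbelian.isColimitMapCoconeOfSubobjectMkEqISup
      ((Set.principalSegIio m).monotone.functor ⋙ functorToMonoOver A₀ J) c
    dsimp [c]
    simp only [Subobject.mk_arrow]
    exact transfiniteIterate_limit largerSubobject A₀ m hm⟩

set_option backward.isDefEq.respectTransparency.types false in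
set_option backward.defeqAttrib.useBackward true in
variable {J} in
/-- For any `j`, the map from the bottom stage to stage `j`
is a transfinite composition of pushouts of maps in `genTrivCof A`. -/
noncomputable def transfiniteCompositionOfShapeMapFromBot (hA₀ : QuasiIso A₀.arrow) (j : J) :
    (genTrivCof A).pushouts.TransfiniteCompositionOfShape (Set.Iic j)
    ((functor A₀ J).map (homOfLE bot_le : ⊥ ⟶ j)) where
  F := (Set.initialSegIic j).monotone.functor ⋙ functor A₀ J
  isoBot := Iso.refl _
  incl :=
    { app k := (functor A₀ J).map (homOfLE k.2)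
      naturality k k' h := by simp [MonoOver.forget] }
  isColimit := colimitOfDiagramTerminal isTerminalTop _
  map_mem k hk := by
    dsimp [MonoOver.forget]
    convert!
      pushouts_ofLE_le_largerSubobject (transfiniteIterate largerSubobject k.1 A₀)
        (quasiIso_transfiniteIterate A₀ J hA₀ k.1) using 2
    all_goals
      rw [Set.Iic.succ_eq_of_not_isMax hk,
        transfiniteIterate_succ _ _ _ (Set.not_isMax_coe _ hk)]

end

variable {K : CochainComplex A ℤ} {f : K ⟶ X} [Mono f]

set_option backward.defeqAttrib.useBackward true in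
set_option backward.isDefEq.respectTransparency false in
noncomputable def transfiniteCompositionOfShapeOfEqTop [QuasiIso f]
    {J : Type v} [LinearOrder J] [OrderBot J] [SuccOrder J] [WellFoundedLT J] {j : J}
    (hj : transfiniteIterate largerSubobject j (Subobject.mk f) = ⊤) :
    (genTrivCof A).pushouts.TransfiniteCompositionOfShape (Set.Iic j) f := by
  let t := transfiniteIterate largerSubobject j (Subobject.mk f)
  have := (Subobject.isIso_arrow_iff_eq_top t).2 hj
  have hq : QuasiIso (Subobject.mk f).arrow := by
    have e : (Subobject.mk f).arrow = (Subobject.underlyingIso f).hom ≫ f := by simp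
    rw [e]
    infer_instance
  apply (transfiniteCompositionOfShapeMapFromBot (Subobject.mk f) hq j).ofArrowIso
  refine Arrow.isoMk ((Subobject.isoOfEq _ _ (transfiniteIterate_bot _ _) ≪≫
    Subobject.underlyingIso f)) (asIso t.arrow) ?_
  dsimp [MonoOver.forget]
  rw [assoc, Subobject.underlyingIso_hom_comp_eq_mk, Subobject.ofLE_arrow,
    Subobject.ofLE_arrow]

variable (f)

lemma exists_transfiniteCompositionOfShape [QuasiIso f] :
    ∃ (J : Type v) (_ : LinearOrder J) (_ : OrderBot J) (_ : SuccOrder J)
        (_ : WellFoundedLT J),
    Nonempty ((genTrivCof A).pushouts.TransfiniteCompositionOfShape J f) := by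
  obtain ⟨o, j, hj⟩ := exists_ordinal (Subobject.mk f)
  have : Nonempty o.ToType := ⟨j⟩
  have : OrderBot o.ToType := WellFoundedLT.toOrderBot _
  exact ⟨_, _, _, _, _, ⟨transfiniteCompositionOfShapeOfEqTop hj⟩⟩

end Groth.Agent.Lib.Helper13.KInjIter
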