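import Groth.Agent.Lib.Helper13.KInjGen
import Mathlib.CategoryTheory.Abelian.GrothendieckCategory.EnoughInjectives
import Mathlib.CategoryTheory.Filtered.Connected

set_option autoImplicit false
universe v u
open CategoryTheory Limits HomologicalComplex

namespace Groth.Agent.Lib.Helper13.KInjSmall

open Groth.Agent.Lib.Helper13.SubLat Groth.Agent.Lib.Helper89.SubobjectModular
open Groth.Agent.Lib.Helper13.KInjBasic Groth.Agent.Lib.Helper13.KInjColim
open Groth.Agent.Lib.Helper13.KInjLattice Groth.Agent.Lib.Helper13.KInjGen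

variable {A : Type u} [Category.{v} A] [Abelian A] [IsGrothendieckAbelian.{v} A]

variable (A) in
/-- The generating set of trivial cofibrations: subobjects of `Pinf A` whose inclusion is a
quasi-isomorphism. -/
def genTrivCof : MorphismProperty (CochainComplex A ℤ) :=
  MorphismProperty.ofHoms (fun (S : {S : Subobject (Pinf A) // trivCof S.arrow}) => S.1.arrow)

instance : MorphismProperty.IsSmall.{v} (genTrivCof A) := by
  dsimp [genTrivCof]
  infer_instance

lemma genTrivCof_le_trivCof : genTrivCof A ≤ trivCof := by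
  rintro _ _ _ ⟨S⟩
  exact S.2

lemma pushouts_genTrivCof_le_trivCof : (genTrivCof A).pushouts ≤ trivCof := by
  rw [MorphismProperty.pushouts_le_iff]
  exact genTrivCof_le_trivCof

lemma isomorphisms_le_pushouts_genTrivCof :
    MorphismProperty.isomorphisms (CochainComplex A ℤ) ≤ (genTrivCof A).pushouts :=
  MorphismProperty.isomorphisms_le_pushouts _
    (fun _ ↦ ⟨_, _, _, MorphismProperty.ofHoms.mk
      (⟨⊤, by
        rw [trivCof_iff]
        exact ⟨inferInstance, inferInstance⟩⟩ : {S : Subobject (Pinf A) // trivCof S.arrow}),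
      0, inferInstance⟩)

set_option backward.isDefEq.respectTransparency false in
lemma exists_pushouts {X Y : CochainComplex A ℤ} (p : X ⟶ Y) [Mono p] [QuasiIso p]
    (hp : ¬ IsIso p) :
    ∃ (X' : CochainComplex A ℤ) (i : X ⟶ X') (p' : X' ⟶ Y) (_ : (genTrivCof A).pushouts i)
      (_ : ¬ IsIso i) (_ : Mono p'), i ≫ p' = p := by
  let q := cokernel.π p
  have hN : (cokernel p).Acyclic := acyclic_cokernel_of_mono_of_quasiIso p
  have hq : q ≠ 0 := by
    intro h0
    apply hp
    have h1 : 𝟙 Y ≫ cokernel.π p = 0 := by rw [Category.id_comp]; exact h0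
    have h2 := Abelian.monoLift_comp p (𝟙 Y) h1
    haveI : IsSplitEpi p := ⟨⟨⟨_, h2⟩⟩⟩
    exact isIso_of_mono_of_isSplitEpi p
  obtain ⟨σ₀, hσ₀⟩ : ∃ σ₀ : separator (CochainComplex A ℤ) ⟶ Y, σ₀ ≫ q ≠ 0 := by
    by_contra hcon
    push_neg at hcon
    apply hq
    apply (isSeparator_separator (CochainComplex A ℤ)).def
    intro σ₀
    rw [hcon σ₀, comp_zero]
  let f : Pinf A ⟶ Y := sigmaInf q hN σ₀
  have hacyc : ImgAcyclic (f ≫ q) := imgAcyclic_sigmaInf q hN σ₀
  have hf : ∀ a : Pinf A ⟶ X, a ≫ p ≠ f := by
    intro a ha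
    apply hσ₀
    have h1 : (ιInf 0 : Pseq A 0 ⟶ Pinf A) ≫ f ≫ q = 0 := by
      rw [← ha, Category.assoc, cokernel.condition, comp_zero, comp_zero]
    have h2 : σ₀ ≫ q = (ιInf 0 : Pseq A 0 ⟶ Pinf A) ≫ f ≫ q := by
      rw [← Category.assoc, ιInf_sigmaInf]
      rfl
    exact h2.trans h1
  have hw : pullback.snd p f ≫ (f ≫ q) = 0 := by
    rw [← Category.assoc, ← pullback.condition, Category.assoc, cokernel.condition, comp_zero]
  have hex : (ShortComplex.mk (pullback.snd p f) (f ≫ q) hw).Exact := by
    rw [ShortComplex.exact_iff_exact_up_to_refinements]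
    intro T x₂ hx₂
    dsimp at x₂ hx₂ ⊢
    rw [← Category.assoc] at hx₂
    refine ⟨T, 𝟙 T, inferInstance, pullback.lift (Abelian.monoLift p (x₂ ≫ f) hx₂) x₂
      (Abelian.monoLift_comp _ _ _), ?_⟩
    rw [pullback.lift_snd, Category.id_comp]
  have htc : trivCof (pullback.snd p f) := by
    rw [trivCof_iff]
    exact ⟨inferInstance, quasiIso_of_imgAcyclic _ _ hw hex hacyc⟩
  have htc' : trivCof (Subobject.mk (pullback.snd p f)).arrow := by
    have := (trivCof (A := A)).cancel_left_of_respectsIso
      (Subobject.underlyingIso (pullback.snd p f)).inv (Subobject.mk (pullback.snd p f)).arrow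
    rw [← this, Subobject.underlyingIso_arrow]
    exact htc
  refine ⟨pushout (pullback.fst p f) (pullback.snd p f), pushout.inl _ _,
    pushout.desc p f pullback.condition,
    ⟨_, _, _, (Subobject.underlyingIso _).hom ≫ pullback.fst _ _,
    pushout.inr _ _, MorphismProperty.ofHoms.mk
      (⟨Subobject.mk (pullback.snd p f), htc'⟩ : {S : Subobject (Pinf A) // trivCof S.arrow}),
    (IsPushout.of_hasPushout (pullback.fst p f) (pullback.snd p f)).of_iso
      ((Subobject.underlyingIso _).symm) (Iso.refl _) (Iso.refl _)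
      (Iso.refl _) (by simp) (by simp) (by simp) (by simp)⟩, ?_, ?_, by simp⟩
  · intro h
    rw [isIso_iff_yoneda_map_bijective] at h
    obtain ⟨a, ha⟩ := (h (Pinf A)).2 (pushout.inr _ _)
    exact hf a (by simpa using ha =≫ pushout.desc p f pullback.condition)
  · exact (IsPushout.of_hasPushout _ _).mono_of_isPullback_of_mono
      (IsPullback.of_hasPullback p f) _ (by simp) (by simp)

/-- A directed union of subcomplexes whose inclusions are quasi-isomorphisms has the same
property. -/
lemma quasiIso_iSup_arrow {ι : Type v} [Preorder ι] [IsDirected ι (· ≤ ·)] [Nonempty ι]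
    {X : CochainComplex A ℤ} (S : ι → Subobject X) (hS : Monotone S)
    (h : ∀ i, QuasiIso (S i).arrow) : QuasiIso (⨆ i, S i).arrow := by
  let F₀ : ι ⥤ MonoOver X :=
    { obj := fun i => MonoOver.mk (S i).arrow
      map := fun {i j} h => MonoOver.homMk (Subobject.ofLE _ _ (hS (leOfHom h)))
        (by
          show Subobject.ofLE _ _ _ ≫ (S j).arrow = (S i).arrow
          rw [Subobject.ofLE_arrow])
      map_id := fun i => Subsingleton.elim _ _
      map_comp := fun f g => Subsingleton.elim _ _ }
  let T := ⨆ i, S i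
  let c : Cocone (F₀ ⋙ MonoOver.forget X) :=
    { pt := Over.mk T.arrow
      ι := { app := fun i => Over.homMk (Subobject.ofLE _ _ (le_iSup S i))
                (by simp [F₀, MonoOver.forget])
             naturality := fun i j f => by
               apply Over.OverMorphism.ext
               show Subobject.ofLE (S i) (S j) _ ≫ Subobject.ofLE (S j) T _ =
                 Subobject.ofLE (S i) T _ ≫ 𝟙 (T : CochainComplex A ℤ)
               rw [Category.comp_id]
               exact Subobject.ofLE_comp_ofLE _ _ _ _ _ } }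
  haveI : Mono c.pt.hom := by dsimp [c]; infer_instance
  have hc : IsColimit ((Over.forget _).mapCocone c) := by
    apply IsGrothendieckAbelian.isColimitMapCoconeOfSubobjectMkEqISup F₀ c
    dsimp [c, F₀]
    simp only [Subobject.mk_arrow]
    rfl
  let f : (F₀ ⋙ MonoOver.forget X) ⋙ Over.forget X ⟶ (Functor.const ι).obj X :=
    { app := fun i => (S i).arrow
      naturality := fun i j g => by
        show Subobject.ofLE _ _ _ ≫ (S j).arrow = (S i).arrow ≫ 𝟙 X
        rw [Subobject.ofLE_arrow, Category.comp_id] }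
  have hf : (trivCof (A := A)).functorCategory ι f := by
    intro i
    rw [trivCof_iff]
    exact ⟨inferInstanceAs (Mono (S i).arrow), h i⟩
  haveI : IsConnected ι := IsFiltered.isConnected ι
  have := (inferInstance : (trivCof (A := A)).IsStableUnderColimitsOfShape ι).condition _ _ _ _ hc
    (isColimitConstCocone ι X) f hf T.arrow (fun i => by
      show Subobject.ofLE _ _ _ ≫ T.arrow = (S i).arrow ≫ 𝟙 X
      rw [Subobject.ofLE_arrow, Category.comp_id])
  exact ((trivCof_iff _).1 this).2

end Groth.Agent.Lib.Helper13.KInjSmall
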