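import Mathlib

/-!
# Localization of an abelian category w.r.t. a class with left and right calculus of fractions
(helper13)

* `isColimitMapCokernelCofork`: a localization functor for a class with left calculus of
  fractions preserves cokernels (preadditive setting).
* `isLimitMapKernelFork`: dually for right calculus of fractions and kernels.
* `isIso_coimageImageComparison_of_fac`: criterion for the coimage-image comparison to be an iso.
* `abelian_of_localization`: the localized category is abelian and the localization functor exact.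
-/

set_option autoImplicit false
universe v v' u u'

namespace Groth.Agent.Lib.Helper13.LocAbelian

open CategoryTheory CategoryTheory.Limits

section Preadd

variable {A : Type u} [Category.{v} A] [Preadditive A] {D : Type u'} [Category.{v'} D]
  [Preadditive D] (L : A ⥤ D) (W : MorphismProperty A) [L.IsLocalization W] [L.Additive]

section Left

variable [W.HasLeftCalculusOfFractions]

include W

lemma map_eq_zero_iff_postcomp {X Y : A} (f : X ⟶ Y) :
    L.map f = 0 ↔ ∃ (Z : A) (s : Y ⟶ Z) (_ : W s), f ≫ s = 0 := by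
  have := MorphismProperty.map_eq_iff_postcomp L W f 0
  simpa using this

lemma exists_desc_of_isColimit {X Y : A} {f : X ⟶ Y} {c : CokernelCofork f} (hc : IsColimit c)
    {Z₀ : A} (φ : L.obj Y ⟶ L.obj Z₀) (hφ : L.map f ≫ φ = 0) :
    ∃ ψ : L.obj c.pt ⟶ L.obj Z₀, L.map c.π ≫ ψ = φ := by
  obtain ⟨α, rfl⟩ := Localization.exists_leftFraction L W φ
  have hs : IsIso (L.map α.s) := Localization.inverts L W α.s α.hs
  have hαs : α.map L (Localization.inverts L W) ≫ L.map α.s = L.map α.f :=
    α.map_comp_map_s L (Localization.inverts L W)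
  have h1 : L.map (f ≫ α.f) = 0 := by
    rw [L.map_comp, ← hαs, reassoc_of% hφ, zero_comp]
  obtain ⟨Z'', t, ht, h2⟩ := (map_eq_zero_iff_postcomp L W _).1 h1
  rw [Category.assoc] at h2
  obtain ⟨k, hk⟩ := CokernelCofork.IsColimit.desc' hc (α.f ≫ t) h2
  have ht' : IsIso (L.map t) := Localization.inverts L W t ht
  refine ⟨L.map k ≫ inv (L.map t) ≫ inv (L.map α.s), ?_⟩
  rw [← L.map_comp_assoc, hk, L.map_comp, Category.assoc, IsIso.hom_inv_id_assoc, ← hαs,
    Category.assoc, IsIso.hom_inv_id, Category.comp_id]

lemma epi_map_π {X Y : A} {f : X ⟶ Y} {c : CokernelCofork f} (hc : IsColimit c) :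
    Epi (L.map c.π) := by
  have : L.EssSurj := Localization.essSurj L W
  apply Preadditive.epi_of_cancel_zero
  intro Z ψ hψ
  let e := L.objObjPreimageIso Z
  suffices ψ ≫ e.inv = 0 by
    rw [← cancel_mono e.inv, this, zero_comp]
  obtain ⟨α, hα⟩ := Localization.exists_leftFraction L W (ψ ≫ e.inv)
  have hs : IsIso (L.map α.s) := Localization.inverts L W α.s α.hs
  have hαs : α.map L (Localization.inverts L W) ≫ L.map α.s = L.map α.f :=
    α.map_comp_map_s L (Localization.inverts L W)
  have h1 : L.map (c.π ≫ α.f) = 0 := by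
    rw [L.map_comp, ← hαs, ← hα, Category.assoc, reassoc_of% hψ, zero_comp]
  obtain ⟨Z'', t, ht, h2⟩ := (map_eq_zero_iff_postcomp L W _).1 h1
  rw [Category.assoc] at h2
  have hepi : Epi c.π := epi_of_isColimit_cofork hc
  have h3 : α.f ≫ t = 0 := by
    rw [← cancel_epi c.π, h2, comp_zero]
  have ht' : IsIso (L.map t) := Localization.inverts L W t ht
  have h4 : L.map α.f = 0 := by
    rw [← cancel_mono (L.map t), ← L.map_comp, h3, L.map_zero, zero_comp]
  rw [hα, ← cancel_mono (L.map α.s), hαs, h4, zero_comp]

/-- A localization functor for a class with left calculus of fractions preserves cokernels. -/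
noncomputable def isColimitMapCokernelCofork {X Y : A} {f : X ⟶ Y} {c : CokernelCofork f}
    (hc : IsColimit c) :
    IsColimit (CokernelCofork.ofπ (L.map c.π)
      (by rw [← L.map_comp, c.condition, L.map_zero]) : CokernelCofork (L.map f)) := by
  have : L.EssSurj := Localization.essSurj L W
  have := epi_map_π L W hc
  refine CokernelCofork.IsColimit.ofπ' _ _ (fun {Z} k hk => ?_)
  let e := L.objObjPreimageIso Z
  have h := exists_desc_of_isColimit L W hc (k ≫ e.inv) (by rw [reassoc_of% hk, zero_comp])
  exact ⟨h.choose ≫ e.hom, by rw [reassoc_of% h.choose_spec, Iso.inv_hom_id, Category.comp_id]⟩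

end Left

section Right

variable [W.HasRightCalculusOfFractions]

include W

lemma map_eq_zero_iff_precomp {Y Z : A} (f : Y ⟶ Z) :
    L.map f = 0 ↔ ∃ (X : A) (s : X ⟶ Y) (_ : W s), s ≫ f = 0 := by
  have := MorphismProperty.map_eq_iff_precomp L W f 0
  simpa using this

lemma exists_lift_of_isLimit {X Y : A} {f : X ⟶ Y} {c : KernelFork f} (hc : IsLimit c)
    {Z₀ : A} (φ : L.obj Z₀ ⟶ L.obj X) (hφ : φ ≫ L.map f = 0) :
    ∃ ψ : L.obj Z₀ ⟶ L.obj c.pt, ψ ≫ L.map c.ι = φ := by
  obtain ⟨α, rfl⟩ := Localization.exists_rightFraction L W φ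
  have hs : IsIso (L.map α.s) := Localization.inverts L W α.s α.hs
  have hαs : L.map α.s ≫ α.map L (Localization.inverts L W) = L.map α.f :=
    α.map_s_comp_map L (Localization.inverts L W)
  have h1 : L.map (α.f ≫ f) = 0 := by
    rw [L.map_comp, ← hαs, Category.assoc, hφ, comp_zero]
  obtain ⟨Z'', t, ht, h2⟩ := (map_eq_zero_iff_precomp L W _).1 h1
  rw [← Category.assoc] at h2
  obtain ⟨k, hk⟩ := KernelFork.IsLimit.lift' hc (t ≫ α.f) h2
  have ht' : IsIso (L.map t) := Localization.inverts L W t ht
  refine ⟨inv (L.map α.s) ≫ inv (L.map t) ≫ L.map k, ?_⟩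
  rw [Category.assoc, Category.assoc, ← L.map_comp, hk, L.map_comp, IsIso.inv_hom_id_assoc,
    ← hαs, IsIso.inv_hom_id_assoc]

lemma mono_map_ι {X Y : A} {f : X ⟶ Y} {c : KernelFork f} (hc : IsLimit c) :
    Mono (L.map c.ι) := by
  have : L.EssSurj := Localization.essSurj L W
  apply Preadditive.mono_of_cancel_zero
  intro Z ψ hψ
  let e := L.objObjPreimageIso Z
  suffices e.hom ≫ ψ = 0 by
    rw [← cancel_epi e.hom, this, comp_zero]
  obtain ⟨α, hα⟩ := Localization.exists_rightFraction L W (e.hom ≫ ψ)
  have hs : IsIso (L.map α.s) := Localization.inverts L W α.s α.hs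
  have hαs : L.map α.s ≫ α.map L (Localization.inverts L W) = L.map α.f :=
    α.map_s_comp_map L (Localization.inverts L W)
  have h1 : L.map (α.f ≫ c.ι) = 0 := by
    rw [L.map_comp, ← hαs, ← hα, Category.assoc, Category.assoc, hψ, comp_zero, comp_zero]
  obtain ⟨Z'', t, ht, h2⟩ := (map_eq_zero_iff_precomp L W _).1 h1
  rw [← Category.assoc] at h2
  have hmono : Mono c.ι := mono_of_isLimit_fork hc
  have h3 : t ≫ α.f = 0 := by
    rw [← cancel_mono c.ι, h2, zero_comp]
  have ht' : IsIso (L.map t) := Localization.inverts L W t ht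
  have h4 : L.map α.f = 0 := by
    rw [← cancel_epi (L.map t), ← L.map_comp, h3, L.map_zero, comp_zero]
  rw [hα, ← cancel_epi (L.map α.s), hαs, h4, comp_zero]

/-- A localization functor for a class with right calculus of fractions preserves kernels. -/
noncomputable def isLimitMapKernelFork {X Y : A} {f : X ⟶ Y} {c : KernelFork f}
    (hc : IsLimit c) :
    IsLimit (KernelFork.ofι (L.map c.ι)
      (by rw [← L.map_comp, c.condition, L.map_zero]) : KernelFork (L.map f)) := by
  have : L.EssSurj := Localization.essSurj L W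
  have := mono_map_ι L W hc
  refine KernelFork.IsLimit.ofι' _ _ (fun {Z} k hk => ?_)
  let e := L.objObjPreimageIso Z
  have h := exists_lift_of_isLimit L W hc (e.hom ≫ k) (by rw [Category.assoc, hk, comp_zero])
  exact ⟨e.inv ≫ h.choose, by rw [Category.assoc, h.choose_spec, Iso.inv_hom_id_assoc]⟩

end Right

end Preadd

section CoimageImage

variable {D : Type u'} [Category.{v'} D] [Preadditive D] [HasKernels D] [HasCokernels D]

/-- If `φ = e ≫ m` where `e` is a cokernel of a kernel of `φ` and `m` is a kernel of a cokernel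
of `φ`, then the coimage-image comparison of `φ` is an isomorphism. -/
lemma isIso_coimageImageComparison_of_fac {U V K Q I : D} (φ : U ⟶ V)
    (i : K ⟶ U) (wi : i ≫ φ = 0) (hi : IsLimit (KernelFork.ofι i wi))
    (p : V ⟶ Q) (wp : φ ≫ p = 0) (hp : IsColimit (CokernelCofork.ofπ p wp))
    (e : U ⟶ I) (we : i ≫ e = 0) (he : IsColimit (CokernelCofork.ofπ e we))
    (m : I ⟶ V) (wm : m ≫ p = 0) (hm : IsLimit (KernelFork.ofι m wm))
    (fac : e ≫ m = φ) : IsIso (Abelian.coimageImageComparison φ) := by
  -- compare the chosen kernel with `K`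
  let κ : kernel φ ≅ K := IsLimit.conePointUniqueUpToIso (kernelIsKernel φ) hi
  have hκ : κ.hom ≫ i = kernel.ι φ :=
    IsLimit.conePointUniqueUpToIso_hom_comp (kernelIsKernel φ) hi WalkingParallelPair.zero
  let ρ : cokernel φ ≅ Q := IsColimit.coconePointUniqueUpToIso (cokernelIsCokernel φ) hp
  have hρ : cokernel.π φ ≫ ρ.hom = p :=
    IsColimit.comp_coconePointUniqueUpToIso_hom (cokernelIsCokernel φ) hp WalkingParallelPair.one
  -- `e` is a cokernel of `kernel.ι φ`
  have we' : kernel.ι φ ≫ e = 0 := by rw [← hκ, Category.assoc, we, comp_zero]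
  have he' : IsColimit (CokernelCofork.ofπ e we') :=
    IsCokernel.ofIso _ he (CokernelCofork.ofπ e we') κ.symm (Iso.refl _) (Iso.refl _)
      (by simp [← hκ]) (by simp)
  have wm' : m ≫ cokernel.π φ = 0 := by
    rw [← cancel_mono ρ.hom, Category.assoc, hρ, wm, zero_comp]
  have hm' : IsLimit (KernelFork.ofι m wm') :=
    IsKernel.ofIso _ hm (KernelFork.ofι m wm') (Iso.refl _) ρ.symm (Iso.refl _)
      (by simp [← hρ]) (by simp)
  let a := IsColimit.coconePointUniqueUpToIso (cokernelIsCokernel (kernel.ι φ)) he'
  have ha : cokernel.π (kernel.ι φ) ≫ a.hom = e :=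
    IsColimit.comp_coconePointUniqueUpToIso_hom (cokernelIsCokernel (kernel.ι φ)) he'
      WalkingParallelPair.one
  let b := IsLimit.conePointUniqueUpToIso hm' (kernelIsKernel (cokernel.π φ))
  have hb : b.hom ≫ kernel.ι (cokernel.π φ) = m :=
    IsLimit.conePointUniqueUpToIso_hom_comp hm' (kernelIsKernel (cokernel.π φ))
      WalkingParallelPair.zero
  have : Abelian.coimageImageComparison φ = a.hom ≫ b.hom := by
    rw [← cancel_epi (Abelian.coimage.π φ), ← cancel_mono (Abelian.image.ι φ)]
    simp only [Category.assoc]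
    rw [Abelian.coimage_image_factorisation]
    change φ = cokernel.π (kernel.ι φ) ≫ a.hom ≫ b.hom ≫ kernel.ι (cokernel.π φ)
    rw [hb, reassoc_of% ha, fac]
  rw [this]
  infer_instance

end CoimageImage

section Abelian

variable {A : Type u} [Category.{v} A] [Abelian A] {D : Type u'} [Category.{v'} D]
  [Preadditive D] (L : A ⥤ D) (W : MorphismProperty A) [L.IsLocalization W] [L.Additive]
  [W.HasLeftCalculusOfFractions] [W.HasRightCalculusOfFractions]

include L W

lemma preservesCokernel {X Y : A} (f : X ⟶ Y) : PreservesColimit (parallelPair f 0) L := by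
  have h1 := isColimitMapCokernelCofork L W
    (c := CokernelCofork.ofπ (cokernel.π f) (cokernel.condition f)) (cokernelIsCokernel f)
  exact preservesColimit_of_preserves_colimit_cocone (cokernelIsCokernel f)
    ((isColimitMapCoconeCoforkEquiv' L (cokernel.condition f)).symm h1)

lemma preservesKernel {X Y : A} (f : X ⟶ Y) : PreservesLimit (parallelPair f 0) L := by
  have h1 := isLimitMapKernelFork L W
    (c := KernelFork.ofι (kernel.ι f) (kernel.condition f)) (kernelIsKernel f)
  exact preservesLimit_of_preserves_limit_cone (kernelIsKernel f)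
    ((isLimitMapConeForkEquiv' L (kernel.condition f)).symm h1)

lemma hasCokernels : HasCokernels D := ⟨fun {U V} φ => by
  have := Localization.essSurj_mapArrow L W
  let g := L.mapArrow.objPreimage (Arrow.mk φ)
  let e : L.mapArrow.obj g ≅ Arrow.mk φ := L.mapArrow.objObjPreimageIso (Arrow.mk φ)
  let eX : L.obj g.left ≅ U := Arrow.leftFunc.mapIso e
  let eY : L.obj g.right ≅ V := Arrow.rightFunc.mapIso e
  have H : eX.hom ≫ φ = L.map g.hom ≫ eY.hom := e.hom.w
  have w : φ ≫ eY.inv ≫ L.map (cokernel.π g.hom) = 0 := by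
    rw [← cancel_epi eX.hom, reassoc_of% H, Iso.hom_inv_id_assoc, ← L.map_comp,
      cokernel.condition, L.map_zero, comp_zero]
  exact ⟨⟨⟨CokernelCofork.ofπ (eY.inv ≫ L.map (cokernel.π g.hom)) w,
    IsCokernel.ofIso _ (isColimitMapCokernelCofork L W
      (c := CokernelCofork.ofπ (cokernel.π g.hom) (cokernel.condition g.hom))
      (cokernelIsCokernel g.hom)) _ eX eY (Iso.refl _) H (by simp)⟩⟩⟩⟩

lemma hasKernels : HasKernels D := ⟨fun {U V} φ => by
  have := Localization.essSurj_mapArrow L W
  let g := L.mapArrow.objPreimage (Arrow.mk φ)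
  let e : L.mapArrow.obj g ≅ Arrow.mk φ := L.mapArrow.objObjPreimageIso (Arrow.mk φ)
  let eX : L.obj g.left ≅ U := Arrow.leftFunc.mapIso e
  let eY : L.obj g.right ≅ V := Arrow.rightFunc.mapIso e
  have H : eX.hom ≫ φ = L.map g.hom ≫ eY.hom := e.hom.w
  have w : (L.map (kernel.ι g.hom) ≫ eX.hom) ≫ φ = 0 := by
    rw [Category.assoc, H, ← L.map_comp_assoc, kernel.condition, L.map_zero, zero_comp]
  exact ⟨⟨⟨KernelFork.ofι (L.map (kernel.ι g.hom) ≫ eX.hom) w,
    IsKernel.ofIso _ (isLimitMapKernelFork L W
      (c := KernelFork.ofι (kernel.ι g.hom) (kernel.condition g.hom))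
      (kernelIsKernel g.hom)) _ eX eY (Iso.refl _) H (by simp)⟩⟩⟩⟩

end Abelian

section Main

variable {A : Type u} [Category.{v} A] [Abelian A] {D : Type u'} [Category.{v'} D]
  (L : A ⥤ D) (W : MorphismProperty A) [L.IsLocalization W]
  [W.HasLeftCalculusOfFractions] [W.HasRightCalculusOfFractions]

include W in
/-- If `W` has left and right calculus of fractions in an abelian category `A`, then the localized
category is abelian and the localization functor is exact. -/
theorem abelian_of_localization :
    Nonempty (Abelian D) ∧ PreservesFiniteLimits L ∧ PreservesFiniteColimits L := by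
  letI : Preadditive D := Localization.preadditive L W
  haveI : L.Additive := Localization.functor_additive L W
  haveI : HasZeroObject D := L.hasZeroObject_of_additive
  haveI : L.EssSurj := Localization.essSurj L W
  haveI : ∀ {X Y : A} (f : X ⟶ Y), PreservesLimit (parallelPair f 0) L :=
    fun f => preservesKernel L W f
  haveI : ∀ {X Y : A} (f : X ⟶ Y), PreservesColimit (parallelPair f 0) L :=
    fun f => preservesCokernel L W f
  have hlim : PreservesFiniteLimits L := Functor.preservesFiniteLimits_of_preservesKernels L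
  have hcolim : PreservesFiniteColimits L :=
    Functor.preservesFiniteColimits_of_preservesCokernels L
  haveI : HasKernels D := hasKernels L W
  haveI : HasCokernels D := hasCokernels L W
  -- finite products in `D`
  haveI : HasFiniteProducts D := ⟨fun n => ⟨fun F => by
    let G : Discrete (Fin n) ⥤ A := Discrete.functor (fun j => L.objPreimage (F.obj ⟨j⟩))
    let iso : G ⋙ L ≅ F := Discrete.natIso (fun j => L.objObjPreimageIso (F.obj j))
    have : HasLimit (G ⋙ L) :=
      ⟨⟨⟨L.mapCone (limit.cone G), isLimitOfPreserves L (limit.isLimit G)⟩⟩⟩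
    exact hasLimit_of_iso iso⟩⟩
  -- the coimage-image comparison
  have hci₀ : ∀ {X Y : A} (g : X ⟶ Y), IsIso (Abelian.coimageImageComparison (L.map g)) := by
    intro X Y g
    have hw : kernel.ι g ≫ Abelian.factorThruImage g = 0 := by
      rw [← cancel_mono (Abelian.image.ι g), Category.assoc, Abelian.image.fac,
        kernel.condition, zero_comp]
    have hk : IsLimit (KernelFork.ofι (kernel.ι g) hw) :=
      isKernelOfComp (Abelian.image.ι g) g (kernelIsKernel g) hw (Abelian.image.fac g)
    have he₀ : IsColimit (CokernelCofork.ofπ (Abelian.factorThruImage g) hw) :=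
      Abelian.epiIsCokernelOfKernel (KernelFork.ofι (kernel.ι g) hw) hk
    exact isIso_coimageImageComparison_of_fac (L.map g)
      (L.map (kernel.ι g)) _
      (isLimitMapKernelFork L W (c := KernelFork.ofι (kernel.ι g) (kernel.condition g))
        (kernelIsKernel g))
      (L.map (cokernel.π g)) _
      (isColimitMapCokernelCofork L W
        (c := CokernelCofork.ofπ (cokernel.π g) (cokernel.condition g)) (cokernelIsCokernel g))
      (L.map (Abelian.factorThruImage g)) _
      (isColimitMapCokernelCofork L W
        (c := CokernelCofork.ofπ (Abelian.factorThruImage g) hw) he₀)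
      (L.map (Abelian.image.ι g)) _
      (isLimitMapKernelFork L W
        (c := KernelFork.ofι (Abelian.image.ι g) (kernel.condition (cokernel.π g)))
        (kernelIsKernel (cokernel.π g)))
      (by rw [← L.map_comp, Abelian.image.fac])
  have hci : ∀ {U V : D} (φ : U ⟶ V), IsIso (Abelian.coimageImageComparison φ) := by
    intro U V φ
    have := Localization.essSurj_mapArrow L W
    let g := L.mapArrow.objPreimage (Arrow.mk φ)
    let e : L.mapArrow.obj g ≅ Arrow.mk φ := L.mapArrow.objObjPreimageIso (Arrow.mk φ)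
    have e' := (Abelian.coimageImageComparisonFunctor (C := D)).mapIso e
    have h := hci₀ g.hom
    rw [← MorphismProperty.isomorphisms.iff] at h ⊢
    exact ((MorphismProperty.isomorphisms D).arrow_mk_iso_iff e').1 h
  exact ⟨⟨Abelian.ofCoimageImageComparisonIsIso⟩, hlim, hcolim⟩

end Main


end Groth.Agent.Lib.Helper13.LocAbelian
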