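import Groth.Agent.Lib.Helper13.ExtCompact
import Groth.Agent.Lib.Helper13.KInjDerAdj
import Mathlib.Algebra.Homology.HomotopyCategory.HomComplexSingle
import Mathlib.Algebra.Homology.DerivedCategory.KInjective

/-!
# Concrete exactness of `Hom(P, L^•)` and K-injective complexes (helper13)
-/

set_option autoImplicit false
universe w v v' u u'
open CategoryTheory CategoryTheory.Limits Opposite

namespace Groth.Agent.Lib.Helper13.LocDC1

open DerivedCategory CochainComplex.HomComplex

section Basic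

variable {A : Type u} [Category.{v} A] [Abelian A]

/-- Exactness of the complex of abelian groups `Hom(P, L^•)` in degree `n`, concretely. -/
def HomExact (P : A) (L : CochainComplex A ℤ) (n : ℤ) : Prop :=
  ∀ z : P ⟶ L.X n, z ≫ L.d n (n + 1) = 0 → ∃ y : P ⟶ L.X (n - 1), y ≫ L.d (n - 1) n = z

lemma homExact_of_iso {P P' : A} (e : P ≅ P') (L : CochainComplex A ℤ) (n : ℤ)
    (h : HomExact P L n) : HomExact P' L n := by
  intro z hz
  obtain ⟨y, hy⟩ := h (e.hom ≫ z) (by rw [Category.assoc, hz, comp_zero])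
  exact ⟨e.inv ≫ y, by rw [Category.assoc, hy, Iso.inv_hom_id_assoc]⟩

/-- Transport along an adjunction. -/
lemma homExact_adj_iff {B : Type u'} [Category.{v'} B] [Abelian B] {F : A ⥤ B} {G : B ⥤ A}
    (adj : F ⊣ G) [G.Additive] (P : A) (L : CochainComplex B ℤ) (n : ℤ) :
    HomExact P ((G.mapHomologicalComplex (ComplexShape.up ℤ)).obj L) n ↔
      HomExact (F.obj P) L n := by
  constructor
  · intro h z hz
    obtain ⟨y, hy⟩ := h (adj.homEquiv _ _ z) (by
      change adj.homEquiv _ _ z ≫ G.map (L.d n (n + 1)) = 0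
      rw [← Adjunction.homEquiv_naturality_right, hz, Adjunction.homEquiv_unit,
        Functor.map_zero, comp_zero])
    refine ⟨(adj.homEquiv _ _).symm y, ?_⟩
    apply (adj.homEquiv _ _).injective
    rw [Adjunction.homEquiv_naturality_right, Equiv.apply_symm_apply]
    exact hy
  · intro h z hz
    change P ⟶ G.obj (L.X n) at z
    change z ≫ G.map (L.d n (n + 1)) = 0 at hz
    obtain ⟨y, hy⟩ := h ((adj.homEquiv _ _).symm z) (by
      apply (adj.homEquiv _ _).injective
      rw [Adjunction.homEquiv_naturality_right, Equiv.apply_symm_apply, hz,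
        Adjunction.homEquiv_unit, Functor.map_zero, comp_zero])
    refine ⟨adj.homEquiv _ _ y, ?_⟩
    change adj.homEquiv _ _ y ≫ G.map (L.d (n - 1) n) = z
    rw [← Adjunction.homEquiv_naturality_right, hy, Equiv.apply_symm_apply]

/-- If `Hom(G, L^•)` is exact for all members of a separating family, `L` is acyclic. -/
lemma acyclic_of_homExact (𝒢 : A → Prop)
    (hsep : ∀ {X Y : A} (f g : X ⟶ Y), (∀ G, 𝒢 G → ∀ h : G ⟶ X, h ≫ f = h ≫ g) → f = g)
    (L : CochainComplex A ℤ) (h : ∀ G, 𝒢 G → ∀ n, HomExact G L n) : L.Acyclic := by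
  intro n
  rw [HomologicalComplex.exactAt_iff' L (n - 1) n (n + 1) (by simp) (by simp)]
  generalize hS : L.sc' (n - 1) n (n + 1) = S
  have hf : ∀ {G : A} (y : G ⟶ L.X (n - 1)) (z : G ⟶ L.X n), y ≫ L.d (n - 1) n = z →
      ∃ (y' : G ⟶ S.X₁) (z' : G ⟶ S.X₂), y' ≫ S.f = z' ∧ HEq z z' := by
    subst hS
    intro G y z hyz
    exact ⟨y, z, hyz, HEq.rfl⟩
  have hg' : ∀ {G : A} (z' : G ⟶ S.X₂), z' ≫ S.g = 0 →
      ∃ (z : G ⟶ L.X n), z ≫ L.d n (n + 1) = 0 ∧ HEq z z' := by
    subst hS
    intro G z' hz'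
    exact ⟨z', hz', HEq.rfl⟩
  rw [ShortComplex.exact_iff_epi_kernel_lift]
  constructor
  intro Y g₁ g₂ hg
  apply hsep
  intro G hG t
  obtain ⟨z, hz, hzz⟩ := hg' (t ≫ kernel.ι S.g) (by rw [Category.assoc, kernel.condition, comp_zero])
  obtain ⟨y, hy⟩ := h G hG n z hz
  obtain ⟨y', z', hyz', hzz'⟩ := hf y z hy
  have hz' : z' = t ≫ kernel.ι S.g := eq_of_heq (hzz'.symm.trans hzz)
  have e : t = y' ≫ kernel.lift S.g S.f S.zero := by
    rw [← cancel_mono (kernel.ι S.g), Category.assoc, kernel.lift_ι, hyz', hz']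
  rw [e]
  simp only [Category.assoc]
  exact congrArg (fun k => y' ≫ k) hg

/-- An acyclic K-injective complex has exact `Hom(P, -)` for all `P`. -/
lemma homExact_of_acyclic_of_isKInjective (L : CochainComplex A ℤ) [L.IsKInjective]
    (hL : L.Acyclic) (P : A) (n : ℤ) : HomExact P L n := by
  intro z hz
  have h : Homotopy (𝟙 L) 0 := CochainComplex.IsKInjective.homotopyZero (𝟙 L) hL
  have hc := h.comm n
  rw [dNext_eq h.hom (show (ComplexShape.up ℤ).Rel n (n + 1) from rfl),
    prevD_eq h.hom (show (ComplexShape.up ℤ).Rel (n - 1) n by simp)] at hc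
  refine ⟨z ≫ h.hom n (n - 1), ?_⟩
  have e2 : z ≫ (𝟙 L : L ⟶ L).f n = z := by simp
  rw [hc, Preadditive.comp_add, Preadditive.comp_add, reassoc_of% hz, zero_comp, zero_add,
    HomologicalComplex.zero_f, comp_zero, add_zero] at e2
  rw [Category.assoc]
  exact e2

end Basic

section Derived

variable {A : Type u} [Category.{v} A] [Abelian A] [HasDerivedCategory.{w} A]

/-- The chain map attached to a cycle. -/
noncomputable def cocHom {P : A} (L : CochainComplex A ℤ) (n : ℤ) (f : P ⟶ L.X n)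
    (hf : f ≫ L.d n (n + 1) = 0) :
    (CochainComplex.singleFunctor A 0).obj P ⟶ L⟦n⟧ :=
  Cocycle.equivHomShift.symm (Cocycle.fromSingleMk f (zero_add n) (n + 1) rfl hf)

/-- The class in the derived category of a cycle. -/
noncomputable def cocD {P : A} (L : CochainComplex A ℤ) (n : ℤ) (f : P ⟶ L.X n)
    (hf : f ≫ L.d n (n + 1) = 0) :
    Q.obj ((CochainComplex.singleFunctor A 0).obj P) ⟶
      (shiftFunctor (DerivedCategory A) n).obj (Q.obj L) :=
  Q.map (cocHom L n f hf) ≫ (Q.commShiftIso n).hom.app L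

lemma cocD_surjective (L : CochainComplex A ℤ) [L.IsKInjective] (n : ℤ) (P : A)
    (m : Q.obj ((CochainComplex.singleFunctor A 0).obj P) ⟶
      (shiftFunctor (DerivedCategory A) n).obj (Q.obj L)) :
    ∃ (f : P ⟶ L.X n) (hf : f ≫ L.d n (n + 1) = 0), cocD L n f hf = m := by
  let m' : Q.obj ((CochainComplex.singleFunctor A 0).obj P) ⟶ Q.obj (L⟦n⟧) :=
    m ≫ (Q.commShiftIso n).inv.app L
  obtain ⟨φ, hφ⟩ := Groth.Agent.Lib.Helper13.ExtCompact.exists_Q_map_eq_of_isKInjective _ _ m'
  obtain ⟨f, hf, hα⟩ := Cocycle.fromSingleMk_surjective (Cocycle.equivHomShift φ) n (zero_add n)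
    (n + 1) rfl
  refine ⟨f, hf, ?_⟩
  have e : cocHom L n f hf = φ := by
    dsimp only [cocHom]
    rw [hα, AddEquiv.symm_apply_apply]
  dsimp only [cocD]
  rw [e, hφ]
  dsimp only [m']
  rw [Category.assoc, Iso.inv_hom_id_app]
  exact Category.comp_id m

lemma Q_map_eq_Qh_map {K L : CochainComplex A ℤ} (φ : K ⟶ L) :
    Q.map φ = Qh.map ((HomotopyCategory.quotient A (ComplexShape.up ℤ)).map φ) := rfl

lemma cocD_eq_zero_iff (L : CochainComplex A ℤ) [L.IsKInjective] (n : ℤ)
    {P : A} (f : P ⟶ L.X n) (hf : f ≫ L.d n (n + 1) = 0) :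
    cocD L n f hf = 0 ↔ ∃ g : P ⟶ L.X (n - 1), g ≫ L.d (n - 1) n = f := by
  rw [← Cocycle.fromSingleMk_mem_coboundaries_iff f (zero_add n) (n + 1) rfl hf (n - 1) (by omega),
    ← CohomologyClass.toHom_mk_eq_zero_iff, CohomologyClass.toHom_mk]
  have h1 : cocD L n f hf = 0 ↔ Q.map (cocHom L n f hf) = 0 := by
    dsimp only [cocD]
    constructor
    · intro h
      rw [← cancel_mono ((Q.commShiftIso n).hom.app L), h, zero_comp]
    · intro h
      rw [h, zero_comp]
  rw [h1, Q_map_eq_Qh_map]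
  constructor
  · intro h
    apply (CochainComplex.IsKInjective.Qh_map_bijective _ (L⟦n⟧)).1
    rw [Functor.map_zero]
    exact h
  · intro h
    have : (HomotopyCategory.quotient _ (ComplexShape.up ℤ)).map (cocHom L n f hf) = 0 := h
    rw [this, Functor.map_zero]
    rfl

/-- For a K-injective complex `L`: all maps `P[0] ⟶ L[n]` in the derived category vanish iff
`Hom(P, L^•)` is exact in degree `n`. -/
theorem subsingleton_iff_homExact (L : CochainComplex A ℤ) [L.IsKInjective] (n : ℤ) (P : A) :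
    Subsingleton ((DerivedCategory.singleFunctor A 0).obj P ⟶
      (shiftFunctor (DerivedCategory A) n).obj (Q.obj L)) ↔ HomExact P L n := by
  constructor
  · intro hs z hz
    have : cocD L n z hz = 0 := by
      have := hs
      exact Subsingleton.elim (α := (DerivedCategory.singleFunctor A 0).obj P ⟶
        (shiftFunctor (DerivedCategory A) n).obj (Q.obj L)) _ _
    exact (cocD_eq_zero_iff L n z hz).1 this
  · intro h
    refine ⟨fun a b => ?_⟩
    have key : ∀ m : (DerivedCategory.singleFunctor A 0).obj P ⟶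
        (shiftFunctor (DerivedCategory A) n).obj (Q.obj L), m = 0 := by
      intro m
      obtain ⟨f, hf, rfl⟩ := cocD_surjective L n P m
      exact (cocD_eq_zero_iff L n f hf).2 (h f hf)
    rw [key a, key b]

/-- Version for an object isomorphic to `Q.obj L`. -/
theorem subsingleton_iff_homExact' (L : CochainComplex A ℤ) [L.IsKInjective]
    {K : DerivedCategory A} (e : Q.obj L ≅ K) (n : ℤ) (P : A) :
    Subsingleton ((DerivedCategory.singleFunctor A 0).obj P ⟶
      (shiftFunctor (DerivedCategory A) n).obj K) ↔ HomExact P L n := by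
  rw [← subsingleton_iff_homExact L n P]
  let E : ((DerivedCategory.singleFunctor A 0).obj P ⟶
      (shiftFunctor (DerivedCategory A) n).obj K) ≃
      ((DerivedCategory.singleFunctor A 0).obj P ⟶
      (shiftFunctor (DerivedCategory A) n).obj (Q.obj L)) :=
    ((Iso.refl _).homCongr ((shiftFunctor (DerivedCategory A) n).mapIso e.symm))
  exact ⟨fun h => E.symm.subsingleton, fun h => E.subsingleton⟩

end Derived

end Groth.Agent.Lib.Helper13.LocDC1
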