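import Groth.Agent.Lib.Helper13.LocDC1
import Groth.Agent.Lib.Helper13.BousDerComp
import Groth.Agent.Lib.Helper89.HocolimAb
import Groth.Agent.Lib.Helper42.ModSiteLib
import Groth.Agent.Lib.Helper42.ExtZero
import Groth.Agent.Lib.Helper45.QcSum4
import Groth.Prelude.Def_DerComp

/-!
# Localisation at a global section on a ringed site: exact functor with right adjoint (helper13)
-/

set_option autoImplicit false
universe u
open CategoryTheory CategoryTheory.Limits Opposite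

namespace Groth.Agent.Lib.Helper13.LocDC2

open DerComp ModSite Groth.Agent.Lib.Helper13.LocDC1 Groth.Agent.Lib.Helper42.ModSiteLib

variable {C : Type u} [SmallCategory C] {J : GrothendieckTopology C} {O : Sheaf J CommRingCat.{u}}

section LocF

variable (s : GSec O)

/-- The sequence `A →s A →s A → …` as a functor of `A`. -/
noncomputable def seqF : Mod O ⥤ (ℕ ⥤ Mod O) where
  obj A := Functor.ofSequence (X := fun _ => A) (fun _ => smulEnd s A)
  map {A B} φ := NatTrans.ofSequence (fun _ => φ) (by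
    intro n
    rw [Functor.ofSequence_map_homOfLE_succ, Functor.ofSequence_map_homOfLE_succ]
    exact smulEnd_comm s φ)
  map_id A := by ext n; rfl
  map_comp φ ψ := by ext n; rfl

noncomputable def evIso (k : ℕ) : seqF s ⋙ (evaluation ℕ (Mod O)).obj k ≅ 𝟭 _ :=
  NatIso.ofComponents (fun A => Iso.refl _) (by
    intro A B φ
    exact (Category.comp_id φ).trans (Category.id_comp φ).symm)

instance hasExactColimitsOfShape_nat : HasExactColimitsOfShape ℕ (Mod O) := by
  have h0 : AB5OfSize.{0, 0} (Mod O) := AB5OfSize_of_univLE.{0, 0, u, u} _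
  exact AB5OfSize.ofShape ℕ

instance : PreservesFiniteLimits (seqF s) :=
  preservesFiniteLimits_of_evaluation _ (fun k => preservesFiniteLimits_of_natIso (evIso s k).symm)

instance : PreservesColimitsOfSize.{u, u} (seqF s) :=
  preservesColimits_of_evaluation _ (fun k => preservesColimits_of_natIso (evIso s k).symm)

/-- The localisation functor `A ↦ colim (A →s A →s …)`. -/
noncomputable def locF : Mod O ⥤ Mod O := seqF s ⋙ colim

instance : PreservesFiniteLimits (locF s) := by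
  unfold locF
  infer_instance

instance : PreservesColimitsOfSize.{u, u} (locF s) := by
  unfold locF
  infer_instance

instance : PreservesFiniteColimits (locF s) := PreservesColimitsOfSize.preservesFiniteColimits _

instance : (locF s).Additive :=
  Groth.Agent.Lib.Helper42.Snake.additive_of_preservesFiniteColimits _

instance : (locF s).IsLeftAdjoint := by
  have hs := isSeparator_separator (Mod O)
  have : WellPowered.{u} (Mod O) := inferInstance
  have : WellPowered.{u} (Mod O)ᵒᵖ := inferInstance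
  exact isLeftAdjoint_of_preservesColimits_of_isSeparating
    (P := ObjectProperty.singleton (separator (Mod O))) (by rwa [IsSeparator] at hs) (locF s)

/-- The right adjoint of localisation. -/
noncomputable def locG : Mod O ⥤ Mod O := (locF s).rightAdjoint

noncomputable def locAdj : locF s ⊣ locG s := Adjunction.ofIsLeftAdjoint (locF s)

instance : (locG s).Additive := (locAdj s).right_adjoint_additive

/-- The presentation of `locF s P` as a cokernel of `1 - shift`. -/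
lemma exists_presentation (P : Mod O) :
    ∃ (S : Mod O) (j : ℕ → (P ⟶ S)) (a : S ⟶ S) (π' : S ⟶ (locF s).obj P),
      (∀ k, j k ≫ a = j k - smulEnd s P ≫ j (k + 1)) ∧
      (∀ {N : Mod O} (φ : ℕ → (P ⟶ N)), ∃ ψ : S ⟶ N, ∀ k, j k ≫ ψ = φ k) ∧
      (∀ {N : Mod O} (ψ ψ' : S ⟶ N), (∀ k, j k ≫ ψ = j k ≫ ψ') → ψ = ψ') ∧
      a ≫ π' = 0 ∧ Epi π' ∧
      ∀ {N : Mod O} (ψ : S ⟶ N), a ≫ ψ = 0 → ∃ χ : (locF s).obj P ⟶ N, π' ≫ χ = ψ := by
  obtain ⟨w, hS⟩ := Groth.Agent.Lib.Helper89.HocolimAb.shortExact_one_sub_shift ((seqF s).obj P)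
  refine ⟨∐ ((seqF s).obj P).obj, fun k => Sigma.ι ((seqF s).obj P).obj k, _, _, ?_, ?_, ?_, w,
    hS.epi_g, ?_⟩
  · intro k
    have h1 := Groth.Agent.Lib.Helper89.HocolimSubseq.ι_uS ((seqF s).obj P) k
    rw [Groth.Agent.Lib.Helper89.HocolimSubseq.tr_of_le ((seqF s).obj P) (Nat.le_succ k)] at h1
    have h2 : ((seqF s).obj P).map (homOfLE (Nat.le_succ k)) = smulEnd s P :=
      Functor.ofSequence_map_homOfLE_succ _ k
    rw [h2] at h1
    exact h1
  · intro N φ
    exact ⟨Sigma.desc φ, fun k => Sigma.ι_desc φ k⟩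
  · intro N ψ ψ' h
    exact Sigma.hom_ext _ _ (fun k => h k)
  · intro N ψ hψ
    have := hS.epi_g
    have hc := hS.exact.gIsCokernel
    exact ⟨(CokernelCofork.IsColimit.desc' hc ψ hψ).1, (CokernelCofork.IsColimit.desc' hc ψ hψ).2⟩

end LocF

section Sec

/-- Concrete exactness for sequences of sections compatible with multiplication by `r`. -/
def SecExact (L : CochainComplex (Mod O) ℤ) (X₀ : C) (r : (ringSh O).obj.obj (op X₀)) (m : ℤ) :
    Prop :=
  ∀ x : ℕ → (L.X m).val.obj (op X₀), (∀ k, x k = r • x (k + 1)) →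
    (∀ k, (L.d m (m + 1)).val.app (op X₀) (x k) = 0) →
    ∃ y : ℕ → (L.X (m - 1)).val.obj (op X₀), (∀ k, y k = r • y (k + 1)) ∧
      ∀ k, (L.d (m - 1) m).val.app (op X₀) (y k) = x k

lemma freeOnHomEquiv_zero (X₀ : C) (N : Mod O) : freeOnHomEquiv O X₀ N 0 = 0 :=
  (Groth.Agent.Lib.Helper45.QcSum.freeOnAddEquiv O X₀ N).map_zero

theorem homExact_iff_secExact {X₀ : C} {S E : Mod O} (j : ℕ → (freeOn O X₀ ⟶ S)) (a : S ⟶ S)
    (π' : S ⟶ E) (μ : freeOn O X₀ ⟶ freeOn O X₀) (r : (ringSh O).obj.obj (op X₀))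
    (hμ : ∀ {N : Mod O} (φ : freeOn O X₀ ⟶ N),
      freeOnHomEquiv O X₀ N (μ ≫ φ) = r • freeOnHomEquiv O X₀ N φ)
    (hja : ∀ k, j k ≫ a = j k - μ ≫ j (k + 1))
    (hS_desc : ∀ {N : Mod O} (φ : ℕ → (freeOn O X₀ ⟶ N)), ∃ ψ : S ⟶ N, ∀ k, j k ≫ ψ = φ k)
    (hS_ext : ∀ {N : Mod O} (ψ ψ' : S ⟶ N), (∀ k, j k ≫ ψ = j k ≫ ψ') → ψ = ψ')
    (hw : a ≫ π' = 0)
    (hE_desc : ∀ {N : Mod O} (ψ : S ⟶ N), a ≫ ψ = 0 → ∃ χ : E ⟶ N, π' ≫ χ = ψ)
    (hE_epi : Epi π')
    (L : CochainComplex (Mod O) ℤ) (m : ℤ) :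
    HomExact E L m ↔ SecExact L X₀ r m := by
  have fam_comp : ∀ {N N' : Mod O} (ψ : E ⟶ N) (g : N ⟶ N') (k : ℕ),
      freeOnHomEquiv O X₀ N' (j k ≫ π' ≫ ψ ≫ g) =
        g.val.app (op X₀) (freeOnHomEquiv O X₀ N (j k ≫ π' ≫ ψ)) := by
    intro N N' ψ g k
    have := freeOnHomEquiv_comp O X₀ (j k ≫ π' ≫ ψ) g
    simpa only [Category.assoc] using this
  have fam_rec : ∀ {N : Mod O} (ψ : E ⟶ N) (k : ℕ),
      freeOnHomEquiv O X₀ N (j k ≫ π' ≫ ψ) =
        r • freeOnHomEquiv O X₀ N (j (k + 1) ≫ π' ≫ ψ) := by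
    intro N ψ k
    rw [← hμ]
    congr 1
    have h0 : (j k ≫ a) ≫ π' ≫ ψ = 0 := by
      rw [Category.assoc, reassoc_of% hw, zero_comp, comp_zero]
    rw [hja, Preadditive.sub_comp, sub_eq_zero, Category.assoc] at h0
    exact h0
  have fam_inj : ∀ {N : Mod O} (ψ ψ' : E ⟶ N),
      (∀ k, freeOnHomEquiv O X₀ N (j k ≫ π' ≫ ψ) = freeOnHomEquiv O X₀ N (j k ≫ π' ≫ ψ')) →
        ψ = ψ' := by
    intro N ψ ψ' h
    rw [← cancel_epi π']
    apply hS_ext
    intro k
    exact (freeOnHomEquiv O X₀ N).injective (h k)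
  have desc : ∀ {N : Mod O} (x : ℕ → N.val.obj (op X₀)), (∀ k, x k = r • x (k + 1)) →
      ∃ ψ : E ⟶ N, ∀ k, freeOnHomEquiv O X₀ N (j k ≫ π' ≫ ψ) = x k := by
    intro N x hx
    obtain ⟨ψ₀, hψ₀⟩ := hS_desc (fun k => (freeOnHomEquiv O X₀ N).symm (x k))
    have h0 : a ≫ ψ₀ = 0 := by
      apply hS_ext
      intro k
      rw [comp_zero, ← Category.assoc, hja, Preadditive.sub_comp, Category.assoc, hψ₀, hψ₀,
        sub_eq_zero]
      apply (freeOnHomEquiv O X₀ N).injective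
      rw [hμ, Equiv.apply_symm_apply, Equiv.apply_symm_apply]
      exact hx k
    obtain ⟨χ, hχ⟩ := hE_desc ψ₀ h0
    refine ⟨χ, fun k => ?_⟩
    rw [hχ, hψ₀, Equiv.apply_symm_apply]
  constructor
  · intro h x hx hdx
    obtain ⟨z, hz⟩ := desc x hx
    have hzd : z ≫ L.d m (m + 1) = 0 := by
      apply fam_inj
      intro k
      rw [fam_comp, hz, hdx, comp_zero, comp_zero, freeOnHomEquiv_zero]
    obtain ⟨y, hy⟩ := h z hzd
    refine ⟨fun k => freeOnHomEquiv O X₀ _ (j k ≫ π' ≫ y), fun k => fam_rec y k, fun k => ?_⟩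
    rw [← fam_comp, hy, hz]
  · intro h z hzd
    obtain ⟨y, hy, hyd⟩ := h (fun k => freeOnHomEquiv O X₀ _ (j k ≫ π' ≫ z))
      (fun k => fam_rec z k) (fun k => by
        rw [← fam_comp, hzd, comp_zero, comp_zero, freeOnHomEquiv_zero])
    obtain ⟨χ, hχ⟩ := desc y hy
    refine ⟨χ, ?_⟩
    apply fam_inj
    intro k
    rw [fam_comp, hχ, hyd]

end Sec

end Groth.Agent.Lib.Helper13.LocDC2
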