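import Groth.Agent.Lib.Helper13.LocDC2

/-!
# Derived completeness is local on a ringed space (helper13)
-/

set_option autoImplicit false
universe u
open CategoryTheory CategoryTheory.Limits Opposite
attribute [local instance] HasDerivedCategory.standard

namespace Groth.Agent.Lib.Helper13.LocDC3

open DerComp ModSite Groth.Agent.Lib.Helper13.LocDC1 Groth.Agent.Lib.Helper13.LocDC2
  Groth.Agent.Lib.Helper42.ModSiteLib

variable {C : Type u} [SmallCategory C] {J : GrothendieckTopology C} (O : Sheaf J CommRingCat.{u})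

section App2

/-- `Hom(locF s (freeOn X₀), L^•)` in terms of sections. -/
theorem homExact_locF_iff (s : GSec O) (X₀ : C) (L : CochainComplex (Mod O) ℤ) (m : ℤ) :
    HomExact ((locF s).obj (freeOn O X₀)) L m ↔ SecExact L X₀ (GSec.val' s (op X₀)) m := by
  obtain ⟨S, j, a, π', hja, hS_desc, hS_ext, hw, hepi, hE_desc⟩ :=
    exists_presentation s (freeOn O X₀)
  refine homExact_iff_secExact j a π' (smulEnd s (freeOn O X₀)) (GSec.val' s (op X₀)) ?_ hja
    hS_desc hS_ext hw hE_desc hepi L m
  intro N φ
  rw [smulEnd_comm, freeOnHomEquiv_comp]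
  rfl

end App2

section App1

variable (V : C) (f : O.obj.obj (op V))

lemma restrSectionsEquiv_sectionsMap_smulEnd (N : Mod O) (t : ((restr O V).obj N).sections) :
    restrSectionsEquiv O V N
        (SheafOfModules.sectionsMap (smulEnd (GSec.ofSect O V f) ((restr O V).obj N)) t) =
      (show (ringSh O).obj.obj (op V) from f) • restrSectionsEquiv O V N t := by
  have hf : (O.obj.map (𝟙 V).op).hom f = f := by
    rw [op_id, O.obj.map_id]
    rfl
  change (show (ringSh O).obj.obj (op V) from (O.obj.map (𝟙 V).op).hom f) •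
    (restrSectionsEquiv O V N t) = _
  rw [hf]

lemma hμ_extZero {N : Mod O} (φ : freeOn O V ⟶ N) :
    freeOnHomEquiv O V N ((extZero O V).map (smulEnd (GSec.ofSect O V f) (ModSite.unit (O.over V))) ≫ φ) =
      (show (ringSh O).obj.obj (op V) from f) • freeOnHomEquiv O V N φ := by
  unfold freeOnHomEquiv
  simp only [Equiv.trans_apply]
  rw [Adjunction.homEquiv_naturality_left, smulEnd_comm, SheafOfModules.unitHomEquiv_comp_apply]
  exact restrSectionsEquiv_sectionsMap_smulEnd O V f N _

/-- `Hom(j_! O_{V,f}, L^•)` in terms of sections. -/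
theorem homExact_extZero_awayOver_iff (L : CochainComplex (Mod O) ℤ) (m : ℤ) :
    HomExact ((extZero O V).obj (awayOver O V f)) L m ↔
      SecExact L V (show (ringSh O).obj.obj (op V) from f) m := by
  let s := GSec.ofSect O V f
  let G := extZero O V
  let adj := extZeroAdj O V
  let un := ModSite.unit (O.over V)
  have : Functor.PreservesEpimorphisms G := Functor.preservesEpimorphisms_of_adjunction adj
  refine homExact_iff_secExact (S := G.obj (∐ fun _ : ℕ => un))
    (fun k => G.map (Sigma.ι (fun _ : ℕ => un) k)) (G.map (awayMap s un))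
    (G.map (cokernel.π (awayMap s un))) (G.map (smulEnd s un)) _ (fun φ => hμ_extZero O V f φ)
    ?_ ?_ ?_ ?_ ?_ inferInstance L m
  · intro k
    rw [← G.map_comp, awayMap, Sigma.ι_desc, Functor.map_sub, Functor.map_comp]
  · intro N φ
    refine ⟨(adj.homEquiv _ _).symm (Sigma.desc fun k => adj.homEquiv _ _ (φ k)), fun k => ?_⟩
    rw [← Adjunction.homEquiv_naturality_left_symm, Sigma.ι_desc, Equiv.symm_apply_apply]
  · intro N ψ ψ' h
    apply (adj.homEquiv _ _).injective
    apply Sigma.hom_ext
    intro k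
    rw [← Adjunction.homEquiv_naturality_left, ← Adjunction.homEquiv_naturality_left]
    exact congrArg _ (h k)
  · rw [← G.map_comp, cokernel.condition, Functor.map_zero]
  · intro N ψ hψ
    have h0 : awayMap s un ≫ adj.homEquiv _ _ ψ = 0 := by
      rw [← Adjunction.homEquiv_naturality_left, hψ, Adjunction.homEquiv_unit, Functor.map_zero,
        comp_zero]
    refine ⟨(adj.homEquiv _ _).symm (cokernel.desc _ _ h0), ?_⟩
    rw [← Adjunction.homEquiv_naturality_left_symm, cokernel.π_desc, Equiv.symm_apply_apply]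

end App1

section Bridge

instance (W : C) : (restr O W).Additive := (extZeroAdj O W).right_adjoint_additive

lemma secExact_restr_iff (W : C) (f : O.obj.obj (op W)) (I : CochainComplex (Mod O) ℤ)
    (V' : Over W) (m : ℤ) :
    SecExact (((restr O W).mapHomologicalComplex (ComplexShape.up ℤ)).obj I) V'
        (GSec.val' (GSec.ofSect O W f) (op V')) m ↔
      SecExact I V'.left
        (show (ringSh O).obj.obj (op V'.left) from (O.obj.map V'.hom.op).hom f) m :=
  Iff.rfl

end Bridge

end Groth.Agent.Lib.Helper13.LocDC3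

namespace Groth.Agent.Lib.Helper13.LocDC3

open DerComp ModSite Groth.Agent.Lib.Helper13.LocDC1 Groth.Agent.Lib.Helper13.LocDC2
  Groth.Agent.Lib.Helper42.ModSiteLib Groth.Agent.Lib.Helper45.QcSum TopologicalSpace

section Space

variable {X : Type u} [TopologicalSpace X]
  (O : Sheaf (Opens.grothendieckTopology X) CommRingCat.{u}) {ι : Type u} (U : ι → Opens X)
  (hU : iSup U = ⊤) (W : Opens X)

/-- The free modules on the small opens of `W`. -/
def Gen : Mod (O.over W) → Prop :=
  fun P => ∃ V' : Over W, (∃ i, V'.left ≤ U i) ∧ P = freeOn (O.over W) V'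

include hU in
lemma sep {M N : Mod (O.over W)} (φ ψ : M ⟶ N)
    (h : ∀ G, Gen O U W G → ∀ t : G ⟶ M, t ≫ φ = t ≫ ψ) : φ = ψ := by
  apply SheafOfModules.hom_ext
  apply PresheafOfModules.hom_ext
  intro Y
  ext x
  let T : Sieve Y.unop.left :=
    { arrows := fun Z _ => ∃ i, Z ≤ U i
      downward_closed := by
        rintro Z Z' g ⟨i, hi⟩ g'
        exact ⟨i, (leOfHom g').trans hi⟩ }
  have hT : T ∈ Opens.grothendieckTopology X Y.unop.left := by
    intro y hy
    obtain ⟨i, hi⟩ := Opens.mem_iSup.1 (show y ∈ iSup U by rw [hU]; trivial)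
    exact ⟨Y.unop.left ⊓ U i, homOfLE inf_le_left, ⟨i, inf_le_right⟩, ⟨hy, hi⟩⟩
  have hcov := (Opens.grothendieckTopology X).overEquiv_symm_mem_over Y.unop T hT
  refine N.isSheaf.isSeparated _ _ hcov _ _ ?_
  intro Z a ha
  rw [Sieve.overEquiv_symm_iff] at ha
  obtain ⟨i, hi⟩ := ha
  have h1 := h (freeOn (O.over W) Z) ⟨Z, ⟨i, hi⟩, rfl⟩ (ofSec (O.over W) (M.val.map a.op x))
  rw [ofSec_comp, ofSec_comp] at h1
  have h2 := ofSec_injective (O.over W) h1
  have n1 := PresheafOfModules.naturality_apply φ.val a.op x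
  have n2 := PresheafOfModules.naturality_apply ψ.val a.op x
  exact n1.symm.trans (h2.trans n2)

include hU in
/-- Derived completeness can be checked locally on a ringed space. -/
theorem isDerComp_of_local (I : IdealSh O) (K : DerivedCategory (Mod O))
    (h : ∀ (i : ι) (V : Opens X), V ≤ U i → ∀ (f : O.obj.obj (op V)), f ∈ I.ideal V → ∀ n : ℤ,
      Subsingleton (SiteCmp.inD O ((extZero O V).obj (awayOver O V f)) ⟶ K⟦n⟧)) :
    IsDerComp O I K := by
  intro W f hf n
  obtain ⟨Ic, hIc, ⟨e⟩⟩ := Groth.Agent.Lib.Helper13.KInjDerAdj.exists_kInj K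
  rw [subsingleton_iff_homExact' Ic e n, homExact_extZero_awayOver_iff]
  let s := GSec.ofSect O W f
  have hfl : PreservesFiniteLimits (extZero O W) :=
    Groth.Agent.Lib.Helper42.ExtZero.extZero_preservesFiniteLimits O W
  let IW : CochainComplex (Mod (O.over W)) ℤ :=
    ((restr O W).mapHomologicalComplex (ComplexShape.up ℤ)).obj Ic
  have hIW : CochainComplex.IsKInjective IW :=
    Groth.Agent.Lib.Helper13.KInjDerAdj.isKInjective_map (extZeroAdj O W) Ic
  let T : CochainComplex (Mod (O.over W)) ℤ :=
    ((locG s).mapHomologicalComplex (ComplexShape.up ℤ)).obj IW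
  have hT : CochainComplex.IsKInjective T := Groth.Agent.Lib.Helper13.KInjDerAdj.isKInjective_map (locAdj s) IW
  have hloc : ∀ (V' : Over W), (∃ i, V'.left ≤ U i) → ∀ m, HomExact (freeOn (O.over W) V') T m := by
    rintro V' ⟨i, hi⟩ m
    rw [homExact_adj_iff (locAdj s), homExact_locF_iff, secExact_restr_iff,
      ← homExact_extZero_awayOver_iff, ← subsingleton_iff_homExact' Ic e m]
    exact h i V'.left hi _ (I.map_mem V'.hom hf) m
  have hac : T.Acyclic := acyclic_of_homExact (Gen O U W) (sep O U hU W) T (by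
    rintro G ⟨V', hV', rfl⟩ m
    exact hloc V' hV' m)
  have hfin := homExact_of_acyclic_of_isKInjective T hac (freeOn (O.over W) (Over.mk (𝟙 W))) n
  rw [homExact_adj_iff (locAdj s), homExact_locF_iff, secExact_restr_iff] at hfin
  have hid : (O.obj.map (𝟙 W).op).hom f = f := by
    rw [op_id, O.obj.map_id]
    rfl
  have key : ∀ r r' : (ringSh O).obj.obj (op W), r = r' → SecExact Ic W r n → SecExact Ic W r' n := by
    rintro r _ rfl h
    exact h
  exact key _ _ hid hfin

end Space

end Groth.Agent.Lib.Helper13.LocDC3
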