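import Mathlib

/-!
# Localisation at a natural endomorphism of the identity in an AB5 category (helper13)

A "natural endomorphism" is a family `v X : X ⟶ X` commuting with all morphisms.  For such `v` and
`M : 𝒮`, `Lv v M = colim (M →v M →v …)`.  We show that `v` acts invertibly on `Lv v M`, that the
canonical map is invertible if `v` is invertible on `M`, and that, if `w = v + v'` is invertible
on `M`, then `v'` is invertible on the kernel and the cokernel of the canonical map to `Lv v M`.
-/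

set_option autoImplicit false
universe v₁ u₁
open CategoryTheory CategoryTheory.Limits

namespace Groth.Agent.Lib.Helper13.LocDC4

/-- Naturality of a family of endomorphisms. -/
def IsNat {𝒯 : Type*} [Category 𝒯] (W : ∀ X : 𝒯, X ⟶ X) : Prop :=
  ∀ {A B : 𝒯} (f : A ⟶ B), f ≫ W B = W A ≫ f

section KL

variable {𝒯 : Type*} [Category 𝒯] [Abelian 𝒯] (W : ∀ X : 𝒯, X ⟶ X) (hW : IsNat W)

include hW in
lemma isIso_app_of_iso {A B : 𝒯} (e : A ≅ B) [IsIso (W A)] : IsIso (W B) := by
  have : W B = e.inv ≫ W A ≫ e.hom := by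
    rw [← hW e.hom, Iso.inv_hom_id_assoc]
  rw [this]
  infer_instance

include hW in
lemma isIso_app_kernel {A B : 𝒯} (f : A ⟶ B) [IsIso (W A)] [IsIso (W B)] :
    IsIso (W (kernel f)) := by
  have h1 : inv (W A) ≫ f = f ≫ inv (W B) := by
    rw [IsIso.inv_comp_eq, ← Category.assoc, IsIso.eq_comp_inv]
    exact hW f
  refine ⟨kernel.lift f (kernel.ι f ≫ inv (W A)) (by
    rw [Category.assoc, h1, kernel.condition_assoc, zero_comp]), ?_, ?_⟩
  · rw [← cancel_mono (kernel.ι f), Category.assoc, kernel.lift_ι, ← Category.assoc,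
      ← hW (kernel.ι f), Category.assoc, IsIso.hom_inv_id, Category.comp_id, Category.id_comp]
  · rw [← cancel_mono (kernel.ι f), Category.assoc, ← hW (kernel.ι f), ← Category.assoc,
      kernel.lift_ι, Category.assoc, IsIso.inv_hom_id, Category.comp_id, Category.id_comp]

include hW in
lemma isIso_app_cokernel {A B : 𝒯} (f : A ⟶ B) [IsIso (W A)] [IsIso (W B)] :
    IsIso (W (cokernel f)) := by
  have h1 : inv (W A) ≫ f = f ≫ inv (W B) := by
    rw [IsIso.inv_comp_eq, ← Category.assoc, IsIso.eq_comp_inv]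
    exact hW f
  refine ⟨cokernel.desc f (inv (W B) ≫ cokernel.π f) (by
    rw [← Category.assoc, ← h1, Category.assoc, cokernel.condition, comp_zero]), ?_, ?_⟩
  · rw [← cancel_epi (cokernel.π f), ← Category.assoc, hW (cokernel.π f), Category.assoc,
      cokernel.π_desc, IsIso.hom_inv_id_assoc, Category.comp_id]
  · rw [← cancel_epi (cokernel.π f), ← Category.assoc, cokernel.π_desc, Category.assoc,
      hW (cokernel.π f), IsIso.inv_hom_id_assoc, Category.comp_id]

end KL

variable {𝒮 : Type u₁} [Category.{v₁} 𝒮] [Abelian 𝒮] [HasColimitsOfShape ℕ 𝒮]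
  [HasExactColimitsOfShape ℕ 𝒮]

/-- A natural family of endomorphisms of `𝒮` induces one of `ℕ ⥤ 𝒮`. -/
def liftNat (u : ∀ X : 𝒮, X ⟶ X) (hu : IsNat u) : ∀ G : ℕ ⥤ 𝒮, G ⟶ G := fun G =>
  { app := fun n => u (G.obj n)
    naturality := fun _ _ f => hu (G.map f) }

lemma isNat_liftNat (u : ∀ X : 𝒮, X ⟶ X) (hu : IsNat u) : IsNat (liftNat u hu) := by
  intro G G' φ
  ext n
  exact hu (φ.app n)

lemma app_colimit (u : ∀ X : 𝒮, X ⟶ X) (hu : IsNat u) (G : ℕ ⥤ 𝒮) :
    u (colimit G) = colim.map (liftNat u hu G) := by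
  apply colimit.hom_ext
  intro n
  rw [hu (colimit.ι G n)]
  simp [liftNat]

lemma isIso_app_colimit (u : ∀ X : 𝒮, X ⟶ X) (hu : IsNat u) (G : ℕ ⥤ 𝒮)
    (h : ∀ n, IsIso (u (G.obj n))) : IsIso (u (colimit G)) := by
  rw [app_colimit u hu]
  have : IsIso (liftNat u hu G) := by
    have : ∀ n, IsIso ((liftNat u hu G).app n) := h
    exact NatIso.isIso_of_isIso_app _
  infer_instance

variable (v : ∀ X : 𝒮, X ⟶ X) (hv : IsNat v)

/-- Powers of `v` on `M`. -/
def vpow (M : 𝒮) : ℕ → (M ⟶ M)
  | 0 => 𝟙 M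
  | k + 1 => vpow M k ≫ v M

lemma vpow_zero (M : 𝒮) : vpow v M 0 = 𝟙 M := rfl

lemma vpow_succ (M : 𝒮) (k : ℕ) : vpow v M (k + 1) = vpow v M k ≫ v M := rfl

include hv in
lemma vpow_nat {X Y : 𝒮} (g : X ⟶ Y) (k : ℕ) : vpow v X k ≫ g = g ≫ vpow v Y k := by
  induction k with
  | zero => simp [vpow_zero]
  | succ k ih =>
    rw [vpow_succ, vpow_succ, Category.assoc, ← hv g, ← Category.assoc, ih, Category.assoc]

/-- `v M` as an element of the endomorphism ring. -/
def vE (M : 𝒮) : End M := v M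

lemma vpow_eq_pow (M : 𝒮) (k : ℕ) : vpow v M k = (vE v M ^ k : End M) := by
  induction k with
  | zero => rfl
  | succ k ih =>
    rw [vpow_succ, pow_succ', End.mul_def, ih]
    rfl

/-- The sequence `M →v M →v …`. -/
def seq (M : 𝒮) : ℕ ⥤ 𝒮 := Functor.ofSequence (X := fun _ => M) (fun _ => v M)

lemma seq_map_succ (M : 𝒮) (n : ℕ) : (seq v M).map (homOfLE (n.le_add_right 1)) = v M :=
  Functor.ofSequence_map_homOfLE_succ _ n

/-- The localisation. -/
noncomputable def Lv (M : 𝒮) : 𝒮 := colimit (seq v M)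

/-- The comparison of diagrams `const M ⟶ seq v M`, given by the powers of `v`. -/
def θ (M : 𝒮) : (Functor.const ℕ).obj M ⟶ seq v M :=
  NatTrans.ofSequence (F := (Functor.const ℕ).obj M) (G := seq v M) (fun n => vpow v M n) (by
    intro n
    change 𝟙 M ≫ vpow v M (n + 1) = vpow v M n ≫ (seq v M).map (homOfLE (n.le_add_right 1))
    rw [Category.id_comp, vpow_succ, seq_map_succ]
    rfl)

lemma θ_app (M : 𝒮) (n : ℕ) : (θ v M).app n = vpow v M n := rfl

/-- The colimit of the constant diagram. -/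
noncomputable def cA (M : 𝒮) : 𝒮 := colimit ((Functor.const ℕ).obj M)

noncomputable def cAIso (M : 𝒮) : cA M ≅ M :=
  (colimit.isColimit _).coconePointUniqueUpToIso (isColimitConstCocone ℕ M)

/-- The canonical map `M ≅ cA M ⟶ Lv v M`. -/
noncomputable def η' (M : 𝒮) : cA M ⟶ Lv v M := colim.map (θ v M)

/-- The canonical maps to the localisation. -/
noncomputable def ιs (M : 𝒮) (n : ℕ) : M ⟶ Lv v M := colimit.ι (seq v M) n

lemma v_ιs (M : 𝒮) (n : ℕ) : v M ≫ ιs v M (n + 1) = ιs v M n := by
  have := colimit.w (seq v M) (homOfLE (n.le_add_right 1))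
  rw [seq_map_succ] at this
  exact this

lemma Lv_hom_ext (M : 𝒮) {Z : 𝒮} (f g : Lv v M ⟶ Z) (h : ∀ n, ιs v M n ≫ f = ιs v M n ≫ g) :
    f = g :=
  colimit.hom_ext h

/-- Descent from the localisation. -/
noncomputable def LvDesc (M : 𝒮) {Z : 𝒮} (φ : ℕ → (M ⟶ Z)) (h : ∀ n, v M ≫ φ (n + 1) = φ n) :
    Lv v M ⟶ Z :=
  colimit.desc (seq v M)
    { pt := Z
      ι := NatTrans.ofSequence (F := seq v M) (G := (Functor.const ℕ).obj Z) φ (by
        intro n
        change (seq v M).map (homOfLE (n.le_add_right 1)) ≫ φ (n + 1) = φ n ≫ 𝟙 _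
        rw [Category.comp_id, seq_map_succ]
        exact h n) }

lemma ιs_LvDesc (M : 𝒮) {Z : 𝒮} (φ : ℕ → (M ⟶ Z)) (h : ∀ n, v M ≫ φ (n + 1) = φ n) (n : ℕ) :
    ιs v M n ≫ LvDesc v M φ h = φ n :=
  colimit.ι_desc _ n

include hv in
/-- `v` acts invertibly on the localisation. -/
lemma isIso_app_Lv (M : 𝒮) : IsIso (v (Lv v M)) := by
  have hn : ∀ n, ιs v M n ≫ v (Lv v M) = v M ≫ ιs v M n := fun n => hv (ιs v M n)
  refine ⟨LvDesc v M (fun n => ιs v M (n + 1)) (fun n => v_ιs v M (n + 1)), ?_, ?_⟩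
  · apply Lv_hom_ext
    intro n
    rw [← Category.assoc, hn n, Category.assoc, ιs_LvDesc, v_ιs, Category.comp_id]
  · apply Lv_hom_ext
    intro n
    rw [← Category.assoc, ιs_LvDesc, hn (n + 1), v_ιs, Category.comp_id]

/-- If `v` is invertible on `M`, the canonical map to the localisation is invertible. -/
lemma isIso_η'_of_isIso (M : 𝒮) [IsIso (v M)] : IsIso (η' v M) := by
  have hp : ∀ n, IsIso (vpow v M n) := by
    intro n
    induction n with
    | zero => rw [vpow_zero]; infer_instance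
    | succ n ih => rw [vpow_succ]; infer_instance
  have : IsIso (θ v M) := by
    have : ∀ n, IsIso ((θ v M).app n) := hp
    exact NatIso.isIso_of_isIso_app _
  unfold η'
  exact Functor.map_isIso colim (θ v M)

section KC

variable (v' w : ∀ X : 𝒮, X ⟶ X) (hw' : IsNat w) (hv' : IsNat v')
  (hw : ∀ X, w X = v X + v' X)

include hw hw' in
lemma isIso_app_of_nilpotent (N : 𝒮) (n : ℕ) (hn : vpow v N n = 0) [IsIso (w N)] :
    IsIso (v' N) := by
  have hu : IsUnit (vE w N) := (isUnit_iff_isIso (vE w N)).2 (inferInstance : IsIso (w N))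
  have hnil : IsNilpotent (-(vE v N)) := by
    refine IsNilpotent.neg ⟨n, ?_⟩
    rw [← vpow_eq_pow]
    exact hn
  have hc : Commute (-(vE v N)) (vE w N) := by
    apply Commute.neg_left
    change vE v N * vE w N = vE w N * vE v N
    rw [End.mul_def, End.mul_def]
    exact (hw' (v N)).symm
  have h := hnil.isUnit_add_left_of_commute hu hc
  have e : vE w N + -(vE v N) = vE v' N := by
    change w N + -(v N) = v' N
    rw [hw N]
    abel
  rw [e] at h
  exact (isUnit_iff_isIso (vE v' N)).1 h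

include hw hw' hv hv' in
/-- `v'` is invertible on the kernel of `η'` when `w = v + v'` is invertible on `M`. -/
lemma isIso_app_kernel_η' (M : 𝒮) [IsIso (w M)] : IsIso (v' (kernel (η' v M))) := by
  have h1 : IsIso (liftNat w hw' ((Functor.const ℕ).obj M)) := by
    have : ∀ n, IsIso ((liftNat w hw' ((Functor.const ℕ).obj M)).app n) :=
      fun n => (inferInstance : IsIso (w M))
    exact NatIso.isIso_of_isIso_app _
  have h2 : IsIso (liftNat w hw' (seq v M)) := by
    have : ∀ n, IsIso ((liftNat w hw' (seq v M)).app n) :=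
      fun n => (inferInstance : IsIso (w M))
    exact NatIso.isIso_of_isIso_app _
  have h3 : IsIso (liftNat w hw' (kernel (θ v M))) :=
    isIso_app_kernel (liftNat w hw') (isNat_liftNat w hw') (θ v M)
  have h4 : ∀ n, IsIso (v' ((kernel (θ v M)).obj n)) := by
    intro n
    have : IsIso (w ((kernel (θ v M)).obj n)) :=
      (inferInstance : IsIso ((liftNat w hw' (kernel (θ v M))).app n))
    refine isIso_app_of_nilpotent v v' w hw' hw _ n ?_
    have hm : Mono ((kernel.ι (θ v M)).app n) := inferInstance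
    rw [← cancel_mono ((kernel.ι (θ v M)).app n), vpow_nat v hv, zero_comp]
    have : (kernel.ι (θ v M) ≫ θ v M).app n = 0 := by rw [kernel.condition]; rfl
    exact this
  have h5 : IsIso (v' (colim.obj (kernel (θ v M)))) :=
    isIso_app_colimit v' hv' (kernel (θ v M)) h4
  exact isIso_app_of_iso v' hv' (PreservesKernel.iso colim (θ v M))

include hw hw' hv hv' in
/-- `v'` is invertible on the cokernel of `η'` when `w = v + v'` is invertible on `M`. -/
lemma isIso_app_cokernel_η' (M : 𝒮) [IsIso (w M)] : IsIso (v' (cokernel (η' v M))) := by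
  have h1 : IsIso (liftNat w hw' ((Functor.const ℕ).obj M)) := by
    have : ∀ n, IsIso ((liftNat w hw' ((Functor.const ℕ).obj M)).app n) :=
      fun n => (inferInstance : IsIso (w M))
    exact NatIso.isIso_of_isIso_app _
  have h2 : IsIso (liftNat w hw' (seq v M)) := by
    have : ∀ n, IsIso ((liftNat w hw' (seq v M)).app n) :=
      fun n => (inferInstance : IsIso (w M))
    exact NatIso.isIso_of_isIso_app _
  have h3 : IsIso (liftNat w hw' (cokernel (θ v M))) :=
    isIso_app_cokernel (liftNat w hw') (isNat_liftNat w hw') (θ v M)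
  have h4 : ∀ n, IsIso (v' ((cokernel (θ v M)).obj n)) := by
    intro n
    have : IsIso (w ((cokernel (θ v M)).obj n)) :=
      (inferInstance : IsIso ((liftNat w hw' (cokernel (θ v M))).app n))
    refine isIso_app_of_nilpotent v v' w hw' hw _ n ?_
    have hm : Epi ((cokernel.π (θ v M)).app n) := inferInstance
    rw [← cancel_epi ((cokernel.π (θ v M)).app n), ← vpow_nat v hv, comp_zero]
    have : (θ v M ≫ cokernel.π (θ v M)).app n = 0 := by rw [cokernel.condition]; rfl
    exact this
  have h5 : IsIso (v' (colim.obj (cokernel (θ v M)))) :=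
    isIso_app_colimit v' hv' (cokernel (θ v M)) h4
  exact isIso_app_of_iso v' hv' (PreservesCokernel.iso colim (θ v M))

end KC

end Groth.Agent.Lib.Helper13.LocDC4
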