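import Groth.Agent.Lib.Helper13.LocDC3
import Groth.Agent.Lib.Helper13.LocDC4
import Mathlib.Algebra.Homology.DerivedCategory.SingleTriangle

/-!
# The sections `f` with `T(K, f) = 0` form a sheaf of ideals (helper13)
-/

set_option autoImplicit false
universe w v u
open CategoryTheory CategoryTheory.Limits Opposite CategoryTheory.Pretriangulated
attribute [local instance] HasDerivedCategory.standard

namespace Groth.Agent.Lib.Helper13.LocDC5

section Orth

variable {A : Type u} [Category.{v} A] [Abelian A] [HasDerivedCategory.{w} A]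
  (K' : DerivedCategory A)

/-- `Hom(M[0], K'[n]) = 0` for all `n`. -/
def Orth (M : A) : Prop :=
  ∀ n : ℤ, Subsingleton ((DerivedCategory.singleFunctor A 0).obj M ⟶ K'⟦n⟧)

lemma orth_of_iso {M M' : A} (e : M ≅ M') (h : Orth K' M) : Orth K' M' := by
  intro n
  have := h n
  exact (((DerivedCategory.singleFunctor A 0).mapIso e).homCongr (Iso.refl (K'⟦n⟧))).symm.subsingleton

lemma orth_X₂ {S : ShortComplex A} (hS : S.ShortExact) (h1 : Orth K' S.X₁) (h3 : Orth K' S.X₃) :
    Orth K' S.X₂ := by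
  intro n
  have key : ∀ φ : (DerivedCategory.singleFunctor A 0).obj S.X₂ ⟶ K'⟦n⟧, φ = 0 := by
    intro φ
    have hT := hS.singleTriangle_distinguished
    have h0 : hS.singleTriangle.mor₁ ≫ φ = 0 := (h1 n).elim _ _
    obtain ⟨ψ, hψ⟩ := Triangle.yoneda_exact₂ _ hT φ h0
    have hψ0 : ψ = 0 := (h3 n).elim ψ 0
    rw [hψ, hψ0]
    exact comp_zero
  exact ⟨fun a b => by rw [key a, key b]⟩

lemma orth_X₁ {S : ShortComplex A} (hS : S.ShortExact) (h2 : Orth K' S.X₂) (h3 : Orth K' S.X₃) :
    Orth K' S.X₁ := by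
  intro n
  have key : ∀ φ : (DerivedCategory.singleFunctor A 0).obj S.X₁ ⟶ K'⟦n⟧, φ = 0 := by
    intro φ
    have hT := inv_rot_of_distTriang _ hS.singleTriangle_distinguished
    have hsub : Subsingleton
        (((DerivedCategory.singleFunctor A 0).obj S.X₃)⟦(-1 : ℤ)⟧ ⟶ K'⟦n⟧) := by
      rw [Groth.Agent.Lib.Helper13.BousDerComp.subsingleton_shift_iff]
      have e : (K'⟦n⟧)⟦-(-1 : ℤ)⟧ ≅ K'⟦n + 1⟧ :=
        ((shiftFunctorAdd' (DerivedCategory A) n (-(-1)) (n + 1) (by omega)).app K').symm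
      have := h3 (n + 1)
      exact ((Iso.refl _).homCongr e).subsingleton
    have h0 : hS.singleTriangle.invRotate.mor₁ ≫ φ = 0 := hsub.elim _ _
    obtain ⟨ψ, hψ⟩ := Triangle.yoneda_exact₂ _ hT φ h0
    have hψ0 : ψ = 0 := (h2 n).elim ψ 0
    rw [hψ, hψ0]
    exact comp_zero
  exact ⟨fun a b => by rw [key a, key b]⟩

lemma orth_of_isZero {M : A} (hM : IsZero M) : Orth K' M := by
  intro n
  have : IsZero ((DerivedCategory.singleFunctor A 0).obj M) :=
    (DerivedCategory.singleFunctor A 0).map_isZero hM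
  exact ⟨fun a b => this.eq_of_src a b⟩

/-- Devissage along a morphism `f : X ⟶ Y`. -/
lemma orth_of_ker_coker {X Y : A} (f : X ⟶ Y) (hk : Orth K' (kernel f)) (hc : Orth K' (cokernel f))
    (hY : Orth K' Y) : Orth K' X := by
  -- 0 → image f → Y → cokernel f → 0
  have hS2 : (ShortComplex.mk (Abelian.image.ι f) (cokernel.π f) (by simp)).ShortExact := by
    refine ShortComplex.ShortExact.mk' ?_ inferInstance inferInstance
    exact ShortComplex.exact_of_f_is_kernel _ (kernelIsKernel (cokernel.π f))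
  have him : Orth K' (Abelian.image f) := orth_X₁ K' hS2 hY hc
  have hco : Orth K' (Abelian.coimage f) := orth_of_iso K' (Abelian.coimageIsoImage f).symm him
  -- 0 → kernel f → X → coimage f → 0
  have hS1 : (ShortComplex.mk (kernel.ι f) (Abelian.coimage.π f) (by simp)).ShortExact := by
    refine ShortComplex.ShortExact.mk' ?_ inferInstance inferInstance
    exact ShortComplex.exact_of_g_is_cokernel _ (cokernelIsCokernel (kernel.ι f))
  exact orth_X₂ K' hS1 hk hco

end Orth

open DerComp ModSite Groth.Agent.Lib.Helper13.LocDC1 Groth.Agent.Lib.Helper13.LocDC2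
  Groth.Agent.Lib.Helper13.LocDC3 Groth.Agent.Lib.Helper42.ModSiteLib
  Groth.Agent.Lib.Helper45.QcSum

section Site

variable {C : Type u} [SmallCategory C] {J : GrothendieckTopology C} (O : Sheaf J CommRingCat.{u})

/-- The free modules on the members of a sieve. -/
def GenR (W : C) (R : Sieve W) : Mod (O.over W) → Prop :=
  fun P => ∃ V' : Over W, R V'.hom ∧ P = freeOn (O.over W) V'

lemma sepR (W : C) (R : Sieve W) (hR : R ∈ J W) {M N : Mod (O.over W)} (φ ψ : M ⟶ N)
    (h : ∀ G, GenR O W R G → ∀ t : G ⟶ M, t ≫ φ = t ≫ ψ) : φ = ψ := by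
  apply SheafOfModules.hom_ext
  apply PresheafOfModules.hom_ext
  intro Y
  ext x
  have hT : R.pullback Y.unop.hom ∈ J Y.unop.left := J.pullback_stable Y.unop.hom hR
  have hcov := J.overEquiv_symm_mem_over Y.unop _ hT
  refine N.isSheaf.isSeparated _ _ hcov _ _ ?_
  intro Z a ha
  rw [Sieve.overEquiv_symm_iff] at ha
  have hZ : R Z.hom := by
    have : R (a.left ≫ Y.unop.hom) := ha
    rwa [Over.w a] at this
  have h1 := h (freeOn (O.over W) Z) ⟨Z, hZ, rfl⟩ (ofSec (O.over W) (M.val.map a.op x))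
  rw [ofSec_comp, ofSec_comp] at h1
  have h2 := ofSec_injective (O.over W) h1
  have n1 := PresheafOfModules.naturality_apply φ.val a.op x
  have n2 := PresheafOfModules.naturality_apply ψ.val a.op x
  exact n1.symm.trans (h2.trans n2)

variable (W : C) (f₀ : O.obj.obj (op W)) (Ic : CochainComplex (Mod O) ℤ)

/-- The restriction of `Ic` to `C/W`. -/
noncomputable def IW : CochainComplex (Mod (O.over W)) ℤ :=
  ((restr O W).mapHomologicalComplex (ComplexShape.up ℤ)).obj Ic

instance [Ic.IsKInjective] : (IW O W Ic).IsKInjective := by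
  have hfl : PreservesFiniteLimits (extZero O W) :=
    Groth.Agent.Lib.Helper42.ExtZero.extZero_preservesFiniteLimits O W
  exact Groth.Agent.Lib.Helper13.KInjDerAdj.isKInjective_map (extZeroAdj O W) Ic

/-- The complex `lim (I_W ←f I_W ← …)`. -/
noncomputable def TT : CochainComplex (Mod (O.over W)) ℤ :=
  ((locG (GSec.ofSect O W f₀)).mapHomologicalComplex (ComplexShape.up ℤ)).obj (IW O W Ic)

instance [Ic.IsKInjective] : (TT O W f₀ Ic).IsKInjective :=
  Groth.Agent.Lib.Helper13.KInjDerAdj.isKInjective_map (locAdj (GSec.ofSect O W f₀)) (IW O W Ic)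

lemma homExact_freeOn_TT_iff (V' : Over W) (m : ℤ) :
    HomExact (freeOn (O.over W) V') (TT O W f₀ Ic) m ↔
      SecExact Ic V'.left
        (show (ringSh O).obj.obj (op V'.left) from (O.obj.map V'.hom.op).hom f₀) m := by
  unfold TT IW
  rw [homExact_adj_iff (locAdj (GSec.ofSect O W f₀)), homExact_locF_iff, secExact_restr_iff]

lemma homExact_TT_iff (M : Mod (O.over W)) (m : ℤ) :
    HomExact M (TT O W f₀ Ic) m ↔
      HomExact ((locF (GSec.ofSect O W f₀)).obj M) (IW O W Ic) m := by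
  unfold TT
  rw [homExact_adj_iff (locAdj (GSec.ofSect O W f₀))]

/-- Local-to-global: `TT` is acyclic as soon as it is so on the members of a covering sieve. -/
theorem TT_acyclic [Ic.IsKInjective] (R : Sieve W) (hR : R ∈ J W)
    (h : ∀ V' : Over W, R V'.hom → ∀ m : ℤ, SecExact Ic V'.left
      (show (ringSh O).obj.obj (op V'.left) from (O.obj.map V'.hom.op).hom f₀) m) :
    (TT O W f₀ Ic).Acyclic :=
  acyclic_of_homExact (GenR O W R) (sepR O W R hR) _ (by
    rintro G ⟨V', hV', rfl⟩ m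
    rw [homExact_freeOn_TT_iff]
    exact h V' hV' m)

section Ideal

variable [Ic.IsKInjective]

lemma secExact_congr {L : CochainComplex (Mod O) ℤ} {X₀ : C} {r r' : (ringSh O).obj.obj (op X₀)}
    (h : r = r') {m : ℤ} (hs : SecExact L X₀ r m) : SecExact L X₀ r' m := by
  subst h
  exact hs

lemma map_id_apply (U : C) (x : O.obj.obj (op U)) : (O.obj.map (𝟙 U).op).hom x = x := by
  rw [op_id, O.obj.map_id]
  rfl

lemma map_comp_apply {U V V' : C} (g : V ⟶ U) (h : V' ⟶ V) (x : O.obj.obj (op U)) :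
    (O.obj.map (h ≫ g).op).hom x = (O.obj.map h.op).hom ((O.obj.map g.op).hom x) := by
  rw [op_comp, O.obj.map_comp]
  rfl

/-- Hereditary vanishing of `T(K, f)` in terms of sections of the K-injective complex `Ic`. -/
def PS (U : C) (f : O.obj.obj (op U)) : Prop :=
  ∀ (V' : Over U) (m : ℤ), SecExact Ic V'.left
    (show (ringSh O).obj.obj (op V'.left) from (O.obj.map V'.hom.op).hom f) m

/-- Vanishing of `RHom(M, K|_U)` for all modules `M` on which `f` is invertible. -/
def Good (U : C) (f : O.obj.obj (op U)) : Prop :=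
  ∀ M : Mod (O.over U), IsIso (smulEnd (GSec.ofSect O U f) M) → ∀ n : ℤ,
    HomExact M (IW O U Ic) n

lemma isNat_smulEnd {U : C} (s : GSec (O.over U)) :
    Groth.Agent.Lib.Helper13.LocDC4.IsNat (fun X : Mod (O.over U) => smulEnd s X) :=
  fun φ => (smulEnd_comm s φ).symm

omit [Ic.IsKInjective] in
lemma ps_of_good (U : C) (f : O.obj.obj (op U)) (h : Good O Ic U f) : PS O Ic U f := by
  intro V' m
  rw [← homExact_freeOn_TT_iff, homExact_TT_iff]
  apply h
  exact Groth.Agent.Lib.Helper13.LocDC4.isIso_app_Lv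
    (fun X : Mod (O.over U) => smulEnd (GSec.ofSect O U f) X) (isNat_smulEnd O _)
    (freeOn (O.over U) V')

lemma good_of_ps (U : C) (f : O.obj.obj (op U)) (h : PS O Ic U f) : Good O Ic U f := by
  intro M hM n
  have hac := TT_acyclic O U f Ic ⊤ (J.top_mem U) (fun V' _ m => h V' m)
  have h1 := homExact_of_acyclic_of_isKInjective (TT O U f Ic) hac M n
  rw [homExact_TT_iff] at h1
  let v : ∀ X : Mod (O.over U), X ⟶ X := fun X => smulEnd (GSec.ofSect O U f) X
  have : IsIso (v M) := hM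
  have hη := Groth.Agent.Lib.Helper13.LocDC4.isIso_η'_of_isIso v M
  let e : (locF (GSec.ofSect O U f)).obj M ≅ M :=
    (asIso (Groth.Agent.Lib.Helper13.LocDC4.η' v M)).symm ≪≫
      Groth.Agent.Lib.Helper13.LocDC4.cAIso M
  exact homExact_of_iso e _ n h1

omit [Ic.IsKInjective] in
lemma good_zero (U : C) : Good O Ic U 0 := by
  intro M hM n z hz
  have e0 : GSec.ofSect O U (0 : O.obj.obj (op U)) = 0 :=
    Subtype.ext (funext fun V => map_zero _)
  rw [e0, smulEnd_zero] at hM
  have hM0 : IsZero M := by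
    rw [IsZero.iff_id_eq_zero]
    exact (IsIso.hom_inv_id (0 : M ⟶ M)).symm.trans zero_comp
  exact ⟨0, hM0.eq_of_src _ _⟩

omit [Ic.IsKInjective] in
lemma good_smul (U : C) (a f : O.obj.obj (op U)) (h : Good O Ic U f) : Good O Ic U (a * f) := by
  intro M hM n
  apply h M ?_ n
  have e : GSec.ofSect O U (a * f) = GSec.ofSect O U a * GSec.ofSect O U f :=
    Subtype.ext (funext fun V => map_mul _ a f)
  rw [e, ← smulEnd_comp] at hM
  generalize smulEnd (GSec.ofSect O U f) M = y at hM ⊢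
  have hc : smulEnd (GSec.ofSect O U a) M ≫ y = y ≫ smulEnd (GSec.ofSect O U a) M :=
    smulEnd_comm (GSec.ofSect O U a) y
  generalize smulEnd (GSec.ofSect O U a) M = x at hM hc
  have hL : (inv (x ≫ y) ≫ x) ≫ y = 𝟙 M := by rw [Category.assoc, IsIso.inv_hom_id]
  have hR : y ≫ (x ≫ inv (x ≫ y)) = 𝟙 M := by rw [← Category.assoc, ← hc, IsIso.hom_inv_id]
  have hLR : x ≫ inv (x ≫ y) = inv (x ≫ y) ≫ x := by
    calc x ≫ inv (x ≫ y) = ((inv (x ≫ y) ≫ x) ≫ y) ≫ (x ≫ inv (x ≫ y)) := by
          rw [hL, Category.id_comp]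
      _ = (inv (x ≫ y) ≫ x) ≫ (y ≫ (x ≫ inv (x ≫ y))) := by rw [Category.assoc]
      _ = inv (x ≫ y) ≫ x := by rw [hR, Category.comp_id]
  exact ⟨x ≫ inv (x ≫ y), hR, by rw [hLR, hL]⟩

lemma good_add (U : C) (f f' : O.obj.obj (op U)) (h : Good O Ic U f) (h' : Good O Ic U f') :
    Good O Ic U (f + f') := by
  intro M hM n
  have toOrth : ∀ (g : O.obj.obj (op U)), Good O Ic U g → ∀ N : Mod (O.over U),
      IsIso (smulEnd (GSec.ofSect O U g) N) → Orth (DerivedCategory.Q.obj (IW O U Ic)) N :=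
    fun g hg N hN m => (subsingleton_iff_homExact (IW O U Ic) m N).2 (hg N hN m)
  suffices hs : Orth (DerivedCategory.Q.obj (IW O U Ic)) M from
    (subsingleton_iff_homExact (IW O U Ic) n M).1 (hs n)
  let v : ∀ X : Mod (O.over U), X ⟶ X := fun X => smulEnd (GSec.ofSect O U f) X
  let v' : ∀ X : Mod (O.over U), X ⟶ X := fun X => smulEnd (GSec.ofSect O U f') X
  let w : ∀ X : Mod (O.over U), X ⟶ X := fun X => smulEnd (GSec.ofSect O U (f + f')) X
  have hw : ∀ X, w X = v X + v' X := by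
    intro X
    have e : GSec.ofSect O U (f + f') = GSec.ofSect O U f + GSec.ofSect O U f' :=
      Subtype.ext (funext fun V => map_add _ f f')
    change smulEnd (GSec.ofSect O U (f + f')) X = _
    rw [e, smulEnd_add]
  have : IsIso (w M) := hM
  have hk := Groth.Agent.Lib.Helper13.LocDC4.isIso_app_kernel_η' v (isNat_smulEnd O _) v' w
    (isNat_smulEnd O _) (isNat_smulEnd O _) hw M
  have hc := Groth.Agent.Lib.Helper13.LocDC4.isIso_app_cokernel_η' v (isNat_smulEnd O _) v' w
    (isNat_smulEnd O _) (isNat_smulEnd O _) hw M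
  have hL := Groth.Agent.Lib.Helper13.LocDC4.isIso_app_Lv v (isNat_smulEnd O _) M
  have := orth_of_ker_coker (DerivedCategory.Q.obj (IW O U Ic))
    (Groth.Agent.Lib.Helper13.LocDC4.η' v M) (toOrth f' h' _ hk) (toOrth f' h' _ hc)
    (toOrth f h _ hL)
  exact orth_of_iso _ (Groth.Agent.Lib.Helper13.LocDC4.cAIso M) this

end Ideal

end Site

end Groth.Agent.Lib.Helper13.LocDC5
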