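import Groth.Agent.Lib.Helper13.LocDC5

/-!
# The sections `f` with `T(K, f) = 0` form a sheaf of ideals: assembly (helper13)
-/

set_option autoImplicit false
universe u
open CategoryTheory CategoryTheory.Limits Opposite
attribute [local instance] HasDerivedCategory.standard

namespace Groth.Agent.Lib.Helper13.LocDC6

open DerComp ModSite Groth.Agent.Lib.Helper13.LocDC1 Groth.Agent.Lib.Helper13.LocDC2
  Groth.Agent.Lib.Helper13.LocDC3 Groth.Agent.Lib.Helper13.LocDC5
  Groth.Agent.Lib.Helper42.ModSiteLib Groth.Agent.Lib.Helper45.QcSum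

variable {C : Type u} [SmallCategory C] {J : GrothendieckTopology C} (O : Sheaf J CommRingCat.{u})

/-- The sheaf of ideals attached to a K-injective complex. -/
noncomputable def idealOf (Ic : CochainComplex (Mod O) ℤ) [Ic.IsKInjective] : IdealSh O where
  ideal U :=
    { carrier := {f | PS O Ic U f}
      add_mem' := fun {a b} ha hb =>
        ps_of_good O Ic U _ (good_add O Ic U a b (good_of_ps O Ic U a ha) (good_of_ps O Ic U b hb))
      zero_mem' := ps_of_good O Ic U _ (good_zero O Ic U)
      smul_mem' := fun c {x} hx => by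
        change PS O Ic U (c * x)
        exact ps_of_good O Ic U _ (good_smul O Ic U c x (good_of_ps O Ic U x hx)) }
  map_mem := by
    intro U V g f hf
    change PS O Ic V _
    intro V' m
    have h1 := hf (Over.mk (V'.hom ≫ g)) m
    exact secExact_congr O (map_comp_apply O g V'.hom f) h1
  glue := by
    intro U f S hS h
    change PS O Ic U f
    intro V' m
    have hR : S.pullback V'.hom ∈ J V'.left := J.pullback_stable V'.hom hS
    have hac := TT_acyclic O V'.left ((O.obj.map V'.hom.op).hom f) Ic (S.pullback V'.hom) hR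
      (fun V'' hV'' m' => by
        have h2 : PS O Ic V''.left ((O.obj.map (V''.hom ≫ V'.hom).op).hom f) := h _ hV''
        have h3 := h2 (Over.mk (𝟙 V''.left)) m'
        refine secExact_congr O ?_ h3
        change (O.obj.map (𝟙 V''.left).op).hom _ = _
        rw [map_id_apply, map_comp_apply])
    have h4 := homExact_of_acyclic_of_isKInjective (TT O V'.left ((O.obj.map V'.hom.op).hom f) Ic)
      hac (freeOn (O.over V'.left) (Over.mk (𝟙 V'.left))) m
    rw [homExact_freeOn_TT_iff] at h4
    refine secExact_congr O ?_ h4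
    change (O.obj.map (𝟙 V'.left).op).hom _ = _
    rw [map_id_apply]

theorem exists_idealSh (K : DerivedCategory (Mod O)) :
    ∃ I : IdealSh O, ∀ (U : C) (f : O.obj.obj (op U)), f ∈ I.ideal U ↔
      ∀ (V : C) (g : V ⟶ U) (n : ℤ), Subsingleton (SiteCmp.inD O ((extZero O V).obj
        (awayOver O V ((O.obj.map g.op).hom f))) ⟶ K⟦n⟧) := by
  obtain ⟨Ic, hIc, ⟨e⟩⟩ := Groth.Agent.Lib.Helper13.KInjDerAdj.exists_kInj K
  refine ⟨idealOf O Ic, ?_⟩
  intro U f
  change PS O Ic U f ↔ _
  constructor
  · intro h V g n
    rw [subsingleton_iff_homExact' Ic e n, homExact_extZero_awayOver_iff]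
    exact h (Over.mk g) n
  · intro h V' m
    have := h V'.left V'.hom m
    rw [subsingleton_iff_homExact' Ic e m, homExact_extZero_awayOver_iff] at this
    exact this

end Groth.Agent.Lib.Helper13.LocDC6
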