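import Mathlib

/-!
# Mittag-Leffler systems and limits (helper13)

* `exists_cofinal_seq`: a directed preorder with a countable cofinal subset has a cofinal monotone
  sequence.
* `nonempty_sections_of_isMittagLeffler`: a Mittag-Leffler system of nonempty sets indexed by such a
  directed preorder has a section.
-/

set_option autoImplicit false
universe u v

namespace Groth.Agent.Lib.Helper13.MLLim

open CategoryTheory CategoryTheory.Limits Opposite

section Types

variable {ι : Type u} [Preorder ι] [Nonempty ι] [IsDirected ι (· ≤ ·)]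

/-- A directed preorder with a countable cofinal subset has a cofinal monotone sequence. -/
theorem exists_cofinal_seq (hcof : ∃ s : Set ι, s.Countable ∧ ∀ i, ∃ j ∈ s, i ≤ j) :
    ∃ g : ℕ → ι, Monotone g ∧ ∀ i, ∃ n, i ≤ g n := by
  classical
  obtain ⟨s, hs, hcof⟩ := hcof
  have hne : s.Nonempty := by
    obtain ⟨j, hj, -⟩ := hcof (Classical.arbitrary ι)
    exact ⟨j, hj⟩
  obtain ⟨f, rfl⟩ := hs.exists_eq_range hne
  have hub : ∀ a b : ι, ∃ c, a ≤ c ∧ b ≤ c := fun a b => exists_ge_ge a b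
  choose ub hub1 hub2 using hub
  let g : ℕ → ι := fun n => Nat.rec (f 0) (fun n x => ub x (f (n + 1))) n
  have hg0 : g 0 = f 0 := rfl
  have hgs : ∀ n, g (n + 1) = ub (g n) (f (n + 1)) := fun n => rfl
  have hfg : ∀ n, f n ≤ g n := by
    intro n
    cases n with
    | zero => exact le_of_eq hg0.symm
    | succ n => rw [hgs]; exact hub2 _ _
  refine ⟨g, monotone_nat_of_le_succ (fun n => ?_), fun i => ?_⟩
  · rw [hgs]; exact hub1 _ _
  · obtain ⟨j, ⟨n, rfl⟩, hj⟩ := hcof i
    exact ⟨n, hj.trans (hfg n)⟩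

omit [Nonempty ι] [IsDirected ι (· ≤ ·)] in
/-- A system of nonempty sets with surjective transition maps, indexed by a directed preorder with a
cofinal monotone sequence, has a section. -/
theorem nonempty_sections_of_surjective (g : ℕ → ι) (hg : Monotone g) (hcof : ∀ i, ∃ n, i ≤ g n)
    (E : ιᵒᵖ ⥤ Type v) (hE : ∀ ⦃i j : ιᵒᵖ⦄ (f : i ⟶ j), Function.Surjective (E.map f))
    (hne : ∀ i, Nonempty (E.obj i)) : E.sections.Nonempty := by
  classical
  -- transition maps along the sequence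
  let t : ∀ n, E.obj (op (g (n + 1))) → E.obj (op (g n)) :=
    fun n => E.map (homOfLE (hg (Nat.le_succ n))).op
  have ht : ∀ n, Function.Surjective (t n) := fun n => hE _
  choose r hr using ht
  let x : ∀ n, E.obj (op (g n)) := fun n => Nat.rec (hne (op (g 0))).some (fun n y => r n y) n
  have hx : ∀ n, t n (x (n + 1)) = x n := fun n => hr n (x n)
  have hx' : ∀ n m (h : n ≤ m), E.map (homOfLE (hg h)).op (x m) = x n := by
    intro n m h
    induction m, h using Nat.le_induction with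
    | base =>
      have : (homOfLE (hg (le_refl n))).op = 𝟙 (op (g n)) := Subsingleton.elim _ _
      rw [this, E.map_id]; rfl
    | succ m h ih =>
      have : (homOfLE (hg (Nat.le_succ_of_le h))).op =
          (homOfLE (hg (Nat.le_succ m))).op ≫ (homOfLE (hg h)).op := Subsingleton.elim _ _
      rw [this, E.map_comp]
      change E.map (homOfLE (hg h)).op (t m (x (m + 1))) = x n
      rw [hx, ih]
  choose N hN using hcof
  refine ⟨fun i => E.map (homOfLE (hN i.unop)).op (x (N i.unop)), ?_⟩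
  intro i j f
  have hji : j.unop ≤ i.unop := leOfHom f.unop
  -- both sides are images of x (max ..)
  set M := max (N i.unop) (N j.unop) with hM
  have h1 : x (N i.unop) = E.map (homOfLE (hg (le_max_left _ _))).op (x M) :=
    (hx' _ _ (le_max_left _ _)).symm
  have h2 : x (N j.unop) = E.map (homOfLE (hg (le_max_right _ _))).op (x M) :=
    (hx' _ _ (le_max_right _ _)).symm
  dsimp only
  rw [h1, h2]
  simp only [← ConcreteCategory.comp_apply, ← E.map_comp]
  congr 2

/-- A Mittag-Leffler system of nonempty sets indexed by a directed preorder with a countable cofinal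
subset has a section. -/
theorem nonempty_sections_of_isMittagLeffler
    (hcof : ∃ s : Set ι, s.Countable ∧ ∀ i, ∃ j ∈ s, i ≤ j)
    (E : ιᵒᵖ ⥤ Type v) (hE : E.IsMittagLeffler) (hne : ∀ i, Nonempty (E.obj i)) :
    E.sections.Nonempty := by
  obtain ⟨g, hg, hg'⟩ := exists_cofinal_seq hcof
  obtain ⟨s, hs⟩ := nonempty_sections_of_surjective g hg hg' E.toEventualRanges
    (E.surjective_toEventualRanges hE) (fun i => E.toEventualRanges_nonempty hE i)
  exact ⟨E.toEventualRangesSectionsEquiv ⟨s, hs⟩, (E.toEventualRangesSectionsEquiv ⟨s, hs⟩).2⟩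

end Types

section Ab

variable {ι : Type u} [Preorder ι] [Nonempty ι] [IsDirected ι (· ≤ ·)]

omit [Nonempty ι] [IsDirected ι (· ≤ ·)] in
/-- Elementwise form of the Mittag-Leffler condition for systems of abelian groups. -/
theorem isMittagLeffler_iff (A : ιᵒᵖ ⥤ AddCommGrpCat.{v}) :
    (A ⋙ forget AddCommGrpCat).IsMittagLeffler ↔
      ∀ j : ιᵒᵖ, ∃ (i : ιᵒᵖ) (f : i ⟶ j), ∀ ⦃k : ιᵒᵖ⦄ (g : k ⟶ j) (x : A.obj i),
        ∃ y : A.obj k, (A.map g).hom y = (A.map f).hom x := by
  constructor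
  · intro h j
    obtain ⟨i, f, hf⟩ := h j
    refine ⟨i, f, fun k g x => ?_⟩
    obtain ⟨y, hy⟩ := hf g ⟨x, rfl⟩
    exact ⟨y, hy⟩
  · intro h j
    obtain ⟨i, f, hf⟩ := h j
    refine ⟨i, f, fun k g => ?_⟩
    rintro _ ⟨x, rfl⟩
    obtain ⟨y, hy⟩ := hf g x
    exact ⟨y, hy⟩

omit [Nonempty ι] [IsDirected ι (· ≤ ·)] in
lemma map_comp_apply (A : ιᵒᵖ ⥤ AddCommGrpCat.{v}) {i j k : ιᵒᵖ} (f : i ⟶ j) (g : j ⟶ k)
    (h : i ⟶ k) (x : A.obj i) : (A.map g).hom ((A.map f).hom x) = (A.map h).hom x := by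
  have : h = f ≫ g := Subsingleton.elim _ _
  rw [this, A.map_comp]
  rfl

omit [Nonempty ι] [IsDirected ι (· ≤ ·)] in
lemma naturality_apply {A B : ιᵒᵖ ⥤ AddCommGrpCat.{v}} (a : A ⟶ B) {i j : ιᵒᵖ} (f : i ⟶ j)
    (x : A.obj i) : (a.app j).hom ((A.map f).hom x) = (B.map f).hom ((a.app i).hom x) := by
  have := ConcreteCategory.congr_hom (a.naturality f) x
  exact this

omit [Nonempty ι] in
/-- If `A ⟶ B` is levelwise surjective and `A` is Mittag-Leffler, so is `B`. -/
theorem isMittagLeffler_of_surjective {A B : ιᵒᵖ ⥤ AddCommGrpCat.{v}} (a : A ⟶ B)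
    (ha : ∀ i, Function.Surjective (a.app i).hom)
    (hA : (A ⋙ forget AddCommGrpCat).IsMittagLeffler) :
    (B ⋙ forget AddCommGrpCat).IsMittagLeffler := by
  rw [isMittagLeffler_iff] at hA ⊢
  intro j
  obtain ⟨i, f, hf⟩ := hA j
  refine ⟨i, f, fun k g x => ?_⟩
  obtain ⟨x', rfl⟩ := ha i x
  obtain ⟨y, hy⟩ := hf g x'
  refine ⟨(a.app k).hom y, ?_⟩
  rw [← naturality_apply, ← naturality_apply, hy]

/-- If `A ⟶ B ⟶ C` is levelwise exact at `B` with `B ⟶ C` levelwise surjective, and `A` and `C`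
are Mittag-Leffler, so is `B` (no injectivity of `A ⟶ B` is needed). -/
theorem isMittagLeffler_of_exact {A B C : ιᵒᵖ ⥤ AddCommGrpCat.{v}} (a : A ⟶ B) (b : B ⟶ C)
    (hb : ∀ i, Function.Surjective (b.app i).hom)
    (hex : ∀ i, (b.app i).hom.ker = (a.app i).hom.range)
    (hA : (A ⋙ forget AddCommGrpCat).IsMittagLeffler)
    (hC : (C ⋙ forget AddCommGrpCat).IsMittagLeffler) :
    (B ⋙ forget AddCommGrpCat).IsMittagLeffler := by
  rw [isMittagLeffler_iff] at hA hC ⊢
  intro i
  obtain ⟨j, fji, hj⟩ := hA i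
  obtain ⟨l, flj, hl⟩ := hC j
  refine ⟨l, flj ≫ fji, fun k g x => ?_⟩
  -- a common refinement `m` of `k` and `l`
  obtain ⟨m, fmk, fml, -⟩ := IsCofilteredOrEmpty.cone_objs k l
  -- `b x` restricted to `j` comes from `C m`
  obtain ⟨c', hc'⟩ := hl (fml ≫ flj) ((b.app l).hom x)
  obtain ⟨y', rfl⟩ := hb m c'
  -- the difference lies in the kernel of `b` at level `j`
  have hker : (B.map (fml ≫ flj)).hom y' - (B.map flj).hom x ∈ (b.app j).hom.ker := by
    rw [AddMonoidHom.mem_ker, map_sub, naturality_apply, naturality_apply, hc', sub_self]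
  rw [hex] at hker
  obtain ⟨α, hα⟩ := hker
  obtain ⟨α', hα'⟩ := hj (fml ≫ flj ≫ fji) α
  refine ⟨(B.map fmk).hom (y' - (a.app m).hom α'), ?_⟩
  rw [map_comp_apply B fmk g (fml ≫ flj ≫ fji), map_sub, ← naturality_apply, hα',
    naturality_apply, hα, map_sub, map_comp_apply B (fml ≫ flj) fji (fml ≫ flj ≫ fji),
    map_comp_apply B flj fji (flj ≫ fji)]
  abel

/-- **Lifting sections along a Mittag-Leffler kernel.** Let `A ⟶ B ⟶ C` be systems of abelian
groups indexed by a directed preorder with a countable cofinal subset, levelwise exact at `B`, with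
`A` Mittag-Leffler. Every section of `C` that is levelwise in the image of `B` lifts to a section
of `B`. -/
theorem exists_section_lift (hcof : ∃ s : Set ι, s.Countable ∧ ∀ i, ∃ j ∈ s, i ≤ j)
    {A B C : ιᵒᵖ ⥤ AddCommGrpCat.{v}} (a : A ⟶ B) (b : B ⟶ C)
    (hex : ∀ i, (b.app i).hom.ker = (a.app i).hom.range)
    (hA : (A ⋙ forget AddCommGrpCat).IsMittagLeffler)
    (c : ∀ i : ιᵒᵖ, C.obj i) (hc : ∀ ⦃i j : ιᵒᵖ⦄ (f : i ⟶ j), (C.map f).hom (c i) = c j)
    (hcb : ∀ i, ∃ x : B.obj i, (b.app i).hom x = c i) :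
    ∃ x : ∀ i : ιᵒᵖ, B.obj i, (∀ ⦃i j : ιᵒᵖ⦄ (f : i ⟶ j), (B.map f).hom (x i) = x j) ∧
      ∀ i, (b.app i).hom (x i) = c i := by
  rw [isMittagLeffler_iff] at hA
  -- the system of fibres
  let E : ιᵒᵖ ⥤ Type v :=
    { obj := fun i => {x : B.obj i // (b.app i).hom x = c i}
      map := fun {i j} f => ↾(fun x => ⟨(B.map f).hom x.1, by
        rw [naturality_apply, x.2, hc]⟩)
      map_id := fun i => by
        ext x
        change (B.map (𝟙 i)).hom x.1 = x.1
        rw [B.map_id]; rfl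
      map_comp := fun {i j k} f g => by
        ext x
        change (B.map (f ≫ g)).hom x.1 = (B.map g).hom ((B.map f).hom x.1)
        rw [B.map_comp]; rfl }
  have hEmap : ∀ {i j : ιᵒᵖ} (f : i ⟶ j) (x : E.obj i), ((E.map f) x).1 = (B.map f).hom x.1 :=
    fun f x => rfl
  have hE : E.IsMittagLeffler := by
    intro j
    obtain ⟨i, f, hf⟩ := hA j
    refine ⟨i, f, fun k g => ?_⟩
    rintro _ ⟨x, rfl⟩
    obtain ⟨l, p, q, -⟩ := IsCofilteredOrEmpty.cone_objs i k
    obtain ⟨y₀, hy₀⟩ := hcb l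
    have hker : (B.map p).hom y₀ - x.1 ∈ (b.app i).hom.ker := by
      rw [AddMonoidHom.mem_ker, map_sub, naturality_apply, hy₀, hc, x.2, sub_self]
    rw [hex] at hker
    obtain ⟨α, hα⟩ := hker
    obtain ⟨α', hα'⟩ := hf (p ≫ f) α
    have hbα' : (b.app l).hom ((a.app l).hom α') = 0 := by
      have : (a.app l).hom α' ∈ (b.app l).hom.ker := by rw [hex]; exact ⟨α', rfl⟩
      exact this
    let y₁ : E.obj l := ⟨y₀ - (a.app l).hom α', by rw [map_sub, hbα', sub_zero, hy₀]⟩
    refine ⟨E.map q y₁, ?_⟩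
    apply Subtype.ext
    rw [hEmap, hEmap, hEmap, map_comp_apply B q g (p ≫ f)]
    change (B.map (p ≫ f)).hom (y₀ - (a.app l).hom α') = (B.map f).hom x.1
    rw [map_sub, ← naturality_apply, hα', naturality_apply, hα, map_sub,
      map_comp_apply B p f (p ≫ f)]
    abel
  have hne : ∀ i, Nonempty (E.obj i) := fun i => by
    obtain ⟨x, hx⟩ := hcb i
    exact ⟨⟨x, hx⟩⟩
  obtain ⟨s, hs⟩ := nonempty_sections_of_isMittagLeffler hcof E hE hne
  refine ⟨fun i => (s i).1, fun i j f => ?_, fun i => (s i).2⟩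
  change (B.map f).hom (s i).1 = (s j).1
  rw [← hs f]
  rfl

end Ab

section Limits

universe w t

variable {J : Type w} [Category.{t} J]

/-- Elements of a limit cone of abelian groups are determined by their components. -/
theorem cone_ext {F : J ⥤ AddCommGrpCat.{v}} [PreservesLimit F (forget AddCommGrpCat)]
    {c : Cone F} (hc : IsLimit c) (x y : c.pt)
    (h : ∀ j, (c.π.app j).hom x = (c.π.app j).hom y) : x = y :=
  Concrete.isLimit_ext F hc x y h

/-- Every compatible family is the family of components of an element of a limit cone of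
abelian groups. -/
theorem cone_exists_of_section {F : J ⥤ AddCommGrpCat.{v}}
    [PreservesLimit F (forget AddCommGrpCat)] {c : Cone F} (hc : IsLimit c)
    (s : ∀ j, F.obj j) (hs : ∀ ⦃i j : J⦄ (f : i ⟶ j), (F.map f).hom (s i) = s j) :
    ∃ x : c.pt, ∀ j, (c.π.app j).hom x = s j := by
  let e := Types.isLimitEquivSections (isLimitOfPreserves (forget AddCommGrpCat) hc)
  let s' : (F ⋙ forget AddCommGrpCat).sections := ⟨s, fun {i j} f => hs f⟩
  refine ⟨e.symm s', fun j => ?_⟩
  exact Types.isLimitEquivSections_symm_apply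
    (isLimitOfPreserves (forget AddCommGrpCat) hc) s' j

/-- components of an element of a limit are compatible -/
theorem cone_π_compat {F : J ⥤ AddCommGrpCat.{v}} (c : Cone F) (x : c.pt) ⦃i j : J⦄ (f : i ⟶ j) :
    (F.map f).hom ((c.π.app i).hom x) = (c.π.app j).hom x := by
  have := ConcreteCategory.congr_hom (c.w f) x
  exact this

end Limits

end Groth.Agent.Lib.Helper13.MLLim
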