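import Groth.Agent.Lib.Helper13.MLLim

/-!
# Homology of limits of Mittag-Leffler systems of complexes of abelian groups (helper13)

Elementwise API for cycles/homology of complexes of abelian groups, the description of cycles of a
limit complex, and the comparison `H^n(lim K) ⟶ lim H^n(K_i)`:
* `post_surjective`: surjective if the terms in degree `n - 1` form a Mittag-Leffler system;
* `post_injective`: injective if the terms in degree `n - 2` and the cohomologies in degree `n - 1`
  form Mittag-Leffler systems.
-/

set_option autoImplicit false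
universe u v w t

namespace Groth.Agent.Lib.Helper13.MLLimHomology

open CategoryTheory CategoryTheory.Limits Opposite HomologicalComplex
open Groth.Agent.Lib.Helper13.MLLim

section Elementwise

variable (L : HomologicalComplex AddCommGrpCat.{v} (ComplexShape.up ℤ))

lemma iCycles_injective (n : ℤ) : Function.Injective (L.iCycles n).hom :=
  (AddCommGrpCat.mono_iff_injective _).1 inferInstance

lemma homologyπ_surjective (n : ℤ) : Function.Surjective (L.homologyπ n).hom :=
  (AddCommGrpCat.epi_iff_surjective _).1 inferInstance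

lemma iCycles_toCycles_apply (m n : ℤ) (w : L.X m) :
    (L.iCycles n).hom ((L.toCycles m n).hom w) = (L.d m n).hom w := by
  have := ConcreteCategory.congr_hom (L.toCycles_i m n) w
  exact this

lemma d_iCycles_apply (n n' : ℤ) (z : L.cycles n) :
    (L.d n n').hom ((L.iCycles n).hom z) = 0 := by
  have := ConcreteCategory.congr_hom (L.iCycles_d n n') z
  exact this

lemma exists_cycles (n n' : ℤ) (hn' : n + 1 = n') (x : L.X n) (hx : (L.d n n').hom x = 0) :
    ∃ z : L.cycles n, (L.iCycles n).hom z = x := by
  have hS : (ShortComplex.mk (L.iCycles n) (L.d n n') (L.iCycles_d n n')).Exact :=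
    ShortComplex.exact_of_f_is_kernel _ (L.cyclesIsKernel n n' (by simp [← hn']))
  exact (ShortComplex.ab_exact_iff _).1 hS x hx

lemma ker_homologyπ (m n : ℤ) (hm : m + 1 = n) :
    (L.homologyπ n).hom.ker = (L.toCycles m n).hom.range := by
  have hS : (ShortComplex.mk (L.toCycles m n) (L.homologyπ n)
      (L.toCycles_comp_homologyπ m n)).Exact :=
    ShortComplex.exact_of_g_is_cokernel _ (L.homologyIsCokernel m n (by simp [← hm]))
  rw [ShortComplex.ab_exact_iff_range_eq_ker] at hS
  exact hS.symm

lemma ker_toCycles (m n : ℤ) (hm : m + 1 = n) :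
    (L.toCycles m n).hom.ker = (L.iCycles m).hom.range := by
  ext x
  constructor
  · intro hx
    rw [AddMonoidHom.mem_ker] at hx
    have hd : (L.d m n).hom x = 0 := by
      rw [← iCycles_toCycles_apply, hx, map_zero]
    obtain ⟨z, hz⟩ := exists_cycles L m n hm x hd
    exact ⟨z, hz⟩
  · rintro ⟨z, rfl⟩
    rw [AddMonoidHom.mem_ker]
    apply iCycles_injective L n
    rw [iCycles_toCycles_apply, d_iCycles_apply, map_zero]

variable {L}
variable {L' : HomologicalComplex AddCommGrpCat.{v} (ComplexShape.up ℤ)} (φ : L ⟶ L')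

lemma iCycles_cyclesMap_apply (n : ℤ) (z : L.cycles n) :
    (L'.iCycles n).hom ((cyclesMap φ n).hom z) = (φ.f n).hom ((L.iCycles n).hom z) := by
  have := ConcreteCategory.congr_hom (cyclesMap_i φ n) z
  exact this

lemma homologyπ_cyclesMap_apply (n : ℤ) (z : L.cycles n) :
    (L'.homologyπ n).hom ((cyclesMap φ n).hom z) =
      (homologyMap φ n).hom ((L.homologyπ n).hom z) := by
  have := ConcreteCategory.congr_hom (homologyπ_naturality φ n) z
  exact this.symm

lemma d_apply_comm (n n' : ℤ) (x : L.X n) :
    (φ.f n').hom ((L.d n n').hom x) = (L'.d n n').hom ((φ.f n).hom x) := by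
  have := ConcreteCategory.congr_hom (φ.comm n n') x
  exact this.symm

lemma toCycles_cyclesMap_apply (m n : ℤ) (w : L.X m) :
    (cyclesMap φ n).hom ((L.toCycles m n).hom w) = (L'.toCycles m n).hom ((φ.f m).hom w) := by
  apply iCycles_injective L' n
  rw [iCycles_cyclesMap_apply, iCycles_toCycles_apply, iCycles_toCycles_apply, d_apply_comm]

end Elementwise

/-- `toCycles` as a natural transformation. -/
noncomputable def toCyclesNatTrans (m n : ℤ) :
    HomologicalComplex.eval AddCommGrpCat.{v} (ComplexShape.up ℤ) m ⟶
      cyclesFunctor AddCommGrpCat.{v} (ComplexShape.up ℤ) n where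
  app L := L.toCycles m n
  naturality L L' φ := by
    ext w
    exact (toCycles_cyclesMap_apply φ m n w).symm

/-- `iCycles` as a natural transformation. -/
noncomputable def iCyclesNatTrans (n : ℤ) :
    cyclesFunctor AddCommGrpCat.{v} (ComplexShape.up ℤ) n ⟶
      HomologicalComplex.eval AddCommGrpCat.{v} (ComplexShape.up ℤ) n where
  app L := L.iCycles n
  naturality L L' φ := by
    ext w
    exact iCycles_cyclesMap_apply φ n w

section LimitCycles

variable {J : Type w} [Category.{t} J] [HasLimitsOfShape J AddCommGrpCat.{v}]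
  [PreservesLimitsOfShape J (forget AddCommGrpCat.{v})]
  (K : J ⥤ HomologicalComplex AddCommGrpCat.{v} (ComplexShape.up ℤ))

/-- elements of a term of a limit complex are determined by their components -/
theorem X_ext (q : ℤ) (x y : (limit K).X q)
    (h : ∀ j, ((limit.π K j).f q).hom x = ((limit.π K j).f q).hom y) : x = y :=
  cone_ext (isLimitOfPreserves (HomologicalComplex.eval _ _ q) (limit.isLimit K)) x y h

/-- compatible families of elements of the terms come from the limit complex -/
theorem X_exists (q : ℤ) (s : ∀ j, (K.obj j).X q)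
    (hs : ∀ ⦃i j : J⦄ (f : i ⟶ j), ((K.map f).f q).hom (s i) = s j) :
    ∃ x : (limit K).X q, ∀ j, ((limit.π K j).f q).hom x = s j :=
  cone_exists_of_section (isLimitOfPreserves (HomologicalComplex.eval _ _ q) (limit.isLimit K))
    s hs

/-- cycles of a limit complex are determined by their components -/
theorem cycles_ext (n : ℤ) (y y' : (limit K).cycles n)
    (h : ∀ j, (cyclesMap (limit.π K j) n).hom y = (cyclesMap (limit.π K j) n).hom y') :
    y = y' := by
  apply iCycles_injective _ n
  apply X_ext K n
  intro j
  rw [← iCycles_cyclesMap_apply, ← iCycles_cyclesMap_apply, h]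

/-- compatible families of cycles come from cycles of the limit complex -/
theorem cycles_exists (n : ℤ) (x : ∀ j, (K.obj j).cycles n)
    (hx : ∀ ⦃i j : J⦄ (f : i ⟶ j), (cyclesMap (K.map f) n).hom (x i) = x j) :
    ∃ y : (limit K).cycles n, ∀ j, (cyclesMap (limit.π K j) n).hom y = x j := by
  obtain ⟨y, hy⟩ := X_exists K n (fun j => ((K.obj j).iCycles n).hom (x j)) (fun i j f => by
    rw [← iCycles_cyclesMap_apply, hx])
  have hdy : ((limit K).d n (n + 1)).hom y = 0 := by
    apply X_ext K (n + 1)
    intro j
    rw [d_apply_comm, hy, d_iCycles_apply, map_zero]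
  obtain ⟨y', hy'⟩ := exists_cycles (limit K) n (n + 1) rfl y hdy
  refine ⟨y', fun j => ?_⟩
  apply iCycles_injective _ n
  rw [iCycles_cyclesMap_apply, hy', hy]

end LimitCycles

section Comparison

variable {ι : Type u} [Preorder ι] [Nonempty ι] [IsDirected ι (· ≤ ·)]
  [HasLimitsOfShape ιᵒᵖ AddCommGrpCat.{v}]
  [PreservesLimitsOfShape ιᵒᵖ (forget AddCommGrpCat.{v})]
  (hcof : ∃ s : Set ι, s.Countable ∧ ∀ i, ∃ j ∈ s, i ≤ j)
  (K : ιᵒᵖ ⥤ HomologicalComplex AddCommGrpCat.{v} (ComplexShape.up ℤ))

lemma post_apply (n : ℤ) (i : ιᵒᵖ) (w : (limit K).homology n) :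
    (limit.π (K ⋙ homologyFunctor _ _ n) i).hom
      ((limit.post K (homologyFunctor _ _ n)).hom w) =
      (homologyMap (limit.π K i) n).hom w := by
  have := ConcreteCategory.congr_hom (limit.post_π K (homologyFunctor _ _ n) i) w
  exact this

include hcof

/-- If the terms in degree `m = n - 1` form a Mittag-Leffler system, then
`H^n(lim K) ⟶ lim H^n(K_i)` is surjective. -/
theorem post_surjective (m n : ℤ) (hm : m + 1 = n)
    (hKm : ((K ⋙ HomologicalComplex.eval _ _ m) ⋙ forget AddCommGrpCat).IsMittagLeffler) :
    Function.Surjective (limit.post K (homologyFunctor _ _ n)).hom := by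
  intro z
  obtain ⟨x, hx, hxc⟩ := exists_section_lift hcof
    (Functor.whiskerLeft K (toCyclesNatTrans m n))
    (Functor.whiskerLeft K (natTransHomologyπ _ _ n))
    (fun i => ker_homologyπ (K.obj i) m n hm) hKm
    (fun i => (limit.π (K ⋙ homologyFunctor _ _ n) i).hom z)
    (fun i j f => cone_π_compat (limit.cone (K ⋙ homologyFunctor _ _ n)) z f)
    (fun i => homologyπ_surjective (K.obj i) n _)
  obtain ⟨y, hy⟩ := cycles_exists K n x hx
  refine ⟨((limit K).homologyπ n).hom y, ?_⟩
  apply cone_ext (limit.isLimit (K ⋙ homologyFunctor _ _ n))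
  intro i
  change (limit.π (K ⋙ homologyFunctor _ _ n) i).hom _ =
    (limit.π (K ⋙ homologyFunctor _ _ n) i).hom z
  rw [post_apply, ← homologyπ_cyclesMap_apply, hy]
  exact hxc i

/-- If the terms in degree `l = n - 2` and the cohomologies in degree `m = n - 1` form
Mittag-Leffler systems, then `H^n(lim K) ⟶ lim H^n(K_i)` is injective. -/
theorem post_injective (l m n : ℤ) (hl : l + 1 = m) (hm : m + 1 = n)
    (hKl : ((K ⋙ HomologicalComplex.eval _ _ l) ⋙ forget AddCommGrpCat).IsMittagLeffler)
    (hHm : ((K ⋙ homologyFunctor _ _ m) ⋙ forget AddCommGrpCat).IsMittagLeffler) :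
    Function.Injective (limit.post K (homologyFunctor _ _ n)).hom := by
  rw [injective_iff_map_eq_zero]
  intro w hw
  obtain ⟨y, rfl⟩ := homologyπ_surjective (limit K) n w
  -- the system of cycles in degree `m` is Mittag-Leffler
  have hZm : ((K ⋙ cyclesFunctor _ _ m) ⋙ forget AddCommGrpCat).IsMittagLeffler :=
    isMittagLeffler_of_exact
      (Functor.whiskerLeft K (toCyclesNatTrans l m))
      (Functor.whiskerLeft K (natTransHomologyπ _ _ m))
      (fun i => homologyπ_surjective (K.obj i) m)
      (fun i => ker_homologyπ (K.obj i) l m hl) hKl hHm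
  -- each component of `y` is a boundary
  have hyb : ∀ i, ∃ v : (K.obj i).X m,
      ((K.obj i).toCycles m n).hom v = (cyclesMap (limit.π K i) n).hom y := by
    intro i
    have h0 : ((K.obj i).homologyπ n).hom ((cyclesMap (limit.π K i) n).hom y) = 0 := by
      rw [homologyπ_cyclesMap_apply, ← post_apply, hw]
      exact map_zero _
    have : (cyclesMap (limit.π K i) n).hom y ∈ ((K.obj i).homologyπ n).hom.ker := h0
    rw [ker_homologyπ (K.obj i) m n hm] at this
    exact this
  obtain ⟨v, hv, hvc⟩ := exists_section_lift hcof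
    (Functor.whiskerLeft K (iCyclesNatTrans m))
    (Functor.whiskerLeft K (toCyclesNatTrans m n))
    (fun i => ker_toCycles (K.obj i) m n hm) hZm
    (fun i => (cyclesMap (limit.π K i) n).hom y)
    (fun i j f => by
      change (cyclesMap (K.map f) n).hom ((cyclesMap (limit.π K i) n).hom y) =
        (cyclesMap (limit.π K j) n).hom y
      have h1 : limit.π K i ≫ K.map f = limit.π K j := limit.w K f
      rw [← h1, cyclesMap_comp]
      rfl)
    hyb
  obtain ⟨v', hv'⟩ := X_exists K m v hv
  have : ((limit K).toCycles m n).hom v' = y := by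
    apply cycles_ext K n
    intro i
    rw [toCycles_cyclesMap_apply, hv']
    exact hvc i
  rw [← this]
  have h0 := ConcreteCategory.congr_hom ((limit K).toCycles_comp_homologyπ m n) v'
  exact h0

end Comparison

end Groth.Agent.Lib.Helper13.MLLimHomology
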