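import Groth.Agent.Lib.Helper13.ExtCompact
import Groth.Agent.Lib.Helper45.QcSum4
import Groth.Agent.Lib.Helper53.ModGroth
import Groth.Agent.S9103
import Groth.Prelude.Def_CohSite

set_option autoImplicit false
set_option linter.unusedSectionVars false
universe w v u
open CategoryTheory Category Limits Opposite

namespace Groth.Agent.Lib.Helper13.ModSiteCompact

open Groth.Agent.Lib.Helper40.Cpt Groth.Agent.Lib.Helper13.ExtCompact

section General

variable {A : Type u} [Category.{v} A] [Preadditive A] [HasCoproducts.{v} A]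

lemma finSum_of_preserves_coyoneda (P : A) {ι : Type v}
    [PreservesColimitsOfShape (Discrete ι) (preadditiveCoyoneda.obj (op P))] (Y : ι → A)
    (m : P ⟶ ∐ Y) : FinSum P (Sigma.ι Y) m := by
  classical
  have hc' := isColimitOfPreserves (preadditiveCoyoneda.obj (op P))
    (colimit.isColimit (Discrete.functor Y))
  have key : ∀ x : P ⟶ ∐ Y, FinSum P (Sigma.ι Y) x := by
    refine ab_coproduct_induction _ hc' (fun x => FinSum P (Sigma.ι Y) x) ?_ ?_ ?_
    · exact ⟨∅, fun _ => 0, fun _ _ => rfl, by simp; rfl⟩
    · intro x y hx hy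
      exact hx.add hy
    · intro i g
      let g' : P ⟶ Y i.as := g
      show FinSum P (Sigma.ι Y) (g' ≫ Sigma.ι Y i.as)
      have := FinSum.of_sum (K := P) (Sigma.ι Y) {i.as}
        (fun j => if h : j = i.as then g' ≫ eqToHom (by rw [h]) else 0)
      simpa [Category.comp_id] using this
  exact key m

end General

section ModSiteSec

open ModSite Groth.Agent.Lib.Helper45.QcSum

variable {C : Type u} [SmallCategory C] {J : GrothendieckTopology C}
  (O : Sheaf J CommRingCat.{u})

lemma exists_lift_sections_of_epi (U : C) (hwc : CohSite.IsWeaklyContractible J U)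
    {M N : Mod O} (p : M ⟶ N) [Epi p] (s : N.val.obj (op U)) :
    ∃ t : M.val.obj (op U), p.val.app (op U) t = s := by
  have h1 : Epi ((SheafOfModules.toSheaf (ringSh O)).map p) := inferInstance
  have h2 := (Sheaf.isLocallySurjective_iff_epi' _ _).2 h1
  let φ := (sheafCompose J (forget AddCommGrpCat.{u})).map
    ((SheafOfModules.toSheaf (ringSh O)).map p)
  have h3 : Sheaf.IsLocallySurjective φ := inferInstance
  have h4 : Epi φ := (Sheaf.isLocallySurjective_iff_epi φ).1 h3
  obtain ⟨t, ht⟩ := hwc _ _ φ h4 s
  exact ⟨t, ht⟩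

/-- `j_! O_U` is projective when `U` is weakly contractible. -/
lemma projective_freeOn (U : C) (hwc : CohSite.IsWeaklyContractible J U) :
    Projective (freeOn O U) := by
  constructor
  intro M N f p hp
  obtain ⟨t, ht⟩ := exists_lift_sections_of_epi O U hwc p (f.val.app (op U) (univ O U))
  refine ⟨ofSec O t, ?_⟩
  rw [ofSec_comp, ht, ← eq_ofSec]

/-- `j_! O_U[0]` is compact in `D(O)` when `U` is quasi-compact and weakly contractible. -/
theorem isCompact_freeOn [HasDerivedCategory.{u} (Mod O)]
    [HasCoproducts.{u} (DerivedCategory (Mod O))] (U : C)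
    (hqc : CohCx.IsQcObject ((presheafToSheaf J (Type u)).obj (yoneda.obj U)))
    (hwc : CohSite.IsWeaklyContractible J U) :
    CohDer.IsCompactObject ((DerivedCategory.singleFunctor (Mod O) 0).obj (freeOn O U)) := by
  have : IsGrothendieckAbelian.{u} (Mod O) :=
    Groth.Agent.Lib.Helper53.ModGroth.isGrothendieckAbelian J (ringSh O)
  have := projective_freeOn O U hwc
  have hc : CohDer.IsCompactObject (freeOn O U) := isCompact_of_finSum (fun ι Y m => by
    have := Groth.Agent.S9103.result O U hqc ι
    exact finSum_of_preserves_coyoneda _ Y m)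
  exact Groth.Agent.Lib.Helper13.DerCompactGen.isCompact_stalk (freeOn O U) hc

end ModSiteSec

end Groth.Agent.Lib.Helper13.ModSiteCompact
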