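import Mathlib

/-!
# Relative resolutions by a class of objects (chain complex level)

Given a class `P` of objects of an abelian category with "enough `P`-objects", and a morphism
`g : Q ⟶ L` of `ℕ`-indexed chain complexes where `Q` has terms in `P`, we factor `g` as a termwise
split monomorphism with cokernels in `P` followed by a termwise epimorphic quasi-isomorphism.
-/

open CategoryTheory Limits

universe v u

namespace Groth.Agent.Lib.Helper13.PRes

variable {A : Type u} [Category.{v} A] [Abelian A]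

/-- A choice of covers by objects of `P`. -/
structure Cov (P : ObjectProperty A) where
  obj : A → A
  π : ∀ X, obj X ⟶ X
  hP : ∀ X, P (obj X)
  epi : ∀ X, Epi (π X)

attribute [instance] Cov.epi

lemma nonempty_cov (P : ObjectProperty A)
    (hP : ∀ X : A, ∃ (Y : A) (π : Y ⟶ X), P Y ∧ Epi π) : Nonempty (Cov P) := by
  choose Y π h using hP
  exact ⟨⟨Y, π, fun X => (h X).1, fun X => (h X).2⟩⟩

/-- The state of the recursion in degree `k`. -/
structure St (P : ObjectProperty A) (Q L : ChainComplex A ℕ) (k : ℕ) where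
  Xp : A
  G : A
  dQ : Q.X k ⟶ Xp
  dG : G ⟶ Xp
  πG : G ⟶ L.X k
  hG : P G
  hdQ : ∀ j, Q.d j k ≫ dQ = 0

namespace St

variable {P : ObjectProperty A} {Q L : ChainComplex A ℕ} {k : ℕ} (s : St P Q L k)

noncomputable def X : A := Q.X k ⊞ s.G
noncomputable def d : s.X ⟶ s.Xp := biprod.desc s.dQ s.dG
noncomputable def inc : Q.X k ⟶ s.X := biprod.inl
noncomputable def inG : s.G ⟶ s.X := biprod.inr
noncomputable def ret : s.X ⟶ Q.X k := biprod.fst
noncomputable def π (g : Q ⟶ L) : s.X ⟶ L.X k := biprod.desc (g.f k) s.πG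

@[reassoc (attr := simp)] lemma inc_d : s.inc ≫ s.d = s.dQ := biprod.inl_desc _ _
@[reassoc (attr := simp)] lemma inG_d : s.inG ≫ s.d = s.dG := biprod.inr_desc _ _
@[reassoc (attr := simp)] lemma inc_π (g : Q ⟶ L) : s.inc ≫ s.π g = g.f k := biprod.inl_desc _ _
@[reassoc (attr := simp)] lemma inG_π (g : Q ⟶ L) : s.inG ≫ s.π g = s.πG := biprod.inr_desc _ _
@[reassoc (attr := simp)] lemma inc_ret : s.inc ≫ s.ret = 𝟙 _ := biprod.inl_fst

lemma hom_ext {Y : A} {f f' : s.X ⟶ Y} (h₁ : s.inc ≫ f = s.inc ≫ f')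
    (h₂ : s.inG ≫ f = s.inG ≫ f') : f = f' := by
  apply biprod.hom_ext'
  · exact h₁
  · exact h₂

end St

section

variable {P : ObjectProperty A} (C : Cov P) {Q L : ChainComplex A ℕ} (g : Q ⟶ L)

/-- The object to be covered in the inductive step. -/
noncomputable def stepT {k : ℕ} (s : St P Q L k) : A :=
  pullback (kernel.ι s.d ≫ s.π g) (L.d (k + 1) k)

noncomputable def stepFst {k : ℕ} (s : St P Q L k) : stepT g s ⟶ s.X :=
  pullback.fst _ _ ≫ kernel.ι s.d

noncomputable def stepSnd {k : ℕ} (s : St P Q L k) : stepT g s ⟶ L.X (k + 1) :=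
  pullback.snd _ _

@[reassoc (attr := simp)]
lemma stepFst_d {k : ℕ} (s : St P Q L k) : stepFst g s ≫ s.d = 0 := by
  simp [stepFst]

@[reassoc]
lemma stepFst_π {k : ℕ} (s : St P Q L k) :
    stepFst g s ≫ s.π g = stepSnd g s ≫ L.d (k + 1) k := by
  simp only [stepFst, stepSnd, Category.assoc]
  exact pullback.condition

lemma stepT_lift {k : ℕ} (s : St P Q L k) {T₀ : A} (z : T₀ ⟶ s.X) (x : T₀ ⟶ L.X (k + 1))
    (hz : z ≫ s.d = 0) (hzx : z ≫ s.π g = x ≫ L.d (k + 1) k) :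
    ∃ t : T₀ ⟶ stepT g s, t ≫ stepFst g s = z ∧ t ≫ stepSnd g s = x := by
  refine ⟨pullback.lift (kernel.lift s.d z hz) x (by simpa using hzx), ?_, ?_⟩
  · exact (pullback.lift_fst_assoc _ _ _ _).trans (kernel.lift_ι _ _ _)
  · exact pullback.lift_snd _ _ _

/-- The inductive step. -/
noncomputable def next {k : ℕ} (s : St P Q L k) : St P Q L (k + 1) where
  Xp := s.X
  G := C.obj (stepT g s)
  dQ := Q.d (k + 1) k ≫ s.inc
  dG := C.π _ ≫ stepFst g s
  πG := C.π _ ≫ stepSnd g s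
  hG := C.hP _
  hdQ := fun j => by simp

/-- The initial state. -/
noncomputable def st0 : St P Q L 0 where
  Xp := L.X 0
  G := C.obj (L.X 0)
  dQ := 0
  dG := 0
  πG := C.π _
  hG := C.hP _
  hdQ := fun j => by simp

/-- The sequence of states. -/
noncomputable def st : ∀ k, St P Q L k
  | 0 => st0 C
  | k + 1 => next C g (st k)

lemma st0_d : (st0 C : St P Q L 0).d = 0 := by
  apply St.hom_ext
  · rw [St.inc_d, comp_zero]; rfl
  · rw [St.inG_d, comp_zero]; rfl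

variable {k : ℕ} (s : St P Q L k)

lemma next_d_d : (next C g s).d ≫ s.d = 0 := by
  apply St.hom_ext
  · rw [St.inc_d_assoc, comp_zero]
    change (Q.d (k + 1) k ≫ s.inc) ≫ s.d = 0
    rw [Category.assoc, St.inc_d, s.hdQ]
  · rw [St.inG_d_assoc, comp_zero]
    change (C.π _ ≫ stepFst g s) ≫ s.d = 0
    rw [Category.assoc, stepFst_d, comp_zero]

lemma next_inc_d : (next C g s).inc ≫ (next C g s).d = Q.d (k + 1) k ≫ s.inc := by
  rw [St.inc_d]; rfl

lemma next_π_d : (next C g s).π g ≫ L.d (k + 1) k = (next C g s).d ≫ s.π g := by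
  apply St.hom_ext
  · rw [St.inc_π_assoc, St.inc_d_assoc]
    change _ = (Q.d (k + 1) k ≫ s.inc) ≫ s.π g
    rw [Category.assoc, St.inc_π, g.comm]
  · rw [St.inG_π_assoc, St.inG_d_assoc]
    change (C.π _ ≫ stepSnd g s) ≫ _ = (C.π _ ≫ stepFst g s) ≫ _
    rw [Category.assoc, Category.assoc, stepFst_π]

lemma next_lift {T₀ : A} (z : T₀ ⟶ s.X) (x : T₀ ⟶ L.X (k + 1))
    (hz : z ≫ s.d = 0) (hzx : z ≫ s.π g = x ≫ L.d (k + 1) k) :
    ∃ (T' : A) (p : T' ⟶ T₀) (_ : Epi p) (w : T' ⟶ (next C g s).X),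
      w ≫ (next C g s).d = p ≫ z ∧ w ≫ (next C g s).π g = p ≫ x := by
  obtain ⟨t, ht₁, ht₂⟩ := stepT_lift g s z x hz hzx
  obtain ⟨T', p, hp, w₀, hw₀⟩ := surjective_up_to_refinements_of_epi (C.π (stepT g s)) t
  let w₁ : T' ⟶ (next C g s).G := w₀
  refine ⟨T', p, hp, w₁ ≫ (next C g s).inG, ?_, ?_⟩
  · rw [Category.assoc, St.inG_d]
    change w₀ ≫ C.π _ ≫ stepFst g s = _
    rw [← reassoc_of% hw₀, ht₁]
  · rw [Category.assoc, St.inG_π]
    change w₀ ≫ C.π _ ≫ stepSnd g s = _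
    rw [← reassoc_of% hw₀, ht₂]

/-- Cycles of `L` lift to cycles. -/
def E : Prop :=
  ∀ ⦃T₀ : A⦄ (y : T₀ ⟶ L.X k) (j : ℕ), (ComplexShape.down ℕ).next k = j → y ≫ L.d k j = 0 →
    ∃ (T' : A) (p : T' ⟶ T₀) (_ : Epi p) (x : T' ⟶ s.X), x ≫ s.d = 0 ∧ x ≫ s.π g = p ≫ y

lemma E_st0 : E g (st0 C : St P Q L 0) := by
  intro T₀ y j _ _
  obtain ⟨T', p, hp, w₀, hw₀⟩ := surjective_up_to_refinements_of_epi (C.π (L.X 0)) y
  let w₁ : T' ⟶ (st0 C : St P Q L 0).G := w₀
  refine ⟨T', p, hp, w₁ ≫ (st0 C : St P Q L 0).inG, ?_, ?_⟩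
  · rw [st0_d, comp_zero]
  · rw [Category.assoc, St.inG_π]
    exact hw₀.symm

lemma E_next : E g (next C g s) := by
  intro T₀ y j hj hy
  obtain rfl : k = j := by simpa using hj
  obtain ⟨T', p, hp, w, hw₁, hw₂⟩ := next_lift C g s (0 : T₀ ⟶ s.X) y (by simp) (by simp [hy])
  exact ⟨T', p, hp, w, hw₁.trans comp_zero, hw₂⟩

lemma E_st (k : ℕ) : E g (st C g k) := by
  cases k with
  | zero => exact E_st0 C g
  | succ k => exact E_next C g _

lemma epi_π_st0 : Epi ((st0 C : St P Q L 0).π g) := by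
  have : Epi ((st0 C : St P Q L 0).inG ≫ (st0 C : St P Q L 0).π g) := by
    rw [St.inG_π]; exact C.epi _
  exact epi_of_epi (st0 C : St P Q L 0).inG _

lemma epi_stepSnd (hs : E g s) : Epi (stepSnd g s) := by
  rw [epi_iff_surjective_up_to_refinements]
  intro T₀ y
  obtain ⟨T', p, hp, x, hx₁, hx₂⟩ := hs (y ≫ L.d (k + 1) k) _ rfl (by simp)
  obtain ⟨t, _, ht₂⟩ := stepT_lift g s x (p ≫ y) hx₁ (by rw [hx₂, Category.assoc])
  exact ⟨T', p, hp, t, ht₂.symm⟩

lemma epi_π_next (hs : E g s) : Epi ((next C g s).π g) := by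
  have := epi_stepSnd g s hs
  have : Epi ((next C g s).inG ≫ (next C g s).π g) := by
    rw [St.inG_π]
    change Epi (C.π _ ≫ stepSnd g s)
    infer_instance
  exact epi_of_epi (next C g s).inG _

lemma epi_π_st (k : ℕ) : Epi ((st C g k).π g) := by
  cases k with
  | zero => exact epi_π_st0 C g
  | succ k => exact epi_π_next C g _ (E_st C g k)

end

section Assembly

variable {P : ObjectProperty A} (C : Cov P) {Q L : ChainComplex A ℕ} (g : Q ⟶ L)

/-- The resolution complex. -/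
noncomputable def Q' : ChainComplex A ℕ :=
  ChainComplex.of (fun k => (st C g k).X) (fun k => (st C g (k + 1)).d)
    (fun k => next_d_d C g (st C g (k + 1)))

lemma Q'_d (k : ℕ) : (Q' C g).d (k + 1) k = (st C g (k + 1)).d := by
  exact ChainComplex.of_d (fun k => (st C g k).X) (fun k => (st C g (k + 1)).d) k

lemma comp_d_eq_zero_iff (k j : ℕ) (hj : (ComplexShape.down ℕ).next k = j) {T₀ : A}
    (x : T₀ ⟶ (st C g k).X) :
    x ≫ (st C g k).d = 0 ↔ x ≫ (Q' C g).d k j = 0 := by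
  cases k with
  | zero =>
    have h1 : (st C g 0).d = 0 := st0_d C
    have h2 : (Q' C g).d 0 j = 0 := (Q' C g).shape _ _ (by simp)
    rw [h1, h2]
    exact ⟨fun _ => comp_zero, fun _ => comp_zero⟩
  | succ k =>
    obtain rfl : k = j := by simpa using hj
    rw [Q'_d]
    rfl

/-- The inclusion `Q ⟶ Q'`. -/
noncomputable def ι' : Q ⟶ Q' C g where
  f k := (st C g k).inc
  comm' := by
    rintro i j (rfl : j + 1 = i)
    rw [Q'_d]
    exact next_inc_d C g (st C g j)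

/-- The projection `Q' ⟶ L`. -/
noncomputable def π' : Q' C g ⟶ L where
  f k := (st C g k).π g
  comm' := by
    rintro i j (rfl : j + 1 = i)
    rw [Q'_d]
    exact next_π_d C g (st C g j)

lemma ι'_π' : ι' C g ≫ π' C g = g := by
  ext k
  exact St.inc_π _ g

instance (k : ℕ) : Epi ((π' C g).f k) := epi_π_st C g k

lemma quasiIso_π' : QuasiIso (π' C g) := by
  rw [quasiIso_iff]
  intro k
  rw [quasiIsoAt_iff_isIso_homologyMap]
  have hm : Mono (HomologicalComplex.homologyMap (π' C g) k) := by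
    rw [HomologicalComplex.mono_homologyMap_iff_up_to_refinements (π' C g) (k + 1) k
      ((ComplexShape.down ℕ).next k) (by simp) rfl]
    intro T₀ x₂ hx₂ y₁ h
    have hx₂' : x₂ ≫ (st C g k).d = 0 := (comp_d_eq_zero_iff C g k _ rfl x₂).2 hx₂
    obtain ⟨T', p, hp, w, hw₁, _⟩ := next_lift C g (st C g k) x₂ y₁ hx₂' h
    refine ⟨T', p, hp, w, ?_⟩
    rw [Q'_d]
    exact hw₁.symm
  have he : Epi (HomologicalComplex.homologyMap (π' C g) k) := by
    rw [HomologicalComplex.epi_homologyMap_iff_up_to_refinements (π' C g) (k + 1) k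
      ((ComplexShape.down ℕ).next k) (by simp) rfl]
    intro T₀ y₂ hy₂
    obtain ⟨T', p, hp, x, hx₁, hx₂⟩ := E_st C g k y₂ _ rfl hy₂
    refine ⟨T', p, hp, x, (comp_d_eq_zero_iff C g k _ rfl x).1 hx₁, 0, ?_⟩
    rw [zero_comp, add_zero]
    exact hx₂.symm
  exact isIso_of_mono_of_epi _

end Assembly

/-- The relative resolution lemma for `ℕ`-indexed chain complexes. -/
theorem rrl_chain {P : ObjectProperty A} [P.IsClosedUnderIsomorphisms]
    (hPsum : ∀ X Y : A, P X → P Y → P (X ⊞ Y))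
    (hP : ∀ X : A, ∃ (Y : A) (π : Y ⟶ X), P Y ∧ Epi π)
    {Q L : ChainComplex A ℕ} (g : Q ⟶ L) (hQ : ∀ k, P (Q.X k)) :
    ∃ (Q' : ChainComplex A ℕ) (ι : Q ⟶ Q') (π' : Q' ⟶ L),
      ι ≫ π' = g ∧ QuasiIso π' ∧ (∀ k, Epi (π'.f k)) ∧ (∀ k, P (Q'.X k)) ∧
      ∀ k, (∃ r : Q'.X k ⟶ Q.X k, ι.f k ≫ r = 𝟙 _) ∧ P (cokernel (ι.f k)) := by
  obtain ⟨C⟩ := nonempty_cov P hP
  refine ⟨Q' C g, ι' C g, π' C g, ι'_π' C g, quasiIso_π' C g, fun k => inferInstance,
    fun k => hPsum _ _ (hQ k) (st C g k).hG, fun k => ⟨⟨(st C g k).ret, St.inc_ret _⟩, ?_⟩⟩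
  exact P.prop_of_iso (cokernelBiprodInlIso (X := Q.X k) (Y := (st C g k).G)).symm (st C g k).hG

end Groth.Agent.Lib.Helper13.PRes
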