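import Groth.Agent.Lib.Helper13.PRes1

/-!
# Relative resolutions by a class of objects (bounded above cochain complexes)
-/

open CategoryTheory Limits

universe v u

namespace Groth.Agent.Lib.Helper13.PRes

variable {A : Type u} [Category.{v} A] [Abelian A]

lemma split_cok_of_conj {P : ObjectProperty A} [P.IsClosedUnderIsomorphisms]
    {X Y X' Y' : A} (f : X ⟶ Y) (f' : X' ⟶ Y')
    (a : X' ≅ X) (b : Y ≅ Y') (h : f' = a.hom ≫ f ≫ b.hom)
    (hf : (∃ r : Y ⟶ X, f ≫ r = 𝟙 _) ∧ P (cokernel f)) :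
    (∃ r : Y' ⟶ X', f' ≫ r = 𝟙 _) ∧ P (cokernel f') := by
  obtain ⟨⟨r, hr⟩, hc⟩ := hf
  subst h
  refine ⟨⟨b.inv ≫ r ≫ a.inv, by simp [reassoc_of% hr]⟩, ?_⟩
  exact P.prop_of_iso (cokernel.mapIso f (a.hom ≫ f ≫ b.hom) a.symm b (by simp)) hc

lemma split_cok_of_isZero {P : ObjectProperty A} [P.IsClosedUnderIsomorphisms]
    {X Y : A} (f : X ⟶ Y) (hX : IsZero X) (hY : P Y) :
    (∃ r : Y ⟶ X, f ≫ r = 𝟙 _) ∧ P (cokernel f) := by
  refine ⟨⟨0, hX.eq_of_src _ _⟩, ?_⟩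
  obtain rfl : f = 0 := hX.eq_of_src _ _
  exact P.prop_of_iso cokernelZeroIsoTarget.symm hY

lemma epi_of_isZero_tgt {X Y : A} (f : X ⟶ Y) (hY : IsZero Y) : Epi f :=
  ⟨fun _ _ _ => hY.eq_of_src _ _⟩

lemma exists_chain_model (b : ℤ) (K : CochainComplex A ℤ) [K.IsStrictlyLE b] :
    ∃ (Kc : ChainComplex A ℕ), Nonempty (Kc.extend (ComplexShape.embeddingUpIntLE b) ≅ K) :=
  ⟨K.truncLE' (ComplexShape.embeddingUpIntLE b),
    ⟨(K.truncLEIso (ComplexShape.embeddingUpIntLE b)).symm ≪≫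
      asIso (HomologicalComplex.ιTruncLE K (ComplexShape.embeddingUpIntLE b))⟩⟩

/-- The relative resolution lemma for cochain complexes which are strictly `≤ b`. -/
theorem rrl_cochain {P : ObjectProperty A} [P.IsClosedUnderIsomorphisms]
    (hP0 : ∃ Z : A, IsZero Z ∧ P Z)
    (hPsum : ∀ X Y : A, P X → P Y → P (X ⊞ Y))
    (hP : ∀ X : A, ∃ (Y : A) (π : Y ⟶ X), P Y ∧ Epi π)
    (b : ℤ) {Q L : CochainComplex A ℤ} [Q.IsStrictlyLE b] [L.IsStrictlyLE b]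
    (g : Q ⟶ L) (hQ : ∀ i, P (Q.X i)) :
    ∃ (Q' : CochainComplex A ℤ) (ι : Q ⟶ Q') (π' : Q' ⟶ L), Q'.IsStrictlyLE b ∧
      ι ≫ π' = g ∧ QuasiIso π' ∧ (∀ i, Epi (π'.f i)) ∧ (∀ i, P (Q'.X i)) ∧
      ∀ i, (∃ r : Q'.X i ⟶ Q.X i, ι.f i ≫ r = 𝟙 _) ∧ P (cokernel (ι.f i)) := by
  let e := ComplexShape.embeddingUpIntLE b
  obtain ⟨Qc, ⟨a⟩⟩ := exists_chain_model b Q
  obtain ⟨Lc, ⟨c⟩⟩ := exists_chain_model b L
  have hPz : ∀ X : A, IsZero X → P X := fun X hX => by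
    obtain ⟨Z, hZ, hPZ⟩ := hP0
    exact P.prop_of_iso (hZ.iso hX) hPZ
  obtain ⟨gc, hgc⟩ : ∃ gc : Qc ⟶ Lc,
      HomologicalComplex.extendMap gc e = a.hom ≫ g ≫ c.inv :=
    ⟨(e.extendFunctor A).preimage (a.hom ≫ g ≫ c.inv), (e.extendFunctor A).map_preimage _⟩
  let aX : ∀ i, (Qc.extend e).X i ≅ Q.X i := fun i =>
    (HomologicalComplex.eval _ _ i).mapIso a
  let cX : ∀ i, (Lc.extend e).X i ≅ L.X i := fun i =>
    (HomologicalComplex.eval _ _ i).mapIso c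
  have hQc : ∀ k, P (Qc.X k) := fun k =>
    P.prop_of_iso ((aX (e.f k)).symm ≪≫ (Qc.extendXIso e rfl)) (hQ _)
  obtain ⟨Q'c, ιc, πc, hfac, hqi, hepi, hP', hsplit⟩ := rrl_chain hPsum hP gc hQc
  have hPQ' : ∀ i, P ((Q'c.extend e).X i) := by
    intro i
    by_cases h : ∃ k, e.f k = i
    · obtain ⟨k, rfl⟩ := h
      exact P.prop_of_iso (Q'c.extendXIso e rfl).symm (hP' k)
    · exact hPz _ (Q'c.isZero_extend_X e i (fun k hk => h ⟨k, hk⟩))
  refine ⟨Q'c.extend e, a.inv ≫ HomologicalComplex.extendMap ιc e,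
    HomologicalComplex.extendMap πc e ≫ c.hom, inferInstance, ?_, ?_, ?_, hPQ', ?_⟩
  · rw [Category.assoc, ← HomologicalComplex.extendMap_comp_assoc, hfac, hgc]
    simp
  · haveI := hqi
    infer_instance
  · intro i
    by_cases h : ∃ k, e.f k = i
    · obtain ⟨k, rfl⟩ := h
      rw [HomologicalComplex.comp_f, HomologicalComplex.extendMap_f πc e rfl]
      haveI := hepi k
      infer_instance
    · exact epi_of_isZero_tgt _ (IsZero.of_iso (Lc.isZero_extend_X e i (fun k hk => h ⟨k, hk⟩))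
        (cX i).symm)
  · intro i
    by_cases h : ∃ k, e.f k = i
    · obtain ⟨k, rfl⟩ := h
      refine split_cok_of_conj (ιc.f k) _ ((aX (e.f k)).symm ≪≫ (Qc.extendXIso e rfl))
        (Q'c.extendXIso e rfl).symm ?_ (hsplit k)
      rw [HomologicalComplex.comp_f, HomologicalComplex.extendMap_f ιc e rfl]
      simp [aX]
    · exact split_cok_of_isZero _ (IsZero.of_iso (Qc.isZero_extend_X e i (fun k hk => h ⟨k, hk⟩))
        (aX i).symm) (hPQ' i)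

end Groth.Agent.Lib.Helper13.PRes
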