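import Groth.Agent.Lib.Helper13.PRes2

/-!
# Towers of bounded above `P`-resolutions of the truncations of a complex
-/

open CategoryTheory Limits ZeroObject

universe v u

namespace Groth.Agent.Lib.Helper13.PRes

variable {A : Type u} [Category.{v} A] [Abelian A]

/-- A stage of the tower. -/
structure Stage (P : ObjectProperty A) (K : CochainComplex A ℤ) (n : ℕ) where
  Q : CochainComplex A ℤ
  π : Q ⟶ K.truncLE (n : ℤ)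
  hle : Q.IsStrictlyLE (n : ℤ)
  hP : ∀ i, P (Q.X i)
  qi : QuasiIso π
  epi : ∀ i, Epi (π.f i)

variable {P : ObjectProperty A} [P.IsClosedUnderIsomorphisms]
  (hP0 : ∃ Z : A, IsZero Z ∧ P Z)
  (hPsum : ∀ X Y : A, P X → P Y → P (X ⊞ Y))
  (hP : ∀ X : A, ∃ (Y : A) (π : Y ⟶ X), P Y ∧ Epi π) (K : CochainComplex A ℤ)

include hP0 hPsum hP

lemma step (n : ℕ) (s : Stage P K n) :
    ∃ (s' : Stage P K (n + 1)) (ι : s.Q ⟶ s'.Q),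
      (∀ i, (∃ r : s'.Q.X i ⟶ s.Q.X i, ι.f i ≫ r = 𝟙 _) ∧ P (cokernel (ι.f i))) ∧
      s.π ≫ K.ιTruncLE (n : ℤ) = ι ≫ s'.π ≫ K.ιTruncLE ((n + 1 : ℕ) : ℤ) := by
  haveI := s.hle
  haveI : s.Q.IsStrictlyLE ((n + 1 : ℕ) : ℤ) :=
    s.Q.isStrictlyLE_of_le (n : ℤ) _ (by simp)
  let g : s.Q ⟶ K.truncLE ((n + 1 : ℕ) : ℤ) :=
    inv (s.Q.ιTruncLE ((n + 1 : ℕ) : ℤ)) ≫
      CochainComplex.truncLEMap (s.π ≫ K.ιTruncLE (n : ℤ)) ((n + 1 : ℕ) : ℤ)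
  have hg : g ≫ K.ιTruncLE ((n + 1 : ℕ) : ℤ) = s.π ≫ K.ιTruncLE (n : ℤ) := by
    simp only [g, Category.assoc, CochainComplex.ιTruncLE_naturality, IsIso.inv_hom_id_assoc]
  obtain ⟨Q', ι, π', hle, hfac, hqi, hepi, hPQ', hsplit⟩ :=
    rrl_cochain hP0 hPsum hP ((n + 1 : ℕ) : ℤ) g s.hP
  exact ⟨⟨Q', π', hle, hPQ', hqi, hepi⟩, ι, hsplit, by rw [← hg, ← hfac, Category.assoc]⟩

lemma base : Nonempty (Stage P K 0) := by
  have hz : ∀ i, IsZero ((0 : CochainComplex A ℤ).X i) := fun i =>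
    (HomologicalComplex.eval A _ i).map_isZero (isZero_zero _)
  haveI : (0 : CochainComplex A ℤ).IsStrictlyLE ((0 : ℕ) : ℤ) := by
    rw [CochainComplex.isStrictlyLE_iff]
    intro i _
    exact hz i
  have hPz : ∀ X : A, IsZero X → P X := fun X hX => by
    obtain ⟨Z, hZ, hPZ⟩ := hP0
    exact P.prop_of_iso (hZ.iso hX) hPZ
  obtain ⟨Q', ι, π', hle, hfac, hqi, hepi, hPQ', hsplit⟩ :=
    rrl_cochain hP0 hPsum hP ((0 : ℕ) : ℤ) (0 : (0 : CochainComplex A ℤ) ⟶ K.truncLE ((0 : ℕ) : ℤ))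
      (fun i => hPz _ (hz i))
  exact ⟨⟨Q', π', hle, hPQ', hqi, hepi⟩⟩

theorem tower :
    ∃ (Q : ℕ → CochainComplex A ℤ) (ι : ∀ n, Q n ⟶ Q (n + 1))
      (π : ∀ n : ℕ, Q n ⟶ K.truncLE (n : ℤ)),
      (∀ n, QuasiIso (π n) ∧ ∀ i, Epi ((π n).f i)) ∧
      (∀ n, ∃ b : ℤ, (Q n).IsStrictlyLE b) ∧ (∀ n i, P ((Q n).X i)) ∧
      (∀ n i, (∃ r : (Q (n + 1)).X i ⟶ (Q n).X i, (ι n).f i ≫ r = 𝟙 _) ∧
        P (cokernel ((ι n).f i))) ∧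
      (∀ n : ℕ, π n ≫ K.ιTruncLE (n : ℤ) =
        ι n ≫ π (n + 1) ≫ K.ιTruncLE ((n + 1 : ℕ) : ℤ)) := by
  obtain ⟨s0⟩ := base hP0 hPsum hP K
  choose nxt ι hι using step hP0 hPsum hP K
  let seq : ∀ n, Stage P K n := fun n => Nat.rec s0 (fun n s => nxt n s) n
  exact ⟨fun n => (seq n).Q, fun n => ι n (seq n), fun n => (seq n).π,
    fun n => ⟨(seq n).qi, (seq n).epi⟩, fun n => ⟨n, (seq n).hle⟩, fun n i => (seq n).hP i,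
    fun n i => (hι n (seq n)).1 i, fun n => (hι n (seq n)).2⟩

end Groth.Agent.Lib.Helper13.PRes
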