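import Groth.Prelude.Def_SixF1
import Mathlib

/-!
# Composition of bounded below right derived functors (helper13)

If `θ : H ≅ F ⋙ G` and `F` preserves injectives, then `R⁺H ⟶ R⁺F ⋙ R⁺G` (`EtSix.rPlusDesc₂`)
is an isomorphism.
-/

set_option autoImplicit false
universe u
open CategoryTheory Limits

namespace Groth.Agent.Lib.Helper13.PlusComp

variable {A B C : Type*} [Category A] [Category B] [Category C] [Abelian A] [Abelian B] [Abelian C]

section

variable {F G : A ⥤ B} [F.Additive] [G.Additive]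

lemma ι_map_plusNatTrans (α : F ⟶ G) :
    Functor.whiskerRight (EtSix.plusNatTrans α) (HomotopyCategory.Plus.ι B) =
      Functor.whiskerLeft (HomotopyCategory.Plus.ι A)
        (NatTrans.mapHomotopyCategory α (ComplexShape.up ℤ)) :=
  ((HomotopyCategory.plus B).fullyFaithfulι.whiskeringRight (HomotopyCategory.Plus A)).map_preimage _

lemma plusNatTrans_id : EtSix.plusNatTrans (𝟙 F) = 𝟙 _ := by
  apply ((HomotopyCategory.plus B).fullyFaithfulι.whiskeringRight (HomotopyCategory.Plus A)).map_injective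
  show Functor.whiskerRight (EtSix.plusNatTrans (𝟙 F)) (HomotopyCategory.Plus.ι B) = _
  rw [ι_map_plusNatTrans, NatTrans.mapHomotopyCategory_id]
  rfl

lemma plusNatTrans_comp {H : A ⥤ B} [H.Additive] (α : F ⟶ G) (β : G ⟶ H) :
    EtSix.plusNatTrans (α ≫ β) = EtSix.plusNatTrans α ≫ EtSix.plusNatTrans β := by
  apply ((HomotopyCategory.plus B).fullyFaithfulι.whiskeringRight (HomotopyCategory.Plus A)).map_injective
  show Functor.whiskerRight (EtSix.plusNatTrans (α ≫ β)) (HomotopyCategory.Plus.ι B) =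
    Functor.whiskerRight (EtSix.plusNatTrans α ≫ EtSix.plusNatTrans β) (HomotopyCategory.Plus.ι B)
  rw [Functor.whiskerRight_comp, ι_map_plusNatTrans, ι_map_plusNatTrans, ι_map_plusNatTrans,
    NatTrans.mapHomotopyCategory_comp]
  rfl

instance isIso_plusNatTrans (α : F ⟶ G) [IsIso α] : IsIso (EtSix.plusNatTrans α) :=
  ⟨EtSix.plusNatTrans (inv α), by rw [← plusNatTrans_comp, IsIso.hom_inv_id, plusNatTrans_id],
    by rw [← plusNatTrans_comp, IsIso.inv_hom_id, plusNatTrans_id]⟩

end

section Main

variable [HasDerivedCategory A] [HasDerivedCategory B] [HasDerivedCategory C]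
  {F : A ⥤ B} {G : B ⥤ C} {H : A ⥤ C} [F.Additive] [G.Additive] [H.Additive]
  [EnoughInjectives A] [EnoughInjectives B]

theorem isRightDerivedFunctor_rPlusUnit₂ (θ : H ⟶ F ⋙ G) [IsIso θ]
    (hF : ∀ I : A, Injective I → Injective (F.obj I)) :
    (F.rightDerivedFunctorPlus ⋙ G.rightDerivedFunctorPlus).IsRightDerivedFunctor
      (EtSix.rPlusUnit₂ θ) (HomotopyCategory.Plus.quasiIso A) := by
  refine (HomotopyCategory.Plus.localizerMorphism_derives _).isRightDerivedFunctor_of_isIso _ ?_
  intro K
  haveI : ∀ n : ℤ, Injective ((F.mapHomotopyCategoryPlus.obj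
      ((HomotopyCategory.Plus.localizerMorphism A).functor.obj K)).obj.as.X n) := by
    intro n
    obtain ⟨K, hK⟩ := K
    obtain ⟨K, rfl⟩ := HomotopyCategory.quotient_obj_surjective K
    exact hF _ (K.X n).property
  haveI h2 : IsIso (G.rightDerivedFunctorPlusUnit.app (F.mapHomotopyCategoryPlus.obj
      ((HomotopyCategory.Plus.localizerMorphism A).functor.obj K))) := inferInstance
  haveI h3 : IsIso (F.rightDerivedFunctorPlusUnit.app
      ((HomotopyCategory.Plus.localizerMorphism A).functor.obj K)) := by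
    show IsIso (F.rightDerivedFunctorPlusUnit.app
      ((InjectiveObject.ι A).mapHomotopyCategoryPlus.obj K))
    infer_instance
  dsimp [EtSix.rPlusUnit₂]
  simp only [Category.id_comp, Category.comp_id]
  infer_instance

theorem isIso_rPlusDesc₂ (θ : H ⟶ F ⋙ G) [IsIso θ]
    (hF : ∀ I : A, Injective I → Injective (F.obj I)) :
    IsIso (EtSix.rPlusDesc₂ θ) := by
  haveI := isRightDerivedFunctor_rPlusUnit₂ θ hF
  exact (Functor.isRightDerivedFunctor_iff_isIso_rightDerivedDesc H.rightDerivedFunctorPlus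
    H.rightDerivedFunctorPlusUnit (HomotopyCategory.Plus.quasiIso A)
    (F.rightDerivedFunctorPlus ⋙ G.rightDerivedFunctorPlus) (EtSix.rPlusUnit₂ θ)).1 this

end Main

end Groth.Agent.Lib.Helper13.PlusComp
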