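import Mathlib
import Groth.Agent.Lib.Helper39.DerAdj

/-!
# Derived adjunction on bounded below derived categories (helper13)

For an adjunction `G ⊣ F` between abelian categories with enough injectives, `G` exact:
`G.rightDerivedFunctorPlus ⊣ F.rightDerivedFunctorPlus`.
-/

set_option autoImplicit false
universe w₁ w₂ v₁ v₂ u₁ u₂
open CategoryTheory Category Limits

namespace Groth.Agent.Lib.Helper13.PlusDerAdj

open Groth.Agent.Lib.Helper39.DerAdj

section HC

variable {A : Type u₁} [Category.{v₁} A] [Preadditive A] [HasBinaryBiproducts A]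
  {B : Type u₂} [Category.{v₂} B] [Preadditive B] [HasBinaryBiproducts B]
  {G : A ⥤ B} {F : B ⥤ A} [G.Additive] [F.Additive]

/-- adjunction on homotopy categories -/
noncomputable def adjK (adj : G ⊣ F) :
    G.mapHomotopyCategory (ComplexShape.up ℤ) ⊣ F.mapHomotopyCategory (ComplexShape.up ℤ) :=
  letI : CatCommSq (G.mapHomologicalComplex (ComplexShape.up ℤ))
      (HomotopyCategory.quotient A (ComplexShape.up ℤ))
      (HomotopyCategory.quotient B (ComplexShape.up ℤ))
      (G.mapHomotopyCategory (ComplexShape.up ℤ)) :=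
    ⟨(G.mapHomotopyCategoryFactors (ComplexShape.up ℤ)).symm⟩
  letI : CatCommSq (F.mapHomologicalComplex (ComplexShape.up ℤ))
      (HomotopyCategory.quotient B (ComplexShape.up ℤ))
      (HomotopyCategory.quotient A (ComplexShape.up ℤ))
      (F.mapHomotopyCategory (ComplexShape.up ℤ)) :=
    ⟨(F.mapHomotopyCategoryFactors (ComplexShape.up ℤ)).symm⟩
  (mapHCAdj adj (ComplexShape.up ℤ)).localization
    (HomotopyCategory.quotient A (ComplexShape.up ℤ))
    (HomologicalComplex.homotopyEquivalences A (ComplexShape.up ℤ))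
    (HomotopyCategory.quotient B (ComplexShape.up ℤ))
    (HomologicalComplex.homotopyEquivalences B (ComplexShape.up ℤ))
    (G.mapHomotopyCategory (ComplexShape.up ℤ)) (F.mapHomotopyCategory (ComplexShape.up ℤ))

end HC

section Plus

variable {A : Type u₁} [Category.{v₁} A] [Abelian A]
  {B : Type u₂} [Category.{v₂} B] [Abelian B]
  {G : A ⥤ B} {F : B ⥤ A} [G.Additive] [F.Additive]

/-- adjunction on bounded below homotopy categories -/
noncomputable def adjP (adj : G ⊣ F) :
    G.mapHomotopyCategoryPlus ⊣ F.mapHomotopyCategoryPlus :=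
  (adjK adj).restrictFullyFaithful (HomotopyCategory.plus A).fullyFaithfulι
    (HomotopyCategory.plus B).fullyFaithfulι (Iso.refl _) (Iso.refl _)

end Plus

section Der

variable {A : Type u₁} [Category.{v₁} A] [Abelian A] [HasDerivedCategory.{w₁} A]
  {B : Type u₂} [Category.{v₂} B] [Abelian B] [HasDerivedCategory.{w₂} B]
  {G : A ⥤ B} {F : B ⥤ A} [G.Additive] [F.Additive]

lemma quasiIso_map [PreservesFiniteLimits G] [PreservesFiniteColimits G]
    {X Y : HomotopyCategory A (ComplexShape.up ℤ)} (g : X ⟶ Y)
    (hg : HomotopyCategory.quasiIso A (ComplexShape.up ℤ) g) :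
    HomotopyCategory.quasiIso B (ComplexShape.up ℤ)
      ((G.mapHomotopyCategory (ComplexShape.up ℤ)).map g) := by
  obtain ⟨X, rfl⟩ := HomotopyCategory.quotient_obj_surjective X
  obtain ⟨Y, rfl⟩ := HomotopyCategory.quotient_obj_surjective Y
  obtain ⟨φ, rfl⟩ := (HomotopyCategory.quotient _ _).map_surjective g
  rw [HomotopyCategory.quotient_map_mem_quasiIso_iff] at hg
  have : QuasiIso φ := hg
  show HomotopyCategory.quasiIso B _ ((HomotopyCategory.quotient _ _).map
    ((G.mapHomologicalComplex _).map φ))
  rw [HomotopyCategory.quotient_map_mem_quasiIso_iff]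
  exact HomologicalComplex.quasiIso_map_of_preservesHomology _ _

lemma inverts [PreservesFiniteLimits G] [PreservesFiniteColimits G] :
    (HomotopyCategory.Plus.quasiIso A).IsInvertedBy
      (G.mapHomotopyCategoryPlus ⋙ DerivedCategory.Plus.Qh) := by
  intro K L f hf
  have h : HomotopyCategory.Plus.quasiIso B (G.mapHomotopyCategoryPlus.map f) :=
    quasiIso_map f.hom hf
  exact Localization.inverts DerivedCategory.Plus.Qh (HomotopyCategory.Plus.quasiIso B) _ h

variable [EnoughInjectives A] [EnoughInjectives B]

/-- The derived adjunction on `D^+`. -/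
noncomputable def plusAdj [PreservesFiniteLimits G] [PreservesFiniteColimits G] (adj : G ⊣ F) :
    G.rightDerivedFunctorPlus ⊣ F.rightDerivedFunctorPlus := by
  haveI : IsIso G.rightDerivedFunctorPlusUnit :=
    Functor.isIso_of_isRightDerivedFunctor_of_inverts G.rightDerivedFunctorPlus
      G.rightDerivedFunctorPlusUnit (inverts (G := G))
  let e : DerivedCategory.Plus.Qh ⋙ G.rightDerivedFunctorPlus ≅
      G.mapHomotopyCategoryPlus ⋙ DerivedCategory.Plus.Qh :=
    (asIso G.rightDerivedFunctorPlusUnit).symm
  haveI : G.rightDerivedFunctorPlus.IsLeftDerivedFunctor e.hom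
      (HomotopyCategory.Plus.quasiIso A) :=
    Functor.isLeftDerivedFunctor_of_inverts _ _ e
  haveI : (G.rightDerivedFunctorPlus ⋙ F.rightDerivedFunctorPlus).IsLeftDerivedFunctor
      ((Functor.associator _ _ _).inv ≫ Functor.whiskerRight e.hom F.rightDerivedFunctorPlus)
      (HomotopyCategory.Plus.quasiIso A) :=
    Functor.isLeftDerivedFunctor_of_inverts _ _
      ((Functor.associator _ _ _).symm ≪≫ Functor.isoWhiskerRight e F.rightDerivedFunctorPlus)
  haveI : (F.rightDerivedFunctorPlus ⋙ G.rightDerivedFunctorPlus).IsRightDerivedFunctor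
      (Functor.whiskerRight F.rightDerivedFunctorPlusUnit G.rightDerivedFunctorPlus ≫
        (Functor.associator _ _ _).hom) (HomotopyCategory.Plus.quasiIso B) := by
    refine (HomotopyCategory.Plus.localizerMorphism_derives _).isRightDerivedFunctor_of_isIso _ ?_
    intro K
    dsimp
    infer_instance
  exact (adjP adj).derived (HomotopyCategory.Plus.quasiIso A) (HomotopyCategory.Plus.quasiIso B)
    e.hom F.rightDerivedFunctorPlusUnit

end Der

end Groth.Agent.Lib.Helper13.PlusDerAdj
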