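import Groth.Agent.Lib.Helper13.FunctorialInjective
import Mathlib.Algebra.Category.ModuleCat.Presheaf.Generator
import Mathlib.Algebra.Category.ModuleCat.Presheaf.Abelian
import Mathlib.Algebra.Category.ModuleCat.Presheaf.Limits
import Mathlib.Algebra.Category.ModuleCat.Presheaf.Colimits
import Mathlib.CategoryTheory.Abelian.GrothendieckAxioms.FunctorCategory
import Mathlib.Algebra.Category.Grp.AB
import Mathlib.CategoryTheory.Functor.ReflectsIso.Balanced
import Mathlib.CategoryTheory.Limits.Preserves.Creates.Finite

universe u
open CategoryTheory Limits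

namespace Groth.Agent.Lib.Helper13

variable {C : Type u} [SmallCategory C] (O : Cᵒᵖ ⥤ RingCat.{u})

instance : (PresheafOfModules.toPresheaf.{u} O).ReflectsIsomorphisms := by
  infer_instance

instance : ReflectsFiniteLimits (PresheafOfModules.toPresheaf.{u} O) := by
  infer_instance

lemma ab5 (J : Type u) [SmallCategory J] [IsFiltered J] :
    HasExactColimitsOfShape J (PresheafOfModules.{u} O) :=
  HasExactColimitsOfShape.domain_of_functor J (PresheafOfModules.toPresheaf.{u} O)

instance : HasSeparator (PresheafOfModules.{u} O) :=
  ⟨_, (isSeparator_sigma (f := (yoneda ⋙ PresheafOfModules.free O).obj)).2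
    (PresheafOfModules.freeYoneda.isSeparating O)⟩

instance : IsGrothendieckAbelian.{u} (PresheafOfModules.{u} O) where
  ab5OfSize := ⟨fun J _ _ => ab5 O J⟩

end Groth.Agent.Lib.Helper13
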