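/-
[REG] piece for helper55's S4899 / [KV']: regularity of `s` on `T ⊗[R] V` from regularity on
the graded pieces of a separated filtration (T flat over R).
Author: helper13
-/
import Mathlib

set_option autoImplicit false

universe u

open TensorProduct

namespace Groth.Agent.Lib.Helper13.PrimREG

/-- One step: if `s` is regular on `T ⊗ (U ⧸ U')` and `s • v = 0` then `v` comes from `T ⊗ U'`. -/
theorem mem_range_of_smul_eq_zero {R : Type u} [CommRing R] {T : Type u} [CommRing T] [Algebra R T]
    {U : Type u} [AddCommGroup U] [Module R U] (U' : Submodule R U) (s : T)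
    (hreg : ∀ w : T ⊗[R] (U ⧸ U'), s • w = 0 → w = 0)
    (v : T ⊗[R] U) (hv : s • v = 0) :
    v ∈ LinearMap.range (U'.subtype.baseChange T) := by
  have hex : Function.Exact (U'.subtype.lTensor T) (U'.mkQ.lTensor T) :=
    lTensor_exact T (LinearMap.exact_subtype_mkQ U') (Submodule.mkQ_surjective U')
  have h0 : U'.mkQ.baseChange T v = 0 := by
    apply hreg
    rw [← map_smul, hv, map_zero]
  obtain ⟨y, hy⟩ := (hex v).1 h0
  exact ⟨y, hy⟩

/-- [REG] -/
theorem regular_of_filtration {R : Type u} [CommRing R] {T : Type u} [CommRing T] [Algebra R T]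
    [Module.Flat R T] {V : Type u} [AddCommGroup V] [Module R V]
    (F : ℕ → Submodule R V) (hF0 : F 0 = ⊤) (hF : ∀ n, F (n + 1) ≤ F n) (s : T)
    (hgr : ∀ (n : ℕ) (w : T ⊗[R] (↥(F n) ⧸ (F (n + 1)).submoduleOf (F n))), s • w = 0 → w = 0)
    (hsep : ∀ v : T ⊗[R] V, (∀ n, v ∈ LinearMap.range ((F n).subtype.baseChange T)) → v = 0)
    (v : T ⊗[R] V) (hv : s • v = 0) : v = 0 := by
  apply hsep
  intro n
  induction n with
  | zero =>
    rw [hF0]
    have hsurj : Function.Surjective ((⊤ : Submodule R V).subtype.baseChange T) := by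
      have : Function.Surjective ((⊤ : Submodule R V).subtype.lTensor T) :=
        LinearMap.lTensor_surjective T (fun x => ⟨⟨x, trivial⟩, rfl⟩)
      exact this
    exact LinearMap.range_eq_top.2 hsurj ▸ Submodule.mem_top
  | succ n ih =>
    obtain ⟨v', hv'⟩ := ih
    have hinj : Function.Injective ((F n).subtype.baseChange T) := by
      have : Function.Injective ((F n).subtype.lTensor T) :=
        Module.Flat.lTensor_preserves_injective_linearMap _ (F n).injective_subtype
      exact this
    have hv'0 : s • v' = 0 := by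
      apply hinj
      rw [map_smul, hv', hv, map_zero]
    obtain ⟨y, hy⟩ := mem_range_of_smul_eq_zero ((F (n + 1)).submoduleOf (F n)) s (hgr n) v' hv'0
    -- transport `y : T ⊗ submoduleOf` to `T ⊗ F (n+1)`
    let e : ↥((F (n + 1)).submoduleOf (F n)) ≃ₗ[R] ↥(F (n + 1)) :=
      Submodule.submoduleOfEquivOfLe (hF n)
    refine ⟨(e.toLinearMap.baseChange T) y, ?_⟩
    rw [← hv', ← hy]
    have hcomp : (F (n + 1)).subtype ∘ₗ e.toLinearMap =
        (F n).subtype ∘ₗ ((F (n + 1)).submoduleOf (F n)).subtype := by
      ext x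
      rfl
    have := congrArg (fun f => (f.baseChange T) y) hcomp
    simpa [LinearMap.baseChange_comp] using this

end Groth.Agent.Lib.Helper13.PrimREG
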