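import Groth.Prelude.Def_DerCA
import Mathlib.CategoryTheory.Triangulated.Triangulated
import Mathlib.CategoryTheory.Triangulated.Pretriangulated

/-!
# Basic lemmas on ℕ-indexed inverse systems (`ARSys.PS`) — helper13
-/

set_option autoImplicit false
universe v u
open CategoryTheory CategoryTheory.Limits Opposite

namespace Groth.Agent.Lib.Helper13.ProSys

variable {C : Type u} [Category.{v} C]

lemma tr_comp (X : ARSys.PS C) {n m p : ℕ} (h₁ : n ≤ m) (h₂ : m ≤ p) :
    ARSys.tr X h₂ ≫ ARSys.tr X h₁ = ARSys.tr X (h₁.trans h₂) := by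
  dsimp only [ARSys.tr]
  rw [← X.map_comp]
  rfl

lemma tr_refl (X : ARSys.PS C) (n : ℕ) : ARSys.tr X (le_refl n) = 𝟙 _ := by
  dsimp only [ARSys.tr]
  have : (homOfLE (le_refl n)).op = 𝟙 (op n) := rfl
  rw [this, X.map_id]

lemma tr_naturality {X Y : ARSys.PS C} (f : X ⟶ Y) {n m : ℕ} (h : n ≤ m) :
    ARSys.tr X h ≫ f.app (op n) = f.app (op m) ≫ ARSys.tr Y h :=
  f.naturality (homOfLE h).op

lemma cone_tr {X : ARSys.PS C} {A : C} (c : (Functor.const ℕᵒᵖ).obj A ⟶ X) {n m : ℕ} (h : n ≤ m) :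
    c.app (op m) ≫ ARSys.tr X h = c.app (op n) := by
  have := c.naturality (homOfLE h).op
  simp only [Functor.const_obj_obj, Functor.const_obj_map, Category.id_comp] at this
  exact this.symm

end Groth.Agent.Lib.Helper13.ProSys
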