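import Groth.Agent.Lib.Helper13.EssConstDerived
import Groth.Agent.S6587
import Mathlib.Algebra.Homology.DerivedCategory.HomologySequence
import Mathlib.CategoryTheory.Functor.OfSequence

/-!
# Pro-isomorphisms in `D(A)` detected on cohomology — helper13
-/

set_option autoImplicit false
universe w v u
open CategoryTheory CategoryTheory.Limits Opposite

namespace Groth.Agent.Lib.Helper13.ProSys

section ConeSystem
open CategoryTheory.Pretriangulated

variable {D : Type u} [Category.{v} D] [Preadditive D] [HasZeroObject D] [HasShift D ℤ]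
    [∀ n : ℤ, (shiftFunctor D n).Additive] [Pretriangulated D]

/-- Any levelwise map of ℕ-systems extends to a system of distinguished triangles. -/
lemma exists_cone_system (X Y : ARSys.PS D) (f : X ⟶ Y) :
    ∃ (Z : ARSys.PS D) (g : Y ⟶ Z) (h : Z ⟶ X ⋙ shiftFunctor D (1 : ℤ)),
      ∀ n : ℕ, Triangle.mk (f.app (op n)) (g.app (op n)) (h.app (op n)) ∈ distTriang D := by
  choose C g0 h0 hT0 using fun n : ℕ => distinguished_cocone_triangle (f.app (op n))
  have hc : ∀ n : ℕ, ∃ c : C (n + 1) ⟶ C n,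
      g0 (n + 1) ≫ c = Y.map (homOfLE (n.le_add_right 1)).op ≫ g0 n ∧
      h0 (n + 1) ≫ (shiftFunctor D (1 : ℤ)).map (X.map (homOfLE (n.le_add_right 1)).op) =
        c ≫ h0 n := fun n =>
    complete_distinguished_triangle_morphism _ _ (hT0 (n + 1)) (hT0 n)
      (X.map (homOfLE (n.le_add_right 1)).op) (Y.map (homOfLE (n.le_add_right 1)).op)
      (f.naturality _).symm
  choose c hc1 hc2 using hc
  let Z : ARSys.PS D := Functor.ofOpSequence c
  let g : Y ⟶ Z := NatTrans.ofOpSequence (F := Y) (G := Z) (fun n => g0 n) (fun n => by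
    rw [Functor.ofOpSequence_map_homOfLE_succ]
    exact (hc1 n).symm)
  let h : Z ⟶ X ⋙ shiftFunctor D (1 : ℤ) :=
    NatTrans.ofOpSequence (F := Z) (G := X ⋙ shiftFunctor D (1 : ℤ)) (fun n => h0 n) (fun n => by
      rw [Functor.ofOpSequence_map_homOfLE_succ]
      exact (hc2 n).symm)
  exact ⟨Z, g, h, fun n => hT0 n⟩

end ConeSystem

section ProZero
open ZeroObject

variable {C : Type u} [Category.{v} C] [HasZeroMorphisms C] [HasZeroObject C]

/-- A pro-zero system is essentially constant (with value `0`). -/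
lemma exists_isEssConstant_of_isProZero (W : ARSys.PS C) (hW : DerCA.IsProZero W) :
    ∃ (B : C) (c : (Functor.const ℕᵒᵖ).obj B ⟶ W), DerCA.IsEssConstant W B c := by
  refine ⟨0, 0, 0, 0, (isZero_zero C).eq_of_src _ _, ?_⟩
  intro j
  obtain ⟨k, hjk, hk⟩ := hW j
  exact ⟨k, Nat.zero_le k, hjk, by rw [hk, zero_comp, comp_zero]⟩

end ProZero

section Derived

open DerivedCategory CategoryTheory.Pretriangulated

variable {A : Type u} [Category.{v} A] [Abelian A] [HasDerivedCategory.{w} A]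

lemma isZero_of_isZero_homology (L : DerivedCategory A)
    (h : ∀ n : ℤ, IsZero ((homologyFunctor A n).obj L)) : IsZero L := by
  rw [IsZero.iff_id_eq_zero]
  have : IsIso (0 : L ⟶ L) := by
    rw [DerivedCategory.isIso_iff]
    intro n
    rw [Functor.map_zero]
    exact ⟨0, (h n).eq_of_src _ _, (h n).eq_of_src _ _⟩
  rw [← IsIso.hom_inv_id (0 : L ⟶ L), zero_comp]

variable (X Y Z : ARSys.PS (DerivedCategory A)) (f : X ⟶ Y) (g : Y ⟶ Z)
  (h : Z ⟶ X ⋙ shiftFunctor (DerivedCategory A) (1 : ℤ))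
  (hT : ∀ n : ℕ, Triangle.mk (f.app (op n)) (g.app (op n)) (h.app (op n)) ∈
    distTriang (DerivedCategory A))

include hT in
lemma isZero_homology_cone (n : ℕ) (i : ℤ)
    (hX : IsZero ((homologyFunctor A (i + 1)).obj (X.obj (op n))))
    (hY : IsZero ((homologyFunctor A i).obj (Y.obj (op n)))) :
    IsZero ((homologyFunctor A i).obj (Z.obj (op n))) :=
  (HomologySequence.exact₃ _ (hT n) i (i + 1) rfl).isZero_of_both_zeros
    (hY.eq_of_src _ _) (hX.eq_of_tgt _ _)

include hT in
lemma isProZero_homology_cone (i : ℤ)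
    (h0 : DerCA.IsProIso (Functor.whiskerRight f (homologyFunctor A i)))
    (h1 : DerCA.IsProIso (Functor.whiskerRight f (homologyFunctor A (i + 1)))) :
    DerCA.IsProZero (Z ⋙ homologyFunctor A i) := by
  -- the transition morphisms of triangles
  let T : ℕ → Triangle (DerivedCategory A) := fun n =>
    Triangle.mk (f.app (op n)) (g.app (op n)) (h.app (op n))
  let φ : ∀ {n m : ℕ} (hnm : n ≤ m), T m ⟶ T n := fun {n m} hnm =>
    { hom₁ := ARSys.tr X hnm
      hom₂ := ARSys.tr Y hnm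
      hom₃ := ARSys.tr Z hnm
      comm₁ := (tr_naturality f hnm).symm
      comm₂ := (tr_naturality g hnm).symm
      comm₃ := (h.naturality (homOfLE hnm).op).symm }
  let δ : ∀ n : ℕ, (homologyFunctor A i).obj (Z.obj (op n)) ⟶
      (homologyFunctor A (i + 1)).obj (X.obj (op n)) := fun n =>
    HomologySequence.δ (T n) i (i + 1) rfl
  have hδ : ∀ {n m : ℕ} (hnm : n ≤ m),
      (homologyFunctor A i).map (ARSys.tr Z hnm) ≫ δ n =
        δ m ≫ (homologyFunctor A (i + 1)).map (ARSys.tr X hnm) := fun hnm =>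
    (homologyFunctor A 0).homologySequenceδ_naturality (T _) (T _) (φ hnm) i (i + 1) rfl
  have hδf : ∀ m : ℕ, δ m ≫ (homologyFunctor A (i + 1)).map (f.app (op m)) = 0 := fun m =>
    HomologySequence.δ_comp (T m) (hT m) i (i + 1) rfl
  have hgδ : ∀ m : ℕ, (homologyFunctor A i).map (g.app (op m)) ≫ δ m = 0 := fun m =>
    HomologySequence.comp_δ (T m) (hT m) i (i + 1) rfl
  have hex : ∀ m : ℕ, (ShortComplex.mk _ _ (hgδ m)).Exact := fun m =>
    HomologySequence.exact₃ (T m) (hT m) i (i + 1) rfl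
  -- (I)
  have hI : ∀ n : ℕ, ∃ (m : ℕ) (hnm : n ≤ m),
      (homologyFunctor A i).map (g.app (op m)) ≫ (homologyFunctor A i).map (ARSys.tr Z hnm) = 0 := by
    intro n
    obtain ⟨m, hnm, b, -, hb⟩ := h0 n
    refine ⟨m, hnm, ?_⟩
    replace hb : b ≫ (homologyFunctor A i).map (f.app (op n)) =
      (homologyFunctor A i).map (ARSys.tr Y hnm) := hb
    rw [← Functor.map_comp, ← tr_naturality g hnm, Functor.map_comp, ← hb, Category.assoc,
      ← Functor.map_comp]
    have : f.app (op n) ≫ g.app (op n) = 0 := comp_distTriang_mor_zero₁₂ _ (hT n)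
    rw [this, Functor.map_zero, comp_zero]
  -- (II)
  have hII : ∀ n : ℕ, ∃ (m : ℕ) (hnm : n ≤ m),
      (homologyFunctor A i).map (ARSys.tr Z hnm) ≫ δ n = 0 := by
    intro n
    obtain ⟨m, hnm, b, hb, -⟩ := h1 n
    refine ⟨m, hnm, ?_⟩
    replace hb : (homologyFunctor A (i + 1)).map (f.app (op m)) ≫ b =
      (homologyFunctor A (i + 1)).map (ARSys.tr X hnm) := hb
    rw [hδ hnm, ← hb, ← Category.assoc, hδf m, zero_comp]
  intro n
  obtain ⟨m, hnm, hm⟩ := hI n
  obtain ⟨p, hmp, hp⟩ := hII m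
  refine ⟨p, hnm.trans hmp, ?_⟩
  show (homologyFunctor A i).map (ARSys.tr Z (hnm.trans hmp)) = 0
  rw [← tr_comp Z hnm hmp, Functor.map_comp]
  have hS := hex m
  obtain ⟨S, hSdef⟩ : ∃ S : ShortComplex A, S = ShortComplex.mk _ _ (hgδ m) := ⟨_, rfl⟩
  rw [← hSdef] at hS
  have hepi : Epi S.toCycles := hS.epi_toCycles
  let t1 : S.X₂ ⟶ (homologyFunctor A i).obj (Z.obj (op n)) :=
    eqToHom (by rw [hSdef]) ≫ (homologyFunctor A i).map (ARSys.tr Z hnm)
  let t2 : (homologyFunctor A i).obj (Z.obj (op p)) ⟶ S.X₂ :=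
    (homologyFunctor A i).map (ARSys.tr Z hmp) ≫ eqToHom (by rw [hSdef])
  have ht12 : t2 ≫ t1 = (homologyFunctor A i).map (ARSys.tr Z hmp) ≫
      (homologyFunctor A i).map (ARSys.tr Z hnm) := by
    simp [t1, t2]
  have h1' : S.f ≫ t1 = 0 := by
    subst hSdef
    simpa [t1] using hm
  have h2' : t2 ≫ S.g = 0 := by
    subst hSdef
    simpa [t2] using hp
  have h2 : S.iCycles ≫ t1 = 0 := by
    rw [← cancel_epi S.toCycles, comp_zero, ← Category.assoc, S.toCycles_i]
    exact h1'
  have h3 : t2 = S.liftCycles t2 h2' ≫ S.iCycles := (S.liftCycles_i _ _).symm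
  rw [← ht12, h3, Category.assoc, h2, comp_zero]

end Derived

section Main

open DerivedCategory CategoryTheory.Pretriangulated

variable {A : Type u} [Category.{v} A] [Abelian A] [HasDerivedCategory.{w} A]

/-- A levelwise map of bounded ℕ-systems in `D(A)` inducing pro-isomorphisms on all cohomology
systems is a pro-isomorphism. -/
theorem isProIso_of_homology_isProIso
    (X Y : ARSys.PS (DerivedCategory A)) (f : X ⟶ Y) (a b : ℤ) (hab : a ≤ b)
    (hX : ∀ (n : ℕ) (i : ℤ), i < a ∨ b < i →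
      IsZero ((homologyFunctor A i).obj (X.obj (op n))))
    (hY : ∀ (n : ℕ) (i : ℤ), i < a ∨ b < i →
      IsZero ((homologyFunctor A i).obj (Y.obj (op n))))
    (hH : ∀ i : ℤ, DerCA.IsProIso (Functor.whiskerRight f (homologyFunctor A i))) :
    DerCA.IsProIso f := by
  obtain ⟨Z, g, h, hT⟩ := exists_cone_system X Y f
  have hZH : ∀ i : ℤ, DerCA.IsProZero (Z ⋙ homologyFunctor A i) := fun i =>
    isProZero_homology_cone X Y Z f g h hT i (hH i) (hH (i + 1))
  have hZ0 : ∀ (n : ℕ) (i : ℤ), i < a - 1 ∨ b < i →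
      IsZero ((homologyFunctor A i).obj (Z.obj (op n))) := by
    intro n i hi
    refine isZero_homology_cone X Y Z f g h hT n i (hX n (i + 1) ?_) (hY n i ?_)
    · rcases hi with hi | hi
      · exact Or.inl (by lia)
      · exact Or.inr (by lia)
    · rcases hi with hi | hi
      · exact Or.inl (by lia)
      · exact Or.inr hi
  obtain ⟨L, c, i0, s, hcs, hk⟩ := exists_isEssConstant_of_homology (b - (a - 1)).toNat Z (a - 1) b
    (by lia) (by lia) hZ0 (fun i => exists_isEssConstant_of_isProZero _ (hZH i))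
  let cc : ∀ n : ℕ, L ⟶ Z.obj (op n) := fun n => c.app (op n)
  have hcc : ∀ {n m : ℕ} (h : n ≤ m), cc m ≫ ARSys.tr Z h = cc n := fun h => cone_tr c h
  replace hcs : cc i0 ≫ s = 𝟙 L := hcs
  replace hk : ∀ (j : ℕ), ∃ k, ∃ (hi : i0 ≤ k) (hj : j ≤ k),
      ARSys.tr Z hj = ARSys.tr Z hi ≫ s ≫ cc j := hk
  have hL : IsZero L := by
    refine isZero_of_isZero_homology L (fun j => ?_)
    rw [IsZero.iff_id_eq_zero]
    obtain ⟨k, hik, hk0⟩ := hZH j i0
    replace hk0 : (homologyFunctor A j).map (ARSys.tr Z hik) = 0 := hk0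
    rw [← CategoryTheory.Functor.map_id, ← hcs, ← hcc hik, Functor.map_comp, Functor.map_comp,
      hk0, comp_zero, zero_comp]
  have hZ : DerCA.IsProZero Z := by
    intro j
    obtain ⟨k, hi, hj, hkj⟩ := hk j
    refine ⟨k, hj, ?_⟩
    rw [hkj, hL.eq_of_tgt s 0, zero_comp, comp_zero]
  exact Groth.Agent.S6587.result X Y Z f g h hT hZ

end Main

end Groth.Agent.Lib.Helper13.ProSys
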