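import Groth.Agent.Lib.Helper13.KInjDerAdjH
import Groth.Prelude.Def_WeakSerre
import Mathlib.Algebra.Homology.DerivedCategory.Fractions

set_option autoImplicit false
universe w w' v v' u u'
open CategoryTheory Category Limits

namespace Groth.Agent.Lib.Helper13.SerreDer

open Groth.Agent.Lib.Helper13.KInjDerAdj DerivedCategory

section General

variable {A : Type u} [Category.{v} A] [Abelian A] {B : Type u'} [Category.{v'} B] [Abelian B]
  [HasDerivedCategory.{w} A] [HasDerivedCategory.{w'} B]
  (F : A ⥤ B) [F.Additive] [PreservesFiniteLimits F] [PreservesFiniteColimits F]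

lemma isIso_Q_map_of_isIso_map [F.ReflectsIsomorphisms] {X Y : CochainComplex A ℤ} (g : X ⟶ Y)
    (h : IsIso (F.mapDerivedCategory.map (Q.map g))) : IsIso (Q.map g) := by
  have h1 : IsIso ((Q ⋙ F.mapDerivedCategory).map g) := h
  rw [NatIso.isIso_map_iff F.mapDerivedCategoryFactors g] at h1
  have h2 : IsIso (Q.map ((cx F).map g)) := h1
  rw [isIso_Q_map_iff_quasiIso] at h2 ⊢
  exact (HomologicalComplex.quasiIso_map_iff_of_preservesHomology g F).1 h2

/-- The functor induced on derived categories by a conservative exact functor is conservative. -/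
lemma isIso_of_isIso_mapDerivedCategory_map [F.ReflectsIsomorphisms] {X Y : DerivedCategory A}
    (φ : X ⟶ Y) (h : IsIso (F.mapDerivedCategory.map φ)) : IsIso φ := by
  let eX := Q.objObjPreimageIso X
  let eY := Q.objObjPreimageIso Y
  let φ' : Q.obj (Q.objPreimage X) ⟶ Q.obj (Q.objPreimage Y) := eX.hom ≫ φ ≫ eY.inv
  have hφ' : IsIso (F.mapDerivedCategory.map φ') := by
    dsimp only [φ']
    rw [Functor.map_comp, Functor.map_comp]
    infer_instance
  suffices IsIso φ' by
    have e : φ = eX.inv ≫ φ' ≫ eY.hom := by simp [φ']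
    rw [e]; infer_instance
  obtain ⟨X', s, hs, g, hg⟩ := right_fac φ'
  have hg' : Q.map g = Q.map s ≫ φ' := by rw [hg, IsIso.hom_inv_id_assoc]
  have h3 : IsIso (F.mapDerivedCategory.map (Q.map g)) := by
    rw [hg', Functor.map_comp]; infer_instance
  have h4 := isIso_Q_map_of_isIso_map F g h3
  rw [hg]; infer_instance

/-- Cohomology commutes with exact functors, objectwise. -/
noncomputable def homologyMapIso (M : CochainComplex A ℤ) (n : ℤ) :
    (homologyFunctor B n).obj (F.mapDerivedCategory.obj (Q.obj M)) ≅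
      F.obj ((homologyFunctor A n).obj (Q.obj M)) :=
  (homologyFunctor B n).mapIso (F.mapDerivedCategoryFactors.app M) ≪≫
    (homologyFunctorFactors B n).app ((cx F).obj M) ≪≫
    (M.sc n).mapHomologyIso F ≪≫ F.mapIso ((homologyFunctorFactors A n).app M).symm

end General

section Serre

variable {B : Type u'} [Category.{v'} B] [Abelian B] [IsGrothendieckAbelian.{v'} B]
  (P : ObjectProperty B) [WSerre.IsWeakSerre P]
  [HasDerivedCategory.{w} P.FullSubcategory] [HasDerivedCategory.{w'} B]
  {T : B ⥤ P.FullSubcategory} (adj : P.ι ⊣ T) [T.Additive]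

omit [IsGrothendieckAbelian.{v'} B] [HasDerivedCategory.{w} P.FullSubcategory] in
lemma cohIn_of_iso {K L : DerivedCategory B} (e : K ≅ L) (h : WSerre.cohIn P K) :
    WSerre.cohIn P L := fun n =>
  P.prop_of_iso ((homologyFunctor B n).mapIso e) (h n)

lemma cohIn_toDerived_obj (M : DerivedCategory P.FullSubcategory) :
    WSerre.cohIn P ((WSerre.toDerived P).obj M) := by
  have h0 : WSerre.cohIn P ((WSerre.toDerived P).obj (Q.obj (Q.objPreimage M))) := fun n =>
    P.prop_of_iso (homologyMapIso P.ι (Q.objPreimage M) n).symm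
      ((homologyFunctor P.FullSubcategory n).obj (Q.obj (Q.objPreimage M))).property
  exact cohIn_of_iso P ((WSerre.toDerived P).mapIso (Q.objObjPreimageIso M)) h0

/-- The key hypothesis: the counit of the adjunction on complexes is a quasi-isomorphism on
complexes of injectives with cohomology in `P`. -/
def CounitHyp : Prop :=
  ∀ I : CochainComplex B ℤ, (∀ n, Injective (I.X n)) → (∀ n, P (I.homology n)) →
    QuasiIso ((adjc adj).counit.app I)

variable {P} in
lemma isIso_counit_app_of_cohIn (hIV : CounitHyp P adj) (Y : DerivedCategory B)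
    (hY : WSerre.cohIn P Y) : IsIso ((adj₀ adj).counit.app Y) := by
  rw [adj₀_counit_app]
  suffices QuasiIso ((adjc adj).counit.app (repI Y)) by
    dsimp only [counitD]
    have h2 : IsIso (Q.map ((adjc adj).counit.app (repI Y))) := by
      rw [isIso_Q_map_iff_quasiIso]; exact this
    have h1 : IsIso (P.ι.mapDerivedCategoryFactors.hom.app ((cx T).obj (repI Y))) := inferInstance
    have h3 : IsIso (repIso Y).hom := inferInstance
    exact IsIso.comp_isIso' (IsIso.comp_isIso' h1 h2) h3
  obtain ⟨I', f, hI', hf, -, hext⟩ :=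
    Groth.Agent.Lib.Helper13.KInjMain.exists_kInjective_resolution (repI Y)
  have hinj : ∀ n, Injective (I'.X n) :=
    fun n => Groth.Agent.Lib.Helper13.KInjBasic.injective_of_extProp hext n
  have hcoh : ∀ n, P (I'.homology n) := fun n => by
    have e1 : (homologyFunctor B n).obj Y ≅ I'.homology n :=
      (homologyFunctor B n).mapIso (repIso Y).symm ≪≫
        (homologyFunctorFactors B n).app (repI Y) ≪≫
        @asIso _ _ _ _ (HomologicalComplex.homologyMap f n)
          ((quasiIsoAt_iff_isIso_homologyMap f n).1 (hf.quasiIsoAt n))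
    exact P.prop_of_iso e1 (hY n)
  have h1 : QuasiIso ((adjc adj).counit.app I') := hIV I' hinj hcoh
  have hfe : HomologicalComplex.homotopyEquivalences B (ComplexShape.up ℤ) f :=
    (CochainComplex.IsKInjective.quasiIso_iff f).1 hf
  obtain ⟨e, he⟩ := hfe
  have h2 : QuasiIso ((cx (T ⋙ P.ι)).map f) := by
    have := ((T ⋙ P.ι).mapHomotopyEquiv e).quasiIso_hom
    have e2 : ((T ⋙ P.ι).mapHomotopyEquiv e).hom = (cx (T ⋙ P.ι)).map f := by
      rw [← he]; rfl
    rw [← e2]; exact this
  have nat := (adjc adj).counit.naturality f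
  have h3 : QuasiIso ((adjc adj).counit.app (repI Y) ≫ f) := by
    have e3 : (adjc adj).counit.app (repI Y) ≫ f =
        (cx (T ⋙ P.ι)).map f ≫ (adjc adj).counit.app I' := nat.symm
    rw [e3]; exact @quasiIso_comp _ _ _ _ _ _ _ _ _ _ _ _ _ h2 h1
  exact quasiIso_of_comp_right _ f

variable {P} in
lemma isIso_unit_app (hIV : CounitHyp P adj) (M : DerivedCategory P.FullSubcategory) :
    IsIso ((adj₀ adj).unit.app M) := by
  have h1 : IsIso ((adj₀ adj).counit.app (P.ι.mapDerivedCategory.obj M)) :=
    isIso_counit_app_of_cohIn adj hIV _ (cohIn_toDerived_obj P M)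
  have tri := (adj₀ adj).left_triangle_components M
  have h2 : IsIso (P.ι.mapDerivedCategory.map ((adj₀ adj).unit.app M)) := by
    have e : P.ι.mapDerivedCategory.map ((adj₀ adj).unit.app M) =
        inv ((adj₀ adj).counit.app (P.ι.mapDerivedCategory.obj M)) := by
      rw [← cancel_mono ((adj₀ adj).counit.app (P.ι.mapDerivedCategory.obj M)), tri,
        IsIso.inv_hom_id]
      rfl
    rw [e]; infer_instance
  exact isIso_of_isIso_mapDerivedCategory_map P.ι _ h2

variable {P} in
/-- `D(A) → D_A(B)` is an equivalence, in the form: fully faithful with essential image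
the complexes with cohomology in `A`. -/
theorem main (hIV : CounitHyp P adj) :
    (WSerre.toDerived P).Full ∧ (WSerre.toDerived P).Faithful ∧
      ∀ K : DerivedCategory B, WSerre.cohIn P K ↔ (WSerre.toDerived P).essImage K := by
  have : IsIso (adj₀ adj).unit :=
    have : ∀ M, IsIso ((adj₀ adj).unit.app M) := fun M => isIso_unit_app adj hIV M
    NatIso.isIso_of_isIso_app _
  have ff : (WSerre.toDerived P).FullyFaithful := (adj₀ adj).fullyFaithfulLOfIsIsoUnit
  refine ⟨ff.full, ff.faithful, fun K => ⟨fun hK => ?_, fun hK => ?_⟩⟩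
  · have := isIso_counit_app_of_cohIn adj hIV K hK
    exact ⟨_, ⟨asIso ((adj₀ adj).counit.app K)⟩⟩
  · obtain ⟨M, ⟨e⟩⟩ := hK
    exact cohIn_of_iso P e (cohIn_toDerived_obj P M)

end Serre

end Groth.Agent.Lib.Helper13.SerreDer
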