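import Mathlib
import Groth.Agent.Lib.Helper13.CochainLimit

/-!
# Countable products of cochain complexes, explicitly (helper13)

`prodCx X` is the degreewise product of a sequence of cochain complexes; when countable products
are exact, a product of maps which are quasi-isomorphisms in degree `i` is a quasi-isomorphism in
degree `i`.
-/

set_option autoImplicit false
universe v u
open CategoryTheory CategoryTheory.Limits

namespace Groth.Agent.Lib.Helper13.Spalt1

variable {A : Type u} [Category.{v} A] [Abelian A] [HasLimitsOfShape (Discrete ℕ) A]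

/-- A sequence of complexes as a complex of functors on `Discrete ℕ`. -/
noncomputable def famCx (X : ℕ → CochainComplex A ℤ) : CochainComplex (Discrete ℕ ⥤ A) ℤ where
  X q := Discrete.functor (fun n => (X n).X q)
  d q q' := Discrete.natTrans (fun n => (X n.as).d q q')
  shape q q' h := by
    ext ⟨n⟩
    exact (X n).shape q q' h
  d_comp_d' q q' q'' _ _ := by
    ext ⟨n⟩
    exact (X n).d_comp_d q q' q''

/-- Functoriality of `famCx`. -/
noncomputable def famCxMap {X X' : ℕ → CochainComplex A ℤ} (φ : ∀ n, X n ⟶ X' n) :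
    famCx X ⟶ famCx X' where
  f q := Discrete.natTrans (fun n => (φ n.as).f q)
  comm' q q' _ := by
    ext ⟨n⟩
    exact (φ n).comm q q'

/-- The degreewise product of a sequence of complexes. -/
noncomputable def prodCx (X : ℕ → CochainComplex A ℤ) : CochainComplex A ℤ :=
  ((lim : (Discrete ℕ ⥤ A) ⥤ A).mapHomologicalComplex (ComplexShape.up ℤ)).obj (famCx X)

/-- The product of a sequence of maps. -/
noncomputable def prodMap {X X' : ℕ → CochainComplex A ℤ} (φ : ∀ n, X n ⟶ X' n) :
    prodCx X ⟶ prodCx X' :=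
  ((lim : (Discrete ℕ ⥤ A) ⥤ A).mapHomologicalComplex (ComplexShape.up ℤ)).map (famCxMap φ)

/-- The projections. -/
noncomputable def prodπ (X : ℕ → CochainComplex A ℤ) (n : ℕ) : prodCx X ⟶ X n where
  f q := limit.π ((famCx X).X q) ⟨n⟩
  comm' q q' _ := by
    show limit.π ((famCx X).X q) ⟨n⟩ ≫ (X n).d q q' =
      limMap ((famCx X).d q q') ≫ limit.π ((famCx X).X q') ⟨n⟩
    rw [limMap_π]
    rfl

/-- The universal map into the product. -/
noncomputable def prodLift {X : ℕ → CochainComplex A ℤ} {W : CochainComplex A ℤ}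
    (g : ∀ n, W ⟶ X n) : W ⟶ prodCx X where
  f q := limit.lift ((famCx X).X q) (Fan.mk (W.X q) (fun n => (g n).f q))
  comm' q q' _ := by
    show limit.lift ((famCx X).X q) (Fan.mk (W.X q) (fun n => (g n).f q)) ≫
        limMap ((famCx X).d q q') =
      W.d q q' ≫ limit.lift ((famCx X).X q') (Fan.mk (W.X q') (fun n => (g n).f q'))
    apply limit.hom_ext
    rintro ⟨n⟩
    rw [Category.assoc, Category.assoc, limMap_π, limit.lift_π_assoc, limit.lift_π]
    exact (g n).comm q q'

@[reassoc (attr := simp)]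
lemma prodLift_π {X : ℕ → CochainComplex A ℤ} {W : CochainComplex A ℤ}
    (g : ∀ n, W ⟶ X n) (n : ℕ) : prodLift g ≫ prodπ X n = g n := by
  ext q
  show limit.lift ((famCx X).X q) (Fan.mk (W.X q) (fun n => (g n).f q)) ≫
    limit.π ((famCx X).X q) ⟨n⟩ = _
  rw [limit.lift_π]
  rfl

lemma prod_hom_ext {X : ℕ → CochainComplex A ℤ} {W : CochainComplex A ℤ}
    {f g : W ⟶ prodCx X} (h : ∀ n, f ≫ prodπ X n = g ≫ prodπ X n) : f = g := by
  ext q
  show (f.f q : W.X q ⟶ limit ((famCx X).X q)) = g.f q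
  apply limit.hom_ext
  rintro ⟨n⟩
  exact congrArg (fun φ => φ.f q) (h n)

@[reassoc (attr := simp)]
lemma prodMap_π {X X' : ℕ → CochainComplex A ℤ} (φ : ∀ n, X n ⟶ X' n) (n : ℕ) :
    prodMap φ ≫ prodπ X' n = prodπ X n ≫ φ n := by
  ext q
  show limMap ((famCxMap φ).f q) ≫ limit.π ((famCx X').X q) ⟨n⟩ =
    limit.π ((famCx X).X q) ⟨n⟩ ≫ (φ n).f q
  rw [limMap_π]
  rfl

/-- Degreewise universal map into the product. -/
noncomputable def prodLiftX {X : ℕ → CochainComplex A ℤ} (q : ℤ) {W : A}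
    (x : ∀ n, W ⟶ (X n).X q) : W ⟶ (prodCx X).X q :=
  limit.lift ((famCx X).X q) (Fan.mk W x)

@[reassoc (attr := simp)]
lemma prodLiftX_π {X : ℕ → CochainComplex A ℤ} (q : ℤ) {W : A}
    (x : ∀ n, W ⟶ (X n).X q) (n : ℕ) : prodLiftX q x ≫ (prodπ X n).f q = x n := by
  show limit.lift ((famCx X).X q) (Fan.mk W x) ≫ limit.π ((famCx X).X q) ⟨n⟩ = _
  rw [limit.lift_π]
  rfl

lemma prodX_hom_ext {X : ℕ → CochainComplex A ℤ} (q : ℤ) {W : A}
    {f g : W ⟶ (prodCx X).X q} (h : ∀ n, f ≫ (prodπ X n).f q = g ≫ (prodπ X n).f q) : f = g := by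
  show (f : W ⟶ limit ((famCx X).X q)) = g
  apply limit.hom_ext
  rintro ⟨n⟩
  exact h n

/-- `prodCx X` is the product of the `X n`. -/
noncomputable def isLimitProdFan (X : ℕ → CochainComplex A ℤ) :
    IsLimit (Fan.mk (prodCx X) (prodπ X)) :=
  mkFanLimit _ (fun s => prodLift s.proj) (fun s n => prodLift_π _ n)
    (fun s m hm => prod_hom_ext (fun n => (hm n).trans (prodLift_π _ n).symm))

lemma isKInjective_prodCx (X : ℕ → CochainComplex A ℤ) (hX : ∀ n, (X n).IsKInjective) :
    (prodCx X).IsKInjective :=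
  Groth.Agent.Lib.Helper13.CochainLimit.isKInjective_of_isLimit_fan
    (Fan.mk (prodCx X) (prodπ X)) (isLimitProdFan X) hX

variable [HasExactLimitsOfShape (Discrete ℕ) A]

/-- With exact countable products, a product of degree-`i` quasi-isomorphisms is a degree-`i`
quasi-isomorphism. -/
lemma quasiIsoAt_prodMap {X X' : ℕ → CochainComplex A ℤ} (φ : ∀ n, X n ⟶ X' n) (i : ℤ)
    (hφ : ∀ n, QuasiIsoAt (φ n) i) : QuasiIsoAt (prodMap φ) i := by
  haveI : QuasiIsoAt (famCxMap φ) i := by
    rw [HomologicalComplex.quasiIsoAt_iff_evaluation]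
    rintro ⟨n⟩
    exact hφ n
  haveI : (lim : (Discrete ℕ ⥤ A) ⥤ A).Additive := Functor.additive_of_preserves_binary_products _
  haveI : (lim : (Discrete ℕ ⥤ A) ⥤ A).PreservesHomology := inferInstance
  exact HomologicalComplex.quasiIsoAt_map_of_preservesHomology (famCxMap φ)
    (lim : (Discrete ℕ ⥤ A) ⥤ A) i

end Groth.Agent.Lib.Helper13.Spalt1
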