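import Mathlib
import Groth.Agent.Lib.Helper13.Spalt1
import Groth.Agent.Lib.Helper13.FilKInj2

/-!
# Towers of cochain complexes and their limits (helper13)
-/

set_option autoImplicit false
universe v u
open CategoryTheory CategoryTheory.Limits

namespace Groth.Agent.Lib.Helper13.Spalt2

open Groth.Agent.Lib.Helper13.Spalt1

variable {A : Type u} [Category.{v} A] [Abelian A] [HasLimitsOfShape (Discrete ℕ) A]

/-- A tower of cochain complexes. -/
structure Tower (A : Type u) [Category.{v} A] [Abelian A] where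
  X : ℕ → CochainComplex A ℤ
  p : ∀ n, X (n + 1) ⟶ X n

namespace Tower

variable (T : Tower A)

/-- The product of the terms of the tower. -/
noncomputable abbrev P : CochainComplex A ℤ := prodCx T.X

/-- The shift map on the product. -/
noncomputable def σ : T.P ⟶ T.P := prodLift (fun n => prodπ T.X (n + 1) ≫ T.p n)

/-- `1 - shift`. -/
noncomputable def D : T.P ⟶ T.P := 𝟙 _ - T.σ

@[reassoc]
lemma D_π (n : ℕ) : T.D ≫ prodπ T.X n = prodπ T.X n - prodπ T.X (n + 1) ≫ T.p n := by
  unfold D σ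
  rw [Preadditive.sub_comp, Category.id_comp, prodLift_π]

/-- The transition maps are degreewise split epimorphisms. -/
def SplitEpi : Prop := ∀ n q, ∃ s : (T.X n).X q ⟶ (T.X (n + 1)).X q, s ≫ (T.p n).f q = 𝟙 _

/-- The tower with the first term removed. -/
abbrev shift : Tower A := ⟨fun n => T.X (n + 1), fun n => T.p (n + 1)⟩

lemma SplitEpi.shift {T : Tower A} (h : T.SplitEpi) : T.shift.SplitEpi := fun n q => h (n + 1) q

/-- Restriction to the shifted tower. -/
noncomputable def res : T.P ⟶ T.shift.P := prodLift (fun n => prodπ T.X (n + 1))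

@[reassoc (attr := simp)]
lemma res_π (n : ℕ) : T.res ≫ prodπ T.shift.X n = prodπ T.X (n + 1) := prodLift_π _ n

@[reassoc]
lemma res_D : T.res ≫ T.shift.D = T.D ≫ T.res := by
  apply prod_hom_ext
  intro n
  have e1 : (T.res ≫ T.shift.D) ≫ prodπ T.shift.X n =
      T.res ≫ prodπ T.shift.X n - (T.res ≫ prodπ T.shift.X (n + 1)) ≫ T.shift.p n := by
    rw [Category.assoc, D_π, Preadditive.comp_sub, Category.assoc]
  have e2 : (T.D ≫ T.res) ≫ prodπ T.shift.X n = T.D ≫ prodπ T.X (n + 1) := by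
    rw [Category.assoc, res_π]
  rw [e1, e2, res_π, res_π, D_π]

/-- Under `SplitEpi`, `D` is a degreewise split epimorphism. -/
lemma exists_section_D (h : T.SplitEpi) (q : ℤ) : ∃ s : T.P.X q ⟶ T.P.X q, s ≫ T.D.f q = 𝟙 _ := by
  choose s hs using fun n => h n q
  let x : ∀ n, T.P.X q ⟶ (T.X n).X q := fun n =>
    Nat.rec (motive := fun n => T.P.X q ⟶ (T.X n).X q) 0
      (fun n xn => (xn - (prodπ T.X n).f q) ≫ s n) n
  have hxs : ∀ n, x (n + 1) = (x n - (prodπ T.X n).f q) ≫ s n := fun n => rfl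
  refine ⟨prodLiftX q x, ?_⟩
  apply prodX_hom_ext
  intro n
  have h1 : T.D.f q ≫ (prodπ T.X n).f q =
      (prodπ T.X n).f q - (prodπ T.X (n + 1)).f q ≫ (T.p n).f q :=
    congrArg (fun φ => φ.f q) (T.D_π n)
  calc (prodLiftX q x ≫ T.D.f q) ≫ (prodπ T.X n).f q
      = prodLiftX q x ≫ (prodπ T.X n).f q -
          (prodLiftX q x ≫ (prodπ T.X (n + 1)).f q) ≫ (T.p n).f q := by
        rw [Category.assoc, h1, Preadditive.comp_sub, Category.assoc]
    _ = x n - x (n + 1) ≫ (T.p n).f q := by rw [prodLiftX_π, prodLiftX_π]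
    _ = x n - (x n - (prodπ T.X n).f q) := by
        rw [hxs, Category.assoc, hs, Category.comp_id]
    _ = (prodπ T.X n).f q := sub_sub_cancel _ _
    _ = 𝟙 _ ≫ (prodπ T.X n).f q := (Category.id_comp _).symm

lemma epi_D (h : T.SplitEpi) : Epi T.D := by
  haveI : ∀ q, Epi (T.D.f q) := fun q => by
    obtain ⟨s, hs⟩ := T.exists_section_D h q
    exact epi_of_epi_fac hs
  exact HomologicalComplex.epi_of_epi_f _ inferInstance

/-- A presentation of the limit of the tower as the kernel of `D`. -/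
structure Pres where
  L : CochainComplex A ℤ
  ι : L ⟶ T.P
  w : ι ≫ T.D = 0
  isLimit : IsLimit (KernelFork.ofι ι w)

variable {T}

/-- The components of a map to the kernel of `D` are compatible. -/
lemma comp_π_succ {W : CochainComplex A ℤ} (f : W ⟶ T.P) (hf : f ≫ T.D = 0) (n : ℕ) :
    f ≫ prodπ T.X (n + 1) ≫ T.p n = f ≫ prodπ T.X n := by
  have := congrArg (fun φ => φ ≫ prodπ T.X n) hf
  simp only [Category.assoc, zero_comp, D_π, Preadditive.comp_sub] at this
  exact (sub_eq_zero.1 this).symm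

lemma Pres.mono_ι_res (h : T.Pres) : Mono (h.ι ≫ T.res) := by
  haveI : Mono h.ι := mono_of_isLimit_fork h.isLimit
  constructor
  intro Z g g' hgg'
  rw [← cancel_mono h.ι]
  apply prod_hom_ext
  intro n
  have key : ∀ m, (g ≫ h.ι) ≫ prodπ T.X (m + 1) = (g' ≫ h.ι) ≫ prodπ T.X (m + 1) := by
    intro m
    have e := T.res_π m
    have := congrArg (fun φ => φ ≫ prodπ T.shift.X m) hgg'
    calc (g ≫ h.ι) ≫ prodπ T.X (m + 1) = (g ≫ h.ι) ≫ T.res ≫ prodπ T.shift.X m := by rw [e]
      _ = (g ≫ h.ι ≫ T.res) ≫ prodπ T.shift.X m := by simp only [Category.assoc]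
      _ = (g' ≫ h.ι ≫ T.res) ≫ prodπ T.shift.X m := this
      _ = (g' ≫ h.ι) ≫ T.res ≫ prodπ T.shift.X m := by simp only [Category.assoc]
      _ = (g' ≫ h.ι) ≫ prodπ T.X (m + 1) := by rw [e]
  cases n with
  | zero =>
    have e1 := comp_π_succ (g ≫ h.ι) (by rw [Category.assoc, h.w, comp_zero]) 0
    have e2 := comp_π_succ (g' ≫ h.ι) (by rw [Category.assoc, h.w, comp_zero]) 0
    rw [← e1, ← e2, ← Category.assoc, ← Category.assoc, key 0]
  | succ m => exact key m

/-- A presentation of the limit also presents the limit of the shifted tower. -/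
noncomputable def Pres.shift (h : T.Pres) : T.shift.Pres where
  L := h.L
  ι := h.ι ≫ T.res
  w := by rw [Category.assoc, res_D, reassoc_of% h.w, zero_comp]
  isLimit := by
    haveI := h.mono_ι_res
    refine KernelFork.IsLimit.ofι' _ _ (fun {W} f hf => ?_)
    let f' : W ⟶ T.P := prodLift (fun n =>
      Nat.casesOn (motive := fun n => W ⟶ T.X n) n (f ≫ prodπ T.shift.X 0 ≫ T.p 0)
        (fun m => f ≫ prodπ T.shift.X m))
    have hf'0 : f' ≫ prodπ T.X 0 = f ≫ prodπ T.shift.X 0 ≫ T.p 0 := prodLift_π _ 0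
    have hf's : ∀ m, f' ≫ prodπ T.X (m + 1) = f ≫ prodπ T.shift.X m :=
      fun m => prodLift_π _ (m + 1)
    have hf' : f' ≫ T.D = 0 := by
      apply prod_hom_ext
      intro n
      rw [Category.assoc, D_π, Preadditive.comp_sub, zero_comp, sub_eq_zero]
      cases n with
      | zero =>
        calc f' ≫ prodπ T.X 0 = f ≫ prodπ T.shift.X 0 ≫ T.p 0 := hf'0
          _ = (f ≫ prodπ T.shift.X 0) ≫ T.p 0 := (Category.assoc _ _ _).symm
          _ = (f' ≫ prodπ T.X (0 + 1)) ≫ T.p 0 := by rw [hf's 0]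
          _ = f' ≫ prodπ T.X (0 + 1) ≫ T.p 0 := Category.assoc _ _ _
      | succ m =>
        calc f' ≫ prodπ T.X (m + 1) = f ≫ prodπ T.shift.X m := hf's m
          _ = f ≫ prodπ T.shift.X (m + 1) ≫ T.shift.p m :=
            (comp_π_succ (T := T.shift) f hf m).symm
          _ = (f ≫ prodπ T.shift.X (m + 1)) ≫ T.p (m + 1) := (Category.assoc _ _ _).symm
          _ = (f' ≫ prodπ T.X (m + 1 + 1)) ≫ T.p (m + 1) := by rw [hf's (m + 1)]
          _ = f' ≫ prodπ T.X (m + 1 + 1) ≫ T.p (m + 1) := Category.assoc _ _ _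
    refine ⟨(KernelFork.IsLimit.lift' h.isLimit f' hf').1, ?_⟩
    have hl : (KernelFork.IsLimit.lift' h.isLimit f' hf').1 ≫ h.ι = f' :=
      (KernelFork.IsLimit.lift' h.isLimit f' hf').2
    apply prod_hom_ext
    intro n
    calc ((KernelFork.IsLimit.lift' h.isLimit f' hf').1 ≫ h.ι ≫ T.res) ≫ prodπ T.shift.X n
        = ((KernelFork.IsLimit.lift' h.isLimit f' hf').1 ≫ h.ι) ≫ T.res ≫ prodπ T.shift.X n := by
          simp only [Category.assoc]
      _ = f' ≫ prodπ T.X (n + 1) := by rw [hl, res_π]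
      _ = f ≫ prodπ T.shift.X n := hf's n


/-- The short complex `L ⟶ P ⟶ P` of a presentation. -/
noncomputable def Pres.sc (h : T.Pres) : ShortComplex (CochainComplex A ℤ) :=
  ShortComplex.mk h.ι T.D h.w

lemma Pres.shortExact (h : T.Pres) (hT : T.SplitEpi) : h.sc.ShortExact := by
  haveI : Mono h.sc.f := mono_of_isLimit_fork h.isLimit
  haveI : Epi h.sc.g := T.epi_D hT
  exact ShortComplex.ShortExact.mk (ShortComplex.exact_of_f_is_kernel _ h.isLimit)

/-- The canonical presentation by the kernel of `D`. -/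
noncomputable def kerPres (T : Tower A) : T.Pres where
  L := kernel T.D
  ι := kernel.ι T.D
  w := kernel.condition T.D
  isLimit := kernelIsKernel T.D

/-- The limit of a tower of K-injective complexes with degreewise split epimorphic transition
maps is K-injective. -/
lemma Pres.isKInjective (h : T.Pres) (hT : T.SplitEpi) (hX : ∀ n, (T.X n).IsKInjective) :
    h.L.IsKInjective := by
  have hS := h.shortExact hT
  have hS' := fun n => hS.map_of_exact (HomologicalComplex.eval A (ComplexShape.up ℤ) n)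
  choose s hs using fun q => T.exists_section_D hT q
  let σ : ∀ n, (h.sc.map (HomologicalComplex.eval A _ n)).Splitting := fun n =>
    ShortComplex.Splitting.ofExactOfSection _ (hS' n).exact (s n) (hs n) (hS' n).mono_f
  have hP := isKInjective_prodCx T.X hX
  exact Groth.Agent.Lib.Helper13.FilKInj.isKInjective_X₁_of_degreewiseSplit h.sc σ hP hP

/-- Morphisms of towers. -/
structure Hom (T T' : Tower A) where
  φ : ∀ n, T.X n ⟶ T'.X n
  comm : ∀ n, φ (n + 1) ≫ T'.p n = T.p n ≫ φ n

variable {T' : Tower A}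

/-- The induced map on products. -/
noncomputable abbrev Hom.mapP (f : Hom T T') : T.P ⟶ T'.P := prodMap f.φ

@[reassoc]
lemma Hom.mapP_D (f : Hom T T') : f.mapP ≫ T'.D = T.D ≫ f.mapP := by
  apply prod_hom_ext
  intro n
  rw [Category.assoc, Category.assoc, D_π, prodMap_π, Preadditive.comp_sub, prodMap_π,
    prodMap_π_assoc, D_π_assoc, Preadditive.sub_comp, Category.assoc, f.comm]

/-- The shifted morphism. -/
abbrev Hom.shift (f : Hom T T') : Hom T.shift T'.shift := ⟨fun n => f.φ (n + 1), fun n => f.comm (n + 1)⟩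

@[reassoc]
lemma Hom.mapP_res (f : Hom T T') : f.mapP ≫ T'.res = T.res ≫ f.shift.mapP := by
  apply prod_hom_ext
  intro n
  have e1 : (f.mapP ≫ T'.res) ≫ prodπ T'.shift.X n = prodπ T.X (n + 1) ≫ f.φ (n + 1) := by
    rw [Category.assoc, res_π, prodMap_π]
  have e2 : (T.res ≫ f.shift.mapP) ≫ prodπ T'.shift.X n = prodπ T.X (n + 1) ≫ f.φ (n + 1) := by
    rw [Category.assoc, prodMap_π, res_π_assoc]
  rw [e1, e2]

end Tower

end Groth.Agent.Lib.Helper13.Spalt2
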