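import Mathlib
import Groth.Agent.Lib.Helper13.Spalt2

/-!
# Limits of towers and quasi-isomorphisms, with exact countable products (helper13)
-/

set_option autoImplicit false
universe v u
open CategoryTheory CategoryTheory.Limits

namespace Groth.Agent.Lib.Helper13.Spalt3

open Groth.Agent.Lib.Helper13.Spalt1 Groth.Agent.Lib.Helper13.Spalt2
open Groth.Agent.Lib.Helper13.Spalt2.Tower
open HomologicalComplex HomologicalComplex.HomologySequence ComposableArrows

variable {A : Type u} [Category.{v} A] [Abelian A] [HasLimitsOfShape (Discrete ℕ) A]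
  [HasExactLimitsOfShape (Discrete ℕ) A]

lemma quasiIsoAt_of_tower_base {T T' : Tower A} (hT : T.SplitEpi) (hT' : T'.SplitEpi)
    (f : Tower.Hom T T') (h : T.Pres) (h' : T'.Pres) (l : h.L ⟶ h'.L)
    (hl : l ≫ h'.ι = h.ι ≫ f.mapP) (j : ℤ)
    (hf : ∀ n, QuasiIsoAt (f.φ n) (j - 1) ∧ QuasiIsoAt (f.φ n) j) : QuasiIsoAt l j := by
  have hS₁ := h.shortExact hT
  have hS₂ := h'.shortExact hT'
  let φ : h.sc ⟶ h'.sc :=
    { τ₁ := l, τ₂ := f.mapP, τ₃ := f.mapP, comm₁₂ := hl, comm₂₃ := f.mapP_D }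
  have q1 : QuasiIsoAt f.mapP (j - 1) := quasiIsoAt_prodMap f.φ (j - 1) (fun n => (hf n).1)
  have q2 : QuasiIsoAt f.mapP j := quasiIsoAt_prodMap f.φ j (fun n => (hf n).2)
  rw [quasiIsoAt_iff_isIso_homologyMap] at q1 q2 ⊢
  have hij : (ComplexShape.up ℤ).Rel (j - 1) j := by simp
  have e₁ := composableArrows₅_exact hS₁ (j - 1) j hij
  have e₂ := composableArrows₅_exact hS₂ (j - 1) j hij
  have := Abelian.isIso_of_epi_of_isIso_of_isIso_of_mono
    (R₁ := δ₀Functor.obj (composableArrows₅ hS₁ (j - 1) j hij))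
    (R₂ := δ₀Functor.obj (composableArrows₅ hS₂ (j - 1) j hij)) e₁.δ₀ e₂.δ₀
    (δ₀Functor.map (mapComposableArrows₅ φ hS₁ hS₂ (j - 1) j hij))
    (by show Epi (homologyMap φ.τ₂ (j - 1)); exact inferInstanceAs (Epi (homologyMap f.mapP (j - 1))))
    (by show IsIso (homologyMap φ.τ₃ (j - 1)); exact q1)
    (by show IsIso (homologyMap φ.τ₂ j); exact q2)
    (by show Mono (homologyMap φ.τ₃ j); exact inferInstanceAs (Mono (homologyMap f.mapP j)))
  exact this

lemma quasiIsoAt_of_tower (N : ℕ) : ∀ {T T' : Tower A} (_ : T.SplitEpi) (_ : T'.SplitEpi)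
    (f : Tower.Hom T T') (h : T.Pres) (h' : T'.Pres) (l : h.L ⟶ h'.L)
    (_ : l ≫ h'.ι = h.ι ≫ f.mapP) (j : ℤ)
    (_ : ∀ n, N ≤ n → QuasiIsoAt (f.φ n) (j - 1) ∧ QuasiIsoAt (f.φ n) j), QuasiIsoAt l j := by
  induction N with
  | zero =>
    intro T T' hT hT' f h h' l hl j hf
    exact quasiIsoAt_of_tower_base hT hT' f h h' l hl j (fun n => hf n (Nat.zero_le n))
  | succ N ih =>
    intro T T' hT hT' f h h' l hl j hf
    refine ih hT.shift hT'.shift f.shift h.shift h'.shift l ?_ j (fun n hn => hf (n + 1) (by omega))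
    show l ≫ h'.ι ≫ T'.res = (h.ι ≫ T.res) ≫ f.shift.mapP
    rw [reassoc_of% hl, f.mapP_res, Category.assoc]

/-- The constant tower. -/
abbrev constTower (K : CochainComplex A ℤ) : Tower A := ⟨fun _ => K, fun _ => 𝟙 K⟩

lemma constTower_splitEpi (K : CochainComplex A ℤ) : (constTower K).SplitEpi :=
  fun _ q => ⟨𝟙 _, by simp⟩

/-- The diagonal map. -/
noncomputable def diag (K : CochainComplex A ℤ) : K ⟶ (constTower K).P := prodLift (fun _ => 𝟙 K)

lemma diag_π (K : CochainComplex A ℤ) (n : ℕ) : diag K ≫ prodπ (constTower K).X n = 𝟙 K :=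
  prodLift_π _ n

lemma diag_D (K : CochainComplex A ℤ) : diag K ≫ (constTower K).D = 0 := by
  apply prod_hom_ext
  intro n
  rw [Category.assoc, D_π, Preadditive.comp_sub, zero_comp, ← Category.assoc, diag_π, diag_π]
  simp

instance (K : CochainComplex A ℤ) : Mono (diag K) :=
  mono_of_mono_fac (diag_π K 0)

/-- The constant tower has limit `K`. -/
noncomputable def constPres (K : CochainComplex A ℤ) : (constTower K).Pres where
  L := K
  ι := diag K
  w := diag_D K
  isLimit := KernelFork.IsLimit.ofι' _ _ (fun {W} f hf =>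
    ⟨f ≫ prodπ (constTower K).X 0, by
      apply prod_hom_ext
      intro n
      rw [Category.assoc, diag_π, Category.comp_id]
      induction n with
      | zero => rfl
      | succ n ih =>
        rw [ih]
        have := comp_π_succ (T := constTower K) f hf n
        simpa using this.symm⟩)

/-- Assembly: a tower of K-injective complexes under `K`, with degreewise split epimorphic
transition maps, whose `n`-th map is a quasi-isomorphism in degrees `≥ -n`, yields a K-injective
resolution of `K`. -/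
theorem exists_kInjective_of_tower (K : CochainComplex A ℤ) (I : Tower A) (hI : I.SplitEpi)
    (hK : ∀ n, (I.X n).IsKInjective) (a : ∀ n, K ⟶ I.X n) (ha : ∀ n, a (n + 1) ≫ I.p n = a n)
    (hq : ∀ (j : ℤ) (n : ℕ), -(n : ℤ) ≤ j → QuasiIsoAt (a n) j) :
    ∃ (L : CochainComplex A ℤ) (f : K ⟶ L), L.IsKInjective ∧ QuasiIso f := by
  let f : Tower.Hom (constTower K) I := ⟨a, fun n => by rw [ha n]; exact (Category.id_comp _).symm⟩
  let h := constPres K
  let h' := kerPres I
  have w : (h.ι ≫ f.mapP) ≫ I.D = 0 := by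
    rw [Category.assoc, f.mapP_D, reassoc_of% h.w, zero_comp]
  let l : K ⟶ kernel I.D := kernel.lift I.D (h.ι ≫ f.mapP) w
  have hl : l ≫ h'.ι = h.ι ≫ f.mapP := kernel.lift_ι _ _ _
  refine ⟨kernel I.D, l, h'.isKInjective hI hK, ?_⟩
  rw [quasiIso_iff]
  intro j
  refine quasiIsoAt_of_tower (1 - j).toNat (constTower_splitEpi K) hI f h h' l hl j
    (fun n hn => ⟨hq _ n ?_, hq _ n ?_⟩)
  · have := Int.self_le_toNat (1 - j)
    omega
  · have := Int.self_le_toNat (1 - j)
    omega

end Groth.Agent.Lib.Helper13.Spalt3
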