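import Mathlib
import Groth.Agent.Lib.Helper13.Spalt3

/-!
# Spaltenstein: K-injective resolutions from exact countable products (helper13)
-/

set_option autoImplicit false
universe v u
open CategoryTheory CategoryTheory.Limits

namespace Groth.Agent.Lib.Helper13.Spalt4

open Groth.Agent.Lib.Helper13.Spalt2 Groth.Agent.Lib.Helper13.Spalt3

variable {A : Type u} [Category.{v} A] [Abelian A] [EnoughInjectives A]

lemma injective_of_epiWithInjectiveKernel {X Y : A} (g : X ⟶ Y) (hg : Abelian.epiWithInjectiveKernel g)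
    [Injective Y] : Injective X := by
  rw [Abelian.epiWithInjectiveKernel_iff] at hg
  obtain ⟨I, _, f, w, ⟨σ⟩⟩ := hg
  exact Injective.of_iso σ.isoBinaryBiproduct.symm inferInstance

lemma exists_section_of_epiWithInjectiveKernel {X Y : A} (g : X ⟶ Y)
    (hg : Abelian.epiWithInjectiveKernel g) : ∃ s : Y ⟶ X, s ≫ g = 𝟙 _ := by
  rw [Abelian.epiWithInjectiveKernel_iff] at hg
  obtain ⟨I, _, f, w, ⟨σ⟩⟩ := hg
  exact ⟨σ.s, σ.s_g⟩

variable (K : CochainComplex A ℤ)

/-- The `n`-th stage of the tower of resolutions of the truncations of `K`. -/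
structure Stage (n : ℕ) where
  I : CochainComplex A ℤ
  a : K ⟶ I
  hGE : I.IsStrictlyGE (-(n : ℤ) - 1)
  hinj : ∀ q, Injective (I.X q)
  j : K.truncGE (-(n : ℤ)) ⟶ I
  hj : QuasiIso j
  fac : a = K.πTruncGE (-(n : ℤ)) ≫ j

variable {K}

lemma Stage.isKInjective {n : ℕ} (S : Stage K n) : S.I.IsKInjective := by
  haveI := S.hGE
  haveI := S.hinj
  exact CochainComplex.isKInjective_of_injective S.I (-(n : ℤ) - 1)

lemma Stage.quasiIsoAt {n : ℕ} (S : Stage K n) (i : ℤ) (hi : -(n : ℤ) ≤ i) :
    QuasiIsoAt S.a i := by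
  rw [S.fac]
  haveI := S.hj
  haveI := K.quasiIsoAt_πTruncGE (-(n : ℤ)) i hi
  infer_instance

variable (K) in
lemma exists_stage_zero : Nonempty (Stage K 0) := by
  obtain ⟨L, i, _, hi, hL, hGE⟩ :=
    CochainComplex.Plus.modelCategoryQuillen.exists_mono_quasiIso_injective (K.truncGE (-((0 : ℕ) : ℤ)))
      (-((0 : ℕ) : ℤ) - 1) (-((0 : ℕ) : ℤ)) (by omega)
  exact ⟨{ I := L, a := K.πTruncGE _ ≫ i, hGE := hGE, hinj := hL, j := i, hj := hi, fac := rfl }⟩

lemma exists_next {n : ℕ} (S : Stage K n) :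
    ∃ (S' : Stage K (n + 1)) (p : S'.I ⟶ S.I), S'.a ≫ p = S.a ∧
      ∀ q, ∃ s : S.I.X q ⟶ S'.I.X q, s ≫ p.f q = 𝟙 _ := by
  haveI := S.hGE
  haveI := S.hinj
  let m' : ℤ := -((n + 1 : ℕ) : ℤ)
  haveI h1 : S.I.IsStrictlyGE m' := S.I.isStrictlyGE_of_ge m' (-(n : ℤ) - 1) (by
    simp only [m']; push_cast; omega)
  let f : K.truncGE m' ⟶ S.I := CochainComplex.truncGEMap S.a m' ≫ inv (S.I.πTruncGE m')
  have hf : K.πTruncGE m' ≫ f = S.a := by
    simp only [f]
    rw [CochainComplex.πTruncGE_naturality_assoc, IsIso.hom_inv_id, Category.comp_id]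
  haveI h2 : (K.truncGE m').IsStrictlyGE (m' - 1 + 1) :=
    (K.truncGE m').isStrictlyGE_of_ge (m' - 1 + 1) m' (by omega)
  haveI h3 : S.I.IsStrictlyGE (m' - 1) := S.I.isStrictlyGE_of_ge (m' - 1) m' (by omega)
  obtain ⟨K', hK', ι, π, _, hι, hπ, fac⟩ := CochainComplex.Plus.modelCategoryQuillen.cm5a f (m' - 1)
  have hinj' : ∀ q, Injective (K'.X q) := fun q =>
    injective_of_epiWithInjectiveKernel (π.f q) (hπ q)
  let S' : Stage K (n + 1) :=
    { I := K'
      a := K.πTruncGE m' ≫ ι
      hGE := hK'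
      hinj := hinj'
      j := ι
      hj := hι
      fac := rfl }
  refine ⟨S', π, ?_, fun q => exists_section_of_epiWithInjectiveKernel (π.f q) (hπ q)⟩
  show (K.πTruncGE m' ≫ ι) ≫ π = S.a
  rw [Category.assoc, fac, hf]

/-- The next stage. -/
noncomputable def next {n : ℕ} (S : Stage K n) : Stage K (n + 1) := (exists_next S).choose

/-- The transition map. -/
noncomputable def nextP {n : ℕ} (S : Stage K n) : (next S).I ⟶ S.I :=
  (exists_next S).choose_spec.choose

lemma next_fac {n : ℕ} (S : Stage K n) : (next S).a ≫ nextP S = S.a :=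
  (exists_next S).choose_spec.choose_spec.1

lemma next_split {n : ℕ} (S : Stage K n) (q : ℤ) :
    ∃ s : S.I.X q ⟶ (next S).I.X q, s ≫ (nextP S).f q = 𝟙 _ :=
  (exists_next S).choose_spec.choose_spec.2 q

variable (K) in
/-- The stages. -/
noncomputable def stage : ∀ n, Stage K n
  | 0 => (exists_stage_zero K).some
  | n + 1 => next (stage n)

variable (K) in
/-- The tower of resolutions. -/
noncomputable def tower : Tower A where
  X n := (stage K n).I
  p n := nextP (stage K n)

variable [HasLimitsOfShape (Discrete ℕ) A] [HasExactLimitsOfShape (Discrete ℕ) A]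

variable (K) in
/-- Spaltenstein: with enough injectives and exact countable products, every complex has a
K-injective resolution. -/
theorem exists_kInjective_resolution :
    ∃ (I : CochainComplex A ℤ) (f : K ⟶ I), I.IsKInjective ∧ QuasiIso f :=
  exists_kInjective_of_tower K (tower K) (fun n q => next_split (stage K n) q)
    (fun n => (stage K n).isKInjective) (fun n => (stage K n).a)
    (fun n => next_fac (stage K n)) (fun j n hj => (stage K n).quasiIsoAt j hj)

end Groth.Agent.Lib.Helper13.Spalt4
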