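import Mathlib

/-!
# Classical generators are strong generators when a strong generator exists (Stacks 0FXA)

Closure of `extensionProduct`, `retractClosure`, `triangEnvelopeIter` under (discrete) products,
and the comparison `P ≤ Q.triangEnvelopeIter m → P.triangEnvelopeIter n ≤ Q.triangEnvelopeIter _`.
-/

set_option autoImplicit false

namespace Groth.Agent.Lib.Helper13.StrongGen

open CategoryTheory Limits Pretriangulated ObjectProperty

universe v u

section Retract

variable {C : Type u} [Category.{v} C] (P : ObjectProperty C) (J : Type) [HasProductsOfShape J C]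

/-- The retract closure of a property closed under `J`-indexed products is closed under
`J`-indexed products. -/
lemma retractClosure_isClosedUnderProducts [P.IsClosedUnderLimitsOfShape (Discrete J)] :
    P.retractClosure.IsClosedUnderLimitsOfShape (Discrete J) where
  limitsOfShape_le := by
    rintro X ⟨p⟩
    have h := fun j : J => p.prop_diag_obj ⟨j⟩
    choose Y hY r using h
    refine ⟨∏ᶜ Y, P.prop_pi Y hY, ⟨?_⟩⟩
    refine
      { i := Pi.lift (fun j => p.π.app ⟨j⟩ ≫ (r j).some.i)
        r := p.isLimit.lift ⟨∏ᶜ Y, Discrete.natTrans (fun ⟨j⟩ => Pi.π Y j ≫ (r j).some.r)⟩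
        retract := ?_ }
    apply p.isLimit.hom_ext
    rintro ⟨j⟩
    rw [Category.assoc, p.isLimit.fac]
    simp
end Retract

section Triang

variable {C : Type u} [Category.{v} C] [HasZeroObject C] [HasShift C ℤ] [Preadditive C]
  [∀ (n : ℤ), (shiftFunctor C n).Additive] [Pretriangulated C]
  (A B : ObjectProperty C) (J : Type) [HasProductsOfShape J C]

/-- `extensionProduct A B` is closed under `J`-indexed products if `A` and `B` are. -/
lemma extensionProduct_isClosedUnderProducts [A.IsClosedUnderLimitsOfShape (Discrete J)]
    [B.IsClosedUnderLimitsOfShape (Discrete J)] :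
    (extensionProduct A B).IsClosedUnderLimitsOfShape (Discrete J) where
  limitsOfShape_le := by
    rintro X ⟨p⟩
    have h := fun j : J => p.prop_diag_obj ⟨j⟩
    choose Y Z f g k hT hA hB using h
    let T : J → Triangle C := fun j => Triangle.mk (f j) (g j) (k j)
    have hdist := productTriangle_distinguished T hT
    have e : X ≅ ∏ᶜ (fun j => p.diag.obj ⟨j⟩) :=
      IsLimit.conePointsIsoOfNatIso p.isLimit (productIsProduct _) Discrete.natIsoFunctor
    have : extensionProduct A B (∏ᶜ (fun j => p.diag.obj ⟨j⟩)) :=
      ⟨_, _, _, _, _, hdist, A.prop_pi _ hA, B.prop_pi _ hB⟩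
    exact (extensionProduct A B).prop_of_iso e.symm this

lemma extensionProductIter_isClosedUnderProducts [A.IsClosedUnderLimitsOfShape (Discrete J)]
    (n : ℕ) : (A.extensionProductIter n).IsClosedUnderLimitsOfShape (Discrete J) := by
  induction n with
  | zero => rwa [extensionProductIter_zero]
  | succ n h =>
    rw [extensionProductIter_succ]
    exact extensionProduct_isClosedUnderProducts _ _ J

variable (P Q : ObjectProperty C)

lemma triangEnvelopeIter_isClosedUnderBinaryProducts (n : ℕ) :
    (P.triangEnvelopeIter n).IsClosedUnderBinaryProducts := by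
  have h₀ : (P.shiftClosure ℤ).binaryProductsClosure.retractClosure.IsClosedUnderLimitsOfShape
      (Discrete WalkingPair) := retractClosure_isClosedUnderProducts _ _
  have h₁ := extensionProductIter_isClosedUnderProducts
    (P.shiftClosure ℤ).binaryProductsClosure.retractClosure WalkingPair n
  exact retractClosure_isClosedUnderProducts _ _

lemma triangEnvelopeIter_zero_le_of_le [Q.Nonempty] {m : ℕ} (h : P ≤ Q.triangEnvelopeIter m) :
    P.triangEnvelopeIter 0 ≤ Q.triangEnvelopeIter m := by
  have := triangEnvelopeIter_isClosedUnderBinaryProducts Q m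
  have : (Q.triangEnvelopeIter m).Nonempty := .mono (Q.le_triangEnvelopeIter m)
  rw [triangEnvelopeIter_zero, retractClosure_le_iff, binaryProductsClosure_le_iff,
    shiftClosure_le_iff]
  exact h

/-- If `P` is contained in `Q.triangEnvelopeIter m`, then `P.triangEnvelopeIter n` is contained
in `Q.triangEnvelopeIter (n * (m + 1) + m)`. -/
lemma triangEnvelopeIter_le_of_le [IsTriangulated C] [Q.Nonempty] {m : ℕ}
    (h : P ≤ Q.triangEnvelopeIter m) (n : ℕ) :
    P.triangEnvelopeIter n ≤ Q.triangEnvelopeIter (n * (m + 1) + m) := by
  have h₀ := triangEnvelopeIter_zero_le_of_le P Q h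
  induction n with
  | zero => simpa using h₀
  | succ n hn =>
    rw [triangEnvelopeIter_succ, ← triangEnvelopeIter_zero,
      show (n + 1) * (m + 1) + m = (m + 1) + (n * (m + 1) + m) by ring,
      triangEnvelopeIter_add Q (n := m + 1) (m := n * (m + 1) + m) (n' := m) rfl]
    apply monotone_retractClosure
    exact (monotone_extensionProduct_left _ h₀).trans (monotone_extensionProduct_right _ hn)

/-- Stacks 0FXA: if there is a strong generator, any classical generator is a strong
generator. -/
lemma isStrongTriangulatedGenerator_of_isClassicalTriangulatedGenerator [IsTriangulated C]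
    (G E : C) (hG : IsStrongTriangulatedGenerator (fun X : C => X = G))
    (hE : IsClassicalTriangulatedGenerator (fun X : C => X = E)) :
    IsStrongTriangulatedGenerator (fun X : C => X = E) := by
  obtain ⟨n, hn⟩ := hG
  have hGE : triangEnvelope (fun X : C => X = E : ObjectProperty C) G := by
    rw [isClassicalTriangulatedGenerator_iff] at hE
    rw [hE]; trivial
  rw [prop_triangEnvelope_iff] at hGE
  obtain ⟨m, hm⟩ := hGE
  have : ObjectProperty.Nonempty (fun X : C => X = E : ObjectProperty C) := ⟨E, rfl⟩
  have h : (fun X : C => X = G : ObjectProperty C) ≤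
      triangEnvelopeIter (fun X : C => X = E : ObjectProperty C) m := by
    rintro X rfl
    exact hm
  refine ⟨n * (m + 1) + m, ?_⟩
  rw [eq_top_iff, ← hn]
  exact triangEnvelopeIter_le_of_le _ _ h n

end Triang

end Groth.Agent.Lib.Helper13.StrongGen
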