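import Groth.Agent.Lib.Helper13.SerreDer
import Groth.Agent.Lib.Helper13.TorsSheaf
import Mathlib.Algebra.Homology.HomologySequence
import Mathlib.CategoryTheory.Abelian.SerreClass.Basic

set_option autoImplicit false
set_option synthInstance.maxSize 1024
universe w w' v' u' u
open CategoryTheory Category Limits Opposite

namespace Groth.Agent.Lib.Helper13.TorsSheafDer

open Groth.Agent.Lib.Helper13.KInjDerAdj Groth.Agent.Lib.Helper13.SerreDer
  Groth.Agent.Lib.Helper13.TorsSheaf

section Abstract

variable {B : Type u'} [Category.{v'} B] [Abelian B] (P : ObjectProperty B) [P.IsSerreClass]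

lemma prop_homology_X₃ {S : ShortComplex (CochainComplex B ℤ)} (hS : S.ShortExact)
    (h₁ : ∀ n, P (S.X₁.homology n)) (h₂ : ∀ n, P (S.X₂.homology n)) (n : ℤ) :
    P (S.X₃.homology n) :=
  P.prop_X₂_of_exact (hS.homology_exact₃ n (n + 1) rfl) (h₂ n) (h₁ (n + 1))

lemma prop_homology_of_prop_X (K : CochainComplex B ℤ) (n : ℤ) (h : P (K.X n)) :
    P (K.homology n) :=
  P.prop_of_epi (K.homologyπ n) (P.prop_of_mono (K.iCycles n) h)

omit P in
lemma isIso_nsmul_homology (K : CochainComplex B ℤ) (m : ℕ)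
    (h : ∀ n, IsIso (m • 𝟙 (K.X n))) (n : ℤ) : IsIso (m • 𝟙 (K.homology n)) := by
  have h1 : IsIso (m • 𝟙 K) := by
    have : ∀ n, IsIso ((m • 𝟙 K).f n) := fun n => by
      rw [HomologicalComplex.nsmul_f_apply]; exact h n
    exact HomologicalComplex.Hom.isIso_of_components _
  have h2 : m • 𝟙 (K.homology n) =
      (HomologicalComplex.homologyFunctor B (ComplexShape.up ℤ) n).map (m • 𝟙 K) := by
    rw [Functor.map_nsmul, CategoryTheory.Functor.map_id]; rfl
  rw [h2]
  exact Functor.map_isIso _ _

lemma shortExact_eval {K L : CochainComplex B ℤ} (s : K ⟶ L) [Mono s] (n : ℤ) :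
    (ShortComplex.mk (s.f n) ((cokernel.π s).f n)
      (by rw [← HomologicalComplex.comp_f, cokernel.condition, HomologicalComplex.zero_f])).ShortExact := by
  have h : (ShortComplex.mk s (cokernel.π s) (cokernel.condition s)).ShortExact :=
    { exact := ShortComplex.exact_of_g_is_cokernel _ (cokernelIsCokernel s) }
  exact h.map_of_exact (HomologicalComplex.eval B (ComplexShape.up ℤ) n)

/-- Abstract criterion for the key hypothesis. -/
theorem counitHyp_of {T : B ⥤ P.FullSubcategory} (adj : P.ι ⊣ T) [T.Additive]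
    (hmono : ∀ F : B, Mono (adj.counit.app F))
    (hzero : ∀ H : B, P H → (∀ m : ℕ, 0 < m → IsIso (m • 𝟙 H)) → IsZero H)
    (hquot : ∀ (F Q : B) (p : F ⟶ Q) (w : adj.counit.app F ≫ p = 0), Injective F → Epi p →
      (ShortComplex.mk _ p w).Exact → ∀ m : ℕ, 0 < m → IsIso (m • 𝟙 Q)) :
    CounitHyp P adj := by
  intro I hinj hcoh
  let ε := (adjc adj).counit.app I
  have hεf : ∀ n, ε.f n = adj.counit.app (I.X n) := fun n => rfl
  have hm : ∀ n, Mono (ε.f n) := fun n => hmono (I.X n)
  have : Mono ε := HomologicalComplex.mono_of_mono_f _ hm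
  apply Groth.Agent.Lib.Helper13.KInjBasic.quasiIso_of_mono_of_acyclic_cokernel ε
  have hS : (ShortComplex.mk ε (cokernel.π ε) (cokernel.condition ε)).ShortExact :=
    { exact := ShortComplex.exact_of_g_is_cokernel _ (cokernelIsCokernel ε) }
  have hP : ∀ n, P ((cokernel ε).homology n) :=
    prop_homology_X₃ P hS
      (fun n => prop_homology_of_prop_X P _ n (T.obj (I.X n)).property) hcoh
  intro n
  rw [HomologicalComplex.exactAt_iff_isZero_homology]
  apply hzero _ (hP n)
  intro m hm
  refine isIso_nsmul_homology _ m (fun k => ?_) n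
  have hk := shortExact_eval ε k
  have : Epi ((cokernel.π ε).f k) := hk.epi_g
  have hw : adj.counit.app (I.X k) ≫ (cokernel.π ε).f k = 0 :=
    (ShortComplex.mk (ε.f k) ((cokernel.π ε).f k)
      (by rw [← HomologicalComplex.comp_f, cokernel.condition, HomologicalComplex.zero_f])).zero
  exact hquot (I.X k) _ ((cokernel.π ε).f k) hw (hinj k) this hk.exact m hm

end Abstract

section Sheaf

variable {C : Type u} [SmallCategory C] (J : GrothendieckTopology C)


lemma epi_nsmul_of_injective (I : Sheaf J AddCommGrpCat.{u}) [Injective I] (m : ℕ) (hm : 0 < m) :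
    Epi (m • 𝟙 I) := by
  have h : Presheaf.IsLocallySurjective J (m • 𝟙 I).hom := by
    apply Presheaf.isLocallySurjective_of_surjective
    intro U s
    obtain ⟨t, ht⟩ := exists_nsmul_eq_of_injective I m hm U.unop s
    exact ⟨t, (nsmul_id_app I m U t).trans ht⟩
  have h' : Sheaf.IsLocallySurjective (m • 𝟙 I) := h
  infer_instance

lemma mono_nsmul_of_torsionFree (Q : Sheaf J AddCommGrpCat.{u}) (m : ℕ)
    (h : ∀ (U : C) (q : Q.obj.obj (op U)), m • q = 0 → q = 0) : Mono (m • 𝟙 Q) := by
  apply Sheaf.mono_of_injective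
  intro U
  show Function.Injective ((m • 𝟙 Q).hom.app U).hom
  rw [injective_iff_map_eq_zero]
  intro q hq
  rw [nsmul_id_app] at hq
  exact h U.unop q hq

/-- Multiplication by a positive integer is an isomorphism on the quotient of an injective sheaf
by its torsion subsheaf. -/
lemma isIso_nsmul_quotient {I Q : Sheaf J AddCommGrpCat.{u}} [Injective I] (p : I ⟶ Q) [Epi p]
    (w : Tι I ≫ p = 0) (hex : (ShortComplex.mk (Tι I) p w).Exact) (m : ℕ) (hm : 0 < m) :
    IsIso (m • 𝟙 Q) := by
  have h1 : Mono (m • 𝟙 Q) := mono_nsmul_of_torsionFree J Q m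
    (fun U q hq => eq_zero_of_nsmul_eq_zero p w hex m hm q hq)
  have h2 : Epi (m • 𝟙 Q) := by
    have := epi_nsmul_of_injective J I m hm
    have e : p ≫ (m • 𝟙 Q) = (m • 𝟙 I) ≫ p := by
      rw [Preadditive.comp_nsmul, Preadditive.nsmul_comp, Category.comp_id, Category.id_comp]
    have : Epi (p ≫ (m • 𝟙 Q)) := by rw [e]; infer_instance
    exact epi_of_epi p _
  exact isIso_of_mono_of_epi _

lemma isIso_nsmul_quotient' {I Q : Sheaf J AddCommGrpCat.{u}} [Injective I] (f : Tsh I ⟶ I)
    (hf : f = Tι I) (p : I ⟶ Q) [Epi p]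
    (w : f ≫ p = 0) (hex : (ShortComplex.mk f p w).Exact) (m : ℕ) (hm : 0 < m) :
    IsIso (m • 𝟙 Q) := by
  subst hf
  exact isIso_nsmul_quotient J p w hex m hm

variable [(SiteCmp.torsionSh J).IsSerreClass]

noncomputable instance additive_Tfun : (Tfun J).Additive := (adjT J).right_adjoint_additive

theorem counitHyp : CounitHyp (SiteCmp.torsionSh J) (adjT J) := by
  apply counitHyp_of
  · intro F
    rw [adjT_counit_app]
    exact mono_Tι F
  · intro H hH hiso
    apply isZero_of_torsion_of_mono hH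
    intro m hm U s hs
    have := hiso m hm
    apply injective_app_of_isIso (m • 𝟙 H) U
    rw [nsmul_id_app, hs, map_zero]
  · intro F Q p w hF hp hex m hm
    exact isIso_nsmul_quotient' J ((adjT J).counit.app F) (adjT_counit_app F) p w hex m hm

end Sheaf

end Groth.Agent.Lib.Helper13.TorsSheafDer
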