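/-
WP1 for helper22's S19040: the base map of a finite wide pullback of proper morphisms is proper.
Author: helper13
-/
import Mathlib
import Groth.Prelude.Def_CohB1
import Groth.Prelude.Def_Flat
import Groth.Agent.Lib.Helper5.WidePB

set_option autoImplicit false

universe u

open CategoryTheory CategoryTheory.Limits AlgebraicGeometry

namespace Groth.Agent.Lib.Helper13.WidePBWP1

open Groth.Agent.Lib.Helper5.WidePB

/-- Mathlib's chosen wide pullback is a wide pullback in the sense of helper5's `IsWidePB`. -/
theorem isWidePB_widePullback {C : Type*} [Category C] {ι : Type*} {B : C} {objs : ι → C}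
    (arrows : ∀ k, objs k ⟶ B) [HasWidePullback B objs arrows] :
    IsWidePB arrows (WidePullback.base arrows) (WidePullback.π arrows) := by
  refine ⟨fun k => WidePullback.π_arrow arrows k, ?_, ?_⟩
  · intro Z z zk hz
    exact ⟨WidePullback.lift z zk hz, WidePullback.lift_base _ _ _ _, fun k => WidePullback.lift_π _ _ _ _ _⟩
  · intro Z l l' h1 h2
    exact WidePullback.hom_ext _ _ _ h2 h1

/-- The general inductive statement. -/
theorem isProper_base_of_isWidePB : ∀ (n : ℕ) {B : Scheme.{u}} (objs : Fin n → Scheme.{u})
    (arrows : ∀ k, objs k ⟶ B) [∀ k, IsProper (arrows k)],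
    IsProper (WidePullback.base arrows) := by
  intro n
  induction n with
  | zero =>
    intro B objs arrows _
    have h0 : IsWidePB arrows (𝟙 B) (fun k => k.elim0) := by
      refine ⟨fun k => k.elim0, ?_, ?_⟩
      · intro Z z zk _
        exact ⟨z, Category.comp_id _, fun k => k.elim0⟩
      · intro Z l l' h1 _
        simpa using h1
    obtain ⟨e, he, -⟩ := h0.exists_iso
    rw [Category.comp_id] at he
    rw [← he]
    infer_instance
  | succ n ih =>
    intro B objs arrows _
    let arrows' : ∀ k : Fin n, objs k.castSucc ⟶ B := fun k => arrows k.castSucc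
    have : IsProper (WidePullback.base arrows') := ih _ arrows'
    have h' := isWidePB_widePullback arrows'
    have sq : IsPullback (pullback.fst (arrows (Fin.last n)) (WidePullback.base arrows'))
        (pullback.snd (arrows (Fin.last n)) (WidePullback.base arrows'))
        (arrows (Fin.last n)) (WidePullback.base arrows') := IsPullback.of_hasPullback _ _
    have h := isWidePB_succ arrows (WidePullback.base arrows') (WidePullback.π arrows') h'
      (pullback.snd (arrows (Fin.last n)) (WidePullback.base arrows'))
      (pullback.fst (arrows (Fin.last n)) (WidePullback.base arrows')) sq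
    obtain ⟨e, he, -⟩ := h.exists_iso
    rw [← he]
    infer_instance

theorem isProper_wideBase {n : ℕ} {B : Scheme.{u}} (objs : Fin n → Scheme.{u}) (arrows : ∀ k, objs k ⟶ B) [∀ k, IsProper (arrows k)] : IsProper (WidePullback.base arrows) :=
  isProper_base_of_isWidePB n objs arrows

end Groth.Agent.Lib.Helper13.WidePBWP1
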